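import Groth.Agent.Lib.MTRigid29.TrivGlobal
import Mathlib.AlgebraicGeometry.Sites.Fpqc

/-!
# Base change of groups of multiplicative type; fpqc covering morphisms
-/

set_option autoImplicit false
set_option linter.style.haveILetI false
set_option backward.isDefEq.respectTransparency.types false
set_option maxSynthPendingDepth 3

universe u

open CategoryTheory Limits MonoidalCategory CartesianMonoidalCategory MonObj AlgebraicGeometry Opposite

noncomputable section

namespace Groth.Agent.MTRigid29

open DiagGL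

variable {S S' : Scheme.{u}}

/-- The covering condition in the form used by Mathlib. -/
theorem quasiCompactCover_singleton (π : S' ⟶ S)
    (hcov : ∀ V : S.Opens, IsAffineOpen V → ∃ W : S'.Opens, IsCompact (W : Set S') ∧ π.base '' (W : Set S') = (V : Set S)) :
    QuasiCompactCover.{u, u} (PreZeroHypercover.singleton.{u} π) := by
  refine ⟨fun {V} hV => ?_⟩
  obtain ⟨W, hW, hWV⟩ := hcov V hV
  refine .of_finite (κ := PUnit.{1}) (fun _ => PUnit.unit) (fun _ => W) (fun _ => hW) ?_
  rw [Set.iUnion_const]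
  exact hWV

theorem cover_pullback (π : S' ⟶ S) {T : Scheme.{u}} (q : T ⟶ S)
    (hcov : ∀ V : S.Opens, IsAffineOpen V → ∃ W : S'.Opens, IsCompact (W : Set S') ∧ π.base '' (W : Set S') = (V : Set S))
    (V : T.Opens) (hV : IsAffineOpen V) :
    ∃ W : (pullback q π).Opens, IsCompact (W : Set ↥(pullback q π)) ∧ (pullback.fst q π).base '' (W : Set ↥(pullback q π)) = (V : Set T) := by
  haveI := quasiCompactCover_singleton.{u} π hcov
  obtain ⟨n, f, W, hW, hWV⟩ := QuasiCompactCover.exists_isAffineOpen_of_isCompact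
    ((PreZeroHypercover.singleton π).pullback₁ q) (U := V) hV.isCompact
  let W' : Fin n → (pullback q π).Opens := fun i => W i
  refine ⟨⨆ i, W' i, ?_, ?_⟩
  · rw [TopologicalSpace.Opens.coe_iSup]
    exact isCompact_iUnion fun i => (hW i).isCompact
  · rw [TopologicalSpace.Opens.coe_iSup, Set.image_iUnion]
    exact hWV

theorem effectiveEpi_of_cover (π : S' ⟶ S) [Flat π] [Surjective π]
    (hcov : ∀ V : S.Opens, IsAffineOpen V → ∃ W : S'.Opens, IsCompact (W : Set S') ∧ π.base '' (W : Set S') = (V : Set S)) :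
    EffectiveEpi π := by
  rw [← Sieve.effectiveEpimorphic_singleton, Presieve.EffectiveEpimorphic.iff_forall_isSheafFor_yoneda]
  intro Z
  haveI := quasiCompactCover_singleton.{u} π hcov
  have hmem : Presieve.singleton π ∈ Scheme.fpqcPrecoverage S := by
    refine ⟨?_, (Scheme.singleton_mem_precoverage_iff _ π).2 ⟨π.surjective, ‹_›⟩⟩
    rw [← PreZeroHypercover.presieve₀_singleton, Scheme.presieve₀_mem_qcPrecoverage_iff]
    infer_instance
  exact (GrothendieckTopology.Subcanonical.isSheaf_of_isRepresentable _).isSheafFor _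
    (Precoverage.generate_mem_toGrothendieck hmem)

/-- Groups with the same characters are isomorphic as groups. -/
theorem nonempty_grpIso_of_chars {M : Type} [AddCommGroup M] {σ τ : Over S} [GrpObj σ] [GrpObj τ]
    (C : Chars M σ) (D : Chars M τ) : Nonempty (Grp.mk σ ≅ Grp.mk τ) := by
  obtain ⟨f, hf⟩ := D.surj (C.ch (𝟙 σ))
  obtain ⟨g, hg⟩ := C.surj (D.ch (𝟙 τ))
  let F : σ ≅ τ := ⟨f, g, C.inj fun a => by rw [C.nat, hg, ← D.nat, Category.comp_id, hf],
    D.inj fun a => by rw [D.nat, hf, ← C.nat, Category.comp_id, hg]⟩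
  have hch : ∀ {T : Over S} (x : T ⟶ σ) (a : M), D.ch (x ≫ f) a = C.ch x a := fun {T} x a => by
    rw [D.nat, hf, ← C.nat, Category.comp_id]
  haveI : IsMonHom F.hom := TorsorSch25.isMonHom_of_points f fun T x y => D.inj fun a => by
    rw [hch, C.mul, D.mul, hch, hch]
  exact ⟨Grp.mkIso' F⟩

/-- Being of multiplicative type and of finite type is stable under base change. -/
theorem isMultTypeFT_bc {H : Over S} [GrpObj H] (hH : SGA3x.IsMultTypeFT H) {T : Scheme.{u}} (q : T ⟶ S) :
    SGA3x.IsMultTypeFT (Red.bc q H) := by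
  obtain ⟨S', f, hflat, hsurj, hcov, hloc⟩ := hH
  refine ⟨pullback q f, pullback.fst q f, MorphismProperty.pullback_fst _ _ hflat,
    MorphismProperty.pullback_fst _ _ hsurj, cover_pullback f q hcov, fun t => ?_⟩
  obtain ⟨U, hU, M, _, hfg, ⟨e⟩⟩ := hloc (pullback.snd q f t)
  let V : (pullback q f).Opens := pullback.snd q f ⁻¹ᵁ U
  let b : (V : Scheme.{u}) ⟶ (U : Scheme.{u}) := pullback.snd q f ∣_ U
  have w : (V.ι ≫ pullback.fst q f) ≫ q = b ≫ (U.ι ≫ f) := by
    rw [Category.assoc, pullback.condition, ← Category.assoc b, morphismRestrict_ι, Category.assoc]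
  exact ⟨V, hU, M, inferInstance, hfg,
    nonempty_grpIso_of_chars (charsFactor w H ((charsDS (U : Scheme.{u}) M).transport e)) (charsDS _ M)⟩

end Groth.Agent.MTRigid29
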