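import Groth.Agent.Lib.MTRigid29.Model
import Groth.Agent.Lib.TorsorSch25.ExactPts

/-!
# Models over an affine base
-/

set_option autoImplicit false
set_option linter.style.haveILetI false
set_option backward.isDefEq.respectTransparency.types false

universe u

open CategoryTheory Limits MonoidalCategory CartesianMonoidalCategory MonObj AlgebraicGeometry Opposite

noncomputable section

namespace Groth.Agent.MTRigid29

open DiagGL

variable {R : Type u} [CommRing R]

theorem nonempty_bcId {S : Scheme.{u}} (H : Over S) [GrpObj H] :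
    Nonempty (Grp.mk (Red.bc (𝟙 S) H) ≅ Grp.mk H) := by
  let i : ∀ T : Over S, T ≅ (Over.map (𝟙 S)).obj T := fun T => Over.isoMk (Iso.refl _) (by simp)
  have inat : ∀ {T T' : Over S} (t : T' ⟶ T), (i T').hom ≫ (Over.map (𝟙 S)).map t = t ≫ (i T).hom := by
    intro T T' t
    ext
    exact (Category.id_comp _).trans (Category.comp_id _).symm
  let p : Red.bc (𝟙 S) H ⟶ H := (i _).hom ≫ fl (𝟙 S) H (𝟙 _)
  have hp : ∀ {T : Over S} (x : T ⟶ Red.bc (𝟙 S) H), x ≫ p = (i T).hom ≫ fl (𝟙 S) H x := fun {T} x => by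
    rw [← Category.assoc, ← inat, Category.assoc, ← fl_comp, Category.comp_id]
  haveI : IsMonHom p := TorsorSch25.isMonHom_of_points p fun T x y => by
    rw [hp, hp, hp, fl_mul, MonObj.comp_mul]
  obtain ⟨q, hq⟩ := fl_surjective (𝟙 S) H ((i H).inv ≫ 𝟙 H)
  have h1 : q ≫ p = 𝟙 H := by rw [hp, hq, Iso.hom_inv_id_assoc]
  have h2 : p ≫ q = 𝟙 _ := fl_injective (𝟙 S) H ((cancel_epi (i _).hom).1 (by
    rw [← hp, ← hp, Category.assoc, h1, Category.comp_id, Category.id_comp]))
  let P : Red.bc (𝟙 S) H ≅ H := ⟨p, q, h2, h1⟩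
  haveI : IsMonHom P.hom := ‹IsMonHom p›
  exact ⟨Grp.mkIso' P⟩

/-- An affine model over an affine base. -/
theorem exists_model_affine {H : Over (Spec (CommRingCat.of R))} [GrpObj H] (hH : IsMT H) :
    ∃ (A : Type u) (_ : CommRing A) (_ : HopfAlgebra R A) (j : A →ₗ[R] R),
      MultTypeLib.IsInt j ∧ Nonempty (Grp.mk (CoactBr.sp R A) ≅ Grp.mk H) := by
  obtain ⟨A, i1, i2, j, hj, ⟨e⟩⟩ := exists_model hH (𝟙 (Spec (CommRingCat.of R)))
  obtain ⟨e'⟩ := nonempty_bcId H
  exact ⟨A, i1, i2, j, hj, ⟨e ≪≫ e'⟩⟩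

end Groth.Agent.MTRigid29
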