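import Groth.Agent.Lib.MTRigid29.PairKernel
import Groth.Agent.Lib.MTRigid29.BaseChange
import Groth.Prelude.Def_AlgGrp

/-!
# Normal subgroups of multiplicative type of groups with connected fibres are central
-/

set_option autoImplicit false
set_option linter.style.haveILetI false
set_option backward.isDefEq.respectTransparency.types false
set_option maxSynthPendingDepth 3

universe u

open CategoryTheory Limits MonoidalCategory CartesianMonoidalCategory MonObj AlgebraicGeometry Opposite

noncomputable section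

namespace Groth.Agent.MTRigid29

open DiagGL

variable {S : Scheme.{u}}

/-- Groups of multiplicative type are commutative. -/
theorem commute_of_isMultTypeFT {H : Over S} [GrpObj H] (hH : SGA3x.IsMultTypeFT H) {X : Over S} (a b : X ⟶ H) :
    a * b = b * a := by
  obtain ⟨S', f, _, _, hcov, hloc⟩ := hH
  -- points with a lift of the base to `S'`
  have key : ∀ (Z : Over S') (a b : (Over.map f).obj Z ⟶ H), a * b = b * a := by
    intro Z a b
    choose U hU hP using hloc
    refine Over.OverMorphism.ext ?_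
    let 𝒰 : Z.left.OpenCover := Z.left.openCoverOfIsOpenCover (fun s => Z.hom ⁻¹ᵁ U s) (by
      rw [TopologicalSpace.IsOpenCover, _root_.eq_top_iff]
      intro y _
      exact TopologicalSpace.Opens.mem_iSup.2 ⟨Z.hom y, hU _⟩)
    refine 𝒰.hom_ext _ _ fun s => ?_
    obtain ⟨M, _, -, ⟨e⟩⟩ := hP s
    let C := (charsDS (U s : Scheme.{u}) M).transport e
    let W : Over (U s : Scheme.{u}) := Over.mk (Z.hom ∣_ U s)
    let c : (Over.map ((U s).ι ≫ f)).obj W ⟶ (Over.map f).obj Z := Over.homMk (Z.hom ⁻¹ᵁ U s).ι (by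
      show (Z.hom ⁻¹ᵁ U s).ι ≫ Z.hom ≫ f = (Z.hom ∣_ U s) ≫ (U s).ι ≫ f
      rw [← Category.assoc, ← morphismRestrict_ι, Category.assoc])
    obtain ⟨ya, hya⟩ := fl_surjective ((U s).ι ≫ f) H (c ≫ a)
    obtain ⟨yb, hyb⟩ := fl_surjective ((U s).ι ≫ f) H (c ≫ b)
    have h : c ≫ (a * b) = c ≫ (b * a) := by
      rw [MonObj.comp_mul, MonObj.comp_mul, ← hya, ← hyb, ← fl_mul, ← fl_mul,
        show ya * yb = yb * ya from C.inj fun m => by rw [C.mul, C.mul, _root_.mul_comm]]
    exact congrArg CommaMorphism.left h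
  haveI : Flat (pullback.fst X.hom f) := MorphismProperty.pullback_fst _ _ ‹_›
  haveI : Surjective (pullback.fst X.hom f) := MorphismProperty.pullback_fst _ _ ‹_›
  haveI : EffectiveEpi (pullback.fst X.hom f) := effectiveEpi_of_cover _ (cover_pullback f X.hom hcov)
  let c : (Over.map f).obj (Over.mk (pullback.snd X.hom f)) ⟶ X :=
    Over.homMk (pullback.fst X.hom f) pullback.condition
  haveI : Epi c.left := inferInstanceAs (Epi (pullback.fst X.hom f))
  haveI : Epi c := Over.epi_of_epi_left c
  rw [← cancel_epi c, MonObj.comp_mul, MonObj.comp_mul, key]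

theorem isAffineHom_of_isMultTypeFT {H : Over S} [GrpObj H] (hH : SGA3x.IsMultTypeFT H) : IsAffineHom H.hom := by
  refine (IsZariskiLocalAtTarget.iff_of_openCover (P := @IsAffineHom) S.affineOpenCover.openCover).2 fun i => ?_
  let V : Type u := S.affineOpenCover.X i
  let g : Spec (CommRingCat.of V) ⟶ S := S.affineOpenCover.f i
  haveI : IsOpenImmersion g := S.affineOpenCover.map_prop i
  haveI : IsAffine (pullback H.hom g) := isAffine_bc (isMT_of_ft hH) g
  show IsAffineHom (pullback.snd H.hom g)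
  exact isAffineHom_of_isAffine _

/-- A clopen set containing the unit section and all of whose fibres are connected is everything. -/
theorem clopen_eq_univ {X : Scheme.{u}} (f : X ⟶ S)
    (hconn : ∀ s : S, ConnectedSpace ↥(pullback f (S.fromSpecResidueField s))) (e : S ⟶ X) (he : e ≫ f = 𝟙 S)
    {U : Set X} (hU : IsClopen U) (heU : ∀ s, e s ∈ U) (x : X) : x ∈ U := by
  haveI := hconn (f x)
  let p : pullback f (S.fromSpecResidueField (f x)) ⟶ X := pullback.fst _ _
  have hp : ∀ z : X, f z = f x → ∃ w, p w = z := fun z hz => by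
    obtain ⟨w, hw, -⟩ := Scheme.Pullback.exists_preimage_pullback (f := f) (g := S.fromSpecResidueField (f x))
      z (IsLocalRing.closedPoint _) (hz.trans (Scheme.fromSpecResidueField_apply _ _).symm)
    exact ⟨w, hw⟩
  obtain ⟨w₀, hw₀⟩ := hp (e (f x)) (by rw [← Scheme.Hom.comp_apply, he]; rfl)
  obtain ⟨w, hw⟩ := hp x rfl
  have h := (hU.preimage p.continuous).eq_univ ⟨w₀, show p w₀ ∈ U by rw [hw₀]; exact heU _⟩
  rw [← hw]
  exact h.symm.subset (Set.mem_univ w)

/-- A normal subgroup of multiplicative type of a group with connected fibres is central. -/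
theorem central_of_normal {K H : Over S} [GrpObj K] [GrpObj H] [LocallyOfFiniteType K.hom]
    (hconn : ∀ s : S, ConnectedSpace ↥(Limits.pullback K.hom (S.fromSpecResidueField s)))
    (i : H ⟶ K) [IsMonHom i] [Mono i] (hH : SGA3x.IsMultTypeFT H) (hn : AlgGrp.IsNormalHom i)
    (X : Over S) (k : X ⟶ K) (h : X ⟶ H) : k * (h ≫ i) = (h ≫ i) * k := by
  let f : K.left ⟶ S := K.hom
  let HK := Red.bc f H
  -- the universal conjugation
  let kY : ∀ (Y : Over K.left), (Over.map f).obj Y ⟶ K := fun Y => Over.homMk Y.hom rfl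
  obtain ⟨n, hn'⟩ := hn _ (kY HK) (fl f H (𝟙 HK))
  let α : HK ⟶ HK := (Over.mapPullbackAdj f).homEquiv _ _ n
  have hα : ∀ (Y : Over K.left) (y : Y ⟶ HK),
      fl f H (y ≫ α) ≫ i = kY Y * (fl f H y ≫ i) * (kY Y)⁻¹ := by
    intro Y y
    have h1 : fl f H y = (Over.map f).map y ≫ fl f H (𝟙 HK) := by rw [← fl_comp, Category.comp_id]
    have h2 : kY Y = (Over.map f).map y ≫ kY HK := Over.OverMorphism.ext (Over.w y).symm
    rw [fl_comp, show fl f H α = n from Equiv.symm_apply_apply _ _, Category.assoc, ← hn', h1, h2]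
    simp only [MonObj.comp_mul, GrpObj.comp_inv, Category.assoc]
  have hα1 : ∀ (Y : Over K.left) (a b : Y ⟶ HK), (a * b) ≫ α = (a ≫ α) * (b ≫ α) := fun Y a b =>
    fl_injective f H ((cancel_mono i).1 (by
      rw [hα, fl_mul, fl_mul, MonObj.mul_comp, MonObj.mul_comp, hα, hα]
      group))
  let v : HK ⟶ HK := α * (𝟙 HK)⁻¹
  have hHK := isMultTypeFT_bc hH f
  haveI : IsMonHom v := TorsorSch25.isMonHom_of_points v fun Y a b => by
    simp only [v, MonObj.comp_mul, GrpObj.comp_inv, Category.comp_id, hα1, mul_inv_rev]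
    have hc : ∀ p q : Y ⟶ HK, p * q = q * p := fun p q => commute_of_isMultTypeFT hHK p q
    calc (a ≫ α) * (b ≫ α) * (b⁻¹ * a⁻¹) = (a ≫ α) * (((b ≫ α) * b⁻¹) * a⁻¹) := by group
      _ = (a ≫ α) * (a⁻¹ * ((b ≫ α) * b⁻¹)) := by rw [hc ((b ≫ α) * b⁻¹) a⁻¹]
      _ = (a ≫ α) * a⁻¹ * ((b ≫ α) * b⁻¹) := by group
  haveI := isAffineHom_of_isMultTypeFT hHK
  haveI := locallyOfFiniteType_of_isMultTypeFT hHK
  obtain ⟨U, hUc, hU, hUt⟩ := exists_triv_locus v hHK (.inr inferInstance)
  -- the unit section lies in the locus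
  let e : S ⟶ K.left := (1 : 𝟙_ (Over S) ⟶ K).left
  have he : e ≫ f = 𝟙 S := Over.w (1 : 𝟙_ (Over S) ⟶ K)
  have het : Triv v e := by
    intro T y
    have hk : kY ((Over.map e).obj T) = 1 := by
      refine Over.OverMorphism.ext ?_
      rw [← MonObj.comp_one (toUnit ((Over.map f).obj ((Over.map e).obj T)))]
      show T.hom ≫ e = _ ≫ e
      congr 1
      have := Over.w (toUnit ((Over.map f).obj ((Over.map e).obj T)))
      exact ((Category.comp_id _).symm.trans (congrArg (T.hom ≫ ·) he.symm)).trans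
        ((Category.assoc _ _ _).symm.trans (this.symm.trans (Category.comp_id _)))
    simp only [v, MonObj.comp_mul, GrpObj.comp_inv, Category.comp_id, mul_inv_eq_one]
    exact fl_injective f H ((cancel_mono i).1 (by rw [hα, hk, _root_.one_mul, inv_one, _root_.mul_one]))
  have heU : ∀ s, e s ∈ U := by
    intro s
    rw [hU]
    haveI : IsImmersion (e ≫ f) := by rw [he]; infer_instance
    haveI : IsImmersion e := IsImmersion.of_comp e f
    haveI : IsIso (e.residueFieldMap s) := by
      refine (ConcreteCategory.isIso_iff_bijective (e.residueFieldMap s)).2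
        ⟨(e.residueFieldMap s).hom.injective, ?_⟩
      have h1 : Function.Surjective (e.stalkMap s ≫ S.residue s) := by
        simp only [CommRingCat.hom_comp, RingHom.coe_comp]
        exact (Scheme.residue_surjective _ _).comp (e.stalkMap_surjective s)
      rw [← Scheme.residue_residueFieldMap] at h1
      exact Function.Surjective.of_comp (g := ⇑(K.left.residue (e s)).hom) h1
    have h2 := triv_comp v het (S.fromSpecResidueField s)
    rw [← Scheme.Hom.SpecMap_residueFieldMap_fromSpecResidueField] at h2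
    have h3 := triv_comp v h2 (inv (Spec.map (e.residueFieldMap s)))
    rwa [IsIso.inv_hom_id_assoc] at h3
  have hall : Triv v (𝟙 K.left) := triv_of_cover v (𝟙 _) fun x =>
    ⟨_, U.ι, inferInstance, ⟨⟨x, clopen_eq_univ K.hom hconn e he ⟨hUc, U.2⟩ heU x⟩, rfl⟩, hUt⟩
  -- the given point
  let Y : Over K.left := Over.mk k.left
  let j : (Over.map f).obj Y ≅ X := Over.isoMk (Iso.refl _) ((Category.id_comp _).trans (Over.w k).symm)
  let j' : Y ≅ (Over.map (𝟙 K.left)).obj Y := Over.isoMk (Iso.refl _) (by simp)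
  obtain ⟨y, hy⟩ := fl_surjective f H (j.hom ≫ h)
  have h0 : y ≫ v = 1 := by
    have := congrArg (j'.hom ≫ ·) (hall Y (j'.inv ≫ y))
    simpa [MonObj.comp_one] using this
  simp only [v, MonObj.comp_mul, GrpObj.comp_inv, Category.comp_id, mul_inv_eq_one] at h0
  have h1 := hα Y y
  rw [h0, Category.comp_id, hy, show kY Y = j.hom ≫ k from Over.OverMorphism.ext (Category.id_comp _).symm] at h1
  rw [← cancel_epi j.hom, MonObj.comp_mul, MonObj.comp_mul, ← Category.assoc]
  exact mul_inv_eq_iff_eq_mul.1 h1.symm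

end Groth.Agent.MTRigid29
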