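import Groth.Agent.Lib.MTRigid29.TransporterSmooth
import Groth.Agent.Lib.MTRigid29.NormalCentral
import Groth.Agent.Lib.AbRigid.Image
import Groth.Prelude.Def_Red2

/-!
# Centralizers and normalizers of groups of multiplicative type
-/

set_option autoImplicit false
set_option linter.style.haveILetI false
set_option backward.isDefEq.respectTransparency.types false
set_option maxSynthPendingDepth 3

universe u

open CategoryTheory Limits MonoidalCategory CartesianMonoidalCategory MonObj AlgebraicGeometry Opposite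

noncomputable section

namespace Groth.Agent.MTRigid29

open DiagGL

variable {S : Scheme.{u}} {G H : Over S} [GrpObj G] [GrpObj H]

/-- A monomorphism whose points form subgroups is a homomorphism of groups. -/
theorem exists_grpObj_of_subgroup {Z : Over S} (j : Z ⟶ G) [Mono j]
    (hmul : ∀ (X : Over S) (a b : X ⟶ Z), ∃ c : X ⟶ Z, c ≫ j = (a ≫ j) * (b ≫ j))
    (hone : ∃ e : 𝟙_ (Over S) ⟶ Z, e ≫ j = 1) (hinv : ∀ (X : Over S) (a : X ⟶ Z), ∃ c : X ⟶ Z, c ≫ j = (a ≫ j)⁻¹) :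
    ∃ _ : GrpObj Z, IsMonHom j := by
  obtain ⟨e, he⟩ := hone
  obtain ⟨m, hm⟩ := hmul _ (fst Z Z) (snd Z Z)
  obtain ⟨v, hv⟩ := hinv _ (𝟙 Z)
  have he' : e ≫ j = η[G] := by rw [he, Hom.one_def, toUnit_unique (toUnit _) (𝟙 _), Category.id_comp]
  have hm' : m ≫ j = (j ⊗ₘ j) ≫ μ[G] := by
    rw [hm, Hom.mul_def, lift_fst_comp_snd_comp]
  have hv' : v ≫ j = j ≫ ι[G] := by rw [hv, Category.id_comp]; rfl
  letI := AbRigid.grpObjOfMono j e he' m hm' v hv'
  exact ⟨inferInstance, ⟨he', hm'⟩⟩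

/-- Triviality descends along flat quasi-compact surjections. -/
theorem triv_of_flat_cover {H' G' : Over S} [GrpObj G'] (u : H' ⟶ G') {T T' : Scheme.{u}} (q : T' ⟶ T) [Flat q]
    [Surjective q] [QuasiCompact q] {f : T ⟶ S} (h : Triv u (q ≫ f)) : Triv u f := by
  intro Y x
  haveI : Flat (pullback.fst Y.hom q) := MorphismProperty.pullback_fst _ _ ‹_›
  haveI : Surjective (pullback.fst Y.hom q) := MorphismProperty.pullback_fst _ _ ‹_›
  haveI : EffectiveEpi (pullback.fst Y.hom q) := effectiveEpi_of_cover _ fun V hV =>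
    ⟨pullback.fst Y.hom q ⁻¹ᵁ V, (pullback.fst Y.hom q).isCompact_preimage hV.isCompact,
      Set.image_preimage_eq _ (pullback.fst Y.hom q).surjective⟩
  let c : (Over.map (q ≫ f)).obj (Over.mk (pullback.snd Y.hom q)) ⟶ (Over.map f).obj Y :=
    Over.homMk (pullback.fst Y.hom q) (by
      show pullback.fst Y.hom q ≫ Y.hom ≫ f = pullback.snd Y.hom q ≫ q ≫ f
      rw [pullback.condition_assoc])
  haveI : Epi c.left := inferInstanceAs (Epi (pullback.fst Y.hom q))
  haveI : Epi c := Over.epi_of_epi_left c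
  have h1 := h _ (c ≫ x)
  rw [Category.assoc, ← MonObj.comp_one c, cancel_epi] at h1
  exact h1

/-- The centralizer of a homomorphism from a group of multiplicative type is smooth. -/
theorem exists_centralizer (hH : IsMT H) (hG : Smooth G.hom) (hGa : IsAffineHom G.hom) (u : H ⟶ G) [IsMonHom u] :
    ∃ (Z : Over S) (_ : GrpObj Z) (j : Z ⟶ G), Red.IsCentralizerOf u j ∧ IsClosedImmersion j.left ∧ Smooth Z.hom := by
  obtain ⟨Z, j, hj, hsm, hiff⟩ := exists_transporter_hom_smooth' hH hG hGa u u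
  haveI := hj
  haveI : Mono j := Over.mono_of_mono_left j
  have hiff' : ∀ (X : Over S) (g : X ⟶ G), (∃ z : X ⟶ Z, z ≫ j = g) ↔
      ∀ (X' : Over S) (x : X' ⟶ X) (h : X' ⟶ H), (x ≫ g) * (h ≫ u) = (h ≫ u) * (x ≫ g) := fun X g =>
    (hiff X g).trans (forall_congr' fun X' => forall_congr' fun x => forall_congr' fun h => mul_inv_eq_iff_eq_mul)
  obtain ⟨hgrp, hhom⟩ := exists_grpObj_of_subgroup j
    (fun X a b => (hiff' X _).2 fun X' x h => by
      have ha := (hiff' X _).1 ⟨a, rfl⟩ X' x h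
      have hb := (hiff' X _).1 ⟨b, rfl⟩ X' x h
      rw [MonObj.comp_mul, _root_.mul_assoc, hb, ← _root_.mul_assoc, ha, _root_.mul_assoc])
    ((hiff' _ _).2 fun X' x h => by rw [MonObj.comp_one, _root_.one_mul, _root_.mul_one])
    (fun X a => (hiff' X _).2 fun X' x h => by
      have ha : Commute (x ≫ a ≫ j) (h ≫ u) := (hiff' X _).1 ⟨a, rfl⟩ X' x h
      rw [GrpObj.comp_inv]
      exact ha.inv_left)
  letI := hgrp
  exact ⟨Z, inferInstance, j, ⟨hhom, inferInstance, hiff'⟩, hj, hsm⟩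

/-- The normalizer of a subgroup of multiplicative type is smooth. -/
theorem exists_normalizer (hH : SGA3x.IsMultTypeFT H) (hG : Smooth G.hom) (hGa : IsAffineHom G.hom) (i : H ⟶ G)
    [IsMonHom i] [Mono i] :
    ∃ (N : Over S) (_ : GrpObj N) (j : N ⟶ G), Red.IsNormalizerOf i j ∧ IsClosedImmersion j.left ∧ Smooth N.hom := by
  obtain ⟨N, j, hj, hsm, hiff⟩ := exists_transporter_conj_smooth hH hH hG hGa i i
  haveI := hj
  haveI : Mono j := Over.mono_of_mono_left j
  obtain ⟨hgrp, hhom⟩ := exists_grpObj_of_subgroup j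
    (fun X a b => (hiff X _).2 fun X' x => by
      have ha := (hiff X _).1 ⟨a, rfl⟩ X' x
      have hb := (hiff X _).1 ⟨b, rfl⟩ X' x
      rw [MonObj.comp_mul]
      refine ⟨fun h => ?_, fun h => ?_⟩
      · obtain ⟨h', hh'⟩ := hb.1 h
        obtain ⟨h'', hh''⟩ := ha.1 h'
        exact ⟨h'', by rw [← hh'', ← hh']; group⟩
      · obtain ⟨h', hh'⟩ := ha.2 h
        obtain ⟨h'', hh''⟩ := hb.2 h'
        exact ⟨h'', by rw [← hh'', ← hh']; group⟩)
    ((hiff _ _).2 fun X' x => by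
      simp only [MonObj.comp_one, _root_.one_mul, inv_one, _root_.mul_one]
      exact ⟨fun h => ⟨h, rfl⟩, fun h => ⟨h, rfl⟩⟩)
    (fun X a => (hiff X _).2 fun X' x => by
      have ha := (hiff X _).1 ⟨a, rfl⟩ X' x
      rw [GrpObj.comp_inv, inv_inv]
      exact ⟨ha.2, ha.1⟩)
  letI := hgrp
  refine ⟨N, inferInstance, j, ⟨hhom, inferInstance, fun X g => (hiff X g).trans ?_⟩, hj, hsm⟩
  exact ⟨fun h X' x a => ⟨(h X' x).1 a, (h X' x).2 a⟩, fun h X' x => ⟨fun a => (h X' x a).1, fun a => (h X' x a).2⟩⟩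

/-- The centralizer is open and closed in the normalizer. -/
theorem centralizer_clopen_normalizer {Z N : Over S} [GrpObj Z] [GrpObj N] (hH : SGA3x.IsMultTypeFT H) (i : H ⟶ G)
    [IsMonHom i] [Mono i] (j : Z ⟶ G) (k : N ⟶ G) (hj : Red.IsCentralizerOf i j) (hk : Red.IsNormalizerOf i k) :
    ∃ f : Z ⟶ N, f ≫ k = j ∧ IsOpenImmersion f.left ∧ IsClosedImmersion f.left := by
  obtain ⟨-, hjm, hjp⟩ := hj
  obtain ⟨-, hkm, hkp⟩ := hk
  haveI := hjm
  haveI := hkm
  have hjc := (hjp Z j).1 ⟨𝟙 Z, Category.id_comp j⟩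
  obtain ⟨f, hf⟩ := (hkp Z j).2 fun X' x h => by
    have hc := hjc X' x h
    exact ⟨⟨h, by rw [hc]; group⟩, ⟨h, by rw [_root_.mul_assoc, ← hc]; group⟩⟩
  refine ⟨f, hf, ?_⟩
  -- the action of the normalizer
  let p : N.left ⟶ S := N.hom
  let HN := Red.bc p H
  let kY : ∀ (Y : Over N.left), (Over.map p).obj Y ⟶ G := fun Y => (Over.homMk Y.hom rfl : (Over.map p).obj Y ⟶ N) ≫ k
  obtain ⟨n, hn⟩ := ((hkp N k).1 ⟨𝟙 N, Category.id_comp k⟩ _ (Over.homMk HN.hom rfl) (fl p H (𝟙 HN))).1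
  let α : HN ⟶ HN := (Over.mapPullbackAdj p).homEquiv _ _ n
  have hα : ∀ (Y : Over N.left) (y : Y ⟶ HN),
      fl p H (y ≫ α) ≫ i = kY Y * (fl p H y ≫ i) * (kY Y)⁻¹ := by
    intro Y y
    have h1 : fl p H y = (Over.map p).map y ≫ fl p H (𝟙 HN) := by rw [← fl_comp, Category.comp_id]
    have h2 : kY Y = (Over.map p).map y ≫ kY HN := by
      show _ ≫ k = _ ≫ _ ≫ k
      rw [← Category.assoc]
      congr 1
      exact Over.OverMorphism.ext (Over.w y).symm
    rw [fl_comp, show fl p H α = n from Equiv.symm_apply_apply _ _, Category.assoc, ← hn, h1, h2]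
    simp only [kY, MonObj.comp_mul, GrpObj.comp_inv, Category.assoc]
  have hα1 : ∀ (Y : Over N.left) (a b : Y ⟶ HN), (a * b) ≫ α = (a ≫ α) * (b ≫ α) := fun Y a b =>
    fl_injective p H ((cancel_mono i).1 (by
      rw [hα, fl_mul, fl_mul, MonObj.mul_comp, MonObj.mul_comp, hα, hα]
      group))
  let v : HN ⟶ HN := α * (𝟙 HN)⁻¹
  have hHN := isMultTypeFT_bc hH p
  haveI : IsMonHom v := TorsorSch25.isMonHom_of_points v fun Y a b => by
    simp only [v, MonObj.comp_mul, GrpObj.comp_inv, Category.comp_id, hα1, mul_inv_rev]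
    have hc : ∀ x y : Y ⟶ HN, x * y = y * x := fun x y => commute_of_isMultTypeFT hHN x y
    calc (a ≫ α) * (b ≫ α) * (b⁻¹ * a⁻¹) = (a ≫ α) * (((b ≫ α) * b⁻¹) * a⁻¹) := by group
      _ = (a ≫ α) * (a⁻¹ * ((b ≫ α) * b⁻¹)) := by rw [hc ((b ≫ α) * b⁻¹) a⁻¹]
      _ = (a ≫ α) * a⁻¹ * ((b ≫ α) * b⁻¹) := by group
  haveI := isAffineHom_of_isMultTypeFT hHN
  haveI := locallyOfFiniteType_of_isMultTypeFT hHN
  obtain ⟨U, hUc, hU, hUt⟩ := exists_triv_locus v hHN (.inr inferInstance)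
  have hvy : ∀ (Y : Over N.left) (y : Y ⟶ HN),
      y ≫ v = 1 ↔ kY Y * (fl p H y ≫ i) = (fl p H y ≫ i) * kY Y := by
    intro Y y
    simp only [v, MonObj.comp_mul, GrpObj.comp_inv, Category.comp_id, mul_inv_eq_one]
    rw [← (fl_injective p H).eq_iff, ← cancel_mono i, hα, mul_inv_eq_iff_eq_mul]
  -- the centralizer lands in the locus
  have hft : Triv v f.left := by
    intro T y
    refine (hvy _ y).2 ?_
    have h := hjc ((Over.map p).obj ((Over.map f.left).obj T))
      (Over.homMk T.hom (by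
        show T.hom ≫ Z.hom = (T.hom ≫ f.left) ≫ p
        rw [Category.assoc]
        exact congrArg (T.hom ≫ ·) (Over.w f).symm)) (fl p H y)
    rw [← hf, ← Category.assoc] at h
    exact h
  have hfU : ∀ z, f.left z ∈ U := by
    intro z
    rw [hU]
    have h2 := triv_comp v hft (Z.left.fromSpecResidueField z)
    rw [← Scheme.Hom.SpecMap_residueFieldMap_fromSpecResidueField] at h2
    haveI : Surjective (Spec.map (f.left.residueFieldMap z)) :=
      ⟨fun q => ⟨IsLocalRing.closedPoint (Z.left.residueField z), Subsingleton.elim _ _⟩⟩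
    haveI : Flat (Spec.map (f.left.residueFieldMap z)) :=
      (HasRingHomProperty.Spec_iff (P := @Flat)).2 (RingHom.Flat.of_isField (Field.toIsField _) _)
    exact triv_of_flat_cover v (Spec.map (f.left.residueFieldMap z)) h2
  -- the locus lands in the centralizer
  let UN : Over S := Over.mk (U.ι ≫ p)
  let ιU : UN ⟶ N := Over.homMk U.ι rfl
  obtain ⟨l, hl⟩ := (hjp UN (ιU ≫ k)).2 fun X' x h => by
    let Y : Over (U : Scheme.{u}) := Over.mk x.left
    let e : (Over.map p).obj ((Over.map U.ι).obj Y) ≅ X' := Over.isoMk (Iso.refl _) (by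
      show 𝟙 _ ≫ X'.hom = (x.left ≫ U.ι) ≫ p
      rw [Category.id_comp, Category.assoc]
      exact (Over.w x).symm)
    obtain ⟨y, hy⟩ := fl_surjective p H (e.hom ≫ h)
    have h1 := (hvy _ y).1 (hUt Y y)
    have hk' : kY ((Over.map U.ι).obj Y) = e.hom ≫ x ≫ ιU ≫ k := by
      show _ ≫ k = _
      rw [← Category.assoc x, ← Category.assoc e.hom]
      congr 1
    rw [hy, hk', Category.assoc, ← MonObj.comp_mul, ← MonObj.comp_mul, cancel_epi] at h1
    exact h1
  have hlf : l ≫ f = ιU := (cancel_mono k).1 (by rw [Category.assoc, hf, hl])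
  let m : Z.left ⟶ (U : Scheme.{u}) := IsOpenImmersion.lift U.ι f.left (by
    rw [Scheme.Opens.range_ι]
    rintro _ ⟨z, rfl⟩
    exact hfU z)
  have hm : m ≫ U.ι = f.left := IsOpenImmersion.lift_fac _ _ _
  let mm : Z ⟶ UN := Over.homMk m (by
    show m ≫ U.ι ≫ p = Z.hom
    rw [← Category.assoc, hm]
    exact Over.w f)
  have hmf : mm ≫ ιU = f := Over.OverMorphism.ext hm
  haveI : Mono ιU := by
    haveI : Mono ιU.left := inferInstanceAs (Mono U.ι)
    exact Over.mono_of_mono_left ιU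
  let E : Z ≅ UN := ⟨mm, l,
    (cancel_mono j).1 (by rw [Category.assoc, hl, ← Category.assoc, hmf, hf, Category.id_comp]),
    (cancel_mono ιU).1 (by rw [Category.assoc, hmf, hlf, Category.id_comp])⟩
  haveI : IsIso mm.left := ((Over.forget S).mapIso E).isIso_hom
  have hfl : f.left = mm.left ≫ U.ι := hm.symm
  haveI : IsClosedImmersion U.ι := IsClosedImmersion.of_isPreimmersion _ (by rw [Scheme.Opens.range_ι]; exact hUc)
  rw [hfl]
  exact ⟨inferInstance, inferInstance⟩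

end Groth.Agent.MTRigid29
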