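import Groth.Agent.Lib.MTRigid29.MonoClosed

/-!
# Monomorphisms to affine groups are closed immersions; groups of multiplicative type are of finite presentation
-/

set_option autoImplicit false
set_option linter.style.haveILetI false
set_option backward.isDefEq.respectTransparency.types false
set_option maxSynthPendingDepth 3

universe u

open CategoryTheory Limits MonoidalCategory CartesianMonoidalCategory MonObj AlgebraicGeometry Opposite
open scoped TensorProduct

noncomputable section

namespace Groth.Agent.MTRigid29

open DiagGL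

section Cover

variable {R : Type u} [CommRing R] {J : Type u} (T : J → Type u) [∀ i, CommRing (T i)] [∀ i, Algebra R (T i)]

/-- The structure map of the union of the charts. -/
def sigmaMap : (∐ fun i => Spec (CommRingCat.of (T i))) ⟶ Spec (CommRingCat.of R) :=
  Sigma.desc fun i => Spec.map (CommRingCat.ofHom (algebraMap R (T i)))

theorem sigmaMap_cover [Finite J] (hflat : ∀ i, Module.Flat R (T i))
    (hcov : ∀ q : PrimeSpectrum R, ∃ i, q ∈ Set.range (PrimeSpectrum.comap (algebraMap R (T i)))) :
    (@Surjective ⊓ @Flat ⊓ @QuasiCompact : MorphismProperty Scheme.{u}) (sigmaMap (R := R) T) := by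
  haveI : ∀ i, Flat (Spec.map (CommRingCat.ofHom (algebraMap R (T i)))) := fun i =>
    (HasRingHomProperty.Spec_iff (P := @Flat)).2 (RingHom.flat_algebraMap_iff.2 (hflat i))
  refine ⟨⟨⟨fun x => ?_⟩, IsZariskiLocalAtSource.sigmaDesc inferInstance⟩,
    (quasiCompact_iff_compactSpace _).2 inferInstance⟩
  obtain ⟨i, z, hz⟩ := hcov x
  exact ⟨Sigma.ι (fun i => Spec (CommRingCat.of (T i))) i z, by
    rw [sigmaMap, ← Scheme.Hom.comp_apply, Sigma.ι_desc]; exact hz⟩

end Cover

variable {S : Scheme.{u}} {H G : Over S}

theorem isPullback_map_left {S' : Scheme.{u}} (g : S' ⟶ S) (u : H ⟶ G) :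
    IsPullback (pullback.fst H.hom g) ((Over.pullback g).map u).left u.left (pullback.fst G.hom g) := by
  have h1 : ((Over.pullback g).map u).left ≫ pullback.snd G.hom g = pullback.snd H.hom g :=
    Over.w ((Over.pullback g).map u)
  refine (IsPullback.of_right ?_ (map_left_fst g u) (IsPullback.of_hasPullback G.hom g).flip).flip
  rw [h1, Over.w]
  exact (IsPullback.of_hasPullback H.hom g).flip

/-- Base change of `u` along a map factoring through a base change of `G`. -/
theorem of_factor {P : MorphismProperty Scheme.{u}} [P.IsStableUnderBaseChange] {S' Q : Scheme.{u}} (g : S' ⟶ S)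
    (u : H ⟶ G) (h : P ((Over.pullback g).map u).left) (θ : Q ⟶ pullback G.hom g) :
    P (pullback.snd u.left (θ ≫ pullback.fst G.hom g)) := by
  let big := IsPullback.of_hasPullback u.left (θ ≫ pullback.fst G.hom g)
  let right := isPullback_map_left g u
  let l := right.lift (pullback.fst u.left (θ ≫ pullback.fst G.hom g)) (pullback.snd _ _ ≫ θ)
    (by rw [pullback.condition, Category.assoc])
  have sq : IsPullback l (pullback.snd u.left (θ ≫ pullback.fst G.hom g)) ((Over.pullback g).map u).left θ :=
    IsPullback.of_right (by rw [right.lift_fst]; exact big) (right.lift_snd _ _ _) right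
  exact MorphismProperty.of_isPullback sq h

theorem isFP_monoidAlgebra (R : Type u) [CommRing R] (M : Type) [AddCommGroup M] [AddGroup.FG M] :
    Algebra.FinitePresentation R (MonoidAlgebra R (Multiplicative M)) := by
  haveI : Group.FG (Multiplicative M) := AddGroup.fg_iff_mul_fg.1 ‹_›
  haveI : Monoid.FG (Multiplicative M) := Group.fg_iff_monoid_fg.1 ‹_›
  haveI : Algebra.FinitePresentation ℤ (MonoidAlgebra ℤ (Multiplicative M)) :=
    Algebra.FinitePresentation.of_finiteType.1 inferInstance
  exact Algebra.FinitePresentation.equiv (MonoidAlgebra.scalarTensorEquiv ℤ R (M := Multiplicative M))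

theorem lfp_of_chars {M : Type} [AddCommGroup M] [AddGroup.FG M] {σ : Over S} [GrpObj σ] (C : Chars M σ) :
    LocallyOfFinitePresentation σ.hom := by
  obtain ⟨i⟩ := nonempty_iso_of_chars C (charsDS S M)
  haveI : LocallyOfFinitePresentation (Red.diag (ULift.{u} ℤ) M).hom :=
    (HasRingHomProperty.Spec_iff (P := @LocallyOfFinitePresentation)).2
      (RingHom.finitePresentation_algebraMap.2 (isFP_monoidAlgebra _ M))
  haveI : LocallyOfFinitePresentation (Red.DS S M).hom := MorphismProperty.pullback_snd _ _ inferInstance
  haveI : IsIso i.hom.left := inferInstanceAs (IsIso ((Over.forget _).map i.hom))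
  rw [← Over.w i.hom]
  infer_instance

variable [GrpObj H]

theorem lfp_of_isMultTypeFT (hH : SGA3x.IsMultTypeFT H) : LocallyOfFinitePresentation H.hom := by
  refine (IsZariskiLocalAtTarget.iff_of_openCover (P := @LocallyOfFinitePresentation)
    S.affineOpenCover.openCover).2 fun a => ?_
  let V : Type u := S.affineOpenCover.X a
  let g : Spec (CommRingCat.of V) ⟶ S := S.affineOpenCover.f a
  haveI : IsOpenImmersion g := S.affineOpenCover.map_prop a
  show LocallyOfFinitePresentation (Red.bc g H).hom
  obtain ⟨J, _, T, _, _, hflat, hcov, hC⟩ := exists_charts_ft hH g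
  refine MorphismProperty.of_pullback_fst_of_descendsAlong (P := @LocallyOfFinitePresentation)
    (Q := @Surjective ⊓ @Flat ⊓ @QuasiCompact) (f := sigmaMap (R := V) T) (sigmaMap_cover T hflat hcov) ?_
  refine (IsZariskiLocalAtTarget.iff_of_openCover (P := @LocallyOfFinitePresentation) (sigmaOpenCover _)).2 fun i => ?_
  obtain ⟨M, _, hfg, ⟨C⟩⟩ := hC i
  haveI := hfg
  have h1 : LocallyOfFinitePresentation
      (pullback.snd (Red.bc g H).hom (Spec.map (CommRingCat.ofHom (algebraMap V (T i))))) := lfp_of_chars C
  have e1 : IsPullback (pullback.fst (Red.bc g H).hom (Spec.map (CommRingCat.ofHom (algebraMap V (T i)))))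
      (pullback.snd _ _) (Red.bc g H).hom
      (Sigma.ι (fun i => Spec (CommRingCat.of (T i))) i ≫ sigmaMap (R := V) T) := by
    rw [sigmaMap, Sigma.ι_desc]
    exact IsPullback.of_hasPullback _ _
  have e2 := (IsPullback.of_hasPullback (pullback.fst (sigmaMap (R := V) T) (Red.bc g H).hom)
    (Sigma.ι (fun i => Spec (CommRingCat.of (T i))) i)).paste_horiz
    (IsPullback.of_hasPullback (sigmaMap (R := V) T) (Red.bc g H).hom).flip
  have e3 := e1.isoIsPullback_hom_snd _ _ e2
  show LocallyOfFinitePresentation (pullback.snd (pullback.fst (sigmaMap (R := V) T) (Red.bc g H).hom)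
    (Sigma.ι (fun i => Spec (CommRingCat.of (T i))) i))
  rw [← e3] at h1
  exact (MorphismProperty.cancel_left_of_respectsIso @LocallyOfFinitePresentation _ _).1 h1

variable [GrpObj G]

/-- A monomorphism from a group of multiplicative type to an affine group is a closed immersion. -/
theorem isClosedImmersion_of_mono (hH : SGA3x.IsMultTypeFT H) (hGa : IsAffineHom G.hom) (u : H ⟶ G) [IsMonHom u]
    [Mono u] : IsClosedImmersion u.left := by
  haveI := hGa
  refine (IsZariskiLocalAtTarget.iff_of_openCover (P := @IsClosedImmersion)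
    (S.affineOpenCover.openCover.pullback₁ G.hom)).2 fun a => ?_
  let V : Type u := S.affineOpenCover.X a
  let g : Spec (CommRingCat.of V) ⟶ S := S.affineOpenCover.f a
  haveI : IsOpenImmersion g := S.affineOpenCover.map_prop a
  show IsClosedImmersion (pullback.snd u.left (pullback.fst G.hom g))
  have hmain : IsClosedImmersion ((Over.pullback g).map u).left := by
    obtain ⟨J, _, T, _, _, hflat, hcov, hC⟩ := exists_charts_ft hH g
    let q := sigmaMap (R := V) T
    have hq := sigmaMap_cover (R := V) T hflat hcov
    haveI : Flat q := hq.1.2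
    haveI : Surjective q := hq.1.1
    haveI : QuasiCompact q := hq.2
    let uV := (Over.pullback g).map u
    haveI : IsMonHom uV := TorsorSch25.isMonHom_of_points _ fun T a b => fl_injective g G (by
      rw [fl_comp_map, fl_mul, fl_mul, fl_comp_map, fl_comp_map, MonObj.mul_comp])
    have := FpqcDesc.descendsAlong_isClosedImmersion.{u}
    refine MorphismProperty.of_pullback_fst_of_descendsAlong (P := @IsClosedImmersion)
      (Q := @Surjective ⊓ @Flat ⊓ @QuasiCompact) (f := pullback.fst (Red.bc g G).hom q)
      ⟨⟨MorphismProperty.pullback_fst _ _ hq.1.1, MorphismProperty.pullback_fst _ _ hq.1.2⟩,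
        MorphismProperty.pullback_fst _ _ hq.2⟩ ?_
    have hqq : IsClosedImmersion ((Over.pullback q).map uV).left := by
      refine (IsZariskiLocalAtTarget.iff_of_openCover (P := @IsClosedImmersion)
        ((sigmaOpenCover fun i => Spec (CommRingCat.of (T i))).pullback₁
          (pullback.snd (Red.bc g G).hom q))).2 fun i => ?_
      obtain ⟨M, _, hfg, ⟨C⟩⟩ := hC i
      let k := Spec.map (CommRingCat.ofHom (algebraMap V (T i)))
      let uk := (Over.pullback k).map uV
      haveI : IsMonHom uk := TorsorSch25.isMonHom_of_points _ fun T a b => fl_injective k _ (by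
        rw [fl_comp_map, fl_mul, fl_mul, fl_comp_map, fl_comp_map, MonObj.mul_comp])
      haveI : IsAffineHom (Red.bc g G).hom := MorphismProperty.pullback_snd G.hom g hGa
      haveI : IsAffineHom (Red.bc k (Red.bc g G)).hom := MorphismProperty.pullback_snd _ k inferInstance
      haveI : IsAffine (Red.bc k (Red.bc g G)).left := isAffine_of_isAffineHom (Red.bc k (Red.bc g G)).hom
      haveI : Mono uV := inferInstanceAs (Mono ((Over.pullback g).map u))
      haveI : Mono uk := inferInstanceAs (Mono ((Over.pullback k).map uV))
      let Z := (Red.bc k (Red.bc g G)).left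
      let kk : Spec Γ(Z, ⊤) ⟶ Spec (CommRingCat.of (T i)) := Z.isoSpec.inv ≫ (Red.bc k (Red.bc g G)).hom
      letI : Algebra (T i) Γ(Z, ⊤) := (Spec.preimage kk).hom.toAlgebra
      let w : Red.bc k (Red.bc g G) ≅ CoactBr.sp (T i) Γ(Z, ⊤) := Over.isoMk Z.isoSpec (by
        show Z.isoSpec.hom ≫ Spec.map (CommRingCat.ofHom (Spec.preimage kk).hom) = _
        rw [CommRingCat.ofHom_hom, Spec.map_preimage, Iso.hom_inv_id_assoc])
      have h1 : IsClosedImmersion uk.left := isClosedImmersion_of_mono_split C w uk
      let j := pullback.fst (pullback.snd (Red.bc g G).hom q) (Sigma.ι (fun i => Spec (CommRingCat.of (T i))) i)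
      let θ : pullback (pullback.snd (Red.bc g G).hom q) (Sigma.ι (fun i => Spec (CommRingCat.of (T i))) i) ⟶
          pullback (Red.bc g G).hom k := pullback.lift (j ≫ pullback.fst _ _) (pullback.snd _ _) (by
        rw [Category.assoc, pullback.condition, ← Category.assoc, pullback.condition, Category.assoc]
        simp [q, sigmaMap, k])
      have hθ : θ ≫ pullback.fst (Red.bc g G).hom k = j ≫ pullback.fst _ _ := pullback.lift_fst _ _ _
      have h2 := of_factor (P := @IsClosedImmersion) k uV h1 θ
      rw [hθ] at h2
      show IsClosedImmersion (pullback.snd ((Over.pullback q).map uV).left j)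
      have e1 := IsPullback.of_hasPullback uV.left (j ≫ pullback.fst (Red.bc g G).hom q)
      have e2 := (IsPullback.of_hasPullback ((Over.pullback q).map uV).left j).paste_horiz (isPullback_map_left q uV)
      rw [← e2.isoIsPullback_hom_snd _ _ e1]
      exact (MorphismProperty.cancel_left_of_respectsIso @IsClosedImmersion _ _).2 h2
    have e1 := (isPullback_map_left q uV).flip
    have e2 := IsPullback.of_hasPullback (pullback.fst (Red.bc g G).hom q) uV.left
    rw [← e2.isoIsPullback_hom_fst _ _ e1]
    exact (MorphismProperty.cancel_left_of_respectsIso @IsClosedImmersion _ _).2 hqq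
  have h2 := of_factor (P := @IsClosedImmersion) g u hmain (𝟙 _)
  rwa [Category.id_comp] at h2

end Groth.Agent.MTRigid29
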