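import Groth.Agent.Lib.MTRigid29.LiftHom

/-!
# Lifting homomorphisms from a group of multiplicative type into a smooth group
-/

set_option autoImplicit false
set_option linter.style.haveILetI false
set_option backward.isDefEq.respectTransparency.types false
set_option synthInstance.maxHeartbeats 400000
set_option maxSynthPendingDepth 3
set_option maxHeartbeats 800000

universe u

open CategoryTheory Limits MonoidalCategory CartesianMonoidalCategory MonObj AlgebraicGeometry Opposite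
open scoped TensorProduct
open WithConv

noncomputable section

namespace Groth.Agent.MTRigid29

open MultTypeLib (KT avg IsInt)

variable {R : Type u} [CommRing R] {A : Type u} [CommRing A] [HopfAlgebra R A]

/-- `(R/L) ⊗ ((A ⊗ A) ⊗ A)`. -/
abbrev DD (A : Type u) [CommRing A] [HopfAlgebra R A] (L : Ideal R) : Type u := (R ⧸ L) ⊗[R] ((A ⊗[R] A) ⊗[R] A)

variable (L : Ideal R)

/-- The first two factors. -/
def j₁₂ : CC A L →ₐ[R] DD A L :=
  Algebra.TensorProduct.map (AlgHom.id R (R ⧸ L)) (Algebra.TensorProduct.includeLeft (S := R))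

/-- Retraction of `j₁₂`. -/
def r₁₂ : DD A L →ₐ[R] CC A L :=
  Algebra.TensorProduct.map (AlgHom.id R (R ⧸ L))
    (Algebra.TensorProduct.lift (AlgHom.id R (A ⊗[R] A)) ((Algebra.ofId R (A ⊗[R] A)).comp (Bialgebra.counitAlgHom R A))
      fun _ _ => .all _ _)

theorem r₁₂_j₁₂ (a : CC A L) : r₁₂ L (j₁₂ L a) = a := by
  induction a using TensorProduct.induction_on with
  | zero => simp
  | tmul t a => simp [r₁₂, j₁₂, ← Algebra.TensorProduct.one_def]
  | add x y hx hy => simp [hx, hy]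

/-- Multiply the first two of three. -/
def g₁ : CC A L →ₐ[R] DD A L :=
  Algebra.TensorProduct.map (AlgHom.id R (R ⧸ L))
    (Algebra.TensorProduct.map (Bialgebra.comulAlgHom R A) (AlgHom.id R A))

/-- Multiply the last two of three. -/
def g₃ : CC A L →ₐ[R] DD A L :=
  Algebra.TensorProduct.map (AlgHom.id R (R ⧸ L))
    ((Algebra.TensorProduct.assoc R R R A A A).symm.toAlgHom.comp
      (Algebra.TensorProduct.map (AlgHom.id R A) (Bialgebra.comulAlgHom R A)))

/-- The last two of three. -/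
def g₄ : CC A L →ₐ[R] DD A L :=
  Algebra.TensorProduct.map (AlgHom.id R (R ⧸ L))
    (Algebra.TensorProduct.map (Algebra.TensorProduct.includeRight : A →ₐ[R] A ⊗[R] A) (AlgHom.id R A))

theorem g₁_iΔ : (g₁ L).comp (iΔ (A := A) L) = (g₃ L).comp (iΔ L) := by
  refine Algebra.TensorProduct.ext (Ideal.Quotient.algHom_ext _ (Subsingleton.elim _ _)) (AlgHom.ext fun a => ?_)
  show (1 : R ⧸ L) ⊗ₜ[R] (Algebra.TensorProduct.map (Bialgebra.comulAlgHom R A) (AlgHom.id R A))
      (Coalgebra.comul (R := R) a) = (1 : R ⧸ L) ⊗ₜ[R] (Algebra.TensorProduct.assoc R R R A A A).symm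
        ((Algebra.TensorProduct.map (AlgHom.id R A) (Bialgebra.comulAlgHom R A)) (Coalgebra.comul (R := R) a))
  congr 1
  exact (Coalgebra.coassoc_symm_apply (R := R) a).symm

theorem g₁_i₁ : (g₁ L).comp (i₁ (A := A) L) = (j₁₂ L).comp (iΔ L) := by
  refine Algebra.TensorProduct.ext (Ideal.Quotient.algHom_ext _ (Subsingleton.elim _ _)) (AlgHom.ext fun a => ?_)
  simp [g₁, i₁, j₁₂, iΔ]

theorem g₁_i₂ : (g₁ L).comp (i₂ (A := A) L) = (g₄ L).comp (i₂ L) := by
  refine Algebra.TensorProduct.ext (Ideal.Quotient.algHom_ext _ (Subsingleton.elim _ _)) (AlgHom.ext fun a => ?_)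
  simp [g₁, i₂, g₄, Algebra.TensorProduct.one_def]

theorem g₃_i₁ : (g₃ L).comp (i₁ (A := A) L) = (j₁₂ L).comp (i₁ L) := by
  refine Algebra.TensorProduct.ext (Ideal.Quotient.algHom_ext _ (Subsingleton.elim _ _)) (AlgHom.ext fun a => ?_)
  simp [g₃, i₁, j₁₂, Algebra.TensorProduct.one_def]

theorem g₃_i₂ : (g₃ L).comp (i₂ (A := A) L) = (g₄ L).comp (iΔ L) := by
  refine Algebra.TensorProduct.ext (Ideal.Quotient.algHom_ext _ (Subsingleton.elim _ _)) (AlgHom.ext fun a => ?_)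
  simp [g₃, i₂, g₄, iΔ, ← (Coalgebra.Repr.arbitrary R a).eq, TensorProduct.tmul_sum]

theorem g₄_i₁ : (g₄ L).comp (i₁ (A := A) L) = (j₁₂ L).comp (i₂ L) := by
  refine Algebra.TensorProduct.ext (Ideal.Quotient.algHom_ext _ (Subsingleton.elim _ _)) (AlgHom.ext fun a => ?_)
  simp [g₄, i₁, i₂, j₁₂]

variable {j : A →ₗ[R] R} (hj : IsInt j)

/-- Averaging the last of three factors. -/
def avg₂T (j : A →ₗ[R] R) : DD A L →ₗ[R] CC A L := (avg j (A ⊗[R] A)).lTensor (R ⧸ L)

include hj in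
theorem avg₂T_j₁₂ (a : CC A L) : avg₂T L j (j₁₂ L a) = a := by
  induction a using TensorProduct.induction_on with
  | zero => simp
  | tmul t a => simp [avg₂T, j₁₂, MultTypeLib.avg_tmul, hj.one]
  | add x y hx hy => simp [hx, hy]

theorem avg₂T_j₁₂_mul (a : CC A L) (c : DD A L) : avg₂T L j (j₁₂ L a * c) = a * avg₂T L j c := by
  induction a using TensorProduct.induction_on with
  | zero =>
    rw [map_zero, show (0 : DD A L) * c = 0 from zero_mul c, map_zero, zero_mul]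
  | add x y hx hy =>
    rw [map_add, show (j₁₂ L x + j₁₂ L y) * c = j₁₂ L x * c + j₁₂ L y * c from add_mul _ _ _, map_add, hx, hy, add_mul]
  | tmul t a =>
    induction c using TensorProduct.induction_on with
    | zero =>
      rw [show j₁₂ L (t ⊗ₜ[R] a) * (0 : DD A L) = 0 from mul_zero _, map_zero, mul_zero]
    | add x y hx hy =>
      rw [show j₁₂ L (t ⊗ₜ[R] a) * (x + y) = j₁₂ L (t ⊗ₜ[R] a) * x + j₁₂ L (t ⊗ₜ[R] a) * y from mul_add _ _ _,
        map_add, map_add, hx, hy, mul_add]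
    | tmul t' w =>
      induction w using TensorProduct.induction_on with
      | zero =>
        rw [TensorProduct.tmul_zero, show j₁₂ L (t ⊗ₜ[R] a) * (0 : DD A L) = 0 from mul_zero _, map_zero, mul_zero]
      | add x y hx hy =>
        rw [TensorProduct.tmul_add, show j₁₂ L (t ⊗ₜ[R] a) * (t' ⊗ₜ[R] x + t' ⊗ₜ[R] y) =
          j₁₂ L (t ⊗ₜ[R] a) * (t' ⊗ₜ[R] x) + j₁₂ L (t ⊗ₜ[R] a) * (t' ⊗ₜ[R] y) from mul_add _ _ _,
          map_add, map_add, hx, hy, mul_add]
      | tmul a' b => simp [avg₂T, j₁₂, MultTypeLib.avg_tmul, mul_smul_comm]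

theorem avg₂T_g₁ (a : CC A L) : avg₂T L j (g₁ L a) = iΔ L (avgT L j a) := by
  induction a using TensorProduct.induction_on with
  | zero => simp
  | add x y hx hy => simp [hx, hy]
  | tmul t w =>
    induction w using TensorProduct.induction_on with
    | zero => simp
    | add x y hx hy => simp [TensorProduct.tmul_add, hx, hy]
    | tmul a b => simp [avg₂T, g₁, avgT, iΔ, MultTypeLib.avg_tmul]

include hj in
theorem avg₂T_g₃ (a : CC A L) : avg₂T L j (g₃ L a) = i₁ L (avgT L j a) := by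
  induction a using TensorProduct.induction_on with
  | zero => simp
  | add x y hx hy => simp [hx, hy]
  | tmul t w =>
    induction w using TensorProduct.induction_on with
    | zero => simp
    | add x y hx hy => simp [TensorProduct.tmul_add, hx, hy]
    | tmul a b =>
      have hw : ∀ w : A ⊗[R] A, avg j (A ⊗[R] A) ((Algebra.TensorProduct.assoc R R R A A A).symm (a ⊗ₜ[R] w)) =
          a ⊗ₜ[R] avg j A w := by
        intro w
        induction w using TensorProduct.induction_on with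
        | zero => simp
        | add x y hx hy => simp [TensorProduct.tmul_add, hx, hy]
        | tmul p q => simp [MultTypeLib.avg_tmul, TensorProduct.tmul_smul]
      show t ⊗ₜ[R] avg j (A ⊗[R] A) ((Algebra.TensorProduct.assoc R R R A A A).symm
        (a ⊗ₜ[R] Coalgebra.comul (R := R) b)) = i₁ L (t ⊗ₜ[R] avg j A (a ⊗ₜ[R] b))
      rw [hw, MultTypeLib.avg_comul hj]
      simp [i₁, MultTypeLib.avg_tmul, Algebra.algebraMap_eq_smul_one, TensorProduct.tmul_smul, TensorProduct.smul_tmul']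
      rw [TensorProduct.smul_tmul (j b) t, ← TensorProduct.smul_tmul']

theorem avg₂T_g₄ (a : CC A L) : avg₂T L j (g₄ L a) = i₂ L (avgT L j a) := by
  induction a using TensorProduct.induction_on with
  | zero => simp
  | add x y hx hy => simp [hx, hy]
  | tmul t w =>
    induction w using TensorProduct.induction_on with
    | zero => simp
    | add x y hx hy => simp [TensorProduct.tmul_add, hx, hy]
    | tmul a b => simp [avg₂T, g₄, avgT, i₂, MultTypeLib.avg_tmul]

variable {K : Ideal R} (hKL : K * K ≤ L)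

/-- Elements congruent to the first two factors. -/
abbrev BB₂ (K : Ideal R) : Subalgebra R (DD A L) := congrAlg (j₁₂ L) (KI K (DD A L))

/-- Averaging is multiplicative on elements congruent to the first two factors. -/
def avg₂Hom : BB₂ (A := A) L K →ₐ[R] CC A L :=
  AlgHom.ofLinearMap ((avg₂T L j).comp (BB₂ L K).val.toLinearMap)
    (by
      show avg₂T L j 1 = 1
      rw [← map_one (j₁₂ (A := A) L), avg₂T_j₁₂ L hj])
    (by
      rintro ⟨x, a, hx⟩ ⟨y, b, hy⟩
      show avg₂T L j (x * y) = avg₂T L j x * avg₂T L j y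
      obtain ⟨m, hm, rfl⟩ : ∃ m ∈ KI K (DD A L), x = j₁₂ L a + m := ⟨_, hx, by ring⟩
      obtain ⟨n, hn, rfl⟩ : ∃ n ∈ KI K (DD A L), y = j₁₂ L b + n := ⟨_, hy, by ring⟩
      rw [add_mul, mul_add, mul_add, mul_eq_zero_of_mem hKL (fun r hr => algebraMap_tensor_eq_zero L _ hr) hm hn,
        _root_.add_zero, mul_comm m (j₁₂ L b), map_add, map_add, avg₂T_j₁₂_mul, avg₂T_j₁₂_mul, avg₂T_j₁₂_mul,
        map_add, map_add, avg₂T_j₁₂ L hj, avg₂T_j₁₂ L hj]
      linear_combination -(mul_eq_zero_of_mem hKL (fun r hr => algebraMap_tensor_eq_zero L _ hr)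
        (map_mem_KI (avg₂T L j) hm) (map_mem_KI (avg₂T L j) hn)))

/-- Reduction on pairs. -/
def red₂ {L L' : Ideal R} (h : L ≤ L') : CC A L →ₐ[R] CC A L' :=
  Algebra.TensorProduct.map (Ideal.Quotient.factorₐ R h) (AlgHom.id R (A ⊗[R] A))

theorem red₂_iΔ {L L' : Ideal R} (h : L ≤ L') :
    (red₂ (A := A) h).comp (iΔ L) = (iΔ L').comp (red h) :=
  Algebra.TensorProduct.ext (Ideal.Quotient.algHom_ext _ (Subsingleton.elim _ _))
    (AlgHom.ext fun a => by simp [red₂, red, iΔ])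

theorem red₂_i₁ {L L' : Ideal R} (h : L ≤ L') : (red₂ (A := A) h).comp (i₁ L) = (i₁ L').comp (red h) :=
  Algebra.TensorProduct.ext (Ideal.Quotient.algHom_ext _ (Subsingleton.elim _ _))
    (AlgHom.ext fun a => by simp [red₂, red, i₁])

theorem red₂_i₂ {L L' : Ideal R} (h : L ≤ L') : (red₂ (A := A) h).comp (i₂ L) = (i₂ L').comp (red h) :=
  Algebra.TensorProduct.ext (Ideal.Quotient.algHom_ext _ (Subsingleton.elim _ _))
    (AlgHom.ext fun a => by simp [red₂, red, i₂])

theorem red_red {L L' L'' : Ideal R} (h : L ≤ L') (h' : L' ≤ L'') :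
    (red (A := A) h').comp (red h) = red (h.trans h') :=
  Algebra.TensorProduct.ext (Ideal.Quotient.algHom_ext _ (Subsingleton.elim _ _))
    (AlgHom.ext fun a => by simp [red])

theorem exists_factor_tensor {L K : Ideal R} (h : L ≤ K) (X : Type u) [CommRing X] [Algebra R X] :
    ∃ ψ : (R ⧸ K) ⊗[R] X →ₐ[R] ((R ⧸ L) ⊗[R] X) ⧸ KI K ((R ⧸ L) ⊗[R] X),
      ψ.comp (Algebra.TensorProduct.map (Ideal.Quotient.factorₐ R h) (AlgHom.id R X)) =
        Ideal.Quotient.mkₐ R (KI K ((R ⧸ L) ⊗[R] X)) := by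
  let φ : (R ⧸ K) →ₐ[R] ((R ⧸ L) ⊗[R] X) ⧸ KI K ((R ⧸ L) ⊗[R] X) :=
    Ideal.Quotient.liftₐ _ (Algebra.ofId R _) fun r hr => by
      show algebraMap R (((R ⧸ L) ⊗[R] X) ⧸ KI K ((R ⧸ L) ⊗[R] X)) r = 0
      rw [IsScalarTower.algebraMap_apply R ((R ⧸ L) ⊗[R] X) (((R ⧸ L) ⊗[R] X) ⧸ KI K ((R ⧸ L) ⊗[R] X))]
      exact Ideal.Quotient.eq_zero_iff_mem.2 (Ideal.mem_map_of_mem _ hr)
  refine ⟨Algebra.TensorProduct.lift φ
    ((Ideal.Quotient.mkₐ R _).comp Algebra.TensorProduct.includeRight) fun _ _ => .all _ _, ?_⟩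
  refine Algebra.TensorProduct.ext (Ideal.Quotient.algHom_ext _ (Subsingleton.elim _ _)) (AlgHom.ext fun a => ?_)
  simp

variable {G : Over (Spec (CommRingCat.of R))} [GrpObj G]

theorem isHom_red {L L' : Ideal R} (h : L ≤ L') {x : Pts G (AA A L)} (hx : IsHom L x) :
    IsHom L' (pmap (red h) x) := by
  unfold IsHom at hx ⊢
  simp only [pmap_pmap]
  rw [← red₂_iΔ, ← red₂_i₁, ← red₂_i₂, ← pmap_pmap, hx, map_mul, pmap_pmap, pmap_pmap]

include hj hKL in
/-- A point which is a homomorphism modulo `K` is congruent to a homomorphism. -/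
theorem exists_hom_step (hLK : L ≤ K) (x : Pts G (AA A L)) (hx : IsHom K (pmap (red hLK) x)) :
    ∃ x' : Pts G (AA A L), IsHom L x' ∧ pmap (red hLK) x' = pmap (red hLK) x := by
  have hC := fun r hr => algebraMap_tensor_eq_zero (R := R) L (A ⊗[R] A) (r := r) hr
  have hD := fun r hr => algebraMap_tensor_eq_zero (R := R) L ((A ⊗[R] A) ⊗[R] A) (r := r) hr
  have hs : Function.Surjective (PrimeSpectrum.comap ((BB (A := A) L K).val : BB (A := A) L K →+* CC A L)) :=
    surjective_comap_congrAlg (i₁ L) (r₁ L) (r₁_i₁ L) _ (isNilpotent_KI hKL hC) fun i hi =>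
      map_mem_KI ((i₁ L).toLinearMap.comp (r₁ L).toLinearMap) hi
  have hs₂ : Function.Surjective (PrimeSpectrum.comap ((BB₂ (A := A) L K).val : BB₂ (A := A) L K →+* DD A L)) :=
    surjective_comap_congrAlg (j₁₂ L) (r₁₂ L) (r₁₂_j₁₂ L) _ (isNilpotent_KI hKL hD) fun i hi =>
      map_mem_KI ((j₁₂ L).toLinearMap.comp (r₁₂ L).toLinearMap) hi
  set c : Pts G (CC A L) := pmap (iΔ L) x * (pmap (i₁ L) x * pmap (i₂ L) x)⁻¹ with hc_def
  obtain ⟨ψ, hψ⟩ := exists_factor_tensor hLK (A ⊗[R] A)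
  have hc1 : pmap (Ideal.Quotient.mkₐ R (KI K (CC A L))) c = 1 := by
    rw [← hψ, ← pmap_pmap]
    refine (congrArg (pmap ψ) ?_).trans (map_one _)
    show pmap (red₂ hLK) c = 1
    rw [hc_def, map_mul, map_inv, map_mul, pmap_pmap, pmap_pmap, pmap_pmap, red₂_iΔ, red₂_i₁, red₂_i₂,
      ← pmap_pmap, ← pmap_pmap, ← pmap_pmap, hx, mul_inv_cancel]
  obtain ⟨c₀, hc₀⟩ := exists_pmap_val (BB L K) (KI K (CC A L)) (isNilpotent_KI hKL hC)
    (fun i hi => mem_congrAlg_of_mem _ _ hi) hs c hc1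
  let avgA : BB (A := A) L K →ₐ[R] AA A L := avgHom L hj hKL
  set ε : Pts G (AA A L) := pmap avgA c₀ with hε
  have hcomm : ∀ (f : CC A L →ₐ[R] DD A L) (g₀ : AA A L →ₐ[R] CC A L),
      f.comp (i₁ L) = (j₁₂ L).comp g₀ → ∀ b : BB (A := A) L K, f (b : CC A L) ∈ BB₂ (A := A) L K := fun f g₀ hf b =>
    mapsTo_congrAlg _ _ _ _ f g₀ (fun a => DFunLike.congr_fun hf a) (fun i hi => map_mem_KI f.toLinearMap hi) b.2
  let f₁ : BB (A := A) L K →ₐ[R] BB₂ (A := A) L K := ((g₁ L).comp (BB L K).val).codRestrict _ (hcomm _ _ (g₁_i₁ L))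
  let f₃ : BB (A := A) L K →ₐ[R] BB₂ (A := A) L K := ((g₃ L).comp (BB L K).val).codRestrict _ (hcomm _ _ (g₃_i₁ L))
  let f₄ : BB (A := A) L K →ₐ[R] BB₂ (A := A) L K := ((g₄ L).comp (BB L K).val).codRestrict _ (hcomm _ _ (g₄_i₁ L))
  let f₀ : CC A L →ₐ[R] BB₂ (A := A) L K := (j₁₂ L).codRestrict _ (map_mem_congrAlg _ _)
  have hx₁ : pmap (iΔ L) x = c * (pmap (i₁ L) x * pmap (i₂ L) x) := by rw [hc_def, inv_mul_cancel_right]
  have key : pmap (D := BB₂ (A := A) L K) f₁ c₀ * pmap (D := BB₂ (A := A) L K) f₀ c =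
      pmap (D := BB₂ (A := A) L K) f₃ c₀ * pmap (D := BB₂ (A := A) L K) f₀ (pmap (i₁ L) x) *
      pmap (D := BB₂ (A := A) L K) f₄ c₀ * (pmap (D := BB₂ (A := A) L K) f₀ (pmap (i₁ L) x))⁻¹ := by
    refine pmap_val_injective (BB₂ L K) hs₂ ?_
    have hc' : ∀ g : CC A L →ₐ[R] DD A L, pmap (G := G) (g.comp (BB L K).val) c₀ = pmap g c := fun g => by
      rw [← pmap_pmap, hc₀]
    simp only [map_mul, map_inv, pmap_pmap, ← AlgHom.comp_assoc]
    rw [show (BB₂ L K).val.comp f₁ = (g₁ L).comp (BB L K).val from rfl,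
      show (BB₂ L K).val.comp f₀ = j₁₂ L from rfl,
      show (BB₂ L K).val.comp f₃ = (g₃ L).comp (BB L K).val from rfl,
      show (BB₂ L K).val.comp f₄ = (g₄ L).comp (BB L K).val from rfl, hc', hc', hc']
    have e1 := congrArg (pmap (g₁ L)) hx₁
    have e3 := congrArg (pmap (g₃ L)) hx₁
    have e2 := congrArg (pmap (j₁₂ L)) hx₁
    have e4 := congrArg (pmap (g₄ L)) hx₁
    simp only [map_mul, pmap_pmap] at e1 e2 e3 e4 ⊢
    rw [g₁_i₁, g₁_i₂, g₁_iΔ, e2] at e1
    rw [g₃_i₁, g₃_i₂, e1, e4, g₄_i₁] at e3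
    refine mul_right_cancel (b := pmap ((j₁₂ L).comp (i₁ L)) x * pmap ((j₁₂ L).comp (i₂ L)) x *
      pmap ((g₄ L).comp (i₂ L)) x) ?_
    simp only [← _root_.mul_assoc, inv_mul_cancel_right] at e3 ⊢
    exact e3
  have havg := congrArg (pmap (avg₂Hom L hj hKL)) key
  simp only [map_mul, map_inv, pmap_pmap] at havg
  rw [show (avg₂Hom L hj hKL).comp f₁ = (iΔ L).comp avgA from AlgHom.ext fun b => avg₂T_g₁ L _,
    show (avg₂Hom L hj hKL).comp f₃ = (i₁ L).comp avgA from AlgHom.ext fun b => avg₂T_g₃ L hj _,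
    show (avg₂Hom L hj hKL).comp f₄ = (i₂ L).comp avgA from AlgHom.ext fun b => avg₂T_g₄ L _,
    show (avg₂Hom L hj hKL).comp f₀ = AlgHom.id R _ from AlgHom.ext fun b => avg₂T_j₁₂ L hj _,
    ← AlgHom.comp_assoc, show (avg₂Hom L hj hKL).comp f₀ = AlgHom.id R _ from AlgHom.ext fun b => avg₂T_j₁₂ L hj _,
    AlgHom.id_comp, pmap_id, ← pmap_pmap, ← pmap_pmap, ← pmap_pmap, ← hε] at havg
  refine ⟨ε * x, ?_, ?_⟩
  · unfold IsHom
    simp only [map_mul]
    rw [hx₁, ← _root_.mul_assoc, havg]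
    group
  · obtain ⟨ψA, hψA⟩ := exists_factor_red (A := A) hLK
    rw [map_mul, mul_eq_right, hε, pmap_pmap]
    let q : CC A K →ₐ[R] AA A K := r₁ K
    have e : (red hLK).comp avgA = (q.comp (red₂ hLK)).comp (BB L K).val := by
      refine AlgHom.ext fun b => ?_
      obtain ⟨v, a, hb⟩ := b
      show red hLK (avgT L j v) = r₁ K (red₂ hLK v)
      obtain ⟨m, hm, rfl⟩ : ∃ m ∈ KI K (CC A L), v = i₁ L a + m := ⟨_, hb, by ring⟩
      have hz : ∀ f : CC A L →ₗ[R] AA A K, f m = 0 := fun f => by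
        have h := map_mem_KI f hm
        rw [show KI K (AA A K) = ⊥ from eq_bot_iff.2 (Ideal.map_le_iff_le_comap.2 fun r hr =>
          (Ideal.mem_bot).2 (algebraMap_tensor_eq_zero K A hr))] at h
        exact h
      simp only [map_add]
      rw [avgT_i₁ L hj, show red hLK (avgT L j m) = 0 from hz ((red hLK).toLinearMap.comp (avgT L j)),
        show r₁ K (red₂ hLK m) = 0 from hz ((r₁ K).toLinearMap.comp (red₂ hLK).toLinearMap),
        show red₂ hLK (i₁ L a) = i₁ K (red hLK a) from DFunLike.congr_fun (red₂_i₁ hLK) a, r₁_i₁]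
    rw [e, ← pmap_pmap, hc₀, hc_def]
    simp only [map_mul, map_inv, pmap_pmap, AlgHom.comp_assoc, red₂_iΔ, red₂_i₁, red₂_i₂]
    simp only [← pmap_pmap]
    rw [hx, map_mul, mul_inv_cancel]

include hj in
/-- Lifting of a homomorphism point into a smooth group along a square-zero thickening. -/
theorem exists_hom_lift_step (hG : Smooth G.hom) (hKL : K * K ≤ L) (hLK : L ≤ K) (x : Pts G (AA A K)) (hx : IsHom K x) :
    ∃ x' : Pts G (AA A L), IsHom L x' ∧ pmap (red hLK) x' = x := by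
  have hsurj : Function.Surjective (red (A := A) hLK) := fun z => by
    induction z using TensorProduct.induction_on with
    | zero => exact ⟨0, map_zero _⟩
    | tmul t a => obtain ⟨s, rfl⟩ := Ideal.Quotient.mk_surjective t; exact ⟨Ideal.Quotient.mk L s ⊗ₜ[R] a, by simp [red]⟩
    | add p q hp hq =>
      obtain ⟨p', rfl⟩ := hp; obtain ⟨q', rfl⟩ := hq
      exact ⟨p' + q', map_add _ _ _⟩
  obtain ⟨ψ, hψ⟩ := exists_factor_red (A := A) hLK
  have hker : ∀ z, red (A := A) hLK z = 0 → z ∈ KI K (AA A L) := fun z hz => by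
    have := DFunLike.congr_fun hψ z
    simp only [AlgHom.comp_apply, hz, map_zero] at this
    exact Ideal.Quotient.eq_zero_iff_mem.1 this.symm
  have hsq : RingHom.ker (red (A := A) hLK).toRingHom ^ 2 = ⊥ := by
    rw [pow_two]
    exact le_bot_iff.1 (Ideal.mul_le.2 fun a ha b hb => (Ideal.mem_bot).2
      (mul_eq_zero_of_mem hKL (fun r hr => algebraMap_tensor_eq_zero L A hr) (hker a ha) (hker b hb)))
  obtain ⟨w', h1, h2⟩ := exists_lift_of_surjective (SmoothLift15.isFormallySmoothHom_of_smooth G.hom)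
    (red (A := A) hLK).toRingHom hsurj hsq x.left
    (Spec.map (CommRingCat.ofHom (algebraMap R (AA A L)))) (by
      rw [specMap_comp]
      exact (congrArg (fun f => Spec.map (CommRingCat.ofHom f)) (red (A := A) hLK).comp_algebraMap).trans (Over.w x).symm)
  let y : Pts G (AA A L) := Over.homMk w' h2
  have hy : pmap (red hLK) y = x := Over.OverMorphism.ext h1
  obtain ⟨x', hx', hxy⟩ := exists_hom_step L hj hKL hLK y (hy.symm ▸ hx)
  exact ⟨x', hx', hxy.trans hy⟩

include hj in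
/-- Lifting of a homomorphism from a group of multiplicative type into a smooth group. -/
theorem exists_monHom_lift_smooth {H : Over (Spec (CommRingCat.of R))} [GrpObj H]
    (e : Grp.mk (CoactBr.sp R A) ≅ Grp.mk H) (hG : Smooth G.hom) {J : Ideal R} (hJ : IsNilpotent J)
    (x : Pts G (AA A J)) (hx : IsHom J x) :
    ∃ (w : H ⟶ G) (_ : IsMonHom w), hgen e J ≫ w = x := by
  have key : ∀ k : ℕ, ∃ (hk : J ^ 2 ^ k ≤ J) (z : Pts G (AA A (J ^ (2 : ℕ) ^ k))),
      IsHom _ z ∧ pmap (red hk) z = x := by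
    intro k
    induction k with
    | zero =>
      have hk : J ^ 2 ^ 0 ≤ J := le_of_eq (by simp)
      have hk' : J ≤ J ^ 2 ^ 0 := le_of_eq (by simp)
      refine ⟨hk, pmap (red hk') x, isHom_red hk' hx, ?_⟩
      rw [pmap_pmap, red_red,
        show red (A := A) (hk'.trans hk) = AlgHom.id R _ from
          Algebra.TensorProduct.ext (Ideal.Quotient.algHom_ext _ (Subsingleton.elim _ _)) (by ext; simp [red])]
      exact pmap_id _
    | succ k ih =>
      obtain ⟨hk, z, hz, hzx⟩ := ih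
      have hLK : J ^ 2 ^ (k + 1) ≤ J ^ 2 ^ k := Ideal.pow_le_pow_right (Nat.pow_le_pow_right two_pos k.le_succ)
      have hKL : J ^ 2 ^ k * J ^ 2 ^ k ≤ J ^ 2 ^ (k + 1) := le_of_eq (by rw [← pow_add, pow_succ, mul_two])
      obtain ⟨z', hz', hzz⟩ := exists_hom_lift_step (J ^ 2 ^ (k + 1)) hj hG hKL hLK z hz
      refine ⟨hLK.trans hk, z', hz', ?_⟩
      rw [← red_red hLK hk, ← pmap_pmap, hzz, hzx]
  obtain ⟨n, hn⟩ := hJ
  obtain ⟨hk, z, hz, hzx⟩ := key n
  have hbot : J ^ (2 : ℕ) ^ n = ⊥ := le_bot_iff.1 (le_of_le_of_eq (Ideal.pow_le_pow_right Nat.lt_two_pow_self.le) hn)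
  obtain ⟨σ, l, hl1, hl2⟩ := exists_collapse (A := A) hbot
  let l₂ : CC A (J ^ (2 : ℕ) ^ n) →ₐ[R] A ⊗[R] A :=
    Algebra.TensorProduct.lift ((Algebra.ofId R (A ⊗[R] A)).comp σ) (AlgHom.id R (A ⊗[R] A)) fun _ _ => .all _ _
  have hl1' : ∀ a, l ((1 : R ⧸ J ^ (2 : ℕ) ^ n) ⊗ₜ[R] a) = a := fun a => DFunLike.congr_fun hl1 a
  have cΔ : l₂.comp (iΔ (J ^ (2 : ℕ) ^ n)) = (Bialgebra.comulAlgHom R A).comp l :=
    Algebra.TensorProduct.ext (Ideal.Quotient.algHom_ext _ (Subsingleton.elim _ _))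
      (AlgHom.ext fun a => by simp [l₂, iΔ, hl1', ← Algebra.TensorProduct.one_def])
  have c1 : l₂.comp (i₁ (J ^ (2 : ℕ) ^ n)) = (Algebra.TensorProduct.includeLeft (S := R)).comp l :=
    Algebra.TensorProduct.ext (Ideal.Quotient.algHom_ext _ (Subsingleton.elim _ _))
      (AlgHom.ext fun a => by simp [l₂, i₁, hl1'])
  have c2 : l₂.comp (i₂ (J ^ (2 : ℕ) ^ n)) = Algebra.TensorProduct.includeRight.comp l :=
    Algebra.TensorProduct.ext (Ideal.Quotient.algHom_ext _ (Subsingleton.elim _ _))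
      (AlgHom.ext fun a => by simp [l₂, i₂, hl1'])
  have hmul : pmap (Bialgebra.comulAlgHom R A) (pmap l z) =
      pmap (Algebra.TensorProduct.includeLeft (S := R) : A →ₐ[R] A ⊗[R] A) (pmap l z) *
        pmap Algebra.TensorProduct.includeRight (pmap l z) := by
    simp only [pmap_pmap, ← cΔ, ← c1, ← c2]
    rw [← pmap_pmap, hz, map_mul, pmap_pmap, pmap_pmap]
  set ζ : CoactBr.sp R A ⟶ G := pmap l z with hζ
  haveI : IsMonHom ζ := by
    refine TorsorSch25.isMonHom_of_points ζ fun T a b => ?_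
    obtain ⟨P, hP1, hP2⟩ := exists_pairMor R A A
    have hu : (fst _ _ * snd _ _ : CoactBr.sp R A ⊗ CoactBr.sp R A ⟶ CoactBr.sp R A) ≫ ζ =
        (fst _ _ ≫ ζ) * (snd _ _ ≫ ζ) := by
      rw [← hP1, ← hP2, ← MonObj.comp_mul, CoactBr.pt_mul_pt, Category.assoc, Category.assoc, Category.assoc,
        ← MonObj.comp_mul]
      refine congrArg (P ≫ ·) ?_
      rw [show Algebra.TensorProduct.lift (Algebra.TensorProduct.includeLeft (S := R) : A →ₐ[R] A ⊗[R] A)
        Algebra.TensorProduct.includeRight (fun _ _ => .all _ _) = AlgHom.id R _ from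
        Algebra.TensorProduct.ext (by ext; simp) (by ext; simp), AlgHom.id_comp]
      exact hmul
    have := congrArg (lift a b ≫ ·) hu
    simpa only [MonObj.comp_mul, ← Category.assoc, lift_fst, lift_snd] using this
  haveI : IsMonHom e.inv.hom.hom := e.inv.hom.isMonHom_hom
  refine ⟨e.inv.hom.hom ≫ ζ, inferInstance, ?_⟩
  rw [hgen, Category.assoc, ← Category.assoc e.hom.hom.hom, ← Mon.comp_hom', ← Grp.comp', e.hom_inv_id]
  refine (congrArg (CoactBr.pt (gen J) ≫ ·) (Category.id_comp ζ)).trans ?_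
  rw [hζ, ← pmap_apply, pmap_pmap, ← hzx]
  refine congrArg (fun f => pmap f z) ?_
  exact Algebra.TensorProduct.ext (Ideal.Quotient.algHom_ext _ (Subsingleton.elim _ _))
    (AlgHom.ext fun a => by simp [red, gen, hl1'])

end Groth.Agent.MTRigid29
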