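import Groth.Agent.Lib.MTRigid29.SubgrpConj
import Groth.Agent.Lib.MTRigid29.SmoothHom

/-!
# The transporter of a group of multiplicative type into a subgroup
-/

set_option autoImplicit false
set_option linter.style.haveILetI false
set_option backward.isDefEq.respectTransparency.types false
set_option maxSynthPendingDepth 3

universe u

open CategoryTheory Limits MonoidalCategory CartesianMonoidalCategory MonObj AlgebraicGeometry Opposite
open scoped TensorProduct

noncomputable section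

namespace Groth.Agent.MTRigid29

variable {R : Type u} [CommRing R] {A : Type u} [CommRing A] [HopfAlgebra R A] {J : Ideal R}
  {G H K : Over (Spec (CommRingCat.of R))} [GrpObj G] [GrpObj H] [GrpObj K]
  (e : Grp.mk (CoactBr.sp R A) ≅ Grp.mk H)

/-- Every point over `R/J` comes from the generic one. -/
theorem exists_gen_univ (X : Over (Spec (CommRingCat.of R)))
    (p : X ⟶ (Over.mk (Spec.map (CommRingCat.ofHom (Ideal.Quotient.mk J))) : Over (Spec (CommRingCat.of R))))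
    (h : X ⟶ H) : ∃ w : X ⟶ CoactBr.sp R (AA A J), w ≫ hgen e J = h ∧ w ≫ toBase (cst J) = p := by
  obtain ⟨P, hP1, hP2⟩ := exists_pairMor R (R ⧸ J) A
  refine ⟨lift (p : X ⟶ CoactBr.sp R (R ⧸ J)) (h ≫ e.inv.hom.hom) ≫ P, ?_, ?_⟩
  · have h1 : P ≫ hgen e J = snd _ _ ≫ e.hom.hom.hom :=
      (Category.assoc _ _ _).symm.trans (congrArg (· ≫ e.hom.hom.hom) hP2)
    refine (Category.assoc _ _ _).trans ((congrArg (lift _ _ ≫ ·) h1).trans ?_)
    refine (lift_snd_assoc _ _ _).trans ?_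
    rw [Category.assoc, ← Mon.comp_hom', ← Grp.comp', e.inv_hom_id]
    exact Category.comp_id h
  · exact (Category.assoc _ _ _).trans ((congrArg (lift _ _ ≫ ·) hP1).trans (lift_fst _ _))

include e in
/-- Lifting points of the transporter along a nilpotent thickening. -/
theorem exists_transporter_lift {j : A →ₗ[R] R} (hj : MultTypeLib.IsInt j) (hJ : IsNilpotent J)
    (hG : Smooth G.hom) (k : K ⟶ G) [IsMonHom k] [Mono k] (hK : Smooth K.hom ∨ IsMT K) (u : H ⟶ G) [IsMonHom u]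
    (g₀ : (Over.mk (Spec.map (CommRingCat.ofHom (Ideal.Quotient.mk J))) : Over (Spec (CommRingCat.of R))) ⟶ G)
    (h0 : ∀ (X : Over (Spec (CommRingCat.of R))) (p : X ⟶ (Over.mk (Spec.map (CommRingCat.ofHom (Ideal.Quotient.mk J))) : Over (Spec (CommRingCat.of R)))) (h : X ⟶ H),
      ∃ x : X ⟶ K, (p ≫ g₀) * (h ≫ u) * (p ≫ g₀)⁻¹ = x ≫ k) :
    ∃ g : 𝟙_ (Over (Spec (CommRingCat.of R))) ⟶ G, toUnit (Over.mk (Spec.map (CommRingCat.ofHom (Ideal.Quotient.mk J))) : Over (Spec (CommRingCat.of R))) ≫ g = g₀ ∧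
      ∀ (X : Over (Spec (CommRingCat.of R))) (h : X ⟶ H), ∃ x : X ⟶ K, (toUnit X ≫ g) * (h ≫ u) * (toUnit X ≫ g)⁻¹ = x ≫ k := by
  obtain ⟨y, hy⟩ := h0 _ (toBase (cst J)) (hgen e J)
  have hyK : IsHom J y := isHom_of_mono k J y (hy ▸ (isHom_hgen e J u).conj J g₀)
  obtain ⟨w, hw, hwy⟩ : ∃ (w : H ⟶ K) (_ : IsMonHom w), hgen e J ≫ w = y := by
    rcases hK with hK | hK
    · exact exists_monHom_lift_smooth hj e hK hJ y hyK
    · obtain ⟨B, _, _, jB, -, hB, ⟨eK⟩⟩ := exists_model_split hK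
      obtain ⟨φ, -, hφ⟩ := exists_lift_hom eK hB hj hJ y hyK
      exact ⟨ofBialg e eK φ, isMonHom_ofBialg e eK φ, by rw [hgen_ofBialg]; exact hφ.symm⟩
  obtain ⟨g, hg1, hg2⟩ := exists_conj_nilpotent e hj hJ hG u (w ≫ k) g₀ fun X p h => by
    obtain ⟨v, hv1, hv2⟩ := exists_gen_univ e X p h
    have h1 : hgen e J ≫ w ≫ k = (toBase (cst J) ≫ g₀) * (hgen e J ≫ u) * (toBase (cst J) ≫ g₀)⁻¹ := by
      rw [← Category.assoc, hwy, ← hy]
    have h2 := congrArg (v ≫ ·) h1
    simp only [MonObj.comp_mul, GrpObj.comp_inv] at h2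
    rwa [← Category.assoc v (hgen e J), hv1, ← Category.assoc v (toBase (cst J)), hv2, ← Category.assoc v (hgen e J),
      hv1] at h2
  exact ⟨g, hg1, fun X h => ⟨h ≫ w, by rw [← hg2 X h, Category.assoc]⟩⟩

end Groth.Agent.MTRigid29
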