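import Groth.Agent.Lib.MTRigid29.TransporterRep
import Groth.Agent.Lib.MTRigid29.MonoClosedGlobal
import Groth.Agent.Lib.MTRigid29.Transporter
import Groth.Agent.Lib.SmoothSection.Scheme
import Groth.Prelude.Def_TwC

/-!
# Transporters between subgroups of multiplicative type of smooth affine groups are smooth
-/

set_option autoImplicit false
set_option linter.style.haveILetI false
set_option backward.isDefEq.respectTransparency.types false
set_option maxSynthPendingDepth 3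

universe u

open CategoryTheory Limits MonoidalCategory CartesianMonoidalCategory MonObj AlgebraicGeometry Opposite
open scoped TensorProduct

noncomputable section

namespace Groth.Agent.MTRigid29

open DiagGL

variable {S : Scheme.{u}} {G : Over S}

/-- A closed subscheme of an affine scheme whose points lift along square-zero thickenings is smooth. -/
theorem smooth_of_lifts (hGa : IsAffineHom G.hom) {C : Over S} (c : C ⟶ G) [IsClosedImmersion c.left]
    [LocallyOfFinitePresentation C.hom]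
    (h : ∀ (D : Type u) [CommRing D] (J : Ideal D), J ^ 2 = ⊥ → ∀ (b : Spec (CommRingCat.of D) ⟶ S)
      (g₀ : Over.mk (Spec.map (CommRingCat.ofHom (Ideal.Quotient.mk J)) ≫ b) ⟶ G), (∃ z, z ≫ c = g₀) →
      ∃ g : Over.mk b ⟶ G, Spec.map (CommRingCat.ofHom (Ideal.Quotient.mk J)) ≫ g.left = g₀.left ∧
        ∃ z, z ≫ c = g) :
    Smooth C.hom := by
  haveI := hGa
  haveI : IsAffineHom C.hom := by rw [← Over.w c]; infer_instance
  refine (IsZariskiLocalAtTarget.iff_of_openCover (P := @Smooth) S.affineOpenCover.openCover).2 fun a => ?_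
  let R : Type u := S.affineOpenCover.X a
  let g : Spec (CommRingCat.of R) ⟶ S := S.affineOpenCover.f a
  show Smooth (pullback.snd C.hom g)
  haveI : IsAffineHom (pullback.snd C.hom g) := MorphismProperty.pullback_snd _ _ inferInstance
  haveI : LocallyOfFinitePresentation (pullback.snd C.hom g) := MorphismProperty.pullback_snd _ _ inferInstance
  haveI : IsAffine (pullback C.hom g) := isAffine_of_isAffineHom (pullback.snd C.hom g)
  let Z := pullback C.hom g
  let A : Type u := Γ(Z, ⊤)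
  let k : Spec (CommRingCat.of A) ⟶ Spec (CommRingCat.of R) := Z.isoSpec.inv ≫ pullback.snd C.hom g
  letI : Algebra R A := (Spec.preimage k).hom.toAlgebra
  have hk : Spec.map (CommRingCat.ofHom (algebraMap R A)) = k := by
    show Spec.map (CommRingCat.ofHom (Spec.preimage k).hom) = k
    rw [CommRingCat.ofHom_hom, Spec.map_preimage]
  haveI : Algebra.FinitePresentation R A := by
    have : LocallyOfFinitePresentation (Spec.map (CommRingCat.ofHom (algebraMap R A))) := by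
      rw [hk]; infer_instance
    exact RingHom.finitePresentation_algebraMap.1
      ((HasRingHomProperty.Spec_iff (P := @LocallyOfFinitePresentation)).1 this)
  have hsm : Algebra.Smooth R A := by
    refine ⟨Algebra.FormallySmooth.iff_comp_surjective.2 fun D _ _ J hJ φ => ?_, inferInstance⟩
    let q := Spec.map (CommRingCat.ofHom (Ideal.Quotient.mk J))
    let b : Spec (CommRingCat.of D) ⟶ S := Spec.map (CommRingCat.ofHom (algebraMap R D)) ≫ g
    let x₀ : Spec (CommRingCat.of (D ⧸ J)) ⟶ Z := Spec.map (CommRingCat.ofHom φ.toRingHom) ≫ Z.isoSpec.inv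
    have hx₀ : x₀ ≫ pullback.snd C.hom g = q ≫ Spec.map (CommRingCat.ofHom (algebraMap R D)) := by
      show (Spec.map _ ≫ Z.isoSpec.inv) ≫ _ = _
      rw [Category.assoc, ← show _ = Z.isoSpec.inv ≫ pullback.snd C.hom g from hk, specMap_comp, specMap_comp,
        show φ.toRingHom.comp (algebraMap R A) = algebraMap R (D ⧸ J) from φ.comp_algebraMap]
    let z₀ : Over.mk (q ≫ b) ⟶ C := Over.homMk (x₀ ≫ pullback.fst C.hom g) (by
      show (x₀ ≫ pullback.fst C.hom g) ≫ C.hom = q ≫ b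
      rw [Category.assoc, pullback.condition, ← Category.assoc, hx₀, Category.assoc])
    obtain ⟨gp, hgp, z, hz⟩ := h D J hJ b (z₀ ≫ c) ⟨z₀, rfl⟩
    let x : Spec (CommRingCat.of D) ⟶ Z := pullback.lift z.left (Spec.map (CommRingCat.ofHom (algebraMap R D)))
      (Over.w z)
    let ψ : A →+* D := (Spec.preimage (x ≫ Z.isoSpec.hom)).hom
    have hψ : Spec.map (CommRingCat.ofHom ψ) = x ≫ Z.isoSpec.hom := by
      rw [CommRingCat.ofHom_hom, Spec.map_preimage]
    have hψ' : ψ.comp (algebraMap R A) = algebraMap R D := by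
      refine congrArg CommRingCat.Hom.hom (Spec.map_injective (?_ : Spec.map (CommRingCat.ofHom (ψ.comp (algebraMap R A))) = Spec.map (CommRingCat.ofHom (algebraMap R D))))
      rw [← specMap_comp, hψ, hk]
      simp [k, x]
      exact pullback.lift_snd _ _ _
    refine ⟨{ ψ with commutes' := fun r => RingHom.congr_fun hψ' r }, AlgHom.coe_ringHom_injective ?_⟩
    refine congrArg CommRingCat.Hom.hom (Spec.map_injective (?_ :
      Spec.map (CommRingCat.ofHom ((Ideal.Quotient.mk J).comp ψ)) = Spec.map (CommRingCat.ofHom φ.toRingHom)))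
    rw [← specMap_comp, hψ, ← cancel_mono Z.isoSpec.inv, Category.assoc, Category.assoc, Iso.hom_inv_id,
      Category.comp_id]
    have h1 : q ≫ z.left = x₀ ≫ pullback.fst C.hom g := by
      rw [← cancel_mono c.left, Category.assoc]
      exact (congrArg (q ≫ ·) (congrArg CommaMorphism.left hz)).trans hgp
    refine pullback.hom_ext ?_ ?_
    · show (q ≫ x) ≫ _ = x₀ ≫ _
      rw [← h1, Category.assoc]
      exact congrArg (q ≫ ·) (pullback.lift_fst _ _ _)
    · show (q ≫ x) ≫ _ = x₀ ≫ _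
      rw [hx₀, Category.assoc]
      exact congrArg (q ≫ ·) (pullback.lift_snd _ _ _)
  haveI : Smooth (Spec.map (CommRingCat.ofHom (algebraMap R A))) :=
    (HasRingHomProperty.Spec_iff (P := @Smooth)).2 (RingHom.smooth_algebraMap.2 hsm)
  rw [show pullback.snd C.hom g = Z.isoSpec.hom ≫ Spec.map (CommRingCat.ofHom (algebraMap R A)) by
    rw [hk]; simp [k, Z]]
  infer_instance

variable [GrpObj G]

theorem fl_inv {S' : Scheme.{u}} (f : S' ⟶ S) (G : Over S) [GrpObj G] {T : Over S'} (x : T ⟶ Red.bc f G) :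
    fl f G x⁻¹ = (fl f G x)⁻¹ :=
  eq_inv_of_mul_eq_one_left (by rw [← fl_mul, inv_mul_cancel, fl_one])

section Bc

variable {D : Type u} [CommRing D] {J : Ideal D} (b : Spec (CommRingCat.of D) ⟶ S) {H : Over S} [GrpObj H]

/-- The section of `G` over `b` given by a section of the base change. -/
def secOf (g' : 𝟙_ (Over (Spec (CommRingCat.of D))) ⟶ Red.bc b G) : Over.mk b ⟶ G :=
  (Over.homMk (𝟙 _) (by simp) : Over.mk b ⟶ (Over.map b).obj (𝟙_ (Over (Spec (CommRingCat.of D))))) ≫ fl b G g'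

theorem secOf_red (g' : 𝟙_ (Over (Spec (CommRingCat.of D))) ⟶ Red.bc b G)
    (g₀ : (Over.mk (Spec.map (CommRingCat.ofHom (Ideal.Quotient.mk J))) : Over (Spec (CommRingCat.of D))) ⟶ Red.bc b G)
    (h : toUnit _ ≫ g' = g₀) :
    Spec.map (CommRingCat.ofHom (Ideal.Quotient.mk J)) ≫ (secOf b g').left = (fl b G g₀).left := by
  rw [← h, fl_comp]
  show Spec.map _ ≫ 𝟙 _ ≫ (fl b G g').left =
    (toUnit (Over.mk (Spec.map (CommRingCat.ofHom (Ideal.Quotient.mk J))) : Over (Spec (CommRingCat.of D)))).left ≫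
      (fl b G g').left
  rw [Category.id_comp]
  congr 1

/-- A point of `H` over a point of the base seen in the base change. -/
theorem exists_bc_point {X' : Over S} (x : X' ⟶ Over.mk b) (a : X' ⟶ H) :
    ∃ (Y : Over (Spec (CommRingCat.of D))) (i : X' ≅ (Over.map b).obj Y) (y : Y ⟶ Red.bc b H),
      i.hom ≫ fl b H y = a ∧
      ∀ g' : 𝟙_ (Over (Spec (CommRingCat.of D))) ⟶ Red.bc b G, i.hom ≫ fl b G (toUnit Y ≫ g') = x ≫ secOf b g' := by
  let Y : Over (Spec (CommRingCat.of D)) := Over.mk x.left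
  let i : X' ≅ (Over.map b).obj Y := Over.isoMk (Iso.refl _) ((Category.id_comp _).trans (Over.w x))
  obtain ⟨y, hy⟩ := fl_surjective b H (i.inv ≫ a)
  refine ⟨Y, i, y, by rw [hy, Iso.hom_inv_id_assoc], fun g' => ?_⟩
  rw [fl_comp, secOf, ← Category.assoc, ← Category.assoc]
  congr 1

end Bc

variable {H H₁ H₂ : Over S} [GrpObj H] [GrpObj H₁] [GrpObj H₂]

theorem exists_lift_of_eq (hH : IsMT H) (hG : Smooth G.hom) (u₁ u₂ : H ⟶ G) [IsMonHom u₁]
    [IsMonHom u₂] (D : Type u) [CommRing D] (J : Ideal D) (hJ : J ^ 2 = ⊥) (b : Spec (CommRingCat.of D) ⟶ S)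
    (g₀ : Over.mk (Spec.map (CommRingCat.ofHom (Ideal.Quotient.mk J)) ≫ b) ⟶ G)
    (h0 : ∀ (X' : Over S) (x : X' ⟶ _) (a : X' ⟶ H), (x ≫ g₀) * (a ≫ u₁) * (x ≫ g₀)⁻¹ = a ≫ u₂) :
    ∃ g : Over.mk b ⟶ G, Spec.map (CommRingCat.ofHom (Ideal.Quotient.mk J)) ≫ g.left = g₀.left ∧
      ∀ (X' : Over S) (x : X' ⟶ _) (a : X' ⟶ H), (x ≫ g) * (a ≫ u₁) * (x ≫ g)⁻¹ = a ≫ u₂ := by
  obtain ⟨A, _, _, j, hj, ⟨e⟩⟩ := exists_model_affine (isMT_bc hH b)
  haveI : IsMonHom ((Over.pullback b).map u₁) := TorsorSch25.isMonHom_of_points _ fun T a c => fl_injective b G (by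
    rw [fl_comp_map, fl_mul, fl_mul, fl_comp_map, fl_comp_map, MonObj.mul_comp])
  haveI : IsMonHom ((Over.pullback b).map u₂) := TorsorSch25.isMonHom_of_points _ fun T a c => fl_injective b G (by
    rw [fl_comp_map, fl_mul, fl_mul, fl_comp_map, fl_comp_map, MonObj.mul_comp])
  obtain ⟨g₀', hg₀⟩ := fl_surjective b G (T := Over.mk (Spec.map (CommRingCat.ofHom (Ideal.Quotient.mk J)))) g₀
  obtain ⟨g', hg1, hg2⟩ := exists_conj_nilpotent e hj ⟨2, hJ⟩ (MorphismProperty.pullback_snd G.hom b hG)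
    ((Over.pullback b).map u₁) ((Over.pullback b).map u₂) g₀' fun X p h => fl_injective b G (by
      rw [fl_mul, fl_mul, fl_comp_map, fl_comp_map, fl_inv b G, fl_comp, hg₀]
      exact (h0 _ _ _).symm)
  refine ⟨secOf b g', (secOf_red b g' g₀' hg1).trans (congrArg CommaMorphism.left hg₀), fun X' x a => ?_⟩
  obtain ⟨Y, i, y, hy, hg⟩ := exists_bc_point (G := G) b x a
  have h2 := congrArg (fun z => i.hom ≫ fl b G z) (hg2 Y y)
  simp only [fl_mul, fl_comp_map, fl_inv b G, MonObj.comp_mul, GrpObj.comp_inv, hg] at h2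
  rw [← Category.assoc, ← Category.assoc, hy] at h2
  exact h2.symm

theorem exists_lift_of_le (h₁ : SGA3x.IsMultTypeFT H₁) (h₂ : SGA3x.IsMultTypeFT H₂) (hG : Smooth G.hom)
    (i₁ : H₁ ⟶ G) [IsMonHom i₁] (i₂ : H₂ ⟶ G) [IsMonHom i₂] [Mono i₂]
    (D : Type u) [CommRing D] (J : Ideal D) (hJ : J ^ 2 = ⊥) (b : Spec (CommRingCat.of D) ⟶ S)
    (g₀ : Over.mk (Spec.map (CommRingCat.ofHom (Ideal.Quotient.mk J)) ≫ b) ⟶ G)
    (h0 : ∀ (X' : Over S) (x : X' ⟶ _) (a : X' ⟶ H₁), ∃ a' : X' ⟶ H₂, (x ≫ g₀) * (a ≫ i₁) * (x ≫ g₀)⁻¹ = a' ≫ i₂) :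
    ∃ g : Over.mk b ⟶ G, Spec.map (CommRingCat.ofHom (Ideal.Quotient.mk J)) ≫ g.left = g₀.left ∧
      ∀ (X' : Over S) (x : X' ⟶ _) (a : X' ⟶ H₁), ∃ a' : X' ⟶ H₂, (x ≫ g) * (a ≫ i₁) * (x ≫ g)⁻¹ = a' ≫ i₂ := by
  obtain ⟨A, _, _, j, hj, ⟨e⟩⟩ := exists_model_affine (isMT_of_ft (isMultTypeFT_bc h₁ b))
  haveI : IsMonHom ((Over.pullback b).map i₁) := TorsorSch25.isMonHom_of_points _ fun T a c => fl_injective b G (by
    rw [fl_comp_map, fl_mul, fl_mul, fl_comp_map, fl_comp_map, MonObj.mul_comp])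
  haveI : IsMonHom ((Over.pullback b).map i₂) := TorsorSch25.isMonHom_of_points _ fun T a c => fl_injective b G (by
    rw [fl_comp_map, fl_mul, fl_mul, fl_comp_map, fl_comp_map, MonObj.mul_comp])
  obtain ⟨g₀', hg₀⟩ := fl_surjective b G (T := Over.mk (Spec.map (CommRingCat.ofHom (Ideal.Quotient.mk J)))) g₀
  obtain ⟨g', hg1, hg2⟩ := exists_transporter_lift e hj ⟨2, hJ⟩ (MorphismProperty.pullback_snd G.hom b hG)
    ((Over.pullback b).map i₂) (.inr (isMT_of_ft (isMultTypeFT_bc h₂ b))) ((Over.pullback b).map i₁) g₀' fun X p h => by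
      obtain ⟨a', ha'⟩ := h0 _ ((Over.map b).map p) (fl b H₁ h)
      obtain ⟨z, hz⟩ := fl_surjective b H₂ a'
      refine ⟨z, fl_injective b G ?_⟩
      rw [fl_mul, fl_mul, fl_comp_map, fl_comp_map, fl_inv b G, fl_comp, hg₀, hz]
      exact ha'
  refine ⟨secOf b g', (secOf_red b g' g₀' hg1).trans (congrArg CommaMorphism.left hg₀), fun X' x a => ?_⟩
  obtain ⟨Y, i, y, hy, hg⟩ := exists_bc_point (G := G) b x a
  obtain ⟨z, hz⟩ := hg2 Y y
  refine ⟨i.hom ≫ fl b H₂ z, ?_⟩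
  have h2 := congrArg (fun z => i.hom ≫ fl b G z) hz
  simp only [fl_mul, fl_comp_map, fl_inv b G, MonObj.comp_mul, GrpObj.comp_inv, hg] at h2
  rw [← Category.assoc, ← Category.assoc, hy] at h2
  exact h2

/-- The two-sided transporter condition. -/
def ConjCond (i₁ : H₁ ⟶ G) (i₂ : H₂ ⟶ G) {X : Over S} (g : X ⟶ G) : Prop :=
  ∀ (X' : Over S) (x : X' ⟶ X),
    (∀ h₁ : X' ⟶ H₁, ∃ h₂ : X' ⟶ H₂, (x ≫ g) * (h₁ ≫ i₁) * (x ≫ g)⁻¹ = h₂ ≫ i₂) ∧
    (∀ h₂ : X' ⟶ H₂, ∃ h₁ : X' ⟶ H₁, (x ≫ g)⁻¹ * (h₂ ≫ i₂) * (x ≫ g) = h₁ ≫ i₁)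

theorem exists_lift_of_conj (h₁ : SGA3x.IsMultTypeFT H₁) (h₂ : SGA3x.IsMultTypeFT H₂) (hG : Smooth G.hom)
    (hGa : IsAffineHom G.hom) (i₁ : H₁ ⟶ G) [IsMonHom i₁] [Mono i₁] (i₂ : H₂ ⟶ G) [IsMonHom i₂] [Mono i₂]
    (D : Type u) [CommRing D] (J : Ideal D) (hJ : J ^ 2 = ⊥) (b : Spec (CommRingCat.of D) ⟶ S)
    (g₀ : Over.mk (Spec.map (CommRingCat.ofHom (Ideal.Quotient.mk J)) ≫ b) ⟶ G) (h0 : ConjCond i₁ i₂ g₀) :
    ∃ g : Over.mk b ⟶ G, Spec.map (CommRingCat.ofHom (Ideal.Quotient.mk J)) ≫ g.left = g₀.left ∧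
      ConjCond i₁ i₂ g := by
  have h₁' := isMultTypeFT_bc h₁ b
  have h₂' := isMultTypeFT_bc h₂ b
  obtain ⟨A, _, _, j, hj, ⟨e⟩⟩ := exists_model_affine (isMT_of_ft h₁')
  haveI : IsMonHom ((Over.pullback b).map i₁) := TorsorSch25.isMonHom_of_points _ fun T a c => fl_injective b G (by
    rw [fl_comp_map, fl_mul, fl_mul, fl_comp_map, fl_comp_map, MonObj.mul_comp])
  haveI : IsMonHom ((Over.pullback b).map i₂) := TorsorSch25.isMonHom_of_points _ fun T a c => fl_injective b G (by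
    rw [fl_comp_map, fl_mul, fl_mul, fl_comp_map, fl_comp_map, MonObj.mul_comp])
  have hGb : IsAffineHom (Red.bc b G).hom := MorphismProperty.pullback_snd G.hom b hGa
  haveI : IsClosedImmersion ((Over.pullback b).map i₁).left := isClosedImmersion_of_mono h₁' hGb _
  haveI : IsClosedImmersion ((Over.pullback b).map i₂).left := isClosedImmersion_of_mono h₂' hGb _
  obtain ⟨g₀', hg₀⟩ := fl_surjective b G (T := Over.mk (Spec.map (CommRingCat.ofHom (Ideal.Quotient.mk J)))) g₀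
  obtain ⟨f, hf, hfi⟩ := exists_iso_of_mt ((Over.pullback b).map i₁) ((Over.pullback b).map i₂) (isMT_of_ft h₁')
    (isMT_of_ft h₂') ⟨2, hJ⟩ g₀' fun X p => by
      refine ⟨fun h => ?_, fun h => ?_⟩
      · obtain ⟨a', ha'⟩ := (h0 _ ((Over.map b).map p)).1 (fl b H₁ h)
        obtain ⟨z, hz⟩ := fl_surjective b H₂ a'
        refine ⟨z, fl_injective b G ?_⟩
        rw [fl_mul, fl_mul, fl_comp_map, fl_comp_map, fl_inv b G, fl_comp, hg₀, hz]
        exact ha'
      · obtain ⟨a', ha'⟩ := (h0 _ ((Over.map b).map p)).2 (fl b H₂ h)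
        obtain ⟨z, hz⟩ := fl_surjective b H₁ a'
        refine ⟨z, fl_injective b G ?_⟩
        rw [fl_mul, fl_mul, fl_comp_map, fl_comp_map, fl_inv b G, fl_comp, hg₀, hz]
        exact ha'
  haveI := hf
  obtain ⟨g', hg1, hg2⟩ := exists_conj_nilpotent e hj ⟨2, hJ⟩ (MorphismProperty.pullback_snd G.hom b hG)
    ((Over.pullback b).map i₁) (f.hom ≫ (Over.pullback b).map i₂) g₀' hfi
  refine ⟨secOf b g', (secOf_red b g' g₀' hg1).trans (congrArg CommaMorphism.left hg₀), fun X' x => ⟨fun a => ?_, fun a => ?_⟩⟩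
  · obtain ⟨Y, i, y, hy, hg⟩ := exists_bc_point (G := G) b x a
    refine ⟨i.hom ≫ fl b H₂ (y ≫ f.hom), ?_⟩
    have h2 := congrArg (fun z => i.hom ≫ fl b G z) (hg2 Y y)
    rw [← Category.assoc y] at h2
    simp only [fl_mul, fl_comp_map, fl_inv b G, MonObj.comp_mul, GrpObj.comp_inv, hg] at h2
    rw [← Category.assoc i.hom, ← Category.assoc i.hom, hy] at h2
    exact h2.symm
  · obtain ⟨Y, i, y, hy, hg⟩ := exists_bc_point (G := G) b x a
    refine ⟨i.hom ≫ fl b H₁ (y ≫ f.inv), ?_⟩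
    have h2 := congrArg (fun z => i.hom ≫ fl b G z) (hg2 Y (y ≫ f.inv))
    rw [Category.assoc, Iso.inv_hom_id_assoc] at h2
    simp only [fl_mul, fl_comp_map, fl_inv b G, MonObj.comp_mul, GrpObj.comp_inv, hg] at h2
    rw [← Category.assoc i.hom, ← Category.assoc i.hom, hy] at h2
    rw [h2]
    group

/-- The transporter of a homomorphism to another one. -/
theorem exists_transporter_hom_smooth' (hH : IsMT H) (hG : Smooth G.hom) (hGa : IsAffineHom G.hom)
    (u₁ u₂ : H ⟶ G) [IsMonHom u₁] [IsMonHom u₂] :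
    ∃ (T : Over S) (j : T ⟶ G), IsClosedImmersion j.left ∧ Smooth T.hom ∧
      ∀ (X : Over S) (g : X ⟶ G), (∃ t : X ⟶ T, t ≫ j = g) ↔
        ∀ (X' : Over S) (x : X' ⟶ X) (h : X' ⟶ H), (x ≫ g) * (h ≫ u₁) * (x ≫ g)⁻¹ = h ≫ u₂ := by
  haveI := hG
  haveI := hGa
  obtain ⟨C, c, hc, hfp, hC⟩ := exists_transporter_eq (G := G) (hasContentLoc_snd_of_isMT hH) u₁ u₂
  refine ⟨C, c, hc, smooth_of_lifts hGa c fun D _ J hJ b g₀ hg₀ => ?_, hC⟩
  obtain ⟨g, hg1, hg2⟩ := exists_lift_of_eq hH hG u₁ u₂ D J hJ b g₀ ((hC _ _).1 hg₀)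
  exact ⟨g, hg1, (hC _ _).2 hg2⟩

/-- The transporter of a homomorphism to another one, out of a group of finite type. -/
theorem exists_transporter_hom_smooth (hH : SGA3x.IsMultTypeFT H) (hG : Smooth G.hom) (hGa : IsAffineHom G.hom)
    (u₁ u₂ : H ⟶ G) [IsMonHom u₁] [IsMonHom u₂] :
    ∃ (T : Over S) (j : T ⟶ G), IsClosedImmersion j.left ∧ Smooth T.hom ∧
      ∀ (X : Over S) (g : X ⟶ G), (∃ t : X ⟶ T, t ≫ j = g) ↔
        ∀ (X' : Over S) (x : X' ⟶ X) (h : X' ⟶ H), (x ≫ g) * (h ≫ u₁) * (x ≫ g)⁻¹ = h ≫ u₂ :=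
  exists_transporter_hom_smooth' (isMT_of_ft hH) hG hGa u₁ u₂

/-- The transporter of a subgroup into another one. -/
theorem exists_transporterLE_smooth (h₁ : SGA3x.IsMultTypeFT H₁) (h₂ : SGA3x.IsMultTypeFT H₂) (hG : Smooth G.hom)
    (hGa : IsAffineHom G.hom) (i₁ : H₁ ⟶ G) [IsMonHom i₁] (i₂ : H₂ ⟶ G) [IsMonHom i₂] [Mono i₂] :
    ∃ (C : Over S) (c : C ⟶ G), IsClosedImmersion c.left ∧ Smooth C.hom ∧
      ∀ (X : Over S) (g : X ⟶ G), (∃ z : X ⟶ C, z ≫ c = g) ↔
        ∀ (X' : Over S) (x : X' ⟶ X) (h : X' ⟶ H₁), ∃ h' : X' ⟶ H₂, (x ≫ g) * (h ≫ i₁) * (x ≫ g)⁻¹ = h' ≫ i₂ := by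
  haveI := hG
  haveI := hGa
  haveI : IsClosedImmersion i₂.left := isClosedImmersion_of_mono h₂ hGa i₂
  haveI := lfp_of_isMultTypeFT h₂
  obtain ⟨C, c, hc, hfp, hC⟩ := exists_transporter_into (G := G) (hasContentLoc_snd_of_isMultTypeFT h₁) i₁ i₂
  refine ⟨C, c, hc, smooth_of_lifts hGa c fun D _ J hJ b g₀ hg₀ => ?_, hC⟩
  obtain ⟨g, hg1, hg2⟩ := exists_lift_of_le h₁ h₂ hG i₁ i₂ D J hJ b g₀ ((hC _ _).1 hg₀)
  exact ⟨g, hg1, (hC _ _).2 hg2⟩

/-- The transporter of a subgroup to another one. -/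
theorem exists_transporter_conj_smooth (h₁ : SGA3x.IsMultTypeFT H₁) (h₂ : SGA3x.IsMultTypeFT H₂) (hG : Smooth G.hom)
    (hGa : IsAffineHom G.hom) (i₁ : H₁ ⟶ G) [IsMonHom i₁] [Mono i₁] (i₂ : H₂ ⟶ G) [IsMonHom i₂] [Mono i₂] :
    ∃ (T : Over S) (j : T ⟶ G), IsClosedImmersion j.left ∧ Smooth T.hom ∧
      ∀ (X : Over S) (g : X ⟶ G), (∃ t : X ⟶ T, t ≫ j = g) ↔ ConjCond i₁ i₂ g := by
  haveI := hG
  haveI := hGa
  haveI : IsClosedImmersion i₁.left := isClosedImmersion_of_mono h₁ hGa i₁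
  haveI : IsClosedImmersion i₂.left := isClosedImmersion_of_mono h₂ hGa i₂
  haveI := lfp_of_isMultTypeFT h₁
  haveI := lfp_of_isMultTypeFT h₂
  obtain ⟨C₁, c₁, hc₁, hfp₁, hC₁⟩ := exists_transporter_into (G := G) (hasContentLoc_snd_of_isMultTypeFT h₁) i₁ i₂
  obtain ⟨C₂, c₂, hc₂, hfp₂, hC₂⟩ := exists_transporter_into (G := G) (hasContentLoc_snd_of_isMultTypeFT h₂) i₂ i₁
  haveI : LocallyOfFinitePresentation (c₂.left ≫ G.hom) := by rw [Over.w c₂]; infer_instance
  haveI : LocallyOfFinitePresentation c₂.left := SchBasic.locallyOfFinitePresentation_of_comp c₂.left G.hom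
  let ν : G ⟶ G := (𝟙 G)⁻¹
  let d := pullback.fst ν.left c₂.left
  haveI : IsClosedImmersion d := MorphismProperty.pullback_fst _ _ hc₂
  haveI : LocallyOfFinitePresentation d := MorphismProperty.pullback_fst _ _ ‹LocallyOfFinitePresentation c₂.left›
  let t := pullback.fst c₁.left d
  haveI : IsClosedImmersion t := MorphismProperty.pullback_fst _ _ ‹IsClosedImmersion d›
  haveI : LocallyOfFinitePresentation t := MorphismProperty.pullback_fst _ _ ‹LocallyOfFinitePresentation d›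
  let T : Over S := Over.mk (t ≫ C₁.hom)
  let j : T ⟶ G := Over.homMk (t ≫ c₁.left) (by
    show (t ≫ c₁.left) ≫ G.hom = t ≫ C₁.hom
    rw [Category.assoc, Over.w c₁])
  haveI : IsClosedImmersion j.left := inferInstanceAs (IsClosedImmersion (t ≫ c₁.left))
  haveI : LocallyOfFinitePresentation T.hom := inferInstanceAs (LocallyOfFinitePresentation (t ≫ C₁.hom))
  have hT : ∀ (X : Over S) (g : X ⟶ G), (∃ z : X ⟶ T, z ≫ j = g) ↔ ConjCond i₁ i₂ g := by
    intro X g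
    have hsplit : ConjCond i₁ i₂ g ↔ (∃ z, z ≫ c₁ = g) ∧ ∃ z, z ≫ c₂ = g⁻¹ := by
      rw [hC₁, hC₂]
      refine ⟨fun h => ⟨fun X' x a => (h X' x).1 a, fun X' x a => ?_⟩, fun h X' x => ⟨fun a => h.1 X' x a, fun a => ?_⟩⟩
      · rw [GrpObj.comp_inv, inv_inv]; exact (h X' x).2 a
      · have := h.2 X' x a
        rwa [GrpObj.comp_inv, inv_inv] at this
    rw [hsplit]
    have hν : g ≫ ν = g⁻¹ := by simp [ν, GrpObj.comp_inv]
    constructor
    · rintro ⟨z, rfl⟩
      refine ⟨⟨Over.homMk (z.left ≫ t) ((Category.assoc _ _ _).trans (Over.w z)),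
        Over.OverMorphism.ext (Category.assoc _ _ _)⟩, ?_⟩
      refine ⟨Over.homMk (z.left ≫ pullback.snd c₁.left d ≫ pullback.snd ν.left c₂.left) ?_, ?_⟩
      · rw [← Over.w c₂, Category.assoc, Category.assoc, ← pullback.condition_assoc, Over.w ν,
          ← Category.assoc (pullback.snd c₁.left d), ← pullback.condition, Category.assoc]
        exact Over.w (z ≫ j)
      · rw [← hν]
        refine Over.OverMorphism.ext ?_
        show (z.left ≫ pullback.snd c₁.left d ≫ pullback.snd ν.left c₂.left) ≫ c₂.left = (z.left ≫ t ≫ c₁.left) ≫ ν.left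
        rw [Category.assoc, Category.assoc, ← pullback.condition, ← Category.assoc (pullback.snd c₁.left d),
          ← pullback.condition, Category.assoc]
        simp only [t, Category.assoc]
    · rintro ⟨⟨z₁, hz₁⟩, ⟨z₂, hz₂⟩⟩
      let l : X.left ⟶ pullback ν.left c₂.left := pullback.lift g.left z₂.left
        (congrArg CommaMorphism.left (hν.trans hz₂.symm))
      let m : X.left ⟶ pullback c₁.left d :=
        pullback.lift z₁.left l ((congrArg CommaMorphism.left hz₁).trans (pullback.lift_fst _ _ _).symm)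
      refine ⟨Over.homMk m ((pullback.lift_fst_assoc _ _ _ _).trans (Over.w z₁)), Over.OverMorphism.ext ?_⟩
      exact (pullback.lift_fst_assoc _ _ _ _).trans (congrArg CommaMorphism.left hz₁)
  refine ⟨T, j, inferInstance, smooth_of_lifts hGa j fun D _ J hJ b g₀ hg₀ => ?_, hT⟩
  obtain ⟨g, hg1, hg2⟩ := exists_lift_of_conj h₁ h₂ hG hGa i₁ i₂ D J hJ b g₀ ((hT _ _).1 hg₀)
  exact ⟨g, hg1, (hT _ _).2 hg2⟩

end Groth.Agent.MTRigid29
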