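import Groth.Agent.Lib.MTRigid29.HomLocus
import Groth.Agent.Lib.MTRigid29.CentralizerNormalizer
import Groth.Agent.Lib.MTRigid29.MonoClosedGlobal
import Groth.Agent.Lib.GaPts.Basic

/-!
# Homomorphisms from groups of multiplicative type to the additive group
-/

set_option autoImplicit false
set_option linter.style.haveILetI false
set_option linter.unusedSectionVars false
set_option backward.isDefEq.respectTransparency.types false
set_option maxSynthPendingDepth 3

universe u

open CategoryTheory Limits MonoidalCategory CartesianMonoidalCategory MonObj AlgebraicGeometry Opposite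
open scoped TensorProduct

noncomputable section

namespace Groth.Agent.MTRigid29

open DiagGL

variable {S : Scheme.{u}} {H : Over S} [GrpObj H] (u : H ⟶ Red.Ga S) [IsMonHom u]

/-- Additive functions natural in points of a split group vanish. -/
theorem addFn_eq_zero {R : Type u} [CommRing R] {H' : Over (Spec (CommRingCat.of R))} [GrpObj H']
    {M : Type} [AddCommGroup M] (C : Chars M H')
    (F : ∀ {T : Over (Spec (CommRingCat.of R))}, (T ⟶ H') → Γ(T.left, ⊤))
    (hFadd : ∀ {T : Over (Spec (CommRingCat.of R))} (x y : T ⟶ H'), F (x * y) = F x + F y)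
    (hFnat : ∀ {T T' : Over (Spec (CommRingCat.of R))} (t : T' ⟶ T) (x : T ⟶ H'), F (t ≫ x) = t.left.appTop (F x))
    {T : Over (Spec (CommRingCat.of R))} (x' : T ⟶ H') : F x' = 0 := by
  let L := MonoidAlgebra R (Multiplicative M)
  obtain ⟨x₀, hx₀⟩ := exists_chr C (MonoidAlgebra.of R (Multiplicative M))
  let Φ : ∀ {B : Type u} [CommRing B] [Algebra R B], Pts H' B → B := fun {B} _ _ x =>
    (Scheme.ΓSpecIso (CommRingCat.of B)).hom (F x)
  have hadd : ∀ {B : Type u} [CommRing B] [Algebra R B] (x y : Pts H' B), Φ (x * y) = Φ x + Φ y := by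
    intro B _ _ x y
    simp only [Φ, hFadd]
    exact map_add _ _ _
  have hnat : ∀ {B B' : Type u} [CommRing B] [Algebra R B] [CommRing B'] [Algebra R B'] (φ : B →ₐ[R] B')
      (x : Pts H' B), Φ (pmap φ x) = φ (Φ x) := by
    intro B B' _ _ _ _ φ x
    simp only [Φ, pmap_apply, hFnat]
    exact ConcreteCategory.congr_hom (Scheme.ΓSpecIso_naturality (CommRingCat.ofHom φ.toRingHom)) (F x)
  let l₁ : L →ₐ[R] L ⊗[R] L := Algebra.TensorProduct.includeLeft
  let l₂ : L →ₐ[R] L ⊗[R] L := Algebra.TensorProduct.includeRight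
  have hxΔ : pmap (Bialgebra.comulAlgHom R L) x₀ = pmap l₁ x₀ * pmap l₂ x₀ := chr_inj C fun a => by
    rw [chr_mul, chr_nat, chr_nat, chr_nat, hx₀]
    simp [l₁, l₂]
    exact (MonoidAlgebra.isGroupLikeElem_of (R := R) a).comul_eq_tmul_self
  have hz : Φ x₀ = 0 := by
    have h1 := congrArg Φ hxΔ
    rw [hadd, hnat, hnat, hnat] at h1
    refine MonoidAlgebra.coeff_injective (Finsupp.ext fun m => ?_)
    have h2 := congrArg (coeff₂ m m) h1
    rw [coeff₂_comul, if_pos rfl, map_add] at h2
    have h2' : (Φ x₀).coeff m = (Φ x₀).coeff m * (1 : L).coeff m + (1 : L).coeff m * (Φ x₀).coeff m := h2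
    show (Φ x₀).coeff m = 0
    by_cases hm : m = 1
    · subst hm
      rw [MonoidAlgebra.one_def, MonoidAlgebra.coeff_single, Finsupp.single_eq_same, _root_.mul_one,
        _root_.one_mul] at h2'
      exact left_eq_add.1 h2'
    · have h0 : (1 : L).coeff m = 0 := by
        rw [MonoidAlgebra.one_def, MonoidAlgebra.coeff_single]
        simp [Ne.symm hm, hm]
      rw [h0, mul_zero, zero_mul, add_zero] at h2'
      exact h2'
  have hz' : F x₀ = 0 := by
    have h := congrArg (Scheme.ΓSpecIso (CommRingCat.of L)).inv hz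
    rw [map_zero] at h
    exact (ConcreteCategory.congr_hom (Scheme.ΓSpecIso (CommRingCat.of L)).hom_inv_id _).symm.trans h
  letI := (alg T).toAlgebra
  let c := MonoidAlgebra.lift R Γ(T.left, ⊤) (Multiplicative M) (C.ch x')
  let xc : T ⟶ CoactBr.sp R L := DiagGL.mk c.toRingHom fun r => c.commutes r
  have hx : xc ≫ x₀ = x' := C.inj fun a => by
    rw [C.nat, show C.ch x₀ a = (Scheme.ΓSpecIso (CommRingCat.of L)).inv (chr C x₀ a) from
      (ConcreteCategory.congr_hom (Scheme.ΓSpecIso _).hom_inv_id (C.ch x₀ a)).symm, hx₀]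
    exact (DFunLike.congr_fun (ev_mk (T := T) c.toRingHom fun r => c.commutes r) _).trans (MonoidAlgebra.lift_of _ a)
  rw [← hx, hFnat, hz', map_zero]

theorem triv_of_chars_Ga {R R' : Type u} [CommRing R] [CommRing R'] (g : Spec (CommRingCat.of R) ⟶ S)
    (k : Spec (CommRingCat.of R') ⟶ Spec (CommRingCat.of R)) {M : Type} [AddCommGroup M]
    (C : Chars M (Red.bc k (Red.bc g H))) : Triv u (k ≫ g) := by
  intro T x
  let i : (Over.map (k ≫ g)).obj T ≅ (Over.map g).obj ((Over.map k).obj T) :=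
    Over.isoMk (Iso.refl _) (by simp)
  obtain ⟨y, hy⟩ := fl_surjective g H (i.inv ≫ x)
  obtain ⟨z, rfl⟩ := fl_surjective k (Red.bc g H) y
  have h := addFn_eq_zero C (fun {T} (z : T ⟶ Red.bc k (Red.bc g H)) => Red.gaFn (X := (Over.map g).obj ((Over.map k).obj T)) (fl g H (fl k (Red.bc g H) z) ≫ u))
    (fun a b => by rw [fl_mul, fl_mul, MonObj.mul_comp, GaPts.gaFn_mul])
    (fun t a => by rw [fl_comp, fl_comp, Category.assoc, GaPts.gaFn_comp]; rfl) z
  rw [← GaPts.gaFn_one (T := (Over.map g).obj ((Over.map k).obj T))] at h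
  have h2 := congrArg (i.hom ≫ ·) ((congrArg (· ≫ u) hy).symm.trans (GaPts.gaFn_injective h))
  simpa [MonObj.comp_one] using h2

theorem hom_Ga_eq_one (hH : IsMT H) : u = 1 := by
  have hall : Triv u (𝟙 S) := triv_of_cover u (𝟙 S) fun s => by
    obtain ⟨V, hV, hsV, -⟩ := exists_isAffineOpen_mem_and_subset (x := s) (U := ⊤) trivial
    obtain ⟨J, _, T, _, _, hflat, hcov, hC⟩ := exists_charts hH hV.fromSpec
    have hq := sigmaMap_cover (R := Γ(S, V)) T hflat hcov
    haveI : Flat (sigmaMap (R := Γ(S, V)) T) := hq.1.2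
    haveI : Surjective (sigmaMap (R := Γ(S, V)) T) := hq.1.1
    haveI : QuasiCompact (sigmaMap (R := Γ(S, V)) T) := hq.2
    refine ⟨_, hV.fromSpec, inferInstance, by rw [hV.range_fromSpec]; exact hsV, ?_⟩
    let q := sigmaMap (R := Γ(S, V)) T
    refine triv_of_flat_cover u q ?_
    haveI := isMonHom_map u (q ≫ hV.fromSpec)
    rw [← Category.id_comp (q ≫ hV.fromSpec), ← triv_bc_iff]
    refine triv_of_cover _ _ fun x => ?_
    let 𝒰 := sigmaOpenCover fun i => Spec (CommRingCat.of (T i))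
    obtain ⟨w, hw⟩ := 𝒰.covers x
    refine ⟨_, Sigma.ι (fun i => Spec (CommRingCat.of (T i))) (𝒰.idx x), inferInstance, ⟨w, hw⟩, ?_⟩
    rw [triv_bc_iff, show Sigma.ι (fun i => Spec (CommRingCat.of (T i))) (𝒰.idx x) ≫ q ≫ hV.fromSpec =
      Spec.map (CommRingCat.ofHom (algebraMap Γ(S, V) (T (𝒰.idx x)))) ≫ hV.fromSpec by
        rw [← Category.assoc]; simp [q, sigmaMap]]
    obtain ⟨M, _, ⟨C⟩⟩ := hC (𝒰.idx x)
    exact triv_of_chars_Ga u _ _ C
  have h := hall (Over.mk H.hom) (Over.homMk (𝟙 _) (by simp))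
  let e : H ≅ (Over.map (𝟙 S)).obj (Over.mk H.hom) := Over.isoMk (Iso.refl _) (by simp)
  have h2 := congrArg (e.hom ≫ ·) h
  simp only [MonObj.comp_one] at h2
  rw [← Category.assoc] at h2
  refine Eq.trans ?_ h2
  exact (Category.id_comp u).symm.trans (congrArg (· ≫ u) (Over.OverMorphism.ext (Category.id_comp _).symm))

end Groth.Agent.MTRigid29
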