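import Groth.Agent.Lib.MTRigid29.MapChS

/-!
# Being of multiplicative type and of finite type is local on the base
-/

set_option autoImplicit false
set_option linter.style.haveILetI false
set_option backward.isDefEq.respectTransparency.types false
set_option maxSynthPendingDepth 3

universe u

open CategoryTheory Limits AlgebraicGeometry TopologicalSpace

noncomputable section

namespace Groth.Agent.MTRigid29

open DiagGL

variable {S : Scheme.{u}}

theorem isMultTypeFT_of_local (H : Over S) [GrpObj H]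
    (h : ∀ s : S, ∃ (W : Scheme.{u}) (g : W ⟶ S), IsOpenImmersion g ∧ s ∈ Set.range g ∧
      SGA3x.IsMultTypeFT (Red.bc g H)) : SGA3x.IsMultTypeFT H := by
  choose W g hg hgs hMT using h
  choose T f hf hsurj hc hloc using hMT
  let F : (∐ fun s : S => T s) ⟶ S := Sigma.desc fun s => f s ≫ g s
  have hF : ∀ s, Sigma.ι (fun s : S => T s) s ≫ F = f s ≫ g s := fun s => Sigma.ι_desc _ _
  haveI : ∀ s, Flat (f s ≫ g s) := fun s => by
    haveI := hf s
    haveI := hg s
    infer_instance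
  haveI hfl : Flat F := IsZariskiLocalAtSource.sigmaDesc inferInstance
  have hFs : Surjective F := ⟨fun s => by
    obtain ⟨w, hw⟩ := hgs s
    obtain ⟨t, rfl⟩ := (hsurj s).surj w
    exact ⟨Sigma.ι (fun s : S => T s) s t, by rw [← Scheme.Hom.comp_apply, hF]; exact hw⟩⟩
  refine ⟨_, F, hfl, hFs, fun V hV => ?_, fun t => ?_⟩
  · have hopen : ∀ v : V, ∃ B : S.Opens, IsAffineOpen B ∧ v.1 ∈ B ∧
        B ≤ V ⊓ @Scheme.Hom.opensRange _ _ (g v.1) (hg v.1) := fun v =>
      exists_isAffineOpen_mem_and_subset (U := V ⊓ @Scheme.Hom.opensRange _ _ (g v.1) (hg v.1)) ⟨v.2, hgs v.1⟩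
    choose B hB hvB hBV using hopen
    obtain ⟨t, ht⟩ := hV.isCompact.elim_finite_subcover (fun v : V => (B v : Set S)) (fun v => (B v).2)
      (fun x hx => Set.mem_iUnion.2 ⟨⟨x, hx⟩, hvB ⟨x, hx⟩⟩)
    have hpre : ∀ v : V, IsAffineOpen (g v.1 ⁻¹ᵁ B v) := fun v => by
      haveI := hg v.1
      exact (hB v).preimage_of_isOpenImmersion (g v.1) ((hBV v).trans inf_le_right)
    choose C hC hCB using fun v : V => hc v.1 (g v.1 ⁻¹ᵁ B v) (hpre v)
    refine ⟨⨆ v : t, Sigma.ι (fun s : S => T s) v.1.1 ''ᵁ C v.1, ?_, ?_⟩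
    · rw [Opens.coe_iSup]
      exact isCompact_iUnion fun v => by
        rw [Scheme.Hom.coe_image]
        exact (hC v.1).image (Scheme.Hom.continuous _)
    · rw [Opens.coe_iSup, Set.image_iUnion]
      refine Set.Subset.antisymm (Set.iUnion_subset fun v => ?_) fun x hx => ?_
      · rintro _ ⟨_, ⟨c, hc', rfl⟩, rfl⟩
        have h1 : f v.1.1 c ∈ (g v.1.1 ⁻¹ᵁ B v.1 : Set (W v.1.1)) := (hCB v.1).subset ⟨c, hc', rfl⟩
        show F (Sigma.ι (fun s : S => T s) v.1.1 c) ∈ V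
        rw [← Scheme.Hom.comp_apply, hF]
        exact (hBV v.1 h1).1
      · obtain ⟨v, hv, hxv⟩ := Set.mem_iUnion₂.1 (ht hx)
        obtain ⟨w, rfl⟩ := (hBV v hxv).2
        obtain ⟨c, hc', rfl⟩ := (hCB v).symm.subset (show w ∈ (g v.1 ⁻¹ᵁ B v : Set (W v.1)) from hxv)
        refine Set.mem_iUnion.2 ⟨⟨v, hv⟩, Sigma.ι (fun s : S => T s) v.1 c, ⟨c, hc', rfl⟩, ?_⟩
        show F (Sigma.ι (fun s : S => T s) v.1 c) = g v.1 (f v.1 c)
        rw [← Scheme.Hom.comp_apply, hF]
        rfl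
  · obtain ⟨s, z, rfl⟩ := (sigmaOpenCover fun s : S => T s).exists_eq t
    obtain ⟨U, hU, M, _, hfg, ⟨e⟩⟩ := hloc s z
    let jp := U.ι ≫ Sigma.ι (fun s : S => T s) s
    refine ⟨jp.opensRange, ⟨⟨z, hU⟩, rfl⟩, M, inferInstance, hfg, ?_⟩
    let C := charsComp (g s) (U.ι ≫ f s) H ((charsDS _ M).transport e)
    have hk : jp.isoOpensRange.inv ≫ (U.ι ≫ f s) ≫ g s = jp.opensRange.ι ≫ F := by
      rw [← Scheme.Hom.isoOpensRange_inv_comp jp, Category.assoc, Category.assoc, Category.assoc, hF]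
    rw [← hk]
    exact nonempty_grpIso_of_chars (charsComp _ _ _ (C.baseChange jp.isoOpensRange.inv _)) (charsDS _ M)

end Groth.Agent.MTRigid29
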