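import Groth.Agent.Lib.MTRigid29.MapChS
import Groth.Agent.Lib.MTRigid29.BaseChange
import Groth.Agent.Lib.MultType.QuasiIso
import Mathlib.GroupTheory.FiniteAbelian.Basic

/-!
# Affine groups of multiplicative type as group schemes
-/

set_option autoImplicit false
set_option linter.style.haveILetI false
set_option backward.isDefEq.respectTransparency.types false
set_option backward.isDefEq.respectTransparency false
set_option maxSynthPendingDepth 3

universe u

open CategoryTheory Limits MonoidalCategory CartesianMonoidalCategory MonObj AlgebraicGeometry Opposite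
open scoped TensorProduct

noncomputable section

namespace Groth.Agent.MTRigid29.IsotrivialNormal

open DiagGL

section Algebra

variable {R : Type u} [CommRing R] {A : Type u} [CommRing A] [HopfAlgebra R A] {T : Type u} [CommRing T] [Algebra R T]

/-- The coordinates of a point of the base change, on the coordinate ring. -/
def bevA {Z : Over (Spec (CommRingCat.of T))}
    (x : Z ⟶ Red.bc (Spec.map (CommRingCat.ofHom (algebraMap R T))) (CoactBr.sp R A)) : A →+* Γ(Z.left, ⊤) :=
  ev (R := R) (T := (Over.map (Spec.map (CommRingCat.ofHom (algebraMap R T)))).obj Z)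
    (fl (Spec.map (CommRingCat.ofHom (algebraMap R T))) (CoactBr.sp R A) x)

/-- The coordinates of a point of the base change. -/
def bev {Z : Over (Spec (CommRingCat.of T))}
    (x : Z ⟶ Red.bc (Spec.map (CommRingCat.ofHom (algebraMap R T))) (CoactBr.sp R A)) :
    letI := (alg Z).toAlgebra
    T ⊗[R] A →ₐ[T] Γ(Z.left, ⊤) :=
  letI := (alg Z).toAlgebra
  letI : Algebra R Γ(Z.left, ⊤) := ((alg Z).comp (algebraMap R T)).toAlgebra
  haveI : IsScalarTower R T Γ(Z.left, ⊤) := IsScalarTower.of_algebraMap_eq' rfl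
  let y := fl (Spec.map (CommRingCat.ofHom (algebraMap R T))) (CoactBr.sp R A) x
  Algebra.TensorProduct.lift (Algebra.ofId T _)
    ({ toRingHom := bevA x
       commutes' := fun r => (ev_algebraMap (R := R) y r).trans (by
        show ((Scheme.ΓSpecIso (CommRingCat.of R)).inv ≫
            (Z.hom ≫ Spec.map (CommRingCat.ofHom (algebraMap R T))).appTop).hom r =
          ((Scheme.ΓSpecIso (CommRingCat.of T)).inv ≫ Z.hom.appTop).hom (algebraMap R T r)
        rw [Scheme.Hom.comp_appTop, ← Category.assoc, ← Scheme.ΓSpecIso_inv_naturality]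
        rfl) } : A →ₐ[R] Γ(Z.left, ⊤)) fun _ _ => .all _ _

theorem bev_tmul {Z : Over (Spec (CommRingCat.of T))}
    (x : Z ⟶ Red.bc (Spec.map (CommRingCat.ofHom (algebraMap R T))) (CoactBr.sp R A)) (t : T) (a : A) :
    bev x (t ⊗ₜ a) = alg Z t * bevA x a := by
  simp [bev]
  rfl

theorem bev_comp {Z Z' : Over (Spec (CommRingCat.of T))} (s : Z' ⟶ Z)
    (x : Z ⟶ Red.bc (Spec.map (CommRingCat.ofHom (algebraMap R T))) (CoactBr.sp R A)) (z : T ⊗[R] A) :
    bev (s ≫ x) z = s.left.appTop (bev x z) := by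
  induction z using TensorProduct.induction_on with
  | zero => simp
  | tmul t a =>
    rw [bev_tmul, bev_tmul, map_mul, show bevA (s ≫ x) a = s.left.appTop (bevA x a) by
      rw [bevA, fl_comp]; exact ev_comp (R := R) _ _ a]
    congr 1
    show ((Scheme.ΓSpecIso (CommRingCat.of T)).inv ≫ Z'.hom.appTop).hom t = _
    rw [show Z'.hom = s.left ≫ Z.hom from (Over.w s).symm, Scheme.Hom.comp_appTop, ← Category.assoc]
    rfl
  | add p q hp hq => simp only [map_add, hp, hq]

theorem bev_mul {Z : Over (Spec (CommRingCat.of T))}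
    (x y : Z ⟶ Red.bc (Spec.map (CommRingCat.ofHom (algebraMap R T))) (CoactBr.sp R A)) {z : T ⊗[R] A}
    (hz : Coalgebra.comul (R := T) z = z ⊗ₜ[T] z) : bev (x * y) z = bev x z * bev y z := by
  letI := (alg Z).toAlgebra
  letI : Algebra R Γ(Z.left, ⊤) := ((alg Z).comp (algebraMap R T)).toAlgebra
  haveI : IsScalarTower R T Γ(Z.left, ⊤) := IsScalarTower.of_algebraMap_eq' rfl
  have h : bev (x * y) =
      (Algebra.TensorProduct.lift (bev x) (bev y) fun _ _ => .all _ _).comp (Bialgebra.comulAlgHom T (T ⊗[R] A)) := by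
    refine Algebra.TensorProduct.ext (Subsingleton.elim _ _) (AlgHom.ext fun a => ?_)
    show bev (x * y) ((1 : T) ⊗ₜ a) = Algebra.TensorProduct.lift (bev x) (bev y) (fun _ _ => .all _ _)
      (Coalgebra.comul (R := T) ((1 : T) ⊗ₜ[R] a))
    have hΔ : Coalgebra.comul (R := T) ((1 : T) ⊗ₜ[R] a) =
        ∑ i ∈ (Coalgebra.Repr.arbitrary R a).index, ((1 : T) ⊗ₜ[R] (Coalgebra.Repr.arbitrary R a).left i) ⊗ₜ[T]
          ((1 : T) ⊗ₜ[R] (Coalgebra.Repr.arbitrary R a).right i) := by
      simp [← (Coalgebra.Repr.arbitrary R a).eq, TensorProduct.tmul_sum]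
    rw [bev_tmul, map_one, _root_.one_mul, bevA, fl_mul]
    letI : Algebra R Γ(((Over.map (Spec.map (CommRingCat.ofHom (algebraMap R T)))).obj Z).left, ⊤) :=
      (alg ((Over.map (Spec.map (CommRingCat.ofHom (algebraMap R T)))).obj Z)).toAlgebra
    refine (ev_mul (R := R) _ _ a).trans ?_
    rw [hΔ, map_sum, Bialgebra.comulAlgHom_apply, ← (Coalgebra.Repr.arbitrary R a).eq, map_sum]
    refine Finset.sum_congr rfl fun i _ => ?_
    rw [Algebra.TensorProduct.lift_tmul, Algebra.TensorProduct.lift_tmul, bev_tmul, bev_tmul, map_one,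
      _root_.one_mul, _root_.one_mul]
    rfl
  rw [h, AlgHom.comp_apply, Bialgebra.comulAlgHom_apply, hz, Algebra.TensorProduct.lift_tmul]

/-- Character coordinates of a group split over an algebra. -/
def charsBC {M : Type} [AddCommGroup M] (E : T ⊗[R] A ≃ₐc[T] MonoidAlgebra T (Multiplicative M)) :
    Chars M (Red.bc (Spec.map (CommRingCat.ofHom (algebraMap R T))) (CoactBr.sp R A)) where
  ch {Z} x := letI := (alg Z).toAlgebra
    (bev x : _ →* _).comp ((E.symm : MonoidAlgebra T (Multiplicative M) →* T ⊗[R] A).comp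
      (MonoidAlgebra.of T (Multiplicative M)))
  nat {Z Z'} s x a := bev_comp s x _
  mul {Z} x y a := by
    refine bev_mul x y ?_
    have h := CoalgHomClass.map_comp_comul_apply E.symm (MonoidAlgebra.of T (Multiplicative M) a)
    show Coalgebra.comul (R := T) (E.symm (MonoidAlgebra.of T (Multiplicative M) a)) = _
    rw [← h, MonoidAlgebra.of_apply, MonoidAlgebra.comul_single]
    simp
  inj {Z x y} h := by
    letI := (alg Z).toAlgebra
    refine fl_injective _ _ (ev_injective (R := R) fun a => ?_)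
    have h1 : (bev x).comp E.toAlgEquiv.symm.toAlgHom = (bev y).comp E.toAlgEquiv.symm.toAlgHom :=
      (MonoidAlgebra.lift T Γ(Z.left, ⊤) (Multiplicative M)).symm.injective (MonoidHom.ext h)
    obtain ⟨b, hb⟩ := E.toAlgEquiv.symm.surjective ((1 : T) ⊗ₜ a)
    have h2 := DFunLike.congr_fun h1 b
    simp only [AlgHom.comp_apply] at h2
    rw [show E.toAlgEquiv.symm.toAlgHom b = _ from hb, bev_tmul, bev_tmul, map_one, _root_.one_mul,
      _root_.one_mul] at h2
    exact h2
  surj {Z} c := by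
    letI := (alg Z).toAlgebra
    letI : Algebra R Γ(Z.left, ⊤) := ((alg Z).comp (algebraMap R T)).toAlgebra
    haveI : IsScalarTower R T Γ(Z.left, ⊤) := IsScalarTower.of_algebraMap_eq' rfl
    let χ := (MonoidAlgebra.lift T Γ(Z.left, ⊤) (Multiplicative M) c).comp E.toAlgEquiv.toAlgHom
    let Z' := (Over.map (Spec.map (CommRingCat.ofHom (algebraMap R T)))).obj Z
    have hφ : ∀ r, χ.toRingHom.comp (Algebra.TensorProduct.includeRight : A →ₐ[R] T ⊗[R] A).toRingHom (algebraMap R A r) =
        alg Z' r := by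
      intro r
      show χ ((Algebra.TensorProduct.includeRight : A →ₐ[R] T ⊗[R] A) (algebraMap R A r)) = _
      rw [AlgHom.commutes, IsScalarTower.algebraMap_apply R T (T ⊗[R] A), χ.commutes]
      show ((Scheme.ΓSpecIso (CommRingCat.of T)).inv ≫ Z.hom.appTop).hom (algebraMap R T r) =
        ((Scheme.ΓSpecIso (CommRingCat.of R)).inv ≫ (Z.hom ≫ Spec.map (CommRingCat.ofHom (algebraMap R T))).appTop).hom r
      rw [Scheme.Hom.comp_appTop, ← Category.assoc, ← Scheme.ΓSpecIso_inv_naturality]
      rfl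
    obtain ⟨x, hx⟩ := fl_surjective _ (CoactBr.sp R A) (T := Z) (mk (T := Z') _ hφ)
    refine ⟨x, MonoidHom.ext fun m => ?_⟩
    have hb : bev x = χ := by
      refine Algebra.TensorProduct.ext (Subsingleton.elim _ _) (AlgHom.ext fun a => ?_)
      show bev x ((1 : T) ⊗ₜ a) = χ ((1 : T) ⊗ₜ a)
      rw [bev_tmul, map_one, _root_.one_mul, bevA, hx, ev_mk]
      rfl
    show bev x (E.symm (MonoidAlgebra.of T (Multiplicative M) m)) = _
    rw [hb]
    show MonoidAlgebra.lift T Γ(Z.left, ⊤) (Multiplicative M) c (E (E.symm (MonoidAlgebra.of T (Multiplicative M) m))) = _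
    rw [BialgEquiv.apply_symm_apply]
    exact MonoidAlgebra.lift_of c m

/-- A diagonalisable group of finite type has a character group in the lowest universe. -/
theorem exists_chars_of_isDiag [Nontrivial T] [Algebra.FiniteType R A] (h : SGA3b.IsDiag T (T ⊗[R] A)) :
    ∃ (N : Type) (_ : AddCommGroup N), AddGroup.FG N ∧
      Nonempty (Chars N (Red.bc (Spec.map (CommRingCat.ofHom (algebraMap R T))) (CoactBr.sp R A))) := by
  obtain ⟨M, _, ⟨E⟩⟩ := h
  haveI : Monoid.FG M := MonoidAlgebra.finiteType_iff_fg.1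
    (Algebra.FiniteType.equiv (inferInstance : Algebra.FiniteType T (T ⊗[R] A)) E.toAlgEquiv)
  haveI : AddGroup.FG (Additive M) := AddGroup.fg_iff_addMonoid_fg.2 (Monoid.fg_iff_add_fg.1 inferInstance)
  obtain ⟨n, J, _, p, -, e, ⟨f⟩⟩ := AddCommGroup.equiv_free_prod_directSum_zmod (Additive M)
  let N := (Fin n →₀ ℤ) × DirectSum J fun i => ZMod (p i ^ e i)
  refine ⟨N, inferInstance, AddGroup.fg_of_surjective (f := f.toAddMonoidHom) f.surjective, ⟨charsBC (E.trans
    (MonoidAlgebra.domCongrBialgEquiv T T ((MulEquiv.multiplicativeAdditive M).symm.trans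
      (AddEquiv.toMultiplicative f))))⟩⟩

/-- Etale local splitting. -/
theorem exists_etale_chars [Algebra.FiniteType R A] (h : SGA3b.IsMultType R A) (p : Spec (CommRingCat.of R)) :
    ∃ (R' : Type u) (_ : CommRing R') (_ : Algebra R R') (_ : Algebra.Etale R R'),
      p ∈ Set.range (Spec.map (CommRingCat.ofHom (algebraMap R R'))) ∧
      ∃ (N : Type) (_ : AddCommGroup N), AddGroup.FG N ∧
        Nonempty (Chars N (Red.bc (Spec.map (CommRingCat.ofHom (algebraMap R R'))) (CoactBr.sp R A))) := by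
  obtain ⟨R', _, _, _, q, _, hq, hd⟩ := MultTypeLib.exists_etale_isDiag ‹_› h p.asIdeal
  haveI : Nontrivial R' := by
    by_contra hn
    haveI := not_nontrivial_iff_subsingleton.1 hn
    exact Ideal.IsPrime.ne_top' (I := q) (Subsingleton.elim _ _)
  exact ⟨R', inferInstance, inferInstance, inferInstance, ⟨⟨q, inferInstance⟩, PrimeSpectrum.ext hq⟩,
    exists_chars_of_isDiag hd⟩

theorem locally_etale [Algebra.FiniteType R A] (h : SGA3b.IsMultType R A) :
    TwC.Locally (Spec (CommRingCat.of R)) TwC.Topology.etale (fun S' f => ∃ (M : Type) (_ : AddCommGroup M),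
      AddGroup.FG M ∧ Nonempty (Grp.mk (Red.bc f (CoactBr.sp R A)) ≅ Grp.mk (Red.DS S' M))) := by
  intro p
  obtain ⟨R', _, _, _, hp, N, _, hN, ⟨C⟩⟩ := exists_etale_chars h p
  refine ⟨_, Spec.map (CommRingCat.ofHom (algebraMap R R')),
    (HasRingHomProperty.Spec_iff (P := @Etale)).2 (RingHom.etale_algebraMap.2 inferInstance), hp,
    N, inferInstance, hN, nonempty_grpIso_of_chars C (charsDS _ N)⟩

theorem isMultTypeFT_sp [Algebra.FiniteType R A] (h : SGA3b.IsMultType R A) :
    SGA3x.IsMultTypeFT (CoactBr.sp R A) := by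
  choose R' iC iA iE hp N iN hN hC using exists_etale_chars h
  letI := iC
  letI := iA
  haveI hEt : ∀ p, Etale (Spec.map (CommRingCat.ofHom (algebraMap R (R' p)))) := fun p =>
    (HasRingHomProperty.Spec_iff (P := @Etale)).2 (RingHom.etale_algebraMap.2 (iE p))
  obtain ⟨t, ht⟩ := isCompact_univ.elim_finite_subcover
    (fun p => Set.range (Spec.map (CommRingCat.ofHom (algebraMap R (R' p)))))
    (fun p => (Spec.map (CommRingCat.ofHom (algebraMap R (R' p)))).isOpenMap.isOpen_range)
    fun p _ => Set.mem_iUnion.2 ⟨p, hp p⟩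
  let f : (∐ fun p : t => Spec (CommRingCat.of (R' p))) ⟶ Spec (CommRingCat.of R) :=
    Sigma.desc fun p : t => Spec.map (CommRingCat.ofHom (algebraMap R (R' p)))
  haveI hfl : Flat f := IsZariskiLocalAtSource.sigmaDesc inferInstance
  haveI hqc : QuasiCompact f := (quasiCompact_iff_compactSpace f).2 inferInstance
  haveI hsurj : Surjective f := ⟨fun x => by
    obtain ⟨p, hpt, z, hz⟩ := Set.mem_iUnion₂.1 (ht (Set.mem_univ x))
    exact ⟨Sigma.ι (fun p : t => Spec (CommRingCat.of (R' p))) ⟨p, hpt⟩ z, by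
      rw [← Scheme.Hom.comp_apply, Sigma.ι_desc]; exact hz⟩⟩
  refine ⟨_, f, hfl, hsurj, fun V hV => ⟨f ⁻¹ᵁ V, f.isCompact_preimage hV.isCompact,
    Set.image_preimage_eq _ f.surjective⟩, fun s => ?_⟩
  obtain ⟨p, z, hz⟩ := (sigmaOpenCover fun p : t => Spec (CommRingCat.of (R' p))).exists_eq s
  let jp := Sigma.ι (fun p : t => Spec (CommRingCat.of (R' p))) p
  let p' : t := p
  refine ⟨jp.opensRange, ⟨z, hz⟩, N p'.1, iN p'.1, hN p'.1, ?_⟩
  obtain ⟨C⟩ := hC p'.1
  have hk : jp.isoOpensRange.inv ≫ Spec.map (CommRingCat.ofHom (algebraMap R (R' p'.1))) = jp.opensRange.ι ≫ f := by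
    rw [← Scheme.Hom.isoOpensRange_inv_comp jp, Category.assoc]
    simp [f, jp]
    rfl
  rw [← hk]
  exact nonempty_grpIso_of_chars (charsComp _ _ _ (C.baseChange jp.isoOpensRange.inv _)) (charsDS _ (N p'.1))

end Algebra

end Groth.Agent.MTRigid29.IsotrivialNormal
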