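import Groth.Agent.Lib.MTRigid29.NilImmersion
import Groth.Agent.Lib.MTRigid29.SmoothHom
import Groth.Agent.Lib.MultType.FlatIso
import Groth.Agent.Lib.MultType.Family
import Groth.Agent.S2973
import Groth.Agent.S2979

/-!
# Subgroups of multiplicative type of a smooth group lift along nilpotent thickenings
-/

set_option autoImplicit false
set_option linter.style.haveILetI false
set_option backward.isDefEq.respectTransparency.types false
set_option maxSynthPendingDepth 3

universe u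

open CategoryTheory Limits MonoidalCategory CartesianMonoidalCategory MonObj AlgebraicGeometry
open scoped TensorProduct

noncomputable section

namespace Groth.Agent.MTRigid29

open DiagGL

/-- Groups of multiplicative type are flat. -/
theorem flat_of_isMultType {R A : Type u} [CommRing R] [CommRing A] [HopfAlgebra R A]
    (h : SGA3b.IsMultType R A) : Module.Flat R A := by
  obtain ⟨s, hs, hf⟩ := h
  haveI : ∀ r : s, IsLocalizedModule (Submonoid.powers (r : R))
      (TensorProduct.mk R (Localization.Away (r : R)) A 1) := fun r =>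
    (isLocalizedModule_iff_isBaseChange _ (Localization.Away (r : R)) _).2 (TensorProduct.isBaseChange _ _ _)
  refine Module.flat_of_isLocalized_span R A s hs (fun r => Localization.Away (r : R) ⊗[R] A)
    (fun r => TensorProduct.mk R (Localization.Away (r : R)) A 1) fun r => ?_
  obtain ⟨R', _, _, hff, M, _, ⟨e⟩⟩ := hf r r.2
  haveI := hff
  haveI : Module.Flat R' (R' ⊗[Localization.Away (r : R)] (Localization.Away (r : R) ⊗[R] A)) :=
    Module.Flat.of_linearEquiv e.toLinearEquiv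
  haveI : Module.Flat (Localization.Away (r : R)) (Localization.Away (r : R) ⊗[R] A) :=
    Module.Flat.of_flat_tensorProduct (Localization.Away (r : R)) _ R'
  exact Module.Flat.trans R (Localization.Away (r : R)) _

theorem isMultType_of_isSplit {R A : Type u} [CommRing R] [CommRing A] [HopfAlgebra R A]
    (h : IsSplit (R := R) A) : SGA3b.IsMultType R A := by
  classical
  obtain ⟨Idx, _, T, _, _, hff, hd⟩ := h
  haveI := hff
  haveI : ∀ i, Module.Flat R (T i) := fun i =>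
    Module.Flat.of_retract (LinearMap.single R T i) (LinearMap.proj i)
      (LinearMap.ext fun x => Pi.single_eq_same i x)
  exact MultTypeLib.isMultType_of_family T hd

/-- Products of points obtained from a homomorphism of bialgebras. -/
theorem pt_comp_bialgHom {S : Type u} [CommRing S] {A₀ B C : Type u} [CommRing A₀] [Bialgebra S A₀] [CommRing B]
    [Bialgebra S B] [CommRing C] [Algebra S C] (g₁ g₂ : B →ₐ[S] C) (f : A₀ →ₐc[S] B) :
    CoactBr.pt (((Algebra.TensorProduct.lift g₁ g₂ fun _ _ => .all _ _).comp (Bialgebra.comulAlgHom S B)).comp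
        (f : A₀ →ₐ[S] B)) =
      CoactBr.pt (g₁.comp (f : A₀ →ₐ[S] B)) * CoactBr.pt (g₂.comp (f : A₀ →ₐ[S] B)) := by
  rw [CoactBr.pt_mul_pt, AlgHom.comp_assoc, ← BialgHom.map_comp_comulAlgHom, ← AlgHom.comp_assoc]
  refine congrArg (fun k => CoactBr.pt (AlgHom.comp k (Bialgebra.comulAlgHom S A₀))) ?_
  exact Algebra.TensorProduct.ext' fun a b => by simp

variable {R : Type u} [CommRing R]

section Reduce

variable (J : Ideal R) {A : Type u} [CommRing A] [HopfAlgebra R A]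

/-- Left inclusion over the quotient. -/
def q₁ : AA A J →ₐ[R ⧸ J] CC A J :=
  Algebra.TensorProduct.map (AlgHom.id (R ⧸ J) (R ⧸ J)) (Algebra.TensorProduct.includeLeft (S := R))

/-- Right inclusion over the quotient. -/
def q₂ : AA A J →ₐ[R ⧸ J] CC A J :=
  Algebra.TensorProduct.map (AlgHom.id (R ⧸ J) (R ⧸ J)) Algebra.TensorProduct.includeRight

/-- Comultiplication over the quotient. -/
def qΔ : AA A J →ₐ[R ⧸ J] CC A J :=
  Algebra.TensorProduct.map (AlgHom.id (R ⧸ J) (R ⧸ J)) (Bialgebra.comulAlgHom R A)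

theorem qΔ_eq : qΔ (A := A) J =
    (Algebra.TensorProduct.lift (q₁ J) (q₂ J) fun _ _ => .all _ _).comp (Bialgebra.comulAlgHom (R ⧸ J) (AA A J)) := by
  refine Algebra.TensorProduct.ext (Subsingleton.elim _ _) (AlgHom.ext fun a => ?_)
  simp [qΔ, q₁, q₂, ← (Coalgebra.Repr.arbitrary R a).eq, TensorProduct.tmul_sum]

variable {A₀ : Type u} [CommRing A₀] [HopfAlgebra (R ⧸ J) A₀]

theorem pt_bialg_mul (f : A₀ →ₐc[R ⧸ J] AA A J) :
    CoactBr.pt ((qΔ J).comp (f : A₀ →ₐ[R ⧸ J] AA A J)) =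
      CoactBr.pt ((q₁ J).comp (f : A₀ →ₐ[R ⧸ J] AA A J)) * CoactBr.pt ((q₂ J).comp (f : A₀ →ₐ[R ⧸ J] AA A J)) :=
  (congrArg (fun k => CoactBr.pt (AlgHom.comp k (f : A₀ →ₐ[R ⧸ J] AA A J))) (qΔ_eq J)).trans
    (pt_comp_bialgHom (q₁ J) (q₂ J) f)

variable {G : Over (Spec (CommRingCat.of R))} [GrpObj G] {H₀ : Over (Spec (CommRingCat.of (R ⧸ J)))} [GrpObj H₀]
  (j₀ : H₀ ⟶ Red.bc (Spec.map (CommRingCat.ofHom (Ideal.Quotient.mk J))) G) [IsMonHom j₀]

/-- A point of the subgroup as a point of the ambient group. -/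
def theta (C : Type u) [CommRing C] [Algebra R C] [Algebra (R ⧸ J) C] [IsScalarTower R (R ⧸ J) C] :
    (CoactBr.sp (R ⧸ J) C ⟶ H₀) →* Pts G C :=
  MonoidHom.mk'
    (fun z => (spIso (R := R) (T := R ⧸ J) C).inv ≫ fl (Spec.map (CommRingCat.ofHom (Ideal.Quotient.mk J))) G (z ≫ j₀))
    fun x y => by
      simp only [MonObj.mul_comp, fl_mul, MonObj.comp_mul]

theorem theta_nat {C D : Type u} [CommRing C] [Algebra R C] [Algebra (R ⧸ J) C] [IsScalarTower R (R ⧸ J) C]
    [CommRing D] [Algebra R D] [Algebra (R ⧸ J) D] [IsScalarTower R (R ⧸ J) D] (g : C →ₐ[R ⧸ J] D)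
    (z : CoactBr.sp (R ⧸ J) C ⟶ H₀) :
    pmap (g.restrictScalars R) (theta J j₀ C z) = theta J j₀ D (CoactBr.pt g ≫ z) := by
  refine Over.OverMorphism.ext ?_
  show (CoactBr.pt (g.restrictScalars R)).left ≫ 𝟙 _ ≫ (fl _ G (z ≫ j₀)).left =
    𝟙 _ ≫ (fl _ G ((CoactBr.pt g ≫ z) ≫ j₀)).left
  rw [Category.id_comp, Category.id_comp, Category.assoc, fl_comp]
  rfl

theorem isHom_theta (f : A₀ →ₐc[R ⧸ J] AA A J) (e₀ : CoactBr.sp (R ⧸ J) A₀ ⟶ H₀) [IsMonHom e₀] :
    IsHom J (theta J j₀ (AA A J) (CoactBr.pt (f : A₀ →ₐ[R ⧸ J] AA A J) ≫ e₀)) := by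
  have h₁ : (q₁ (A := A) J).restrictScalars R = i₁ J := rfl
  have h₂ : (q₂ (A := A) J).restrictScalars R = i₂ J := rfl
  have hΔ : (qΔ (A := A) J).restrictScalars R = iΔ J := rfl
  unfold IsHom
  rw [← h₁, ← h₂, ← hΔ, theta_nat, theta_nat, theta_nat, ← Category.assoc, ← Category.assoc, ← Category.assoc,
    ← CoactBr.pt_comp, ← CoactBr.pt_comp, ← CoactBr.pt_comp, pt_bialg_mul, MonObj.mul_comp, map_mul]

omit [GrpObj G] [GrpObj H₀] in
theorem theta_left (z : CoactBr.sp (R ⧸ J) (AA A J) ⟶ H₀) :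
    (fl (Spec.map (CommRingCat.ofHom (Ideal.Quotient.mk J))) G (z ≫ j₀)).left =
      z.left ≫ j₀.left ≫ pullback.fst G.hom (Spec.map (CommRingCat.ofHom (Ideal.Quotient.mk J))) := by
  simp [fl, Adjunction.homEquiv_counit, Over.mapPullbackAdj]

end Reduce

theorem ker_includeRight (J : Ideal R) (A : Type u) [CommRing A] [Algebra R A] :
    RingHom.ker ((Algebra.TensorProduct.includeRight : A →ₐ[R] (R ⧸ J) ⊗[R] A) : A →+* (R ⧸ J) ⊗[R] A) =
      J.map (algebraMap R A) := by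
  ext a
  rw [RingHom.mem_ker]
  show (1 : R ⧸ J) ⊗ₜ[R] a = 0 ↔ _
  rw [← Algebra.TensorProduct.quotIdealMapEquivQuotTensor_mk A J a, EmbeddingLike.map_eq_zero_iff,
    Ideal.Quotient.eq_zero_iff_mem]

theorem surjective_includeRight (J : Ideal R) (A : Type u) [CommRing A] [Algebra R A] :
    Function.Surjective ((Algebra.TensorProduct.includeRight : A →ₐ[R] (R ⧸ J) ⊗[R] A) : A →+* (R ⧸ J) ⊗[R] A) :=
  fun b => by
    obtain ⟨c, rfl⟩ := (Algebra.TensorProduct.quotIdealMapEquivQuotTensor A J).surjective b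
    obtain ⟨a, rfl⟩ := Ideal.Quotient.mk_surjective c
    exact ⟨a, rfl⟩

/-- The reduction of an affine scheme modulo an ideal. -/
def bcSpIso (J : Ideal R) (A : Type u) [CommRing A] [Algebra R A] :
    Red.bc (Spec.map (CommRingCat.ofHom (Ideal.Quotient.mk J))) (CoactBr.sp R A) ≅
      CoactBr.sp (R ⧸ J) ((R ⧸ J) ⊗[R] A) :=
  Over.isoMk (pullbackSymmetry _ _ ≪≫ pullbackSpecIso R (R ⧸ J) A) (by
    show ((pullbackSymmetry _ _).hom ≫ (pullbackSpecIso R (R ⧸ J) A).hom) ≫
      Spec.map (CommRingCat.ofHom Algebra.TensorProduct.includeLeftRingHom) = pullback.snd _ _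
    rw [Category.assoc, pullbackSpecIso_hom_fst', pullbackSymmetry_hom_comp_fst])

theorem bcSpIso_fst (J : Ideal R) (A : Type u) [CommRing A] [Algebra R A] :
    (bcSpIso J A).hom.left ≫ Spec.map (CommRingCat.ofHom
      ((Algebra.TensorProduct.includeRight : A →ₐ[R] (R ⧸ J) ⊗[R] A) : A →+* (R ⧸ J) ⊗[R] A)) =
      pullback.fst (CoactBr.sp R A).hom (Spec.map (CommRingCat.ofHom (Ideal.Quotient.mk J))) := by
  show ((pullbackSymmetry _ _).hom ≫ (pullbackSpecIso R (R ⧸ J) A).hom) ≫ _ = _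
  refine (Category.assoc _ _ _).trans ?_
  refine (congrArg ((pullbackSymmetry _ _).hom ≫ ·) (pullbackSpecIso_hom_snd R (R ⧸ J) A)).trans ?_
  exact pullbackSymmetry_hom_comp_snd _ _

set_option maxHeartbeats 400000 in
/-- A subgroup of multiplicative type of the reduction of a smooth group lifts. -/
theorem exists_subgroup_lift (J : Ideal R) (hJ : IsNilpotent J) (G : Over (Spec (CommRingCat.of R))) [GrpObj G]
    (hG : Smooth G.hom) (H₀ : Over (Spec (CommRingCat.of (R ⧸ J)))) [GrpObj H₀] (hH₀ : IsMT H₀)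
    (j₀ : H₀ ⟶ Red.bc (Spec.map (CommRingCat.ofHom (Ideal.Quotient.mk J))) G) [IsMonHom j₀] [IsImmersion j₀.left] :
    ∃ (H : Over (Spec (CommRingCat.of R))) (_ : GrpObj H) (j : H ⟶ G), IsMonHom j ∧ IsImmersion j.left ∧
      Flat H.hom ∧ ∃ φ : Red.bc (Spec.map (CommRingCat.ofHom (Ideal.Quotient.mk J))) H ≅ H₀,
        φ.hom ≫ j₀ = (Over.pullback (Spec.map (CommRingCat.ofHom (Ideal.Quotient.mk J)))).map j := by
  obtain ⟨A₀, _, _, -, -, hsplit, ⟨eG⟩⟩ := exists_model_split hH₀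
  haveI := hG
  let e₀ : CoactBr.sp (R ⧸ J) A₀ ≅ H₀ :=
    ⟨eG.hom.hom.hom, eG.inv.hom.hom, by rw [← Mon.comp_hom', ← Grp.comp', eG.hom_inv_id]; rfl,
      by rw [← Mon.comp_hom', ← Grp.comp', eG.inv_hom_id]; rfl⟩
  haveI : IsMonHom e₀.hom := eG.hom.hom.isMonHom_hom
  haveI : IsIso e₀.hom.left := inferInstanceAs (IsIso ((Over.forget _).map e₀.hom))
  haveI : LocallyOfFiniteType H₀.hom := by
    rw [← Over.w j₀]
    haveI : Smooth (Red.bc (Spec.map (CommRingCat.ofHom (Ideal.Quotient.mk J))) G).hom :=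
      MorphismProperty.pullback_snd _ _ hG
    infer_instance
  have hft : Algebra.FiniteType (R ⧸ J) A₀ := by
    have h : LocallyOfFiniteType (CoactBr.sp (R ⧸ J) A₀).hom := by
      rw [← Over.w e₀.hom]
      infer_instance
    exact RingHom.finiteType_algebraMap.1 ((HasRingHomProperty.Spec_iff (P := @LocallyOfFiniteType)).1 h)
  obtain ⟨A, _, _, hqi, ⟨E⟩⟩ := Groth.Agent.S2979.result R J
    (fun x hx => by
      obtain ⟨n, hn⟩ := hJ
      refine ⟨n, ?_⟩
      have h := Ideal.pow_mem_pow hx n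
      rwa [hn, Ideal.zero_eq_bot, Submodule.mem_bot] at h) A₀
    (Groth.Agent.S2973.result (R ⧸ J) A₀ hft (isMultType_of_isSplit hsplit))
  have hMT := MultTypeLib.isMultType_of_isQuasiIsotrivial hqi
  haveI hflat := flat_of_isMultType hMT
  obtain ⟨j, hj⟩ := MultTypeLib.exists_isInt_of_isMultType hMT
  let f : A₀ →ₐc[R ⧸ J] AA A J := E.symm.toBialgHom
  let z : CoactBr.sp (R ⧸ J) (AA A J) ⟶ H₀ := CoactBr.pt (f : A₀ →ₐ[R ⧸ J] AA A J) ≫ e₀.hom
  let x : Pts G (AA A J) := theta J j₀ (AA A J) z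
  obtain ⟨w, hw, hwx⟩ := exists_monHom_lift_smooth hj (Iso.refl (Grp.mk (CoactBr.sp R A))) hG hJ x
    (isHom_theta J j₀ f e₀.hom)
  let π : A →+* AA A J := (Algebra.TensorProduct.includeRight : A →ₐ[R] AA A J)
  have hleft : Spec.map (CommRingCat.ofHom π) ≫ w.left =
      z.left ≫ j₀.left ≫ pullback.fst G.hom (Spec.map (CommRingCat.ofHom (Ideal.Quotient.mk J))) := by
    rw [← theta_left]
    refine Eq.trans ?_ (Category.id_comp _)
    refine Eq.trans ?_ (congrArg CommaMorphism.left hwx)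
    show Spec.map (CommRingCat.ofHom π) ≫ w.left = ((CoactBr.pt (gen J)).left ≫ 𝟙 _) ≫ w.left
    rw [Category.comp_id]
    rfl
  let p₀ : CoactBr.sp (R ⧸ J) (AA A J) ≅ CoactBr.sp (R ⧸ J) A₀ :=
    ⟨CoactBr.pt (f : A₀ →ₐ[R ⧸ J] AA A J), CoactBr.pt (E.toBialgHom : AA A J →ₐ[R ⧸ J] A₀),
      by
        rw [← CoactBr.pt_comp, ← CoactBr.pt_id]
        exact congrArg CoactBr.pt (AlgHom.ext fun a => E.symm_apply_apply a),
      by
        rw [← CoactBr.pt_comp, ← CoactBr.pt_id]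
        exact congrArg CoactBr.pt (AlgHom.ext fun a => E.apply_symm_apply a)⟩
  haveI : IsIso z.left := inferInstanceAs (IsIso ((Over.forget _).map (p₀ ≪≫ e₀).hom))
  haveI : IsClosedImmersion (Spec.map (CommRingCat.ofHom (Ideal.Quotient.mk J))) :=
    IsClosedImmersion.spec_of_surjective _ Ideal.Quotient.mk_surjective
  haveI : IsImmersion (Spec.map (CommRingCat.ofHom π) ≫ w.left) := by
    rw [hleft]
    haveI : IsImmersion (pullback.fst G.hom (Spec.map (CommRingCat.ofHom (Ideal.Quotient.mk J)))) :=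
      MorphismProperty.pullback_fst _ _ inferInstance
    haveI : IsImmersion (j₀.left ≫ pullback.fst G.hom (Spec.map (CommRingCat.ofHom (Ideal.Quotient.mk J)))) :=
      MorphismProperty.comp_mem _ _ _ ‹IsImmersion j₀.left› ‹_›
    exact (MorphismProperty.cancel_left_of_respectsIso @IsImmersion z.left _).2 ‹_›
  refine ⟨CoactBr.sp R A, inferInstance, w, hw,
    NilImmersion.isImmersion_of_mod π (surjective_includeRight J A) J hJ (ker_includeRight J A) w.left G.hom
      (Over.w w),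
    HasRingHomProperty.Spec_iff.2 (RingHom.flat_algebraMap_iff.2 hflat),
    bcSpIso J A ≪≫ p₀ ≪≫ e₀, ?_⟩
  refine Over.OverMorphism.ext (pullback.hom_ext ?_ ?_)
  · show ((bcSpIso J A).hom.left ≫ z.left) ≫ j₀.left ≫ pullback.fst _ _ = _
    refine (Category.assoc _ _ _).trans ?_
    refine (congrArg ((bcSpIso J A).hom.left ≫ ·) hleft.symm).trans ?_
    refine (Category.assoc _ _ _).symm.trans ?_
    refine (congrArg (· ≫ w.left) (bcSpIso_fst J A)).trans ?_
    exact (pullback.lift_fst _ _ _).symm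
  · refine Eq.trans ?_ (Over.w ((Over.pullback (Spec.map (CommRingCat.ofHom (Ideal.Quotient.mk J)))).map w)).symm
    exact Over.w ((bcSpIso J A ≪≫ p₀ ≪≫ e₀).hom ≫ j₀)

end Groth.Agent.MTRigid29
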