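import Groth.Agent.Lib.MTRigid29.SubgrpFlat
import Groth.Agent.Lib.MTRigid29.MultTypeLocal
import Groth.Agent.Lib.MTRigid29.NormalCentral
import Groth.Agent.Lib.MTRigid29.SpMultType
import Groth.Agent.Lib.MTRigid29.SubgrpLift

/-!
# Flat closed subgroups of groups of multiplicative type
-/

set_option autoImplicit false
set_option linter.style.haveILetI false
set_option backward.isDefEq.respectTransparency.types false
set_option maxSynthPendingDepth 3

universe u

open CategoryTheory Limits MonoidalCategory CartesianMonoidalCategory MonObj AlgebraicGeometry Opposite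
open scoped TensorProduct

noncomputable section

namespace Groth.Agent.MTRigid29

open DiagGL

section Affine

variable {R A B : Type u} [CommRing R] [CommRing A] [HopfAlgebra R A] [CommRing B] [HopfAlgebra R B]

theorem pt_incl_mul :
    CoactBr.pt (Algebra.TensorProduct.includeLeft : A →ₐ[R] A ⊗[R] A) *
        CoactBr.pt (Algebra.TensorProduct.includeRight : A →ₐ[R] A ⊗[R] A) =
      CoactBr.pt (Bialgebra.comulAlgHom R A) := by
  rw [CoactBr.pt_mul_pt]
  refine congrArg _ (AlgHom.ext fun a => ?_)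
  rw [AlgHom.comp_apply, Bialgebra.comulAlgHom_apply, ← (Coalgebra.Repr.arbitrary R a).eq]
  simp

theorem isCocomm_of_comm (h : ∀ a b : CoactBr.sp R (A ⊗[R] A) ⟶ CoactBr.sp R A, a * b = b * a) :
    Coalgebra.IsCocomm R A := by
  have h1 := pt_incl_mul (R := R) (A := A)
  rw [h, CoactBr.pt_mul_pt] at h1
  refine ⟨LinearMap.ext fun a => ?_⟩
  have h2 := DFunLike.congr_fun (CoactBr.pt_injective h1) a
  rw [AlgHom.comp_apply, Bialgebra.comulAlgHom_apply] at h2
  show TensorProduct.comm R A A (Coalgebra.comul (R := R) a) = Coalgebra.comul (R := R) a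
  conv_rhs => rw [← h2]
  rw [← (Coalgebra.Repr.arbitrary R a).eq]
  simp

theorem exists_bialgHom_of_monHom (f : CoactBr.sp R B ⟶ CoactBr.sp R A) [IsMonHom f] :
    ∃ φ : A →ₐc[R] B, f = CoactBr.pt (φ : A →ₐ[R] B) := by
  obtain ⟨α, rfl⟩ := exists_pt f
  have h1 : (Bialgebra.counitAlgHom R B).comp α = Bialgebra.counitAlgHom R A := by
    have h := MonObj.one_comp (CoactBr.pt α) (X := CoactBr.sp R R)
    rw [CoactBr.one_eq_pt, CoactBr.one_eq_pt, ← CoactBr.pt_comp] at h
    have h' := CoactBr.pt_injective h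
    refine AlgHom.ext fun a => ?_
    have := DFunLike.congr_fun h' a
    simpa using this
  have h2 : (Algebra.TensorProduct.map α α).comp (Bialgebra.comulAlgHom R A) = (Bialgebra.comulAlgHom R B).comp α := by
    have h := congrArg (· ≫ CoactBr.pt α) (pt_incl_mul (R := R) (A := B))
    rw [MonObj.mul_comp, ← CoactBr.pt_comp, ← CoactBr.pt_comp, ← CoactBr.pt_comp, CoactBr.pt_mul_pt] at h
    rw [← CoactBr.pt_injective h]
    refine congrArg (fun k => AlgHom.comp k (Bialgebra.comulAlgHom R A)) (Algebra.TensorProduct.ext' fun a b => ?_)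
    simp
  exact ⟨BialgHom.ofAlgHom α h1 h2, rfl⟩

theorem isCocomm_of_model {H : Over (Spec (CommRingCat.of R))} [GrpObj H] (hH : SGA3x.IsMultTypeFT H)
    (j : CoactBr.sp R A ⟶ H) [IsMonHom j] [Mono j] : Coalgebra.IsCocomm R A :=
  isCocomm_of_comm fun a b => (cancel_mono j).1 (by
    rw [MonObj.mul_comp, MonObj.mul_comp, commute_of_isMultTypeFT hH])

end Affine

variable {S : Scheme.{u}}

/-- Flat closed subgroups of finite presentation of groups of multiplicative type. -/
theorem isMultTypeFT_of_closedSubgroup (H H' : Over S) [GrpObj H] [GrpObj H'] (hH' : SGA3x.IsMultTypeFT H')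
    (i : H ⟶ H') [IsMonHom i] (hi : IsClosedImmersion i.left) (hHfl : Flat H.hom)
    (hHfp : LocallyOfFinitePresentation H.hom) : SGA3x.IsMultTypeFT H := by
  refine isMultTypeFT_of_local H fun s => ?_
  obtain ⟨V, hV, hsV, -⟩ := exists_isAffineOpen_mem_and_subset (x := s) (U := ⊤) trivial
  let g : Spec (CommRingCat.of (Γ(S, V) : Type u)) ⟶ S := hV.fromSpec
  refine ⟨_, g, inferInstance, hV.range_fromSpec.symm.subset hsV, ?_⟩
  haveI : IsOpenImmersion g := inferInstanceAs (IsOpenImmersion hV.fromSpec)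
  obtain ⟨A, _, _, _, -, hsplit, hft, ⟨eA⟩⟩ := exists_model_ft hH' g
  let i₀ := (Over.pullback g).map i
  haveI := isMonHom_map i g
  haveI hi₀ : IsClosedImmersion i₀.left :=
    MorphismProperty.of_isPullback (P := @IsClosedImmersion) (isPullback_map_left g i) hi
  haveI : IsAffine (Red.bc g H').left := isAffine_bc (isMT_of_ft hH') g
  haveI : IsAffine (Red.bc g H).left := isAffine_of_isAffineHom i₀.left
  obtain ⟨⟨B⟩, ⟨eB'⟩⟩ := (essImage_hopfSpec (G := Grp.mk (Red.bc g H))).2 ‹_›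
  let eB : Grp.mk (CoactBr.sp Γ(S, V) B.X) ≅ Grp.mk (Red.bc g H) := eB'
  haveI : IsMonHom eA.hom.hom.hom := eA.hom.hom.isMonHom_hom
  haveI : IsMonHom eB.hom.hom.hom := eB.hom.hom.isMonHom_hom
  haveI : IsMonHom eA.inv.hom.hom := eA.inv.hom.isMonHom_hom
  haveI : IsMonHom eB.inv.hom.hom := eB.inv.hom.isMonHom_hom
  let FA : CoactBr.sp Γ(S, V) A ≅ Red.bc g H' := ⟨eA.hom.hom.hom, eA.inv.hom.hom,
    by rw [← Mon.comp_hom', ← Grp.comp', eA.hom_inv_id]; rfl, by rw [← Mon.comp_hom', ← Grp.comp', eA.inv_hom_id]; rfl⟩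
  let FB : CoactBr.sp Γ(S, V) B.X ≅ Red.bc g H := ⟨eB.hom.hom.hom, eB.inv.hom.hom,
    by rw [← Mon.comp_hom', ← Grp.comp', eB.hom_inv_id]; rfl, by rw [← Mon.comp_hom', ← Grp.comp', eB.inv_hom_id]; rfl⟩
  haveI : IsMonHom FA.hom := ‹IsMonHom eA.hom.hom.hom›
  haveI : IsMonHom FA.inv := ‹IsMonHom eA.inv.hom.hom›
  haveI : IsMonHom FB.hom := ‹IsMonHom eB.hom.hom.hom›
  haveI : IsMonHom FB.inv := ‹IsMonHom eB.inv.hom.hom›
  obtain ⟨φ, hφ⟩ := exists_bialgHom_of_monHom (FB.hom ≫ i₀ ≫ FA.inv)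
  haveI : IsIso FB.hom.left := inferInstanceAs (IsIso ((Over.forget _).map FB.hom))
  haveI : IsIso FA.inv.left := inferInstanceAs (IsIso ((Over.forget _).map FA.inv))
  haveI hφc : IsClosedImmersion (CoactBr.pt (φ : A →ₐ[Γ(S, V)] B.X)).left := by
    rw [← hφ]
    exact inferInstanceAs (IsClosedImmersion (FB.hom.left ≫ i₀.left ≫ FA.inv.left))
  have hsurj : Function.Surjective φ := fun b => by
    let fR : CommRingCat.of A ⟶ CommRingCat.of B.X := CommRingCat.ofHom ((φ : A →ₐ[Γ(S, V)] B.X) : A →+* B.X)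
    haveI : IsClosedImmersion (Spec.map fR) := hφc
    obtain ⟨c, hc⟩ := (IsClosedImmersion.isAffine_surjective_of_isAffine (f := Spec.map fR)).2 ((Scheme.ΓSpecIso (CommRingCat.of B.X)).inv b)
    refine ⟨(Scheme.ΓSpecIso (CommRingCat.of A)).hom c, ?_⟩
    have h := ConcreteCategory.congr_hom (Scheme.ΓSpecIso_naturality fR) c
    exact h.symm.trans ((congrArg (Scheme.ΓSpecIso (CommRingCat.of B.X)).hom hc).trans
      (ConcreteCategory.congr_hom (Scheme.ΓSpecIso (CommRingCat.of B.X)).inv_hom_id b))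
  haveI : Mono i₀ := Over.mono_of_mono_left i₀
  have hMT' := isMultTypeFT_bc hH' g
  haveI := isCocomm_of_model (A := A) hMT' FA.hom
  haveI := isCocomm_of_model (A := B.X) hMT' (FB.hom ≫ i₀)
  have hBh : (CoactBr.sp Γ(S, V) B.X).hom = FB.hom.left ≫ (Red.bc g H).hom := (Over.w FB.hom).symm
  haveI : Flat (Red.bc g H).hom := MorphismProperty.pullback_snd _ _ hHfl
  haveI : LocallyOfFinitePresentation (Red.bc g H).hom := MorphismProperty.pullback_snd _ _ hHfp
  have hflat : Flat (CoactBr.sp Γ(S, V) B.X).hom := by rw [hBh]; infer_instance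
  have hfp : LocallyOfFinitePresentation (CoactBr.sp Γ(S, V) B.X).hom := by rw [hBh]; infer_instance
  haveI : Module.Flat Γ(S, V) B.X :=
    RingHom.flat_algebraMap_iff.1 ((HasRingHomProperty.Spec_iff (P := @Flat)).1 hflat)
  have hfp' : Algebra.FinitePresentation Γ(S, V) B.X :=
    RingHom.finitePresentation_algebraMap.1 ((HasRingHomProperty.Spec_iff (P := @LocallyOfFinitePresentation)).1 hfp)
  have hBMT := SubgrpFlat.isMultType_of_surjective hft (isMultType_of_isSplit hsplit) φ hsurj hfp'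
  haveI : Algebra.FiniteType Γ(S, V) B.X := hft.of_surjective (φ : A →ₐ[Γ(S, V)] B.X) hsurj
  obtain ⟨S', f, h1, h2, h3, h4⟩ := IsotrivialNormal.isMultTypeFT_sp hBMT
  refine ⟨S', f, h1, h2, h3, fun s' => ?_⟩
  obtain ⟨U, hU, M, _, hfg, ⟨e⟩⟩ := h4 s'
  exact ⟨U, hU, M, inferInstance, hfg, ⟨((Over.pullback (U.ι ≫ f)).mapGrp.mapIso eB).symm ≪≫ e⟩⟩

end Groth.Agent.MTRigid29
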