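import Groth.Agent.Lib.MTRigid29.TrivLocus
import Groth.Agent.Lib.MTRigid29.Global

/-!
# Globalisation of the triviality locus
-/

set_option autoImplicit false
set_option linter.style.haveILetI false
set_option backward.isDefEq.respectTransparency.types false
set_option maxSynthPendingDepth 3

universe u

open CategoryTheory Limits MonoidalCategory CartesianMonoidalCategory MonObj AlgebraicGeometry Opposite
open scoped TensorProduct

noncomputable section

namespace Groth.Agent.MTRigid29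

open DiagGL

variable {S S' S'' : Scheme.{u}} {H G : Over S} [GrpObj H] [GrpObj G] (u : H ⟶ G)

/-- `u` is trivial on points over `f`. -/
def Triv (f : S' ⟶ S) : Prop := ∀ (T : Over S') (h : (Over.map f).obj T ⟶ H), h ≫ u = 1

theorem fl_one (f : S' ⟶ S) {T : Over S'} : fl f G (1 : T ⟶ Red.bc f G) = 1 := by
  have h := fl_mul f G (1 : T ⟶ Red.bc f G) 1
  rw [_root_.one_mul] at h
  exact left_eq_mul.1 h

omit [GrpObj H] [GrpObj G] in
theorem triv_iff_pullback_map {H G : Over S} [GrpObj H] [GrpObj G] (u : H ⟶ G) (f : S' ⟶ S) :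
    Triv u f ↔ (Over.pullback f).map u = 1 := by
  constructor
  · intro h
    have h1 := h _ (fl f H (𝟙 _))
    rw [← fl_comp_map] at h1
    exact fl_injective f G (((congrArg (fl f G) (Category.id_comp _)).symm.trans h1).trans (fl_one f).symm)
  · intro h T x
    obtain ⟨y, rfl⟩ := fl_surjective f H x
    rw [← fl_comp_map, h, MonObj.comp_one, fl_one]

omit [GrpObj H] in
theorem triv_comp {f : S' ⟶ S} (h : Triv u f) (g : S'' ⟶ S') : Triv u (g ≫ f) := by
  intro T x
  let i : (Over.map (g ≫ f)).obj T ≅ (Over.map f).obj ((Over.map g).obj T) := Over.isoMk (Iso.refl _) (by simp)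
  have h1 := congrArg (i.hom ≫ ·) (h ((Over.map g).obj T) (i.inv ≫ x))
  simpa [MonObj.comp_one] using h1

theorem triv_bc_iff (g : S' ⟶ S) (f : S'' ⟶ S') :
    Triv ((Over.pullback g).map u) f ↔ Triv u (f ≫ g) := by
  constructor
  · intro h T x
    let i : (Over.map (f ≫ g)).obj T ≅ (Over.map g).obj ((Over.map f).obj T) := Over.isoMk (Iso.refl _) (by simp)
    obtain ⟨y, hy⟩ := fl_surjective g H (i.inv ≫ x)
    have h1 := congrArg (fl g G) (h T y)
    rw [fl_comp_map, hy, fl_one] at h1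
    have h2 := congrArg (i.hom ≫ ·) h1
    simpa [MonObj.comp_one] using h2
  · intro h T y
    let i : (Over.map (f ≫ g)).obj T ≅ (Over.map g).obj ((Over.map f).obj T) := Over.isoMk (Iso.refl _) (by simp)
    refine fl_injective g G ?_
    rw [fl_comp_map, fl_one, ← cancel_epi i.hom, MonObj.comp_one, ← Category.assoc]
    exact h T _

omit [GrpObj H] in
/-- Triviality is local. -/
theorem triv_of_cover (f : S' ⟶ S)
    (h : ∀ x : S', ∃ (W : Scheme.{u}) (j : W ⟶ S), IsOpenImmersion j ∧ f x ∈ Set.range j ∧ Triv u j) : Triv u f := by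
  choose W j hj hx ht using h
  intro T x
  let 𝒰 : T.left.OpenCover := T.left.openCoverOfIsOpenCover
    (fun s : S' => (T.hom ≫ f) ⁻¹ᵁ @Scheme.Hom.opensRange _ _ (j s) (hj s)) (by
      rw [TopologicalSpace.IsOpenCover, _root_.eq_top_iff]
      intro y _
      exact TopologicalSpace.Opens.mem_iSup.2 ⟨T.hom y, hx (T.hom y)⟩)
  refine Over.OverMorphism.ext (𝒰.hom_ext _ _ fun s => ?_)
  haveI := hj s
  let U : T.left.Opens := (T.hom ≫ f) ⁻¹ᵁ (j s).opensRange
  let b : (U : Scheme.{u}) ⟶ W s := IsOpenImmersion.lift (j s) (U.ι ≫ T.hom ≫ f) (by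
    rintro _ ⟨y, rfl⟩
    exact y.2)
  have hb : b ≫ j s = U.ι ≫ T.hom ≫ f := IsOpenImmersion.lift_fac _ _ _
  let incl : (Over.map (j s)).obj (Over.mk b) ⟶ (Over.map f).obj T := Over.homMk U.ι hb.symm
  have h1 := ht s (Over.mk b) (incl ≫ x)
  rw [Category.assoc, ← MonObj.comp_one incl] at h1
  exact congrArg CommaMorphism.left h1

section Affine

variable {R : Type u} [CommRing R] {A : Type u} [CommRing A] [HopfAlgebra R A]
  {H G : Over (Spec (CommRingCat.of R))} [GrpObj H] [GrpObj G] (e : Grp.mk (CoactBr.sp R A) ≅ Grp.mk H) (u : H ⟶ G)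

theorem triv_specMap_iff (C : Type u) [CommRing C] [Algebra R C] :
    Triv u (Spec.map (CommRingCat.ofHom (algebraMap R C))) ↔ genPt e C ≫ u = 1 := by
  constructor
  · intro h
    let q : CoactBr.sp R (C ⊗[R] A) ⟶ CoactBr.sp R C := CoactBr.pt Algebra.TensorProduct.includeLeft
    let i : (Over.map (Spec.map (CommRingCat.ofHom (algebraMap R C)))).obj (Over.mk q.left) ≅
        CoactBr.sp R (C ⊗[R] A) := Over.isoMk (Iso.refl _) ((Category.id_comp _).trans (Over.w q).symm)
    have h1 := congrArg (i.inv ≫ ·) (h (Over.mk q.left) (i.hom ≫ genPt e C))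
    simpa [MonObj.comp_one] using h1
  · intro h T x
    obtain ⟨P, hP1, hP2⟩ := exists_pairMor R C A
    let p : (Over.map (Spec.map (CommRingCat.ofHom (algebraMap R C)))).obj T ⟶ CoactBr.sp R C :=
      Over.homMk T.hom rfl
    have hx : lift p (x ≫ e.inv.hom.hom) ≫ P ≫ genPt e C = x := by
      refine (congrArg (lift p (x ≫ e.inv.hom.hom) ≫ ·)
        ((Category.assoc _ _ _).symm.trans (congrArg (· ≫ e.hom.hom.hom) hP2))).trans ?_
      refine (lift_snd_assoc _ _ _).trans ?_
      rw [Category.assoc, ← Mon.comp_hom', ← Grp.comp', e.inv_hom_id]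
      exact Category.comp_id x
    rw [← hx, Category.assoc, Category.assoc, h, MonObj.comp_one, MonObj.comp_one]

end Affine

/-- Finitely many affine flat charts with finitely generated character groups. -/
theorem exists_charts_ft {R : Type u} [CommRing R] (hH : SGA3x.IsMultTypeFT H) (g : Spec (CommRingCat.of R) ⟶ S)
    [IsOpenImmersion g] :
    ∃ (J : Type u) (_ : Finite J) (T : J → Type u) (_ : ∀ i, CommRing (T i)) (_ : ∀ i, Algebra R (T i)),
      (∀ i, Module.Flat R (T i)) ∧
      (∀ q : PrimeSpectrum R, ∃ i, q ∈ Set.range (PrimeSpectrum.comap (algebraMap R (T i)))) ∧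
      ∀ i, ∃ (M : Type) (_ : AddCommGroup M), AddGroup.FG M ∧
        Nonempty (Chars M (Red.bc (Spec.map (CommRingCat.ofHom (algebraMap R (T i)))) (Red.bc g H))) := by
  obtain ⟨S', f, _, _, hqc, hloc⟩ := hH
  obtain ⟨W, hWc, hW⟩ := hqc g.opensRange (isAffineOpen_opensRange g)
  choose U hU hP using hloc
  have hnhd : ∀ s : W, ∃ O : S'.Opens, IsAffineOpen O ∧ (s : S') ∈ O ∧ O ≤ W ⊓ U s := fun s => by
    obtain ⟨O, hO, hsO, hle⟩ := exists_isAffineOpen_mem_and_subset (x := (s : S')) (U := W ⊓ U s) ⟨s.2, hU s⟩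
    exact ⟨O, hO, hsO, hle⟩
  choose O hO hmem hle using hnhd
  obtain ⟨t, ht⟩ := hWc.elim_finite_subcover (fun s : W => (O s : Set S')) (fun s => (O s).2)
    fun s hs => Set.mem_iUnion.2 ⟨⟨s, hs⟩, hmem _⟩
  have hfac : ∀ s : W, Set.range ((hO s).fromSpec ≫ f) ⊆ Set.range g := fun s => by
    rintro _ ⟨z, rfl⟩
    have : f ((hO s).fromSpec z) ∈ f '' (W : Set S') :=
      Set.mem_image_of_mem _ ((hle s).trans inf_le_left (show (hO s).fromSpec z ∈ (O s : Set S') from (hO s).range_fromSpec.subset (Set.mem_range_self z)))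
    rw [hW] at this
    exact this
  let k := fun s : W => IsOpenImmersion.lift g ((hO s).fromSpec ≫ f) (hfac s)
  have hk : ∀ s, k s ≫ g = (hO s).fromSpec ≫ f := fun s => IsOpenImmersion.lift_fac _ _ _
  let ψ := fun s : W => (Spec.preimage (k s)).hom
  have hψ : ∀ s, Spec.map (CommRingCat.ofHom (ψ s)) = k s := fun s => by simp [ψ]
  refine ⟨t, inferInstance, fun i => Γ(S', O i), fun _ => inferInstance, fun i => (ψ i).toAlgebra,
    fun i => ?_, fun q => ?_, fun i => ?_⟩
  · haveI : Flat (k i ≫ g) := by rw [hk]; infer_instance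
    haveI : Flat (k i) := MorphismProperty.of_isPullback (P := @Flat)
      (IsPullback.of_horiz_isIso_mono (fst := 𝟙 _) (snd := k i) (f := k i ≫ g) (g := g) ⟨by simp⟩) ‹_›
    have h : Flat (Spec.map (CommRingCat.ofHom (ψ i))) := by rw [hψ]; infer_instance
    exact (HasRingHomProperty.Spec_iff (P := @Flat)).1 h
  · obtain ⟨s, hs, hfs⟩ : g q ∈ f '' (W : Set S') := by rw [hW]; exact ⟨q, rfl⟩
    obtain ⟨i, hi, hsi⟩ := Set.mem_iUnion₂.1 (ht hs)
    obtain ⟨z, rfl⟩ : s ∈ Set.range (hO i).fromSpec := (hO i).range_fromSpec.symm ▸ hsi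
    refine ⟨⟨i, hi⟩, z, g.isOpenEmbedding.injective ?_⟩
    show g (Spec.map (CommRingCat.ofHom (ψ i)) z) = g q
    rw [hψ, ← Scheme.Hom.comp_apply, hk, ← hfs]
    rfl
  · obtain ⟨M, _, hfg, ⟨e⟩⟩ := hP (i : W)
    refine ⟨M, inferInstance, hfg, ⟨?_⟩⟩
    have hj : Set.range (hO i).fromSpec ⊆ Set.range (U (i : W)).ι := by
      rw [(hO i).range_fromSpec, Scheme.Opens.range_ι]
      exact (hle i).trans inf_le_right
    refine charsFactor (b := IsOpenImmersion.lift _ _ hj) ?_ H ((charsDS _ M).transport e)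
    show Spec.map (CommRingCat.ofHom (ψ i)) ≫ g = _
    rw [hψ, hk, IsOpenImmersion.lift_fac_assoc]

theorem isMT_of_ft {H : Over S} [GrpObj H] (hH : SGA3x.IsMultTypeFT H) : IsMT H := by
  obtain ⟨S', f, h1, h2, h3, h4⟩ := hH
  refine ⟨S', f, h1, h2, h3, fun s => ?_⟩
  obtain ⟨U, hU, M, i, -, h⟩ := h4 s
  exact ⟨U, hU, M, i, h⟩

/-- An affine model over an affine piece, split, with finite type. -/
theorem exists_model_ft {R : Type u} [CommRing R] (hH : SGA3x.IsMultTypeFT H) (g : Spec (CommRingCat.of R) ⟶ S)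
    [IsOpenImmersion g] :
    ∃ (A : Type u) (_ : CommRing A) (_ : HopfAlgebra R A) (j : A →ₗ[R] R),
      MultTypeLib.IsInt j ∧ IsSplit (R := R) A ∧ Algebra.FiniteType R A ∧
        Nonempty (Grp.mk (CoactBr.sp R A) ≅ Grp.mk (Red.bc g H)) := by
  obtain ⟨A, i1, i2, j, hj, ⟨e⟩⟩ := exists_model (isMT_of_ft hH) g
  obtain ⟨J, hJ, T, _, _, hflat, hcov, hC⟩ := exists_charts_ft hH g
  haveI := hflat
  haveI hff := MultTypeLib.faithfullyFlat_pi (R := R) T hcov
  refine ⟨A, i1, i2, j, hj, ⟨J, hJ, T, inferInstance, inferInstance, hff, fun i => ?_⟩,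
    finiteType_of_charts T fun i => ?_, ⟨e⟩⟩
  · obtain ⟨M, _, -, ⟨C⟩⟩ := hC i
    obtain ⟨E⟩ := nonempty_bialgEquiv e C
    exact ⟨ULift.{u} (Multiplicative M), inferInstance,
      ⟨E.trans (MonoidAlgebra.domCongrBialgEquiv (T i) (T i) MulEquiv.ulift.symm)⟩⟩
  · obtain ⟨M, _, hfg, ⟨C⟩⟩ := hC i
    obtain ⟨E⟩ := nonempty_bialgEquiv e C
    haveI : Group.FG (Multiplicative M) := AddGroup.fg_iff_mul_fg.1 hfg
    haveI : Monoid.FG (Multiplicative M) := Group.fg_iff_monoid_fg.1 ‹_›
    exact Algebra.FiniteType.equiv (inferInstanceAs (Algebra.FiniteType (T i) (MonoidAlgebra (T i) (Multiplicative M))))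
      (E : T i ⊗[R] A ≃ₐ[T i] MonoidAlgebra (T i) (Multiplicative M)).symm

/-- The kernel of `u` on points with values in algebras of finite type is cut out by finitely many equations. -/
def KerFG (u : H ⟶ G) : Prop :=
  ∀ {R : Type u} [CommRing R] (g : Spec (CommRingCat.of R) ⟶ S) [IsOpenImmersion g] (A : Type u) [CommRing A]
    [Algebra R A] [Algebra.FiniteType R A] (w : Pts (Red.bc g H) A), ∃ I : Ideal A, I.FG ∧
      ∀ {B : Type u} [CommRing B] [Algebra R B] (f : A →ₐ[R] B),
        pmap f (w ≫ (Over.pullback g).map u) = 1 ↔ ∀ x ∈ I, f x = 0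

set_option maxHeartbeats 800000 in
theorem kerFG_of_base [IsSeparated G.hom] (hG : IsLocallyNoetherian S ∨ LocallyOfFiniteType G.hom) : KerFG u := by
  intro R _ g _ A _ _ hft w
  haveI : IsSeparated (Red.bc g G).hom := MorphismProperty.pullback_snd G.hom g inferInstance
  obtain ⟨I, hIfg, hI⟩ := exists_kernel_ideal (w ≫ (Over.pullback g).map u)
  refine ⟨I, ?_, hI⟩
  rcases hG with h | h
  · clear hI hIfg
    haveI := h
    haveI : IsLocallyNoetherian (Spec (CommRingCat.of R)) := isLocallyNoetherian_of_isOpenImmersion g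
    haveI : IsNoetherianRing R := isLocallyNoetherian_Spec.1 ‹_›
    haveI := Algebra.FiniteType.isNoetherianRing R A
    exact IsNoetherian.noetherian I
  · exact hIfg (MorphismProperty.pullback_snd G.hom g h)

variable (hH : SGA3x.IsMultTypeFT H) (hker : KerFG u)

include hH hker in
/-- Over an affine piece the triviality locus is cut out by an idempotent. -/
theorem exists_idempotent_chart [IsMonHom u] {R : Type u} [CommRing R] (g : Spec (CommRingCat.of R) ⟶ S)
    [IsOpenImmersion g] :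
    ∃ ε : R, IsIdempotentElem ε ∧ ∀ (C : Type u) [CommRing C] [Algebra R C],
      Triv u (Spec.map (CommRingCat.ofHom (algebraMap R C)) ≫ g) ↔ algebraMap R C ε = 0 := by
  obtain ⟨A, _, _, j, hj, hA, hft, ⟨e⟩⟩ := exists_model_ft hH g
  haveI := hft
  haveI : IsMonHom ((Over.pullback g).map u) := by
    refine TorsorSch25.isMonHom_of_points _ fun T a b => fl_injective g G ?_
    rw [fl_comp_map, fl_mul, fl_mul, fl_comp_map, fl_comp_map, MonObj.mul_comp]
  obtain ⟨I, hIfg, hI⟩ := hker g A e.hom.hom.hom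
  obtain ⟨ε, hε, hC⟩ := exists_idempotent' e hA hj ((Over.pullback g).map u) I hIfg hI
  exact ⟨ε, hε, fun C _ _ => ((triv_bc_iff u g _).symm.trans (triv_specMap_iff e _ C)).trans (hC C)⟩

include hH hker in
/-- The triviality locus is open and closed and `u` is trivial on it. -/
theorem exists_triv_locus' [IsMonHom u] :
    ∃ U : S.Opens, IsClosed (U : Set S) ∧ (∀ s : S, s ∈ U ↔ Triv u (S.fromSpecResidueField s)) ∧ Triv u U.ι := by
  let U₀ : Set S := {s | Triv u (S.fromSpecResidueField s)}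
  have key : ∀ (R : Type u) [CommRing R] (g : Spec (CommRingCat.of R) ⟶ S) [IsOpenImmersion g],
      ∃ ε : R, IsIdempotentElem ε ∧ g ⁻¹' U₀ = (PrimeSpectrum.basicOpen (1 - ε) : Set (PrimeSpectrum R)) ∧
        Triv u (Spec.map (CommRingCat.ofHom (algebraMap R (Localization.Away (1 - ε)))) ≫ g) := by
    intro R _ g _
    obtain ⟨ε, hε, hC⟩ := exists_idempotent_chart u hH hker g
    refine ⟨ε, hε, Set.ext fun q => ?_, (hC _).2 ?_⟩
    · let X := Spec (CommRingCat.of R)
      let K := X.residueField q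
      let χ : R →+* K := (Spec.preimage (X.fromSpecResidueField q)).hom
      letI : Algebra R K := χ.toAlgebra
      have hχ : Spec.map (CommRingCat.ofHom (algebraMap R K)) = X.fromSpecResidueField q := by
        show Spec.map (CommRingCat.ofHom χ) = _
        rw [CommRingCat.ofHom_hom, Spec.map_preimage]
      have hq : ∀ r, algebraMap R K r = 0 ↔ r ∈ (q : PrimeSpectrum R).asIdeal := by
        intro r
        have h1 : PrimeSpectrum.comap (algebraMap R K) (IsLocalRing.closedPoint K) = q := by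
          have h2 : X.fromSpecResidueField q (IsLocalRing.closedPoint K) = q := Scheme.fromSpecResidueField_apply _ _
          rw [← hχ] at h2
          exact h2
        refine Iff.trans ?_ (Iff.of_eq (congrArg (fun p : PrimeSpectrum R => r ∈ p.asIdeal) h1))
        show algebraMap R K r = 0 ↔ algebraMap R K r ∈ (IsLocalRing.closedPoint K).asIdeal
        simp [IsLocalRing.closedPoint, IsLocalRing.maximalIdeal_eq_bot]
      have h1 : Triv u (X.fromSpecResidueField q ≫ g) ↔ Triv u (S.fromSpecResidueField (g q)) := by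
        rw [← Scheme.Hom.SpecMap_residueFieldMap_fromSpecResidueField]
        refine ⟨fun h => ?_, fun h => triv_comp u h _⟩
        have h3 := triv_comp u h (inv (Spec.map (g.residueFieldMap q)))
        rwa [IsIso.inv_hom_id_assoc] at h3
      show Triv u (S.fromSpecResidueField (g q)) ↔ _
      rw [← h1, ← hχ, hC, hq]
      have h10 : ε ∈ (q : PrimeSpectrum R).asIdeal ↔ (1 - ε) ∉ (q : PrimeSpectrum R).asIdeal := by
        refine ⟨fun h h' => (q : PrimeSpectrum R).isPrime.ne_top ((Ideal.eq_top_iff_one _).2 ?_), fun h => ?_⟩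
        · simpa using Ideal.add_mem _ h h'
        · exact ((q : PrimeSpectrum R).isPrime.mem_or_mem (by
            rw [show ε * (1 - ε) = 0 by rw [mul_sub, _root_.mul_one, hε, sub_self]]; exact zero_mem _)).resolve_right h
      exact h10
    · have hu := IsLocalization.Away.algebraMap_isUnit (S := Localization.Away (1 - ε)) (1 - ε)
      refine hu.mul_left_eq_zero.1 ?_
      rw [← map_mul, show ε * (1 - ε) = 0 by rw [mul_sub, _root_.mul_one, hε, sub_self], map_zero]
  have hloc : ∀ s : S, ∃ (R : Type u) (_ : CommRing R) (g : Spec (CommRingCat.of R) ⟶ S),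
      IsOpenImmersion g ∧ s ∈ Set.range g := fun s => by
    obtain ⟨V, hV, hsV, -⟩ := exists_isAffineOpen_mem_and_subset (x := s) (U := ⊤) trivial
    exact ⟨Γ(S, V), inferInstance, hV.fromSpec, inferInstance, by rw [hV.range_fromSpec]; exact hsV⟩
  have hopen : IsOpen U₀ := by
    refine isOpen_iff_forall_mem_open.2 fun s hs => ?_
    obtain ⟨R, _, g, hg, q, rfl⟩ := hloc s
    obtain ⟨ε, hε, heq, -⟩ := key R g
    exact ⟨g '' (g ⁻¹' U₀), Set.image_preimage_subset _ _,
      g.isOpenEmbedding.isOpenMap _ (heq ▸ (PrimeSpectrum.basicOpen (1 - ε)).2), q, hs, rfl⟩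
  have hclosed : IsClosed U₀ := by
    refine isOpen_compl_iff.1 (isOpen_iff_forall_mem_open.2 fun s hs => ?_)
    obtain ⟨R, _, g, hg, q, rfl⟩ := hloc s
    obtain ⟨ε, hε, heq, -⟩ := key R g
    refine ⟨g '' (g ⁻¹' U₀)ᶜ, ?_, g.isOpenEmbedding.isOpenMap _ ?_, q, hs, rfl⟩
    · rintro _ ⟨x, hx, rfl⟩; exact hx
    · rw [heq]
      exact isOpen_compl_iff.2 (PrimeSpectrum.isClopen_iff.2 ⟨1 - ε, hε.one_sub, rfl⟩).1
  let U : S.Opens := ⟨U₀, hopen⟩
  refine ⟨U, hclosed, fun s => Iff.rfl, triv_of_cover u U.ι fun x => ?_⟩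
  obtain ⟨R, _, g, hg, q, hq⟩ := hloc (U.ι x)
  obtain ⟨ε, hε, heq, ht⟩ := key R g
  have hmem : q ∈ g ⁻¹' U₀ := by
    show g q ∈ U₀
    rw [hq]; exact x.2
  rw [heq] at hmem
  haveI : IsOpenImmersion (Spec.map (CommRingCat.ofHom (algebraMap R (Localization.Away (1 - ε))))) :=
    IsOpenImmersion.of_isLocalization (1 - ε)
  refine ⟨_, _, inferInstance, ?_, ht⟩
  obtain ⟨z, hz⟩ : q ∈ Set.range (PrimeSpectrum.comap (algebraMap R (Localization.Away (1 - ε)))) := by
    rw [PrimeSpectrum.localization_away_comap_range (Localization.Away (1 - ε)) (1 - ε)]; exact hmem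
  exact ⟨z, by rw [← hq, ← hz]; rfl⟩

omit hker in
include hH in
/-- The triviality locus is open and closed and `u` is trivial on it. -/
theorem exists_triv_locus [IsMonHom u] [IsSeparated G.hom] (hG : IsLocallyNoetherian S ∨ LocallyOfFiniteType G.hom) :
    ∃ U : S.Opens, IsClosed (U : Set S) ∧ (∀ s : S, s ∈ U ↔ Triv u (S.fromSpecResidueField s)) ∧ Triv u U.ι :=
  exists_triv_locus' u hH (kerFG_of_base u hG)

end Groth.Agent.MTRigid29
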