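import Groth.Agent.Lib.MTRigid29.HomLocus
import Groth.Agent.Lib.MTRigid29.NormalCentral
import Groth.Agent.Lib.MTRigid29.CentralizerNormalizer

/-!
# Maps of split groups of multiplicative type over any base
-/

set_option autoImplicit false
set_option linter.style.haveILetI false
set_option linter.unusedSectionVars false
set_option backward.isDefEq.respectTransparency.types false
set_option maxSynthPendingDepth 3

universe u

open CategoryTheory Limits MonoidalCategory CartesianMonoidalCategory MonObj AlgebraicGeometry Opposite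

noncomputable section

namespace Groth.Agent.MTRigid29

open DiagGL

variable {S : Scheme.{u}} {H₁ H₂ H₃ : Over S} [GrpObj H₁] [GrpObj H₂] [GrpObj H₃]
  {M₁ M₂ M₃ : Type} [AddCommGroup M₁] [AddCommGroup M₂] [AddCommGroup M₃]
  (C₁ : Chars M₁ H₁) (C₂ : Chars M₂ H₂) (C₃ : Chars M₃ H₃)

/-- The homomorphism given by a map of characters, over any base. -/
def mapChS (φ : M₂ →+ M₁) : H₁ ⟶ H₂ :=
  (C₂.surj (T := H₁) ((C₁.ch (𝟙 H₁)).comp φ.toMultiplicative)).choose

theorem ch_mapChS (φ : M₂ →+ M₁) {T : Over S} (x : T ⟶ H₁) (m : Multiplicative M₂) :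
    C₂.ch (x ≫ mapChS C₁ C₂ φ) m = C₁.ch x (φ.toMultiplicative m) := by
  rw [C₂.nat, mapChS, (C₂.surj (T := H₁) ((C₁.ch (𝟙 H₁)).comp φ.toMultiplicative)).choose_spec, MonoidHom.comp_apply,
    ← C₁.nat, Category.comp_id]

instance isMonHom_mapChS (φ : M₂ →+ M₁) : IsMonHom (mapChS C₁ C₂ φ) :=
  TorsorSch25.isMonHom_of_points _ fun T a b => C₂.inj fun m => by
    rw [ch_mapChS, C₂.mul, ch_mapChS, ch_mapChS, C₁.mul]

theorem mapChS_comp (φ : M₂ →+ M₁) (ψ : M₃ →+ M₂) :
    mapChS C₁ C₂ φ ≫ mapChS C₂ C₃ ψ = mapChS C₁ C₃ (φ.comp ψ) := C₃.inj fun m => by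
  rw [ch_mapChS, ← Category.id_comp (mapChS C₁ C₂ φ), ch_mapChS, ← Category.id_comp (mapChS C₁ C₃ (φ.comp ψ)),
    ch_mapChS]
  rfl

theorem mapChS_zero : mapChS C₁ C₂ (0 : M₂ →+ M₁) = 1 := C₂.inj fun m => by
  rw [← Category.id_comp (mapChS C₁ C₂ 0), ch_mapChS, C₂.one]
  exact map_one _

theorem mapChS_id : mapChS C₁ C₁ (AddMonoidHom.id M₁) = 𝟙 H₁ := C₁.inj fun m => by
  rw [← Category.id_comp (mapChS C₁ C₁ (AddMonoidHom.id M₁)), ch_mapChS]
  rfl

theorem mono_mapChS {φ : M₂ →+ M₁} (hφ : Function.Surjective φ) : Mono (mapChS C₁ C₂ φ) :=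
  ⟨fun a b h => C₁.inj fun m => by
    obtain ⟨n, hn⟩ := hφ m.toAdd
    have h' := congrArg (fun z => C₂.ch z (Multiplicative.ofAdd n)) h
    simp only [ch_mapChS] at h'
    rw [show φ.toMultiplicative (Multiplicative.ofAdd n) = m from congrArg Multiplicative.ofAdd hn] at h'
    exact h'⟩

theorem pullback_map_mapChS {S' : Scheme.{u}} (k : S' ⟶ S) (φ : M₂ →+ M₁) :
    (Over.pullback k).map (mapChS C₁ C₂ φ) = mapChS (C₁.baseChange k H₁) (C₂.baseChange k H₂) φ := by
  refine (C₂.baseChange k H₂).inj fun a => ?_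
  conv_rhs => rw [← Category.id_comp (mapChS (C₁.baseChange k H₁) (C₂.baseChange k H₂) φ), ch_mapChS]
  show C₂.ch (fl k H₂ ((Over.pullback k).map (mapChS C₁ C₂ φ))) a = C₁.ch (fl k H₁ (𝟙 _)) _
  conv_lhs => rw [← Category.id_comp ((Over.pullback k).map (mapChS C₁ C₂ φ)), fl_comp_map, ch_mapChS]

theorem mapChS_eq_mapChar {R : Type u} [CommRing R] {G₁ G₂ : Over (Spec (CommRingCat.of R))} [GrpObj G₁] [GrpObj G₂]
    (D₁ : Chars M₁ G₁) (D₂ : Chars M₂ G₂) (φ : M₂ →+ M₁) : mapChS D₁ D₂ φ = mapChar D₁ D₂ φ :=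
  D₂.inj fun m => by
    rw [← Category.id_comp (mapChS D₁ D₂ φ), ch_mapChS, ← Category.id_comp (mapChar D₁ D₂ φ), ch_mapChar]

/-- A map of characters which is injective gives a faithfully flat homomorphism. -/
theorem flat_surjective_mapChS {φ : M₂ →+ M₁} (hφ : Function.Injective φ) :
    Flat (mapChS C₁ C₂ φ).left ∧ Surjective (mapChS C₁ C₂ φ).left := by
  let P : MorphismProperty Scheme.{u} := @Flat ⊓ @Surjective
  have h : MapP P (mapChS C₁ C₂ φ) (𝟙 S) := mapP_of_cover P _ _ fun x => by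
    obtain ⟨V, hV, hxV, -⟩ := exists_isAffineOpen_mem_and_subset (x := x) (U := ⊤) trivial
    refine ⟨_, hV.fromSpec, inferInstance, by rw [hV.range_fromSpec]; exact hxV, ?_⟩
    rw [Category.comp_id]
    show P ((Over.pullback hV.fromSpec).map (mapChS C₁ C₂ φ)).left
    rw [pullback_map_mapChS, mapChS_eq_mapChar]
    exact flat_surjective_mapChar _ _ hφ
  have hsq := isPullback_map_left (𝟙 S) (mapChS C₁ C₂ φ)
  exact (MorphismProperty.arrow_mk_iso_iff P
    (Arrow.isoMk (asIso (pullback.fst H₁.hom (𝟙 S))) (asIso (pullback.fst H₂.hom (𝟙 S))) hsq.w)).1 h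

/-- A homomorphism into an affine group is quasi-compact. -/
theorem quasiCompact_left [QuasiCompact H₁.hom] [IsSeparated H₂.hom] (u : H₁ ⟶ H₂) : QuasiCompact u.left := by
  haveI : QuasiCompact (u.left ≫ H₂.hom) := by rw [Over.w u]; infer_instance
  exact QuasiCompact.of_comp u.left H₂.hom

/-- The transport of characters along a composite base change. -/
def charsComp {S' S'' : Scheme.{u}} (g : S' ⟶ S) (k : S'' ⟶ S') (H : Over S) [GrpObj H] {M : Type} [AddCommGroup M]
    (C : Chars M (Red.bc k (Red.bc g H))) : Chars M (Red.bc (k ≫ g) H) :=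
  let i : ∀ T : Over S'', (Over.map (k ≫ g)).obj T ≅ (Over.map g).obj ((Over.map k).obj T) :=
    fun T => Over.isoMk (Iso.refl _) (by simp)
  let p : ∀ {T : Over S''}, (T ⟶ Red.bc (k ≫ g) H) → (T ⟶ Red.bc k (Red.bc g H)) := fun {T} x =>
    (Over.mapPullbackAdj k).homEquiv _ _ ((Over.mapPullbackAdj g).homEquiv _ _ ((i T).inv ≫ fl (k ≫ g) H x))
  have hp : ∀ {T : Over S''} (x : T ⟶ Red.bc (k ≫ g) H),
      fl g H (fl k (Red.bc g H) (p x)) = (i T).inv ≫ fl (k ≫ g) H x := fun {T} x => by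
    simp only [p, fl, Equiv.symm_apply_apply]
  { ch := fun {T} x => C.ch (p x)
    nat := fun {T T'} t x a => by
      rw [show p (t ≫ x) = t ≫ p x from fl_injective k _ (fl_injective g H (by
        rw [hp, fl_comp, fl_comp, fl_comp, hp, ← Category.assoc, ← Category.assoc]
        congr 1))]
      exact C.nat t (p x) a
    mul := fun {T} x y a => by
      rw [show p (x * y) = p x * p y from fl_injective k _ (fl_injective g H (by
        rw [hp, fl_mul, fl_mul, fl_mul, hp, hp, MonObj.comp_mul])), C.mul]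
    inj := fun {T} x y h => fl_injective (k ≫ g) H ((cancel_epi (i T).inv).1 (by rw [← hp, ← hp, C.inj h]))
    surj := fun {T} c => by
      obtain ⟨z, hz⟩ := C.surj c
      obtain ⟨x, hx⟩ := fl_surjective (k ≫ g) H ((i T).hom ≫ fl g H (fl k _ z))
      refine ⟨x, ?_⟩
      rw [show p x = z from fl_injective k _ (fl_injective g H (by rw [hp, hx, Iso.inv_hom_id_assoc]))]
      exact hz }

/-- Around every point a group of multiplicative type splits over a field. -/
theorem exists_split_point {G : Over S} [GrpObj G] (hG : SGA3x.IsMultTypeFT G) (s : S) :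
    ∃ (K : Type u) (_ : Field K) (k : Spec (CommRingCat.of K) ⟶ S) (M : Type) (_ : AddCommGroup M),
      AddGroup.FG M ∧ k (IsLocalRing.closedPoint K) = s ∧ Nonempty (Chars M (Red.bc k G)) := by
  obtain ⟨S', f, -, hsurj, -, hloc⟩ := hG
  obtain ⟨s', rfl⟩ := f.surjective s
  obtain ⟨U, hU, M, _, hfg, ⟨e⟩⟩ := hloc s'
  let z : U.toScheme := ⟨s', hU⟩
  let k₀ : Spec (CommRingCat.of ((U : Scheme.{u}).residueField z : Type u)) ⟶ U := (U : Scheme.{u}).fromSpecResidueField z
  refine ⟨((U : Scheme.{u}).residueField z : Type u), inferInstance, k₀ ≫ U.ι ≫ f, M, inferInstance, hfg, ?_,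
    ⟨charsComp (U.ι ≫ f) k₀ G (((charsDS _ M).transport e).baseChange k₀ _)⟩⟩
  show f (U.ι ((U : Scheme.{u}).fromSpecResidueField z _)) = f s'
  rw [Scheme.fromSpecResidueField_apply]
  rfl

/-- A property stable under descent holds at a point as soon as it holds at a field point over it. -/
theorem mapP_residue_of_field (P : MorphismProperty Scheme.{u}) [P.IsStableUnderBaseChange]
    [P.DescendsAlong (@Surjective ⊓ @Flat ⊓ @QuasiCompact)] {G H : Over S} (u : G ⟶ H) {K : Type u} [Field K]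
    (k : Spec (CommRingCat.of K) ⟶ S) (h : MapP P u k) :
    MapP P u (S.fromSpecResidueField (k (IsLocalRing.closedPoint K))) := by
  let x : Spec (CommRingCat.of K) := IsLocalRing.closedPoint K
  haveI : Surjective ((Spec (CommRingCat.of K)).fromSpecResidueField x) := ⟨fun p =>
    ⟨IsLocalRing.closedPoint _, Subsingleton.elim _ _⟩⟩
  have h1 := (mapP_residue P u k x (𝟙 S)).2 (by
    rw [Category.comp_id]
    exact mapP_comp P u h ((Spec (CommRingCat.of K)).fromSpecResidueField x))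
  rwa [Category.comp_id] at h1

/-- A homomorphism of split groups over a field is given by a map of characters. -/
theorem exists_mapChS_field {K : Type u} [Field K] {G₁ G₂ : Over (Spec (CommRingCat.of K))} [GrpObj G₁] [GrpObj G₂]
    (D₁ : Chars M₁ G₁) (D₂ : Chars M₂ G₂) [AddGroup.FG M₂] (v : G₁ ⟶ G₂) [IsMonHom v] :
    ∃ φ : M₂ →+ M₁, v = mapChS D₁ D₂ φ := by
  obtain ⟨f, hf, φ, hφ⟩ := exists_local_mapChar D₁ D₂ v (IsLocalRing.closedPoint K)
  have hf0 : f ≠ 0 := fun h => hf (h ▸ zero_mem _)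
  refine ⟨φ, ?_⟩
  rw [mapChS_eq_mapChar, ← Category.id_comp v, hφ G₁ ((isUnit_iff_ne_zero.2 hf0).map _) (𝟙 _), Category.id_comp]

theorem surjective_of_mono_mapChS {K : Type u} [Field K] {G₁ G₂ : Over (Spec (CommRingCat.of K))} [GrpObj G₁]
    [GrpObj G₂] (D₁ : Chars M₁ G₁) (D₂ : Chars M₂ G₂) (φ : M₂ →+ M₁) [Mono (mapChS D₁ D₂ φ)] :
    Function.Surjective φ := by
  haveI : Mono (mapChar D₁ D₂ φ) := by rw [← mapChS_eq_mapChar]; infer_instance
  exact surjective_of_mono D₁ D₂

theorem chars_split {G : Over S} [GrpObj G] {M : Type} [AddCommGroup M] (C : Chars M G) :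
    Red.IsSplitTorusWith M G := nonempty_grpIso_of_chars C (charsDS S M)

theorem nonempty_bcId' {H : Over S} [GrpObj H] {M : Type} [AddCommGroup M] (C : Chars M H) :
    Nonempty (Chars M (Red.bc (𝟙 S) H)) := ⟨C.baseChange _ H⟩

theorem isMT_of_chars {G : Over S} [GrpObj G] {M : Type} [AddCommGroup M] (C : Chars M G) : IsMT G :=
  ⟨S, 𝟙 S, inferInstance, inferInstance, fun V hV => ⟨V, hV.isCompact, by simp⟩,
    fun s => ⟨⊤, trivial, M, inferInstance,
      nonempty_grpIso_of_chars (C.baseChange _ G) (charsDS _ M)⟩⟩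

theorem isMultTypeFT_of_chars {G : Over S} [GrpObj G] {M : Type} [AddCommGroup M] [AddGroup.FG M] (C : Chars M G) :
    SGA3x.IsMultTypeFT G :=
  ⟨S, 𝟙 S, inferInstance, inferInstance, fun V hV => ⟨V, hV.isCompact, by simp⟩,
    fun s => ⟨⊤, trivial, M, inferInstance, ‹_›, nonempty_grpIso_of_chars (C.baseChange _ G) (charsDS _ M)⟩⟩

end Groth.Agent.MTRigid29
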