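import Groth.Agent.Lib.SchDesc12.Effective
import Groth.Agent.Lib.FpqcDesc.Basic
import Mathlib.AlgebraicGeometry.Morphisms.Etale

/-!
# Descent of properties along fpqc families
-/

set_option autoImplicit false
set_option backward.isDefEq.respectTransparency false
set_option backward.isDefEq.respectTransparency.types false

universe u

open CategoryTheory CategoryTheory.Limits AlgebraicGeometry

namespace Groth.Agent.MTRigid29

/-- A property local on the target which descends along flat quasi-compact surjections descends along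
fpqc families. -/
theorem prop_of_fpqc_cover {S X : Scheme.{u}} {κ : Type u} {V : κ → Scheme.{u}} (f : ∀ i, V i ⟶ S)
    (hf : Presieve.ofArrows V f ∈ Scheme.fpqcPrecoverage S) (P : MorphismProperty Scheme.{u})
    [P.IsStableUnderBaseChange] [IsZariskiLocalAtTarget P]
    [P.DescendsAlong (@Surjective ⊓ @Flat ⊓ @QuasiCompact)] (g : X ⟶ S)
    (h : ∀ i, P (pullback.snd g (f i))) : P g := by
  obtain ⟨hflat, hqc⟩ := GrpQuot.SubDesc.flat_and_isQCCovering f hf
  refine (IsZariskiLocalAtTarget.iff_of_openCover (P := P) S.affineCover).2 fun j => ?_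
  let U : S.affineOpens := ⟨(S.affineCover.f j).opensRange, isAffineOpen_opensRange _⟩
  obtain ⟨n, a, W, hW, hWa, hsurj⟩ := SchDesc12.exists_affine_cover_open hqc U
  let Y : ULift.{u} (Fin n) → Scheme.{u} := fun k => (W k.down).toScheme
  haveI : ∀ k, IsAffine (Y k) := fun k => hWa k.down
  let c : ∀ k, Y k ⟶ U.1.toScheme := fun k => (f (a k.down)).resLE U.1 (W k.down) (hW k.down)
  let q := Limits.Sigma.desc c
  haveI : IsAffine U.1.toScheme := U.2
  haveI : Flat q := IsZariskiLocalAtSource.sigmaDesc fun k => IsZariskiLocalAtSource.resLE _ (hflat _)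
  haveI : Surjective q := ⟨fun v => by
    obtain ⟨k, y, hy⟩ := hsurj v
    exact ⟨Sigma.ι Y ⟨k⟩ y, by rw [← Scheme.Hom.comp_apply, Sigma.ι_desc]; exact hy⟩⟩
  haveI : IsAffine (∐ Y) := inferInstance
  have key : P (pullback.snd g U.1.ι) := by
    refine MorphismProperty.of_isPullback_of_descendsAlong (Q := @Surjective ⊓ @Flat ⊓ @QuasiCompact)
      (IsPullback.of_hasPullback (pullback.snd g U.1.ι) q).flip ⟨⟨inferInstance, inferInstance⟩, inferInstance⟩ ?_
    refine (IsZariskiLocalAtTarget.iff_of_openCover (P := P) (sigmaOpenCover Y)).2 fun k => ?_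
    have sq := ((IsPullback.of_hasPullback (pullback.snd (pullback.snd g U.1.ι) q) (Sigma.ι Y k)).paste_horiz
      (IsPullback.of_hasPullback (pullback.snd g U.1.ι) q)).paste_horiz (IsPullback.of_hasPullback g U.1.ι)
    change P (pullback.snd (pullback.snd (pullback.snd g U.1.ι) q) (Sigma.ι Y k))
    rw [← sq.isoPullback_hom_snd]
    refine (P.cancel_left_of_respectsIso _ _).2 ?_
    have hι : (Sigma.ι Y k ≫ q) ≫ U.1.ι = (W k.down).ι ≫ f (a k.down) := by
      rw [show Sigma.ι Y k ≫ q = c k from Sigma.ι_desc _ _]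
      exact Scheme.Hom.resLE_comp_ι _ _
    rw [hι]
    have sq2 := (IsPullback.of_hasPullback (pullback.snd g (f (a k.down))) (W k.down).ι).paste_horiz
      (IsPullback.of_hasPullback g (f (a k.down)))
    rw [← sq2.isoPullback_inv_snd]
    exact (P.cancel_left_of_respectsIso _ _).2 (P.pullback_snd _ _ (h _))
  show P (pullback.snd g (S.affineCover.f j))
  have hj : (S.affineCover.f j).isoOpensRange.hom ≫ U.1.ι = S.affineCover.f j := by
    simp [U]
  rw [← hj]
  have sq3 := (IsPullback.of_hasPullback (pullback.snd g U.1.ι) (S.affineCover.f j).isoOpensRange.hom).paste_horiz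
      (IsPullback.of_hasPullback g U.1.ι)
  rw [← sq3.isoPullback_inv_snd]
  exact (P.cancel_left_of_respectsIso _ _).2 (P.pullback_snd _ _ key)

end Groth.Agent.MTRigid29
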