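import Groth.Agent.Lib.MTRigid29.RepDesc
import Groth.Agent.Lib.DiagGL.Chars
import Groth.Agent.Lib.SchDesc12.IndQuasiAffine
import Groth.Agent.Lib.SchDesc12.LQF
import Groth.Agent.Lib.IndQA12.Calculus
import Groth.Prelude.Def_AutFam
import Groth.Prelude.Def_Red

/-!
# The functor of homomorphisms between two groups

It is a sheaf for the fpqc topology, commutes with base change, and is representable as soon as it is
so locally with effective descent data.
-/

set_option autoImplicit false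
set_option backward.isDefEq.respectTransparency false
set_option backward.isDefEq.respectTransparency.types false
set_option maxSynthPendingDepth 3

universe u

open CategoryTheory Limits MonoidalCategory CartesianMonoidalCategory MonObj AlgebraicGeometry Opposite

noncomputable section

namespace Groth.Agent.MTRigid29

open AutFam DiagGL

section Sheaf

variable {S : Scheme.{u}} (G H : Over S) [GrpObj G] [GrpObj H]

variable {G H} in
theorem isHomFamily_comp {T T' : Over S} (a : T' ⟶ T) {φ : G ⊗ T ⟶ H} (hφ : IsHomFamily G H φ) :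
    IsHomFamily G H ((G ◁ a) ≫ φ) := fun X g₁ g₂ t => by
  simp only [lift_whiskerLeft_assoc]
  exact hφ X g₁ g₂ (t ≫ a)

/-- The presheaf of homomorphism families. -/
def homFunctor : (Over S)ᵒᵖ ⥤ Type u where
  obj T := {φ : G ⊗ T.unop ⟶ H // IsHomFamily G H φ}
  map a := TypeCat.ofHom fun φ => ⟨(G ◁ a.unop) ≫ φ.1, isHomFamily_comp a.unop φ.2⟩
  map_id T := by
    ext φ
    show ((G ◁ 𝟙 T.unop) ≫ φ.1).left = φ.1.left
    simp
  map_comp a b := by
    ext φ
    show ((G ◁ (b.unop ≫ a.unop)) ≫ φ.1).left = ((G ◁ b.unop) ≫ (G ◁ a.unop) ≫ φ.1).left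
    simp

theorem homFunctor_map_val {T T' : Over S} (a : T' ⟶ T) (φ : (homFunctor G H).obj (op T)) :
    ((homFunctor G H).map a.op φ).1 = (G ◁ a) ≫ φ.1 := rfl

theorem isSheaf_homFunctor : Presieve.IsSheaf (Scheme.fpqcTopology.over S) (homFunctor G H) := by
  intro T R hR x hx
  have hH : Presieve.IsSheaf (Scheme.fpqcTopology.over S) (yoneda.obj H) :=
    GrothendieckTopology.Subcanonical.isSheaf_of_isRepresentable _
  have hR' : R.pullback (snd G T) ∈ (Scheme.fpqcTopology.over S) (G ⊗ T) :=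
    (Scheme.fpqcTopology.over S).pullback_stable _ hR
  have hxg : ∀ {Y₁ Y₂ Z : Over S} (g₁ : Z ⟶ Y₁) (g₂ : Z ⟶ Y₂) (p₁ : Y₁ ⟶ T) (p₂ : Y₂ ⟶ T) (h₁ : R p₁) (h₂ : R p₂),
      g₁ ≫ p₁ = g₂ ≫ p₂ → (G ◁ g₁) ≫ (x p₁ h₁).1 = (G ◁ g₂) ≫ (x p₂ h₂).1 :=
    fun g₁ g₂ p₁ p₂ h₁ h₂ h => congrArg Subtype.val (hx g₁ g₂ h₁ h₂ h)
  have hlift : ∀ {Z U : Over S} (a : Z ⟶ G) (b : Z ⟶ U), lift a b = lift a (𝟙 Z) ≫ (G ◁ b) := by
    intro Z U a b
    simp only [lift_whiskerLeft, Category.id_comp]
  let y : Presieve.FamilyOfElements (yoneda.obj H) (R.pullback (snd G T)).arrows := fun {U} q hq =>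
    lift (q ≫ fst G T) (𝟙 U) ≫ (x (q ≫ snd G T) hq).1
  have hy : y.Compatible := by
    intro Y₁ Y₂ Z g₁ g₂ q₁ q₂ h₁ h₂ hg
    show g₁ ≫ lift (q₁ ≫ fst G T) (𝟙 Y₁) ≫ _ = g₂ ≫ lift (q₂ ≫ fst G T) (𝟙 Y₂) ≫ _
    rw [← Category.assoc g₁, comp_lift, Category.comp_id, hlift _ g₁, ← Category.assoc g₂, comp_lift,
      Category.comp_id, hlift _ g₂, Category.assoc, Category.assoc,
      hxg g₁ g₂ _ _ h₁ h₂ (by rw [reassoc_of% hg]), reassoc_of% hg]
  obtain ⟨φ, hφ, huniq⟩ := hH _ hR' y hy
  have hval : ∀ {U : Over S} (g : U ⟶ G) (p : U ⟶ T) (hp : R p),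
      lift g p ≫ φ = lift g (𝟙 U) ≫ (x p hp).1 := by
    intro U g p hp
    have hq : R (lift g p ≫ snd G T) := by rw [lift_snd]; exact hp
    refine (hφ (lift g p) hq).trans ?_
    show lift (lift g p ≫ fst G T) (𝟙 U) ≫ (x (lift g p ≫ snd G T) hq).1 = _
    simp only [lift_fst]
    congr 1
    have : ∀ (p' : U ⟶ T) (h' : R p') (_ : p' = p), (x p' h').1 = (x p hp).1 := by
      rintro p' h' rfl; rfl
    exact this _ hq (lift_snd _ _)
  have hfam : IsHomFamily G H φ := by
    intro X g₁ g₂ t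
    refine (hH _ ((Scheme.fpqcTopology.over S).pullback_stable t hR)).isSeparatedFor.ext fun U q hq => ?_
    show q ≫ (lift (g₁ * g₂) t ≫ φ) = q ≫ ((lift g₁ t ≫ φ) * (lift g₂ t ≫ φ))
    rw [MonObj.comp_mul, ← Category.assoc, ← Category.assoc, ← Category.assoc, comp_lift, comp_lift, comp_lift,
      hval _ _ hq, hval _ _ hq, hval _ _ hq, MonObj.comp_mul]
    exact (x (q ≫ t) hq).2 U _ _ (𝟙 U)
  refine ⟨⟨φ, hfam⟩, fun U p hp => ?_, fun φ' hφ' => ?_⟩
  · apply Subtype.ext
    show (G ◁ p) ≫ φ = (x p hp).1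
    have h := hval (fst G U) (snd G U ≫ p) (R.downward_closed hp _)
    rw [show lift (fst G U) (snd G U ≫ p) = G ◁ p by ext <;> simp] at h
    rw [h]
    have h2 := hxg (𝟙 _) (snd G U) (snd G U ≫ p) p (R.downward_closed hp _) hp (Category.id_comp _)
    rw [MonoidalCategory.whiskerLeft_id, Category.id_comp] at h2
    rw [h2, ← Category.assoc, ← hlift, lift_fst_snd, Category.id_comp]
  · refine Subtype.ext (huniq φ'.1 fun U q hq => ?_)
    show q ≫ φ'.1 = lift (q ≫ fst G T) (𝟙 U) ≫ (x (q ≫ snd G T) hq).1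
    rw [show (x (q ≫ snd G T) hq).1 = (G ◁ (q ≫ snd G T)) ≫ φ'.1 from
      (congrArg Subtype.val (hφ' (q ≫ snd G T) hq)).symm, ← Category.assoc, ← hlift]
    congr 1
    ext <;> simp

end Sheaf

section Bridge

variable {S S' : Scheme.{u}} (f : S' ⟶ S)

/-- The point of `X` underlying a point of its base change. -/
def lw (X : Over S) {T : Over S'} (x : T ⟶ Red.bc f X) : (Over.map f).obj T ⟶ X :=
  ((Over.mapPullbackAdj f).homEquiv T X).symm x

/-- An `S`-scheme with a map to the image of an `S'`-scheme is such an image. -/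
def mapObjIso {T : Over S'} {X : Over S} (t : X ⟶ (Over.map f).obj T) :
    (Over.map f).obj (Over.mk (t.left ≫ T.hom)) ≅ X :=
  Over.isoMk (Iso.refl _) (by
    show 𝟙 X.left ≫ X.hom = (t.left ≫ T.hom) ≫ f
    rw [Category.id_comp, Category.assoc]
    exact (Over.w t).symm)

/-- The lift of such a map. -/
def mapObjLift {T : Over S'} {X : Over S} (t : X ⟶ (Over.map f).obj T) :
    Over.mk (t.left ≫ T.hom) ⟶ T := Over.homMk t.left rfl

theorem map_mapObjLift {T : Over S'} {X : Over S} (t : X ⟶ (Over.map f).obj T) :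
    (Over.map f).map (mapObjLift f t) = (mapObjIso f t).hom ≫ t :=
  Over.OverMorphism.ext (Category.id_comp _).symm

variable (G H : Over S) [GrpObj G] [GrpObj H]

/-- The projection formula map. -/
def projHom (T : Over S') : (Over.map f).obj (Red.bc f G ⊗ T) ⟶ G ⊗ (Over.map f).obj T :=
  lift (fl f G (fst _ _)) ((Over.map f).map (snd _ _))

theorem map_lift_projHom {X T : Over S'} (g : X ⟶ Red.bc f G) (t : X ⟶ T) :
    (Over.map f).map (lift g t) ≫ projHom f G T = lift (fl f G g) ((Over.map f).map t) := by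
  rw [projHom, comp_lift, ← fl_comp, lift_fst, ← Functor.map_comp, lift_snd]

/-- The inverse of the projection formula map. -/
def projInv (T : Over S') : G ⊗ (Over.map f).obj T ⟶ (Over.map f).obj (Red.bc f G ⊗ T) :=
  (mapObjIso f (snd G ((Over.map f).obj T))).inv ≫ (Over.map f).map
    (lift ((Over.mapPullbackAdj f).homEquiv _ _ ((mapObjIso f (snd G ((Over.map f).obj T))).hom ≫ fst _ _))
      (mapObjLift f (snd G ((Over.map f).obj T))))

theorem projInv_projHom (T : Over S') : projInv f G T ≫ projHom f G T = 𝟙 _ := by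
  rw [projInv, Category.assoc, map_lift_projHom, comp_lift, map_mapObjLift,
    show fl f G ((Over.mapPullbackAdj f).homEquiv _ _
      ((mapObjIso f (snd G ((Over.map f).obj T))).hom ≫ fst _ _)) = _ from Equiv.symm_apply_apply _ _,
    Iso.inv_hom_id_assoc, Iso.inv_hom_id_assoc, lift_fst_snd]

theorem projHom_projInv (T : Over S') : projHom f G T ≫ projInv f G T = 𝟙 _ := by
  refine Over.OverMorphism.ext ?_
  let τ := snd G ((Over.map f).obj T)
  let P := Red.bc f G ⊗ T
  let γ : P ⟶ Over.mk (τ.left ≫ T.hom) := Over.homMk (projHom f G T).left (by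
    show (projHom f G T).left ≫ τ.left ≫ T.hom = P.hom
    rw [← Category.assoc, ← Over.comp_left, show projHom f G T ≫ τ = (Over.map f).map (snd _ _) from lift_snd _ _]
    exact Over.w (snd (Red.bc f G) T))
  have hγ : (Over.map f).map γ ≫ (mapObjIso f τ).hom = projHom f G T :=
    Over.OverMorphism.ext (Category.comp_id _)
  have key : projHom f G T ≫ projInv f G T = 𝟙 _ := by
    rw [projInv, ← Category.assoc, ← hγ, Category.assoc, Category.assoc, Iso.hom_inv_id_assoc,
      ← Functor.map_comp, comp_lift, ← CategoryTheory.Functor.map_id]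
    congr 1
    ext1
    · rw [lift_fst, Category.id_comp]
      refine fl_injective f G ?_
      rw [fl_comp, show fl f G ((Over.mapPullbackAdj f).homEquiv _ _
        ((mapObjIso f (snd G ((Over.map f).obj T))).hom ≫ fst _ _)) = _ from Equiv.symm_apply_apply _ _,
        reassoc_of% hγ, projHom, lift_fst]
    · rw [lift_snd, Category.id_comp]
      refine Over.OverMorphism.ext ?_
      show (projHom f G T).left ≫ τ.left = (snd (Red.bc f G) T).left
      rw [← Over.comp_left]
      exact congrArg CommaMorphism.left (show projHom f G T ≫ τ = (Over.map f).map (snd _ _) from lift_snd _ _)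
  exact congrArg CommaMorphism.left key

/-- The projection formula. -/
def projIso (T : Over S') : (Over.map f).obj (Red.bc f G ⊗ T) ≅ G ⊗ (Over.map f).obj T :=
  ⟨projHom f G T, projInv f G T, projHom_projInv f G T, projInv_projHom f G T⟩

theorem projHom_nat {T T' : Over S'} (w : T' ⟶ T) :
    (Over.map f).map (Red.bc f G ◁ w) ≫ projHom f G T = projHom f G T' ≫ (G ◁ (Over.map f).map w) := by
  ext1
  · rw [projHom, projHom, Category.assoc, lift_fst, Category.assoc, whiskerLeft_fst, lift_fst,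
      ← fl_comp, whiskerLeft_fst]
  · rw [projHom, projHom, Category.assoc, lift_snd, Category.assoc, whiskerLeft_snd, lift_snd_assoc,
      ← Functor.map_comp, whiskerLeft_snd, Functor.map_comp]

variable {G H}

/-- A family over `S'` as a family over `S`. -/
def famUp {T : Over S'} (φ : Red.bc f G ⊗ T ⟶ Red.bc f H) : G ⊗ (Over.map f).obj T ⟶ H :=
  projInv f G T ≫ fl f H φ

/-- A family over `S` as a family over `S'`. -/
def famDown {T : Over S'} (φ : G ⊗ (Over.map f).obj T ⟶ H) : Red.bc f G ⊗ T ⟶ Red.bc f H :=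
  (Over.mapPullbackAdj f).homEquiv _ _ (projHom f G T ≫ φ)

theorem famUp_famDown {T : Over S'} (φ : G ⊗ (Over.map f).obj T ⟶ H) : famUp f (famDown f φ) = φ := by
  rw [famUp, famDown, show fl f H ((Over.mapPullbackAdj f).homEquiv _ _ (projHom f G T ≫ φ)) = _ from
    Equiv.symm_apply_apply _ _, ← Category.assoc, projInv_projHom, Category.id_comp]

theorem famDown_famUp {T : Over S'} (φ : Red.bc f G ⊗ T ⟶ Red.bc f H) : famDown f (famUp f φ) = φ := by
  rw [famUp, famDown, ← Category.assoc, projHom_projInv, Category.id_comp]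
  exact Equiv.apply_symm_apply _ _

theorem famUp_nat {T T' : Over S'} (w : T' ⟶ T) (φ : Red.bc f G ⊗ T ⟶ Red.bc f H) :
    famUp f ((Red.bc f G ◁ w) ≫ φ) = (G ◁ (Over.map f).map w) ≫ famUp f φ := by
  haveI : IsIso (projHom f G T') := (projIso f G T').isIso_hom
  rw [famUp, fl_comp, ← cancel_epi (projHom f G T'), ← Category.assoc, projHom_projInv, Category.id_comp,
    ← Category.assoc, ← projHom_nat, famUp, Category.assoc, ← Category.assoc (projHom f G T),
    projHom_projInv, Category.id_comp]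

theorem fl_lift_comp {X T : Over S'} (φ : Red.bc f G ⊗ T ⟶ Red.bc f H) (g : X ⟶ Red.bc f G) (t : X ⟶ T) :
    fl f H (lift g t ≫ φ) = lift (fl f G g) ((Over.map f).map t) ≫ famUp f φ := by
  rw [fl_comp, ← map_lift_projHom, Category.assoc, famUp, ← Category.assoc (projHom f G T),
    projHom_projInv, Category.id_comp]

theorem isHomFamily_famUp_iff {T : Over S'} (φ : Red.bc f G ⊗ T ⟶ Red.bc f H) :
    IsHomFamily G H (famUp f φ) ↔ IsHomFamily (Red.bc f G) (Red.bc f H) φ := by
  constructor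
  · intro h X g₁ g₂ t
    refine fl_injective f H ?_
    rw [fl_mul, fl_lift_comp, fl_lift_comp, fl_lift_comp, fl_mul]
    exact h _ _ _ _
  · intro h X g₁ g₂ t
    rw [← cancel_epi (mapObjIso f t).hom]
    obtain ⟨a₁, ha₁⟩ := fl_surjective f G ((mapObjIso f t).hom ≫ g₁)
    obtain ⟨a₂, ha₂⟩ := fl_surjective f G ((mapObjIso f t).hom ≫ g₂)
    have := congrArg (fl f H) (h _ a₁ a₂ (mapObjLift f t))
    rw [fl_mul, fl_lift_comp, fl_lift_comp, fl_lift_comp, fl_mul, ha₁, ha₂, map_mapObjLift] at this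
    simp only [MonObj.comp_mul, ← comp_lift_assoc] at this ⊢
    exact this

theorem isHomFamily_famDown {T : Over S'} {φ : G ⊗ (Over.map f).obj T ⟶ H} (hφ : IsHomFamily G H φ) :
    IsHomFamily (Red.bc f G) (Red.bc f H) (famDown f φ) :=
  (isHomFamily_famUp_iff f _).1 (by rwa [famUp_famDown])

/-- The family over the base change of a parameter scheme. -/
def bcFam {A : Over S} (υ : G ⊗ A ⟶ H) : Red.bc f G ⊗ Red.bc f A ⟶ Red.bc f H :=
  famDown f ((G ◁ lw f A (𝟙 _)) ≫ υ)

theorem map_lw_id {A : Over S} {T : Over S'} (w : T ⟶ Red.bc f A) :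
    (Over.map f).map w ≫ lw f A (𝟙 _) = lw f A w := by
  show _ = ((Over.mapPullbackAdj f).homEquiv T A).symm w
  rw [lw, ← Adjunction.homEquiv_naturality_left_symm, Category.comp_id]

theorem famUp_comp_bcFam {A : Over S} (υ : G ⊗ A ⟶ H) {T : Over S'} (w : T ⟶ Red.bc f A) :
    famUp f ((Red.bc f G ◁ w) ≫ bcFam f υ) = (G ◁ lw f A w) ≫ υ := by
  rw [famUp_nat, bcFam, famUp_famDown, ← MonoidalCategory.whiskerLeft_comp_assoc, map_lw_id]

/-- Representing objects of `Hom` commute with base change. -/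
theorem representsHom_bc {A : Over S} {υ : G ⊗ A ⟶ H} (h : RepresentsHom G H A υ) :
    RepresentsHom (Red.bc f G) (Red.bc f H) (Red.bc f A) (bcFam f υ) := by
  refine ⟨isHomFamily_famDown f (isHomFamily_comp _ h.1), fun T φ hφ => ?_⟩
  obtain ⟨a, ha, hu⟩ := h.2 _ (famUp f φ) ((isHomFamily_famUp_iff f φ).2 hφ)
  refine ⟨(Over.mapPullbackAdj f).homEquiv _ _ a, ?_, fun w hw => ?_⟩
  · have h1 := famUp_comp_bcFam f υ ((Over.mapPullbackAdj f).homEquiv _ _ a)
    rw [show lw f A ((Over.mapPullbackAdj f).homEquiv _ _ a) = a from Equiv.symm_apply_apply _ _, ha] at h1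
    simpa only [famDown_famUp] using congrArg (famDown f) h1
  · refine ((Over.mapPullbackAdj f).homEquiv T A).symm_apply_eq.1 (hu _ ?_)
    show (G ◁ lw f A w) ≫ υ = famUp f φ
    rw [← famUp_comp_bcFam, hw]

end Bridge

theorem representsHom_iso {S : Scheme.{u}} {G H : Over S} [GrpObj G] [GrpObj H] {A B : Over S}
    {υ : G ⊗ A ⟶ H} {υ' : G ⊗ B ⟶ H} (h : RepresentsHom G H A υ) (h' : RepresentsHom G H B υ') :
    ∃ e : A ≅ B, (G ◁ e.hom) ≫ υ' = υ := by
  obtain ⟨a, ha, -⟩ := h'.2 A υ h.1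
  obtain ⟨b, hb, -⟩ := h.2 B υ' h'.1
  refine ⟨⟨a, b, (h.2 A υ h.1).unique ?_ ?_, (h'.2 B υ' h'.1).unique ?_ ?_⟩, ha⟩
  · rw [MonoidalCategory.whiskerLeft_comp, Category.assoc, hb, ha]
  · simp
  · rw [MonoidalCategory.whiskerLeft_comp, Category.assoc, ha, hb]
  · simp

/-- `Hom(G, H)` is representable if it is so over the members of an fpqc family, by schemes with a property
ensuring effective descent; the property then holds after base change. -/
theorem exists_representsHom_of_cover {S : Scheme.{u}} {κ : Type u} {V : κ → Scheme.{u}} (f : ∀ i, V i ⟶ S)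
    (hf : Presieve.ofArrows V f ∈ Scheme.fpqcPrecoverage S) (G H : Over S) [GrpObj G] [GrpObj H]
    (P : MorphismProperty Scheme.{u}) [P.RespectsIso]
    (hloc : ∀ i, ∃ (W : Over (V i)) (υ : Red.bc (f i) G ⊗ W ⟶ Red.bc (f i) H),
      RepresentsHom (Red.bc (f i) G) (Red.bc (f i) H) W υ ∧ P W.hom)
    (heff : ∀ D : Desc.SchDDFam f, (∀ i, P (D.obj i).hom) → D.IsEffective) :
    ∃ (A : Over S) (υ : G ⊗ A ⟶ H), RepresentsHom G H A υ ∧ ∀ i, P (pullback.snd A.hom (f i)) := by
  choose W υ hυ hP using hloc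
  have hrep : ∀ (i : κ) (T : Over (V i)) (z : (homFunctor G H).obj (op ((Over.map (f i)).obj T))),
      ∃! w : T ⟶ W i, (homFunctor G H).map ((Over.map (f i)).map w).op
        (⟨famUp (f i) (υ i), (isHomFamily_famUp_iff _ _).2 (hυ i).1⟩ :
          (homFunctor G H).obj (op ((Over.map (f i)).obj (W i)))) = z := by
    intro i T z
    obtain ⟨w, hw, hu⟩ := (hυ i).2 T (famDown (f i) z.1) (isHomFamily_famDown (f i) z.2)
    refine ⟨w, Subtype.ext ?_, fun w' hw' => hu w' ?_⟩
    · show (G ◁ (Over.map (f i)).map w) ≫ famUp (f i) (υ i) = z.1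
      rw [← famUp_nat, hw, famUp_famDown]
    · have h1 : (G ◁ (Over.map (f i)).map w') ≫ famUp (f i) (υ i) = z.1 := congrArg Subtype.val hw'
      rw [← famUp_nat] at h1
      rw [← h1, famDown_famUp]
  obtain ⟨A, a, ha⟩ := exists_rep_of_cover (F := homFunctor G H) f _ hrep hf (isSheaf_homFunctor G H)
    fun D hD => heff D fun i => by rw [hD i]; exact hP i
  have hA : RepresentsHom G H A a.1 := by
    refine ⟨a.2, fun T φ hφ => ?_⟩
    obtain ⟨g, hg, hu⟩ := ha T ⟨φ, hφ⟩
    exact ⟨g, congrArg Subtype.val hg, fun g' hg' => hu g' (Subtype.ext hg')⟩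
  refine ⟨A, a.1, hA, fun i => ?_⟩
  obtain ⟨e, -⟩ := representsHom_iso (representsHom_bc (f i) hA) (hυ i)
  have he : e.hom.left ≫ (W i).hom = pullback.snd A.hom (f i) := Over.w e.hom
  rw [← he]
  haveI : IsIso e.hom.left := (inferInstance : IsIso ((Over.forget _).map e.hom))
  exact (P.cancel_left_of_respectsIso _ _).2 (hP i)

theorem isIndQuasiAffineHom_of_lqf {X Y : Scheme.{u}} (q : X ⟶ Y) [IsSeparated q] [LocallyQuasiFinite q]
    [LocallyOfFiniteType q] : MoreMor.IsIndQuasiAffineHom q := by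
  intro V hV U hU
  haveI : IsAffine V.toScheme := hV
  haveI : IsSeparated (q ∣_ V) := IsZariskiLocalAtTarget.restrict ‹_› V
  haveI : LocallyQuasiFinite (q ∣_ V) := IsZariskiLocalAtTarget.restrict ‹_› V
  haveI : LocallyOfFiniteType (q ∣_ V) := IsZariskiLocalAtTarget.restrict ‹_› V
  haveI : CompactSpace U.toScheme := isCompact_iff_compactSpace.mp hU
  exact SchDesc12.isQuasiAffine_of_lqf (U.ι ≫ q ∣_ V)

end Groth.Agent.MTRigid29
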