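import Groth.Agent.Lib.MTRigid29.SubgrpEqvSplit

/-!
# The locus where two central subgroups of multiplicative type coincide
-/

set_option autoImplicit false
set_option linter.style.haveILetI false
set_option backward.isDefEq.respectTransparency.types false
set_option maxSynthPendingDepth 3

universe u

open CategoryTheory Limits MonoidalCategory CartesianMonoidalCategory MonObj AlgebraicGeometry Opposite

noncomputable section

namespace Groth.Agent.MTRigid29

open DiagGL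

/-- The hypotheses on two subgroups, stable under base change. -/
structure Hyp {S : Scheme.{u}} {G H₁ H₂ : Over S} [GrpObj G] [GrpObj H₁] [GrpObj H₂] (i₁ : H₁ ⟶ G) (i₂ : H₂ ⟶ G) :
    Prop where
  hom₁ : IsMonHom i₁
  hom₂ : IsMonHom i₂
  mono₁ : Mono i₁.left
  mono₂ : Mono i₂.left
  mt₁ : SGA3x.IsMultTypeFT H₁
  mt₂ : SGA3x.IsMultTypeFT H₂
  central : ∀ (X : Over S) (g : X ⟶ G) (h : X ⟶ H₁), g * (h ≫ i₁) = (h ≫ i₁) * g
  pair : PairFG i₁ i₂

variable {S : Scheme.{u}} {G H₁ H₂ : Over S} [GrpObj G] [GrpObj H₁] [GrpObj H₂] {i₁ : H₁ ⟶ G} {i₂ : H₂ ⟶ G}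

theorem Hyp.bc {S' : Scheme.{u}} (g : S' ⟶ S) (h : Hyp i₁ i₂) :
    Hyp ((Over.pullback g).map i₁) ((Over.pullback g).map i₂) where
  hom₁ := haveI := h.hom₁; TorsorSch25.isMonHom_of_points _ fun T a b => fl_injective g G (by
    rw [fl_comp_map, fl_mul, fl_mul, fl_comp_map, fl_comp_map, MonObj.mul_comp])
  hom₂ := haveI := h.hom₂; TorsorSch25.isMonHom_of_points _ fun T a b => fl_injective g G (by
    rw [fl_comp_map, fl_mul, fl_mul, fl_comp_map, fl_comp_map, MonObj.mul_comp])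
  mono₁ := haveI := h.mono₁; mono_map_left g i₁
  mono₂ := haveI := h.mono₂; mono_map_left g i₂
  mt₁ := isMultTypeFT_bc h.mt₁ g
  mt₂ := isMultTypeFT_bc h.mt₂ g
  central X x y := fl_injective g G (by rw [fl_mul, fl_mul, fl_comp_map, h.central])
  pair := h.pair.bc g

/-- Goodness descends along finitely many flat affine charts. -/
theorem good_of_charts {R : Type u} [CommRing R] (f : Spec (CommRingCat.of R) ⟶ S) [Mono i₁.left] [Mono i₂.left]
    {J : Type u} [Finite J] (T : J → Type u) [∀ i, CommRing (T i)] [∀ i, Algebra R (T i)]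
    (hflat : ∀ i, Module.Flat R (T i))
    (hcov : ∀ q : PrimeSpectrum R, ∃ i, q ∈ Set.range (PrimeSpectrum.comap (algebraMap R (T i))))
    (h : ∀ i, Good i₁ i₂ (Spec.map (CommRingCat.ofHom (algebraMap R (T i))) ≫ f)) : Good i₁ i₂ f := by
  let q : (∐ fun i => Spec (CommRingCat.of (T i))) ⟶ Spec (CommRingCat.of R) :=
    Sigma.desc fun i => Spec.map (CommRingCat.ofHom (algebraMap R (T i)))
  haveI : ∀ i, Flat (Spec.map (CommRingCat.ofHom (algebraMap R (T i)))) := fun i =>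
    (HasRingHomProperty.Spec_iff (P := @Flat)).2 (RingHom.flat_algebraMap_iff.2 (hflat i))
  haveI : Flat q := IsZariskiLocalAtSource.sigmaDesc inferInstance
  haveI : QuasiCompact q := (quasiCompact_iff_compactSpace q).2 inferInstance
  haveI : Surjective q := ⟨fun x => by
    obtain ⟨i, z, hz⟩ := hcov x
    exact ⟨Sigma.ι (fun i => Spec (CommRingCat.of (T i))) i z, by
      rw [← Scheme.Hom.comp_apply, Sigma.ι_desc]; exact hz⟩⟩
  refine good_descend i₁ i₂ q f fun x => ?_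
  let 𝒰 := sigmaOpenCover fun i => Spec (CommRingCat.of (T i))
  obtain ⟨w, hw⟩ := 𝒰.covers x
  refine ⟨_, Sigma.ι (fun i => Spec (CommRingCat.of (T i))) (𝒰.idx x), inferInstance, ⟨w, hw⟩, ?_⟩
  rw [Sigma.ι_desc_assoc]
  exact h _

/-- The coincidence locus is clopen. -/
theorem good_id (h : Hyp i₁ i₂) : Good i₁ i₂ (𝟙 S) := by
  haveI := h.mono₁
  haveI := h.mono₂
  refine good_descend i₁ i₂ (𝟙 S) (𝟙 S) fun x => ?_
  obtain ⟨V, hV, hxV, -⟩ := exists_isAffineOpen_mem_and_subset (x := x) (U := ⊤) trivial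
  refine ⟨_, hV.fromSpec, inferInstance, by rw [hV.range_fromSpec]; exact hxV, ?_⟩
  rw [Category.id_comp, Category.comp_id]
  obtain ⟨J, hJ, T, _, _, hflat, hcov, hC⟩ := exists_charts_ft h.mt₁ hV.fromSpec
  refine good_of_charts hV.fromSpec T hflat hcov fun i => ?_
  obtain ⟨M₁, _, -, ⟨C₁⟩⟩ := hC i
  let k := Spec.map (CommRingCat.ofHom (algebraMap Γ(S, V) (T i)))
  have h2 := (h.bc hV.fromSpec).bc k
  obtain ⟨J', hJ', T', _, _, hflat', hcov', hC'⟩ := exists_charts_ft h2.mt₂ (𝟙 (Spec (CommRingCat.of (T i))))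
  haveI := h2.mono₁
  haveI := h2.mono₂
  have goal : Good ((Over.pullback k).map ((Over.pullback hV.fromSpec).map i₁))
      ((Over.pullback k).map ((Over.pullback hV.fromSpec).map i₂)) (𝟙 _) := by
    refine good_of_charts (𝟙 _) T' hflat' hcov' fun j => ?_
    obtain ⟨M₂, _, -, ⟨C₂⟩⟩ := hC' j
    let k' := Spec.map (CommRingCat.ofHom (algebraMap (T i) (T' j)))
    have h4 := (h2.bc (𝟙 (Spec (CommRingCat.of (T i))))).bc k'
    haveI := h4.hom₁
    haveI := h4.hom₂
    haveI := h4.mono₁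
    haveI := h4.mono₂
    have hg := good_split ((C₁.baseChange _ _).baseChange _ _) C₂ _ _ h4.mt₁ h4.central h4.pair
    rw [good_bc_iff, good_bc_iff, Category.id_comp] at hg
    exact hg
  rw [good_bc_iff, good_bc_iff, Category.id_comp] at goal
  exact goal

/-- Two subgroups of multiplicative type, the first central, coincide exactly on an open and closed set. -/
theorem exists_eq_locus [IsSeparated G.hom] (i₁ : H₁ ⟶ G) (i₂ : H₂ ⟶ G) [IsMonHom i₁] [IsMonHom i₂]
    [IsImmersion i₁.left] [IsImmersion i₂.left]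
    (hfin : IsLocallyNoetherian S ∨ LocallyOfFiniteType G.hom)
    (h₁ : SGA3x.IsMultTypeFT H₁) (h₂ : SGA3x.IsMultTypeFT H₂)
    (hc : ∀ (X : Over S) (g : X ⟶ G) (h : X ⟶ H₁), g * (h ≫ i₁) = (h ≫ i₁) * g) :
    ∃ U : S.Opens, IsClosed (U : Set S) ∧
      (∀ s : S, s ∈ U ↔ ∃ ψ : Red.bc (S.fromSpecResidueField s) H₁ ≅ Red.bc (S.fromSpecResidueField s) H₂,
        ψ.hom ≫ (Over.pullback (S.fromSpecResidueField s)).map i₂ = (Over.pullback (S.fromSpecResidueField s)).map i₁) ∧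
      ∃ ψ : Red.bc U.ι H₁ ≅ Red.bc U.ι H₂,
        ψ.hom ≫ (Over.pullback U.ι).map i₂ = (Over.pullback U.ι).map i₁ := by
  have hpair : PairFG i₁ i₂ := pairFG_of_base i₁ i₂ (hfin.imp
    (fun h => ⟨h, locallyOfFiniteType_of_isMultTypeFT h₁, locallyOfFiniteType_of_isMultTypeFT h₂⟩) id)
  obtain ⟨U, hUc, hU, hUe⟩ := good_id (i₁ := i₁) (i₂ := i₂) ⟨inferInstance, inferInstance, inferInstance, inferInstance, h₁, h₂, hc, hpair⟩
  refine ⟨U, hUc, fun s => (hU s).trans ?_, ?_⟩
  · rw [Category.comp_id]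
    exact eqv_iff_exists_iso i₁ i₂ _
  · rw [Category.comp_id] at hUe
    exact (eqv_iff_exists_iso i₁ i₂ _).1 hUe

end Groth.Agent.MTRigid29
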