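import Groth.Agent.Lib.MTRigid29.CentralDesc
import Groth.Agent.Lib.MTRigid29.SubgrpEqvGlobal
import Groth.Agent.Lib.MTRigid29.HomFun
import Groth.Agent.Lib.MTRigid29.Descends
import Groth.Agent.Lib.MTRigid29.CentralizerNormalizer
import Groth.Agent.Lib.MTRigid29.NormalCentral
import Groth.Agent.Lib.H12.DescImm

/-!
# Descent of central subgroups of multiplicative type
-/

set_option autoImplicit false
set_option linter.style.haveILetI false
set_option backward.isDefEq.respectTransparency false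
set_option backward.isDefEq.respectTransparency.types false
set_option maxSynthPendingDepth 3

universe u

open CategoryTheory Limits MonoidalCategory CartesianMonoidalCategory MonObj GrpObj AlgebraicGeometry Opposite
open Groth.Agent Groth.Agent.DiagGL

noncomputable section

namespace Groth.Agent.MTRigid29

section CompIso

variable {S S' P : Scheme.{u}} {π : S' ⟶ S} {p : P ⟶ S'} {q : P ⟶ S} (hq : p ≫ π = q)

/-- An object over `P` seen over `S` in one or in two steps. -/
def twoStep (Y : Over P) : (Over.map q).obj Y ≅ (Over.map π).obj ((Over.map p).obj Y) :=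
  Over.isoMk (Iso.refl _) (by simp [hq])

/-- Base change in two steps. -/
def compIso (X : Over S) : Red.bc p (Red.bc π X) ≅ Red.bc q X :=
  Over.isoMk (pullbackLeftPullbackSndIso X.hom π p ≪≫ pullback.congrHom rfl hq) (by
    show (_ ≫ _) ≫ pullback.snd X.hom q = pullback.snd (pullback.snd X.hom π) p
    simp [pullback.congrHom_hom])

omit hq in
theorem fl_left {T : Over P} {X : Over S} (x : T ⟶ Red.bc q X) :
    (fl q X x).left = x.left ≫ pullback.fst X.hom q := rfl

variable (X : Over S)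

theorem fl_compIso {Y : Over P} (x : Y ⟶ Red.bc p (Red.bc π X)) :
    fl q X (x ≫ (compIso hq X).hom) = (twoStep hq Y).hom ≫ fl π X (fl p (Red.bc π X) x) := by
  ext1
  simp [fl_left, compIso, twoStep, pullback.congrHom_hom]

theorem isMonHom_compIso [GrpObj X] : IsMonHom (compIso hq X).hom :=
  TorsorSch25.isMonHom_of_points _ fun Y a b => fl_injective q X (by
    rw [fl_compIso, fl_mul, fl_mul, fl_mul, fl_compIso, fl_compIso, MonObj.comp_mul])

end CompIso

theorem isMultTypeFT_of_bc {S S' : Scheme.{u}} (π : S' ⟶ S) [Flat π] [Surjective π]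
    (hcov : ∀ V : S.Opens, IsAffineOpen V → ∃ W : S'.Opens, IsCompact (W : Set S') ∧ π.base '' (W : Set S') = (V : Set S))
    (A : Over S) [GrpObj A] (h : SGA3x.IsMultTypeFT (Red.bc π A)) : SGA3x.IsMultTypeFT A := by
  obtain ⟨T, f, hf, hs, hc, hloc⟩ := h
  haveI := hf
  haveI := hs
  refine ⟨T, f ≫ π, inferInstance, inferInstance, fun V hV => ?_, fun t => ?_⟩
  · obtain ⟨W, hW, hWV⟩ := hcov V hV
    have hopen : ∀ w : W, ∃ B : S'.Opens, IsAffineOpen B ∧ w.1 ∈ B ∧ B ≤ W := fun w =>
      exists_isAffineOpen_mem_and_subset w.2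
    choose B hB hwB hBW using hopen
    obtain ⟨F, hF⟩ := hW.elim_finite_subcover (fun w => (B w : Set S')) (fun w => (B w).2)
      (fun x hx => Set.mem_iUnion.2 ⟨⟨x, hx⟩, hwB ⟨x, hx⟩⟩)
    choose C hC hCB using fun w => hc (B w) (hB w)
    refine ⟨⨆ w : F, C w.1, ?_, ?_⟩
    · rw [TopologicalSpace.Opens.coe_iSup]; exact isCompact_iUnion fun w => hC w.1
    · rw [TopologicalSpace.Opens.coe_iSup, Set.image_iUnion, ← hWV]
      refine Set.Subset.antisymm (Set.iUnion_subset fun w => ?_) ?_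
      · rintro _ ⟨c, hc', rfl⟩
        exact ⟨f c, hBW w.1 (Set.ext_iff.1 (hCB w.1) (f c) |>.1 ⟨c, hc', rfl⟩), rfl⟩
      · rintro _ ⟨x, hx, rfl⟩
        obtain ⟨w, hw, hxw⟩ := Set.mem_iUnion₂.1 (hF hx)
        obtain ⟨c, hc', rfl⟩ := (Set.ext_iff.1 (hCB w) x).2 hxw
        exact Set.mem_iUnion.2 ⟨⟨w, hw⟩, c, hc', rfl⟩
  · obtain ⟨U, hU, M, _, hfg, ⟨e⟩⟩ := hloc t
    haveI := isMonHom_compIso (π := π) (p := U.ι ≫ f) (q := U.ι ≫ f ≫ π) (Category.assoc _ _ _) A
    exact ⟨U, hU, M, inferInstance, hfg,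
      ⟨(Grp.mkIso' (compIso (π := π) (p := U.ι ≫ f) (Category.assoc _ _ _) A)).symm ≪≫ e⟩⟩

variable {S S' : Scheme.{u}} {G : Over S} [GrpObj G] {π : S' ⟶ S} {H' : Over S'} (j' : H' ⟶ Red.bc π G)

section Twist

variable {P : Scheme.{u}} {p : P ⟶ S'} {q : P ⟶ S} (hq : p ≫ π = q)

/-- The pullback of the subgroup along `p`, inside the base change along the composite. -/
def twist : Red.bc p H' ⟶ Red.bc q G := (Over.pullback p).map j' ≫ (compIso hq G).hom

theorem twist_left_fst :
    (twist j' hq).left ≫ pullback.fst G.hom q = pullback.fst H'.hom p ≫ j'.left ≫ pullback.fst G.hom π := by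
  simp [twist, compIso, pullback.congrHom_hom]

theorem isImmersion_twist [IsImmersion j'.left] : IsImmersion (twist j' hq).left := by
  haveI : IsImmersion ((Over.pullback p).map j').left :=
    MorphismProperty.of_isPullback (isPullback_map_left p j') ‹_›
  haveI : IsIso (compIso hq G).hom.left := (inferInstance : IsIso ((Over.forget _).map (compIso hq G).hom))
  exact (MorphismProperty.cancel_right_of_respectsIso @IsImmersion _ _).2 ‹_›

variable [GrpObj H']

theorem fl_twist {Y : Over P} (x : Y ⟶ Red.bc p H') :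
    fl q G (x ≫ twist j' hq) = (twoStep hq Y).hom ≫ fl π G (fl p H' x ≫ j') := by
  rw [twist, ← Category.assoc, fl_compIso, fl_comp_map]

theorem isMonHom_twist [IsMonHom j'] : IsMonHom (twist j' hq) :=
  TorsorSch25.isMonHom_of_points _ fun Y a b => fl_injective q G (by
    rw [fl_twist, fl_mul, fl_mul, MonObj.mul_comp, fl_mul, fl_twist, fl_twist, MonObj.comp_mul])

theorem central_twist (hc : ∀ (X : Over S') (g : X ⟶ Red.bc π G) (h : X ⟶ H'), g * (h ≫ j') = (h ≫ j') * g)
    (Y : Over P) (g : Y ⟶ Red.bc q G) (h : Y ⟶ Red.bc p H') :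
    g * (h ≫ twist j' hq) = (h ≫ twist j' hq) * g := by
  obtain ⟨g', hg'⟩ := fl_surjective π G ((twoStep hq Y).inv ≫ fl q G g)
  have hg : fl q G g = (twoStep hq Y).hom ≫ fl π G g' := by rw [hg', Iso.hom_inv_id_assoc]
  refine fl_injective q G ?_
  rw [fl_mul, fl_mul, fl_twist, hg, ← MonObj.comp_mul, ← MonObj.comp_mul, ← fl_mul, ← fl_mul, hc]

end Twist

section Desc

variable [GrpObj H'] [IsMonHom j'] [IsImmersion j'.left] [IsSeparated G.hom] [LocallyOfFiniteType G.hom]
  (hH' : SGA3x.IsMultTypeFT H')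
  (hc : ∀ (X : Over S') (g : X ⟶ Red.bc π G) (h : X ⟶ H'), g * (h ≫ j') = (h ≫ j') * g)
  (hconn : ∀ s : S, ConnectedSpace ↥(Limits.pullback π (Red.geomPt s)))

include hH' hc hconn in
/-- Being a point of the subgroup does not depend on the lift of the base. -/
theorem point_indep {Z : Over S'} (p : (Over.map π).obj Z ⟶ (Over.map π).obj H') :
    ∃ y : Z ⟶ H', fl π G (y ≫ j') = p ≫ fl π G j' := by
  let P := pullback π π
  let p₁ : P ⟶ S' := pullback.fst π π
  let p₂ : P ⟶ S' := pullback.snd π π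
  let q : P ⟶ S := p₁ ≫ π
  have h₂ : p₂ ≫ π = q := pullback.condition.symm
  let i₁ := twist j' (show p₁ ≫ π = q from rfl)
  let i₂ := twist j' h₂
  haveI := isMonHom_twist j' (show p₁ ≫ π = q from rfl)
  haveI := isMonHom_twist j' h₂
  haveI := isImmersion_twist j' (show p₁ ≫ π = q from rfl)
  haveI := isImmersion_twist j' h₂
  haveI : IsSeparated (Red.bc q G).hom := MorphismProperty.pullback_snd G.hom q inferInstance
  obtain ⟨U, hUc, hU, ψ, hψ⟩ := exists_eq_locus i₁ i₂
    (.inr (MorphismProperty.pullback_snd G.hom q inferInstance)) (isMultTypeFT_bc hH' p₁) (isMultTypeFT_bc hH' p₂)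
    (central_twist j' _ hc)
  let Δ : S' ⟶ P := pullback.diagonal π
  have hd₁ : Δ ≫ p₁ = 𝟙 S' := pullback.diagonal_fst _
  have hd₂ : Δ ≫ p₂ = 𝟙 S' := pullback.diagonal_snd _
  have hfac : ∀ {a b : P ⟶ S'} (ha : a ≫ π = q) (hb : b ≫ π = q), Δ ≫ a = 𝟙 S' → Δ ≫ b = 𝟙 S' →
      Fac (twist j' ha) (twist j' hb) Δ := by
    intro a b ha hb hΔa hΔb X t h hh
    have hh' : h ≫ pullback.snd H'.hom a = t ≫ Δ := hh
    refine ⟨pullback.lift (h ≫ pullback.fst H'.hom a) (t ≫ Δ) ?_, pullback.hom_ext ?_ ?_⟩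
    · rw [Category.assoc, pullback.condition, ← Category.assoc, hh', Category.assoc, Category.assoc, hΔa, hΔb]
    · simp only [Category.assoc, twist_left_fst, pullback.lift_fst_assoc]
    · simp only [Category.assoc, show (twist j' hb).left ≫ pullback.snd G.hom q = pullback.snd H'.hom b from
          Over.w (twist j' hb), show (twist j' ha).left ≫ pullback.snd G.hom q = pullback.snd H'.hom a from
          Over.w (twist j' ha), pullback.lift_snd]
      exact hh'.symm
  have hΔ : ∀ x : S', Δ x ∈ U := by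
    intro x
    rw [hU, ← eqv_iff_exists_iso i₁ i₂]
    haveI : IsIso (Δ.residueFieldMap x) := by
      refine (ConcreteCategory.isIso_iff_bijective (Δ.residueFieldMap x)).2
        ⟨(Δ.residueFieldMap x).hom.injective, ?_⟩
      have h1 : Function.Surjective (Δ.stalkMap x ≫ S'.residue x) := by
        simp only [CommRingCat.hom_comp, RingHom.coe_comp]
        exact (Scheme.residue_surjective _ _).comp (Δ.stalkMap_surjective x)
      rw [← Scheme.residue_residueFieldMap] at h1
      exact Function.Surjective.of_comp (g := ⇑(P.residue (Δ x)).hom) h1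
    have h2 := eqv_comp i₁ i₂ ⟨hfac rfl h₂ hd₁ hd₂, hfac h₂ rfl hd₂ hd₁⟩ (S'.fromSpecResidueField x)
    rw [← Scheme.Hom.SpecMap_residueFieldMap_fromSpecResidueField] at h2
    have h3 := eqv_comp i₁ i₂ h2 (inv (Spec.map (Δ.residueFieldMap x)))
    rwa [IsIso.inv_hom_id_assoc] at h3
  haveI : GeometricallyConnected π := RigidGIT19.geometricallyConnected_of_geomFibre π hconn
  have htop : ∀ z : P, z ∈ U := by
    intro z
    have hcn := (p₁.isConnected_preimage_singleton (p₁ z)).isPreconnected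
    refine hcn.subset_isClopen ⟨hUc, U.2⟩ ⟨Δ (p₁ z), ?_, hΔ _⟩ rfl
    show p₁ (Δ (p₁ z)) = p₁ z
    exact congrArg (fun k : S' ⟶ S' => k (p₁ z)) hd₁
  have hall : Eqv i₁ i₂ (𝟙 P) := eqv_of_cover i₁ i₂ (𝟙 P) fun z =>
    ⟨_, U.ι, inferInstance, ⟨⟨z, htop z⟩, rfl⟩, by
      rw [Category.comp_id]; exact (eqv_iff_exists_iso i₁ i₂ _).2 ⟨ψ, hψ⟩⟩
  let m : Z.left ⟶ P := pullback.lift Z.hom (p.left ≫ H'.hom) ((Over.w p).symm.trans (Category.assoc _ _ _).symm)
  let h : Z.left ⟶ (Red.bc p₂ H').left := pullback.lift p.left m (pullback.lift_snd _ _ _).symm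
  obtain ⟨l, hl⟩ := hall.2 Z.left m h ((pullback.lift_snd _ _ _).trans (Category.comp_id _).symm)
  have hl' : l ≫ pullback.snd H'.hom p₁ = m := by
    rw [← show i₁.left ≫ pullback.snd G.hom q = pullback.snd H'.hom p₁ from Over.w i₁, ← Category.assoc, hl,
      Category.assoc, show i₂.left ≫ pullback.snd G.hom q = pullback.snd H'.hom p₂ from Over.w i₂]
    exact pullback.lift_snd _ _ _
  refine ⟨Over.homMk (l ≫ pullback.fst H'.hom p₁) (by
    rw [Category.assoc, pullback.condition, ← Category.assoc, hl']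
    exact pullback.lift_fst _ _ _), ?_⟩
  have h4 := congrArg (fun k => k ≫ pullback.fst G.hom q) hl
  simp only [Category.assoc] at h4
  rw [twist_left_fst, twist_left_fst, pullback.lift_fst_assoc] at h4
  ext1
  simpa [fl_left] using h4

/-- The points of `G` which after base change are points of the subgroup. -/
def subFunctor : (Over S)ᵒᵖ ⥤ Type u where
  obj T := {x : T.unop ⟶ G // ∀ (Z : Over S') (p : (Over.map π).obj Z ⟶ T.unop),
    ∃ y : Z ⟶ H', fl π G (y ≫ j') = p ≫ x}
  map {T T'} a := TypeCat.ofHom fun x => ⟨a.unop ≫ x.1, fun Z p => by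
    rw [← Category.assoc]; exact x.2 Z (p ≫ a.unop)⟩
  map_id T := by ext x; exact Category.id_comp _
  map_comp a b := by ext x; exact Category.assoc _ _ _

theorem subFunctor_map_val {T T' : Over S} (a : T' ⟶ T) (x : (subFunctor j').obj (op T)) :
    ((subFunctor j').map a.op x).1 = a ≫ x.1 := rfl

theorem isSheaf_subFunctor : Presieve.IsSheaf (Scheme.fpqcTopology.over S) (subFunctor j') := by
  intro T R hR fam hfam
  haveI : Mono j' := Over.mono_of_mono_left j'
  have hG : Presieve.IsSheaf (Scheme.fpqcTopology.over S) (yoneda.obj G) :=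
    GrothendieckTopology.Subcanonical.isSheaf_of_isRepresentable _
  let fG : Presieve.FamilyOfElements (yoneda.obj G) R.arrows := fun {T'} q hq => (fam q hq).1
  have hfG : fG.Compatible := fun {Y₁ Y₂ Z} g₁ g₂ f₁ f₂ h₁ h₂ hh => congrArg Subtype.val (hfam g₁ g₂ h₁ h₂ hh)
  obtain ⟨x, hx, hxu⟩ := hG R hR fG hfG
  have hprop : ∀ (Z : Over S') (p : (Over.map π).obj Z ⟶ T), ∃ y : Z ⟶ H', fl π G (y ≫ j') = p ≫ x := by
    intro Z p
    let R' : Sieve Z :=
      { arrows := fun Z' q => R ((Over.map π).map q ≫ p)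
        downward_closed := fun {Z' Z''} q h g => by
          rw [Functor.map_comp, Category.assoc]; exact R.downward_closed h _ }
    have hR' : R' ∈ (Scheme.fpqcTopology.over S') Z := by
      have hR₀ := hR
      rw [GrothendieckTopology.mem_over_iff] at hR₀
      rw [GrothendieckTopology.mem_over_iff]
      refine Scheme.fpqcTopology.superset_covering ?_
        (Scheme.fpqcTopology.pullback_stable p.left hR₀)
      intro W g hg
      rw [Sieve.overEquiv_iff]
      have hg' : R (Over.homMk (g ≫ p.left) : Over.mk ((g ≫ p.left) ≫ T.hom) ⟶ T) := (Sieve.overEquiv_iff R _).1 hg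
      have hw : (g ≫ Z.hom) ≫ π = (g ≫ p.left) ≫ T.hom := by
        rw [Category.assoc g p.left, Over.w p, Category.assoc]; rfl
      let c : (Over.map π).obj (Over.mk (g ≫ Z.hom)) ⟶ Over.mk ((g ≫ p.left) ≫ T.hom) :=
        Over.homMk (𝟙 W) ((Category.id_comp _).trans hw.symm)
      show R ((Over.map π).map (Over.homMk g : Over.mk (g ≫ Z.hom) ⟶ Z) ≫ p)
      convert R.downward_closed hg' c using 1
      ext1
      exact (Category.id_comp (g ≫ p.left)).symm
    have hloc : ∀ (Z' : Over S') (q : Z' ⟶ Z), R' q →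
        ∃ y : Z' ⟶ H', fl π G (y ≫ j') = (Over.map π).map q ≫ p ≫ x := fun Z' q hq => by
      obtain ⟨y, hy⟩ := (fam _ hq).2 Z' (𝟙 _)
      refine ⟨y, ?_⟩
      have hxq : ((Over.map π).map q ≫ p) ≫ x = fG _ hq := hx _ hq
      rw [← Category.assoc, hxq, hy, Category.id_comp]
    let fy : Presieve.FamilyOfElements (yoneda.obj H') R'.arrows := fun {Z'} q hq => (hloc Z' q hq).choose
    obtain ⟨x', hx'⟩ := fl_surjective π G (p ≫ x)
    have hfy' : ∀ {Z' : Over S'} (q : Z' ⟶ Z) (hq : R' q), fy q hq ≫ j' = q ≫ x' := fun {Z'} q hq =>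
      fl_injective π G (by
        rw [fl_comp π G q x', hx']
        exact (hloc Z' q hq).choose_spec)
    have hfy : fy.Compatible := fun {Y₁ Y₂ W} g₁ g₂ f₁ f₂ h₁ h₂ hh => by
      show g₁ ≫ fy f₁ h₁ = g₂ ≫ fy f₂ h₂
      rw [← cancel_mono j', Category.assoc, Category.assoc, hfy' f₁ h₁, hfy' f₂ h₂, reassoc_of% hh]
    obtain ⟨y, hy, -⟩ := (GrothendieckTopology.Subcanonical.isSheaf_of_isRepresentable
      (J := Scheme.fpqcTopology.over S') (yoneda.obj H')) R' hR' fy hfy
    refine ⟨y, ?_⟩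
    rw [← hx']
    congr 1
    refine ((GrothendieckTopology.Subcanonical.isSheaf_of_isRepresentable
      (J := Scheme.fpqcTopology.over S') (yoneda.obj (Red.bc π G))) R' hR').isSeparatedFor.ext fun Z' q hq => ?_
    show q ≫ y ≫ j' = q ≫ x'
    rw [← hfy' q hq, ← show q ≫ y = fy q hq from hy q hq, Category.assoc]
  exact ⟨⟨x, hprop⟩, fun T' q hq => Subtype.ext (hx q hq),
    fun z hz => Subtype.ext (hxu z.1 fun T' q hq => congrArg Subtype.val (hz q hq))⟩

variable [Flat π] [Surjective π]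

include hH' hc hconn in
/-- A central subgroup of multiplicative type descends along an fpqc covering with geometrically connected
fibres. -/
theorem exists_descent_subgroup
    (hcov : ∀ V : S.Opens, IsAffineOpen V → ∃ W : S'.Opens, IsCompact (W : Set S') ∧ π.base '' (W : Set S') = (V : Set S)) :
    ∃ (H : Over S) (_ : GrpObj H) (j : H ⟶ G), IsMonHom j ∧ IsImmersion j.left ∧ SGA3x.IsMultTypeFT H ∧
      ∃ φ : Red.bc π H ≅ H', φ.hom ≫ j' = (Over.pullback π).map j := by
  haveI : Mono j' := Over.mono_of_mono_left j'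
  haveI := quasiCompactCover_singleton.{u} π hcov
  have hcovm : Presieve.ofArrows (fun _ : PUnit.{u + 1} => S') (fun _ => π) ∈ Scheme.fpqcPrecoverage S := by
    rw [Presieve.ofArrows_pUnit]
    refine ⟨?_, (Scheme.singleton_mem_precoverage_iff _ π).2 ⟨π.surjective, ‹_›⟩⟩
    rw [← PreZeroHypercover.presieve₀_singleton, Scheme.presieve₀_mem_qcPrecoverage_iff]
    infer_instance
  let ξ : (subFunctor j').obj (op ((Over.map π).obj H')) :=
    ⟨fl π G j', fun Z p => point_indep j' hH' hc hconn p⟩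
  have hrep : ∀ (_ : PUnit.{u + 1}) (T : Over S') (xi : (subFunctor j').obj (op ((Over.map π).obj T))),
      ∃! w : T ⟶ H', (subFunctor j').map ((Over.map π).map w).op ξ = xi := by
    intro _ T xi
    obtain ⟨y, hy⟩ := xi.2 T (𝟙 _)
    rw [Category.id_comp] at hy
    refine ⟨y, Subtype.ext ((fl_comp π G y j').symm.trans hy), fun w hw => (cancel_mono j').1 (fl_injective π G ?_)⟩
    rw [hy, fl_comp]
    exact congrArg Subtype.val hw
  obtain ⟨A, a, ha⟩ := exists_rep_of_cover (F := subFunctor j') (fun _ : PUnit.{u + 1} => π)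
    (W := fun _ => H') (fun _ => ξ) hrep hcovm (isSheaf_subFunctor j')
    fun D hD => SchDesc12.isEffective_of_isAffineHom (D := D) hcovm fun i => by
      rw [hD i]; exact isAffineHom_of_isMultTypeFT hH'
  have haj : ∀ {T : Over S} (g g' : T ⟶ A), g ≫ a.1 = g' ≫ a.1 → g = g' := fun {T} g g' h =>
    (ha T ((subFunctor j').map g.op a)).unique rfl (Subtype.ext h.symm)
  haveI : Mono a.1 := ⟨fun g g' => haj g g'⟩
  have hfac : ∀ {T : Over S} (x : T ⟶ G),
      (∀ (Z : Over S') (p : (Over.map π).obj Z ⟶ T), ∃ y : Z ⟶ H', fl π G (y ≫ j') = p ≫ x) →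
      ∃ g : T ⟶ A, g ≫ a.1 = x := fun {T} x hx => by
    obtain ⟨g, hg, -⟩ := ha T ⟨x, hx⟩
    exact ⟨g, congrArg Subtype.val hg⟩
  have hmem : ∀ {T : Over S} (g : T ⟶ A) (Z : Over S') (p : (Over.map π).obj Z ⟶ T),
      ∃ y : Z ⟶ H', fl π G (y ≫ j') = p ≫ g ≫ a.1 := fun {T} g => ((subFunctor j').map g.op a).2
  obtain ⟨hgrp, hhom⟩ := exists_grpObj_of_subgroup a.1
    (fun X g g' => hfac _ fun Z p => by
      obtain ⟨y, hy⟩ := hmem g Z p
      obtain ⟨y', hy'⟩ := hmem g' Z p
      exact ⟨y * y', by rw [MonObj.mul_comp, fl_mul, hy, hy', MonObj.comp_mul]⟩)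
    (hfac _ fun Z p => ⟨1, by rw [MonObj.one_comp, fl_one, MonObj.comp_one]⟩)
    (fun X g => hfac _ fun Z p => by
      obtain ⟨y, hy⟩ := hmem g Z p
      exact ⟨y⁻¹, by rw [GrpObj.inv_comp, fl_inv, hy, GrpObj.comp_inv]⟩)
  letI := hgrp
  haveI := hhom
  obtain ⟨y, hy⟩ := a.2 (Red.bc π A) (fl π A (𝟙 _))
  have hy' : y ≫ j' = (Over.pullback π).map a.1 := fl_injective π G (by
    rw [hy, ← fl_comp_map, Category.id_comp])
  obtain ⟨b, hb⟩ := hfac (fl π G j') ξ.2
  obtain ⟨z, hz⟩ := fl_surjective π A b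
  have hz' : z ≫ (Over.pullback π).map a.1 = j' := fl_injective π G (by rw [fl_comp_map, hz, hb])
  haveI : Mono ((Over.pullback π).map a.1) := inferInstance
  let φ : Red.bc π A ≅ H' := ⟨y, z,
    (cancel_mono ((Over.pullback π).map a.1)).1 (by rw [Category.assoc, hz', hy', Category.id_comp]),
    (cancel_mono j').1 (by rw [Category.assoc, hy', hz', Category.id_comp])⟩
  haveI : IsMonHom ((Over.pullback π).map a.1) := TorsorSch25.isMonHom_of_points _ fun T u v => fl_injective π G (by
    rw [fl_comp_map, fl_mul, fl_mul, MonObj.mul_comp, fl_comp_map, fl_comp_map])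
  haveI : IsMonHom φ.hom := TorsorSch25.isMonHom_of_points y fun T u v => (cancel_mono j').1 (by
    conv_rhs => rw [MonObj.mul_comp]
    rw [Category.assoc, Category.assoc, Category.assoc, hy', MonObj.mul_comp])
  haveI : IsIso y := ⟨⟨z, φ.hom_inv_id, φ.inv_hom_id⟩⟩
  haveI : IsIso y.left := (inferInstance : IsIso ((Over.forget _).map y))
  refine ⟨A, hgrp, a.1, hhom, ?_, ?_, φ, hy'⟩
  · haveI : IsImmersion ((Over.pullback π).map a.1).left := by
      rw [← hy']
      exact (MorphismProperty.cancel_left_of_respectsIso @IsImmersion _ _).2 ‹_›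
    haveI : QuasiCompact ((Over.pullback π).map a.1).left := by
      haveI : IsAffineHom H'.hom := isAffineHom_of_isMultTypeFT hH'
      haveI : IsAffineHom (Red.bc π A).hom := by
        rw [← Over.w y]
        exact (MorphismProperty.cancel_left_of_respectsIso @IsAffineHom _ _).2 ‹_›
      haveI : IsSeparated (Red.bc π G).hom := MorphismProperty.pullback_snd G.hom π inferInstance
      haveI : QuasiCompact (((Over.pullback π).map a.1).left ≫ (Red.bc π G).hom) := by
        rw [show ((Over.pullback π).map a.1).left ≫ (Red.bc π G).hom = (Red.bc π A).hom from Over.w _]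
        infer_instance
      exact QuasiCompact.of_comp _ (Red.bc π G).hom
    have hfam : Presieve.ofArrows (fun _ : PUnit.{u + 1} => pullback G.hom π) (fun _ => pullback.fst G.hom π) ∈
        Scheme.fpqcPrecoverage G.left := by
      haveI : Flat (pullback.fst G.hom π) := MorphismProperty.pullback_fst _ _ ‹_›
      haveI : Surjective (pullback.fst G.hom π) := MorphismProperty.pullback_fst _ _ ‹_›
      haveI := quasiCompactCover_singleton.{u} (pullback.fst G.hom π) (cover_pullback π G.hom hcov)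
      rw [Presieve.ofArrows_pUnit]
      refine ⟨?_, (Scheme.singleton_mem_precoverage_iff _ _).2 ⟨(pullback.fst G.hom π).surjective, ‹_›⟩⟩
      rw [← PreZeroHypercover.presieve₀_singleton, Scheme.presieve₀_mem_qcPrecoverage_iff]
      infer_instance
    haveI := H12.descendsAlong_isImmersion_qc.{u}
    refine (prop_of_fpqc_cover _ hfam (@IsImmersion ⊓ @QuasiCompact) a.1.left fun _ => ?_).1
    let e := (isPullback_map_left π a.1).isoPullback
    have he : e.hom ≫ pullback.snd a.1.left (pullback.fst G.hom π) = ((Over.pullback π).map a.1).left :=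
      (isPullback_map_left π a.1).isoPullback_hom_snd
    exact (MorphismProperty.cancel_left_of_respectsIso (@IsImmersion ⊓ @QuasiCompact) e.hom _).1
      (by rw [he]; exact ⟨inferInstance, inferInstance⟩)
  · refine isMultTypeFT_of_bc π hcov A ?_
    obtain ⟨T, f, hf, hs, hcv, hloc⟩ := hH'
    refine ⟨T, f, hf, hs, hcv, fun t => ?_⟩
    obtain ⟨U, hU, M, _, hfg, ⟨e⟩⟩ := hloc t
    haveI : IsMonHom ((Over.pullback (U.ι ≫ f)).map φ.hom) :=
      TorsorSch25.isMonHom_of_points _ fun T u v => fl_injective _ _ (by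
        rw [fl_comp_map, fl_mul, fl_mul, fl_comp_map, fl_comp_map, MonObj.mul_comp])
    haveI : IsMonHom ((Over.pullback (U.ι ≫ f)).mapIso φ).hom := ‹_›
    exact ⟨U, hU, M, inferInstance, hfg, ⟨Grp.mkIso' ((Over.pullback (U.ι ≫ f)).mapIso φ) ≪≫ e⟩⟩

end Desc

/-- Two subgroups with the same base change along an fpqc covering coincide. -/
theorem exists_fac_of_bc_eq {H₁ H₂ : Over S} (j₁ : H₁ ⟶ G) (j₂ : H₂ ⟶ G) [Mono j₂.left] [Flat π] [Surjective π]
    (hcov : ∀ V : S.Opens, IsAffineOpen V → ∃ W : S'.Opens, IsCompact (W : Set S') ∧ π.base '' (W : Set S') = (V : Set S))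
    (θ : Red.bc π H₁ ⟶ Red.bc π H₂) (hθ : θ ≫ (Over.pullback π).map j₂ = (Over.pullback π).map j₁) :
    ∃ u : H₁ ⟶ H₂, u ≫ j₂ = j₁ := by
  let f : pullback H₁.hom π ⟶ H₁.left := pullback.fst H₁.hom π
  haveI : Flat f := MorphismProperty.pullback_fst _ _ ‹_›
  haveI : Surjective f := MorphismProperty.pullback_fst _ _ ‹_›
  haveI : EffectiveEpi f := effectiveEpi_of_cover _ (cover_pullback π H₁.hom hcov)
  let φ : pullback H₁.hom π ⟶ H₂.left := θ.left ≫ pullback.fst H₂.hom π
  have hφ : φ ≫ j₂.left = f ≫ j₁.left := by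
    have := congrArg (fun k => k.left ≫ pullback.fst G.hom π) hθ
    simp only [Over.comp_left, Category.assoc, map_left_fst] at this
    exact (Category.assoc _ _ _).trans this
  let ψ : H₁.left ⟶ H₂.left := EffectiveEpi.desc f φ fun a b hab => (cancel_mono j₂.left).1 (by
    rw [Category.assoc a, Category.assoc b, hφ, ← Category.assoc a, ← Category.assoc b, hab])
  have hψ : ψ ≫ j₂.left = j₁.left := by
    rw [← cancel_epi f, ← Category.assoc, EffectiveEpi.fac, hφ]
  exact ⟨Over.homMk ψ (by rw [← Over.w j₂, ← Category.assoc, hψ]; exact Over.w j₁), Over.OverMorphism.ext hψ⟩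

end Groth.Agent.MTRigid29
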