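import Groth.Agent.Lib.MTRigid29.TwConstClopen
import Groth.Agent.Lib.Branch14.Corollaries
import Groth.Agent.Lib.EtHull15.Hull

/-!
# Twisted constant schemes over geometrically unibranch bases
-/

set_option autoImplicit false
set_option linter.style.haveILetI false
set_option backward.isDefEq.respectTransparency false
set_option backward.isDefEq.respectTransparency.types false
set_option maxSynthPendingDepth 3

universe u

open CategoryTheory Limits MonoidalCategory CartesianMonoidalCategory AlgebraicGeometry Groth.Agent.EtHull15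

noncomputable section

namespace Groth.Agent.MTRigid29

variable {S : Scheme.{u}}

/-- A point with unibranch local ring has exactly one generisation which is maximal. -/
theorem exists_unique_isGen {Z : Scheme.{u}} (x : Z) (h : CAlg2.IsUnibranch (Z.presheaf.stalk x)) :
    ∃ l, IsGen l ∧ l ⤳ x ∧ ∀ l', IsGen l' → l' ⤳ x → l' = l := by
  haveI : IsDomain (Z.presheaf.stalk x ⧸ nilradical (Z.presheaf.stalk x)) := h.1
  have hp : (nilradical (Z.presheaf.stalk x)).IsPrime := (Ideal.Quotient.isDomain_iff_prime _).1 this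
  let p : Spec (Z.presheaf.stalk x) := ⟨nilradical (Z.presheaf.stalk x), hp⟩
  have hall : ∀ q : Spec (Z.presheaf.stalk x), p ⤳ q := fun q =>
    (PrimeSpectrum.le_iff_specializes p q).1 fun a ha => nilradical_le_prime q.asIdeal ha
  obtain ⟨m, hm, hmx⟩ := exists_isGen (T := Z) x
  have hmem : ∀ z, z ⤳ x → Z.fromSpecStalk x p ⤳ z := fun z hz => by
    have : z ∈ Set.range (Z.fromSpecStalk x) := by rw [Scheme.range_fromSpecStalk]; exact hz
    obtain ⟨q, rfl⟩ := this
    exact (hall q).map (Z.fromSpecStalk x).continuous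
  exact ⟨m, hm, hmx, fun l' hl' hx => ((hl' _ (hmem l' hx)).symm.trans (hm _ (hmem m hmx)))⟩

theorem isGen_image {X Y : Scheme.{u}} (f : X ⟶ Y) [Flat f] {l : X} (hl : IsGen l) : IsGen (f l) := by
  intro z hz
  obtain ⟨z', hz', rfl⟩ := Flat.generalizingMap f hz
  rw [hl z' hz']

theorem isGen_of_image {X Y : Scheme.{u}} (f : X ⟶ Y) [LocallyQuasiFinite f] {l : X} (hl : IsGen (f l)) :
    IsGen l := by
  intro z hz
  have hfz : f z = f l := hl _ (hz.map f.continuous)
  haveI : DiscreteTopology ↥(f.base ⁻¹' {f l}) := (f.isDiscrete_preimage_singleton (f l)).to_subtype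
  have h : (⟨z, hfz⟩ : ↥(f.base ⁻¹' {f l})) ⤳ ⟨l, rfl⟩ := (subtype_specializes_iff _ _).2 hz
  exact congrArg Subtype.val h.eq

/-- Every point has an open neighbourhood with finitely many maximal points. -/
def LocFinGen (Z : Scheme.{u}) : Prop := ∀ x : Z, ∃ V : Z.Opens, x ∈ V ∧ {l | l ∈ V ∧ IsGen l}.Finite

theorem locFinGen_of_noetherian (Z : Scheme.{u}) [IsLocallyNoetherian Z] : LocFinGen Z := by
  intro x
  obtain ⟨V, hV, hxV, -⟩ := exists_isAffineOpen_mem_and_subset (X := Z) (x := x) (U := ⊤) trivial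
  haveI : IsAffine V.toScheme := hV
  haveI : IsLocallyNoetherian V.toScheme := LocallyOfFiniteType.isLocallyNoetherian V.ι
  haveI : IsNoetherian V.toScheme := ⟨⟩
  refine ⟨V, hxV, ((finite_isGen (T := V.toScheme)).image V.ι).subset ?_⟩
  rintro l ⟨hlV, hl⟩
  refine ⟨⟨l, hlV⟩, fun z hz => Subtype.ext (hl _ ?_), rfl⟩
  exact hz.map V.ι.continuous

theorem locFinGen_of_irreducible [IrreducibleSpace S] {Z : Scheme.{u}} (f : Z ⟶ S) [Etale f] : LocFinGen Z := by
  intro x
  haveI : LocallyQuasiFinite f := SchDesc12.locallyQuasiFinite_of_etale f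
  obtain ⟨W, hW, hxW, -⟩ := exists_isAffineOpen_mem_and_subset (X := S) (x := f x) (U := ⊤) trivial
  obtain ⟨V, hV, hxV, hVW⟩ := exists_isAffineOpen_mem_and_subset (X := Z) (x := x) (U := f ⁻¹ᵁ W) hxW
  let k : V.toScheme ⟶ W.toScheme := f.resLE W V hVW
  haveI : IsAffine V.toScheme := hV
  haveI : IsAffine W.toScheme := hW
  haveI : QuasiCompact k := inferInstance
  haveI : LocallyQuasiFinite (V.ι ≫ f) := MorphismProperty.comp_mem _ _ _ inferInstance inferInstance
  haveI : LocallyQuasiFinite (k ≫ W.ι) := by rw [Scheme.Hom.resLE_comp_ι]; infer_instance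
  haveI : LocallyQuasiFinite k := LocallyQuasiFinite.of_comp k W.ι
  have hη : ∀ l : Z, IsGen l → f l = genericPoint S := fun l hl =>
    ((isGen_image f hl) _ (genericPoint_specializes _)).symm
  have hηW : genericPoint S ∈ W := (genericPoint_specializes (f x)).mem_open W.2 hxW
  refine ⟨V, hxV, ((k.finite_preimage_singleton ⟨genericPoint S, hηW⟩).image V.ι).subset ?_⟩
  rintro l ⟨hlV, hl⟩
  refine ⟨⟨l, hlV⟩, ?_, rfl⟩
  show k ⟨l, hlV⟩ = _
  refine W.ι.isOpenEmbedding.injective ?_
  show (k ≫ W.ι) ⟨l, hlV⟩ = genericPoint S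
  rw [Scheme.Hom.resLE_comp_ι]
  exact hη l hl

/-- The closure of a maximal point is open when the components are locally finite and disjoint. -/
theorem isClopen_closure {Z : Scheme.{u}} (huni : ∀ x : Z, CAlg2.IsUnibranch (Z.presheaf.stalk x))
    (hfin : LocFinGen Z) {l : Z} (hl : IsGen l) : IsClopen (closure ({l} : Set Z)) := by
  refine ⟨isClosed_closure, isOpen_iff_forall_mem_open.2 fun x hx => ?_⟩
  obtain ⟨V, hxV, hV⟩ := hfin x
  let B : Set Z := ⋃ m ∈ ({m | m ∈ V ∧ IsGen m} \ {l}), closure {m}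
  have hB : IsClosed B := (hV.subset Set.sdiff_subset).isClosed_biUnion fun _ _ => isClosed_closure
  refine ⟨(V : Set Z) ∩ Bᶜ, ?_, V.2.inter hB.isOpen_compl, hxV, ?_⟩
  · rintro y ⟨hyV, hyB⟩
    obtain ⟨m, hm, hmy, -⟩ := exists_unique_isGen y (huni y)
    by_cases hml : m = l
    · exact specializes_iff_mem_closure.1 (hml ▸ hmy)
    · exact absurd (Set.mem_biUnion (show m ∈ {m | m ∈ V ∧ IsGen m} \ {l} from ⟨⟨hmy.mem_open V.2 hyV, hm⟩, hml⟩)
        (specializes_iff_mem_closure.1 hmy)) hyB
  · intro hxB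
    obtain ⟨m, ⟨⟨-, hm⟩, hml⟩, hmx⟩ := Set.mem_iUnion₂.1 hxB
    obtain ⟨m₀, -, -, huniq⟩ := exists_unique_isGen x (huni x)
    exact hml ((huniq m hm (specializes_iff_mem_closure.2 hmx)).trans
      (huniq l hl (specializes_iff_mem_closure.2 hx)).symm)

theorem isUnibranch_of_etale {Z : Scheme.{u}} (g : Z ⟶ S) [Etale g]
    (hS : ∀ s : S, CAlg2.IsGeomUnibranch (S.presheaf.stalk s)) (z : Z) :
    CAlg2.IsUnibranch (Z.presheaf.stalk z) :=
  ((Branch14.numGeomBranches_eq_one_iff _).1 ((Branch14.numGeomBranchesAt_of_etale g z).trans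
    ((Branch14.numGeomBranches_eq_one_iff _).2 (hS (g z))))).1

theorem etale_of_twConst (X : Over S) (hX : TwC.IsTwConst TwC.Topology.etale X) :
    IsSeparated X.hom ∧ Etale X.hom := by
  obtain ⟨V, f, hf, hV, -⟩ := exists_cover_of_etale hX
  have hP : ∀ s, IsSeparated (pullback.snd X.hom (f s)) ∧ Etale (pullback.snd X.hom (f s)) := fun s => by
    obtain ⟨I, ⟨e⟩⟩ := (hV s).2.2
    rw [← show e.hom.left ≫ (TwC.const (V s) I).hom = pullback.snd X.hom (f s) from Over.w e.hom]
    haveI : IsIso e.hom.left := (inferInstance : IsIso ((Over.forget _).map e.hom))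
    exact ⟨(MorphismProperty.cancel_left_of_respectsIso @IsSeparated _ _).2 isSeparated_const,
      (MorphismProperty.cancel_left_of_respectsIso @Etale _ _).2 etale_const⟩
  haveI : MorphismProperty.DescendsAlong @IsSeparated (@Surjective ⊓ @Flat ⊓ @QuasiCompact) :=
    FpqcDesc.descendsAlong_isSeparated
  exact ⟨prop_of_fpqc_cover f hf @IsSeparated X.hom fun s => (hP s).1,
    prop_of_fpqc_cover f hf @Etale X.hom fun s => (hP s).2⟩

/-- The closure of a maximal point of a twisted constant scheme over a geometrically unibranch base is open and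
closed, and finite over the base. -/
theorem isFinite_closure (hS : ∀ s : S, CAlg2.IsGeomUnibranch (S.presheaf.stalk s))
    (hfin : ∀ (Z : Scheme.{u}) (f : Z ⟶ S), Etale f → LocFinGen Z) (X : Over S)
    (hX : TwC.IsTwConst TwC.Topology.etale X) {l : X.left} (hl : IsGen l) :
    ∃ U : X.left.Opens, (U : Set X.left) = closure ({l} : Set X.left) ∧ IsClosed (U : Set X.left) ∧
      IsFinite (U.ι ≫ X.hom) := by
  classical
  haveI := (etale_of_twConst X hX).2
  have hU := isClopen_closure (isUnibranch_of_etale X.hom hS) (hfin _ X.hom inferInstance) hl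
  let U : X.left.Opens := ⟨_, hU.isOpen⟩
  refine ⟨U, rfl, hU.isClosed, ?_⟩
  haveI : IsClosedImmersion U.ι := by
    refine IsClosedImmersion.iff_isPreimmersion.2 ⟨inferInstance, ?_⟩
    rw [Scheme.Opens.range_ι]; exact hU.isClosed
  let h₀ := U.ι ≫ X.hom
  have hfib : ∀ η₀ : S, IsGen η₀ → (h₀.base ⁻¹' {η₀}).Subsingleton := by
    intro η₀ hη₀ a ha b hb
    have key : ∀ p : U.toScheme, h₀ p = η₀ → U.ι p = l := fun p hp => by
      have hgen : IsGen (U.ι p) := by
        haveI : LocallyQuasiFinite X.hom := SchDesc12.locallyQuasiFinite_of_etale X.hom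
        refine isGen_of_image X.hom ?_
        rw [show X.hom (U.ι p) = η₀ from hp]; exact hη₀
      exact (hgen l (specializes_iff_mem_closure.2 p.2)).symm
    exact U.ι.isOpenEmbedding.injective ((key a ha).trans (key b hb).symm)
  have chart : ∀ t : S, ∃ (W : Scheme.{u}) (g : W ⟶ S), Etale g ∧ t ∈ Set.range g ∧ IsFinite (pullback.snd h₀ g) := by
    intro t
    obtain ⟨V, f, hf, ⟨v, hv⟩, I, ⟨e⟩⟩ := hX t
    haveI := hf
    obtain ⟨A, hA, hvA, -⟩ := exists_isAffineOpen_mem_and_subset (X := S) (x := f v) (U := ⊤) trivial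
    obtain ⟨W₀, hW₀, hvW₀, hW₀A⟩ := exists_isAffineOpen_mem_and_subset (X := V) (x := v) (U := f ⁻¹ᵁ A) hvA
    haveI : IsAffine A.toScheme := hA
    haveI : IsAffine W₀.toScheme := hW₀
    obtain ⟨η', hη', hη'v, -⟩ := exists_unique_isGen (⟨v, hvW₀⟩ : W₀.toScheme) (isUnibranch_of_etale (W₀.ι ≫ f) hS _)
    let C : W₀.toScheme.Opens := ⟨closure {η'},
      (isClopen_closure (isUnibranch_of_etale (W₀.ι ≫ f) hS) (hfin _ (W₀.ι ≫ f) inferInstance) hη').isOpen⟩
    let g : C.toScheme ⟶ S := (C.ι ≫ W₀.ι) ≫ f
    haveI : CompactSpace ↥C.toScheme := isCompact_iff_compactSpace.1 (isClosed_closure.isCompact : IsCompact (C : Set ↥W₀.toScheme))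
    let η : C.toScheme := ⟨η', subset_closure rfl⟩
    have hspec : ∀ c : C.toScheme, η ⤳ c := fun c => (subtype_specializes_iff η c).2 (specializes_iff_mem_closure.2 c.2)
    have hηgen : IsGen η := fun z hz => Subtype.ext (hη' _ (hz.map C.ι.continuous))
    refine ⟨C.toScheme, g, inferInstance, ⟨⟨⟨v, hvW₀⟩, specializes_iff_mem_closure.1 hη'v⟩, hv⟩, ?_⟩
    let e' : Red.bc g X ≅ TwC.const C.toScheme I :=
      (Over.pullbackComp (C.ι ≫ W₀.ι) f).app X ≪≫ (Over.pullback (C.ι ≫ W₀.ι)).mapIso e ≪≫ constBC _ I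
    let k : pullback h₀ g ⟶ (Red.bc g X).left :=
      pullback.lift (pullback.fst _ _ ≫ U.ι) (pullback.snd _ _) (by rw [Category.assoc, pullback.condition])
    have h2 : k ≫ pullback.snd X.hom g = pullback.snd _ _ := pullback.lift_snd _ _ _
    have sql : IsPullback (pullback.fst h₀ g) k U.ι (pullback.fst X.hom g) :=
      IsPullback.of_bot (by rw [h2]; exact IsPullback.of_hasPullback h₀ g)
        (pullback.lift_fst _ _ _).symm (IsPullback.of_hasPullback X.hom g)
    haveI : IsClosedImmersion k := MorphismProperty.of_isPullback sql ‹IsClosedImmersion U.ι›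
    haveI : IsOpenImmersion k := MorphismProperty.of_isPullback sql (inferInstance : IsOpenImmersion U.ι)
    haveI : IsIso e'.hom.left := (inferInstance : IsIso ((Over.forget _).map e'.hom))
    let w := k ≫ e'.hom.left
    have hw : w ≫ (TwC.const C.toScheme I).hom = pullback.snd h₀ g := by
      rw [Category.assoc, Over.w e'.hom]; exact h2
    let J : Set I := {a | (Sigma.ι (fun _ : I => C.toScheme) a) η ∈ Set.range w}
    have hJ : J.Finite := by
      haveI : LocallyQuasiFinite g := SchDesc12.locallyQuasiFinite_of_etale g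
      haveI : LocallyQuasiFinite (pullback.fst h₀ g) := MorphismProperty.pullback_fst _ _ inferInstance
      have h1 : ((pullback.snd h₀ g).base ⁻¹' {η}).Finite := by
        haveI : LocallyQuasiFinite (pullback.snd h₀ g) :=
          MorphismProperty.pullback_snd _ _ (SchDesc12.locallyQuasiFinite_of_etale h₀)
        refine ((hfib _ (isGen_image g hηgen)).finite.preimage' fun p _ => ?_).subset
          (show (pullback.snd h₀ g).base ⁻¹' {η} ⊆ (pullback.fst h₀ g).base ⁻¹' (h₀.base ⁻¹' {g η}) from
            fun q hq => by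
              show h₀ (pullback.fst h₀ g q) = g η
              rw [← Scheme.Hom.comp_apply, pullback.condition, Scheme.Hom.comp_apply,
                show pullback.snd h₀ g q = η from hq])
        let gA : C.toScheme ⟶ A.toScheme := C.ι ≫ f.resLE A W₀ hW₀A
        have hgA : gA ≫ A.ι = g := by
          show (C.ι ≫ f.resLE A W₀ hW₀A) ≫ A.ι = (C.ι ≫ W₀.ι) ≫ f
          rw [Category.assoc, Category.assoc, Scheme.Hom.resLE_comp_ι]
        haveI : QuasiCompact gA := QuasiCompact.of_comp gA (terminal.from A.toScheme)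
        have hrg : Set.range (pullback.fst h₀ g) ⊆ Set.range (h₀ ⁻¹ᵁ A).ι := by
          rintro _ ⟨q, rfl⟩
          rw [Scheme.Opens.range_ι]
          show h₀ (pullback.fst h₀ g q) ∈ A
          rw [← Scheme.Hom.comp_apply, pullback.condition, Scheme.Hom.comp_apply]
          have hq : g (pullback.snd h₀ g q) = A.ι (gA (pullback.snd h₀ g q)) :=
            (congrArg (fun k : C.toScheme ⟶ S => k (pullback.snd h₀ g q)) hgA).symm
          rw [hq]
          exact (gA _).2
        let fst' := IsOpenImmersion.lift (h₀ ⁻¹ᵁ A).ι (pullback.fst h₀ g) hrg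
        have hfac : fst' ≫ (h₀ ⁻¹ᵁ A).ι = pullback.fst h₀ g := IsOpenImmersion.lift_fac _ _ _
        have sqA : IsPullback fst' (pullback.snd h₀ g) (h₀ ∣_ A) gA := by
          refine IsPullback.of_right (h₁₂ := (h₀ ⁻¹ᵁ A).ι) (h₂₂ := A.ι) ?_ ?_ (isPullback_morphismRestrict h₀ A).flip
          · rw [hfac, hgA]; exact IsPullback.of_hasPullback h₀ g
          · rw [← cancel_mono A.ι, Category.assoc, Category.assoc, morphismRestrict_ι, reassoc_of% hfac, hgA,
              pullback.condition]
        haveI : QuasiCompact fst' := MorphismProperty.of_isPullback sqA.flip ‹QuasiCompact gA›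
        haveI : LocallyQuasiFinite (fst' ≫ (h₀ ⁻¹ᵁ A).ι) := by rw [hfac]; infer_instance
        haveI : LocallyQuasiFinite fst' := LocallyQuasiFinite.of_comp fst' (h₀ ⁻¹ᵁ A).ι
        show ((pullback.fst h₀ g).base ⁻¹' {p}).Finite
        rw [← hfac]
        exact (((Set.finite_singleton p).preimage (h₀ ⁻¹ᵁ A).ι.isOpenEmbedding.injective.injOn).preimage'
          fun x _ => fst'.finite_preimage_singleton x).subset fun q hq => hq
      refine ((h1.image w).preimage (f := fun a : I => (Sigma.ι (fun _ : I => C.toScheme) a) η) ?_).subset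
        fun a ha => ?_
      · intro a _ b _ h
        by_contra hab
        exact (disjoint_iff_inf_le.1 (disjoint_opensRange_sigmaι (fun _ : I => C.toScheme) a b hab)
          (x := (Sigma.ι (fun _ : I => C.toScheme) a) η) ⟨⟨η, rfl⟩, ⟨η, h.symm⟩⟩).elim
      · obtain ⟨q, hq⟩ := ha
        refine ⟨q, ?_, hq⟩
        show pullback.snd h₀ g q = η
        rw [← hw, Scheme.Hom.comp_apply, hq]
        exact congrArg (fun k : C.toScheme ⟶ C.toScheme => k η)
          (Sigma.ι_desc (fun _ : I => 𝟙 C.toScheme) a)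
    have hc : IsCompact (Set.range w) := by
      refine (hJ.isCompact_biUnion fun a _ =>
        isCompact_range (Sigma.ι (fun _ : I => C.toScheme) a).continuous).of_isClosed_subset
          w.isClosedEmbedding.isClosed_range fun p hp => ?_
      obtain ⟨a, c, rfl⟩ := (sigmaOpenCover (fun _ : I => C.toScheme)).exists_eq p
      exact Set.mem_iUnion₂.2 ⟨a, ((hspec c).map (Sigma.ι (fun _ : I => C.toScheme) a).continuous).mem_open
        w.isOpenEmbedding.isOpen_range hp, c, rfl⟩
    haveI : CompactSpace ↥(pullback h₀ g) :=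
      isCompact_univ_iff.1 (w.isClosedEmbedding.isInducing.isCompact_iff.2 (by rwa [Set.image_univ]))
    rw [← hw]
    exact isFinite_of_compact w
  choose W g hg ht hW using chart
  have hfam : Presieve.ofArrows W g ∈ Scheme.fpqcPrecoverage S := by
    refine Scheme.fppfPrecoverage_le_fpqcPrecoverage _ ((Scheme.ofArrows_mem_precoverage_iff _).2
      ⟨fun t => ⟨t, ht t⟩, fun t => ?_⟩)
    haveI := hg t
    exact ⟨inferInstance, inferInstance⟩
  haveI : MorphismProperty.DescendsAlong @IsFinite (@Surjective ⊓ @Flat ⊓ @QuasiCompact) :=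
    FpqcDesc.descendsAlong_isFinite
  exact prop_of_fpqc_cover g hfam @IsFinite h₀ hW

/-- Sections of a separated unramified scheme agreeing at the generic point are equal. -/
theorem section_ext [IrreducibleSpace S] (X : Over S) [IsSeparated X.hom] [Etale X.hom] (σ₁ σ₂ : S ⟶ X.left)
    (h₁ : σ₁ ≫ X.hom = 𝟙 S) (h₂ : σ₂ ≫ X.hom = 𝟙 S)
    (h : S.fromSpecResidueField (genericPoint S) ≫ σ₁ = S.fromSpecResidueField (genericPoint S) ≫ σ₂) : σ₁ = σ₂ := by
  let q : S ⟶ pullback X.hom X.hom := pullback.lift σ₁ σ₂ (h₁.trans h₂.symm)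
  let d := pullback.diagonal X.hom
  haveI : IsOpenImmersion (pullback.fst q d) := MorphismProperty.pullback_fst q d inferInstance
  haveI : IsClosedImmersion (pullback.fst q d) := MorphismProperty.pullback_fst q d inferInstance
  let e : Spec (S.residueField (genericPoint S)) ⟶ pullback q d :=
    pullback.lift (S.fromSpecResidueField (genericPoint S)) (S.fromSpecResidueField (genericPoint S) ≫ σ₁)
      (pullback.hom_ext (by simp [q, d]) (by simp [q, d, h]))
  have hη : genericPoint S ∈ Set.range (pullback.fst q d) := by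
    obtain ⟨pt⟩ := (inferInstance : Nonempty (Spec (S.residueField (genericPoint S))))
    refine ⟨e pt, ?_⟩
    rw [← Scheme.Hom.comp_apply, pullback.lift_fst]
    exact S.fromSpecResidueField_apply (genericPoint S) pt
  haveI : Surjective (pullback.fst q d) := ⟨fun s =>
    (genericPoint_specializes s).mem_closed (pullback.fst q d).isClosedEmbedding.isClosed_range hη⟩
  haveI : IsIso (pullback.fst q d) := (isIso_iff_isOpenImmersion_and_surjective _).2 ⟨inferInstance, inferInstance⟩
  have h3 : pullback.fst q d ≫ σ₁ = pullback.fst q d ≫ σ₂ := by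
    have := pullback.condition (f := q) (g := d)
    have a := congrArg (· ≫ pullback.fst X.hom X.hom) this
    have b := congrArg (· ≫ pullback.snd X.hom X.hom) this
    simp [q, d] at a b
    rw [a, b]
  exact (cancel_epi (pullback.fst q d)).1 h3

theorem fromSpecResidueField_congr {Z : Scheme.{u}} {a b : Z} (h : a = b) :
    eqToHom (by rw [h]) ≫ Z.fromSpecResidueField b = Z.fromSpecResidueField a := by
  subst h; simp

/-- A rational point of the generic fibre of an étale separated scheme, lying on an open and closed piece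
which is finite over the base, extends to a section. -/
theorem exists_section_of_finite [IrreducibleSpace S] (hS : ∀ s : S, CAlg2.IsGeomUnibranch (S.presheaf.stalk s))
    (X : Over S) [Etale X.hom] (τ : Spec (S.residueField (genericPoint S)) ⟶ X.left)
    (hτ : τ ≫ X.hom = S.fromSpecResidueField (genericPoint S)) (U : X.left.Opens)
    (hU : ∀ p, (U : Set X.left) = closure {τ p}) (hfinU : IsFinite (U.ι ≫ X.hom)) :
    ∃ σ : S ⟶ X.left, σ ≫ X.hom = 𝟙 S ∧ S.fromSpecResidueField (genericPoint S) ≫ σ = τ := by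
  obtain ⟨pt⟩ := (inferInstance : Nonempty (Spec (S.residueField (genericPoint S))))
  let h₀ := U.ι ≫ X.hom
  have hrange : Set.range τ ⊆ Set.range U.ι := by
    rintro _ ⟨p, rfl⟩
    rw [Scheme.Opens.range_ι, hU p]
    exact subset_closure rfl
  let τ' := IsOpenImmersion.lift U.ι τ hrange
  have hτ'ι : τ' ≫ U.ι = τ := IsOpenImmersion.lift_fac _ _ _
  have hτ' : τ' ≫ h₀ = S.fromSpecResidueField (genericPoint S) := by
    rw [← Category.assoc, hτ'ι, hτ]
  haveI := hfinU
  let l := τ' pt
  have hl : h₀ l = genericPoint S := by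
    rw [← Scheme.Hom.comp_apply, hτ']; exact S.fromSpecResidueField_apply _ _
  have hle : IsGen (genericPoint S) := fun z hz => (hz.antisymm (genericPoint_specializes z)).eq
  haveI : LocallyQuasiFinite h₀ := SchDesc12.locallyQuasiFinite_of_etale h₀
  have honly : ∀ p : U.toScheme, IsGen p → p = l := by
    intro p hp
    have hl' : l ⤳ p := by
      refine U.ι.isOpenEmbedding.isInducing.specializes_iff.1 ?_
      rw [show U.ι l = τ pt by rw [← Scheme.Hom.comp_apply, hτ'ι]]
      refine specializes_iff_mem_closure.2 ?_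
      rw [← hU pt]; exact p.2
    exact (hp l hl').symm
  haveI : Surjective h₀ := ⟨fun s =>
    (genericPoint_specializes s).mem_closed h₀.isClosedMap.isClosed_range ⟨l, hl⟩⟩
  haveI : Mono h₀ := by
    rw [← pullback.isIso_diagonal_iff]
    haveI : IsSeparated h₀ := inferInstance
    haveI : IsOpenImmersion (pullback.diagonal h₀) := inferInstance
    have hfac : ∃ c, U.toScheme.fromSpecResidueField l = c ≫ τ' := by
      obtain ⟨φ, hφ⟩ : ∃ φ : U.toScheme.residueField l ⟶ CommRingCat.of (S.residueField (genericPoint S)),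
          τ' = Spec.map φ ≫ U.toScheme.fromSpecResidueField l := by
        have hl' : τ' (IsLocalRing.closedPoint _) = l := congrArg τ' (Subsingleton.elim _ _)
        refine hl' ▸ ⟨(Scheme.SpecToEquivOfField _ _ τ').2, ?_⟩
        exact ((Scheme.SpecToEquivOfField _ _).symm_apply_apply τ').symm
      obtain ⟨h, hh⟩ : ∃ h, U.toScheme.fromSpecResidueField l ≫ h₀ = h ≫ S.fromSpecResidueField (genericPoint S) := by
        rw [← hl]; exact ⟨_, (Scheme.Hom.SpecMap_residueFieldMap_fromSpecResidueField h₀ l).symm⟩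
      have h1 : Spec.map φ ≫ h = 𝟙 _ := by
        rw [← cancel_mono (S.fromSpecResidueField (genericPoint S)), Category.assoc, ← hh, ← Category.assoc, ← hφ,
          hτ', Category.id_comp]
      have h2 : Spec.preimage h ≫ φ = 𝟙 _ := Spec.map_injective (by rw [Spec.map_comp, Spec.map_preimage, h1, Spec.map_id]; rfl)
      haveI : IsIso φ := by
        refine (ConcreteCategory.isIso_iff_bijective φ).2 ⟨φ.hom.injective, fun y => ⟨Spec.preimage h y, ?_⟩⟩
        show (Spec.preimage h ≫ φ) y = y
        rw [h2]; rfl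
      exact ⟨inv (Spec.map φ), by rw [hφ, IsIso.inv_hom_id_assoc]⟩
    haveI : Surjective (pullback.diagonal h₀) := ⟨fun q => by
      obtain ⟨q', hq', hq'q⟩ := exists_isGen q
      refine hq'q.mem_closed (pullback.diagonal h₀).isClosedEmbedding.isClosed_range ?_
      let r := (pullback h₀ h₀).fromSpecResidueField q'
      have key : ∀ (a : pullback h₀ h₀ ⟶ U.toScheme), Flat a →
          ∃ c, r ≫ a = c ≫ τ' := fun a ha => by
        haveI := ha
        have hal : a q' = l := honly _ (isGen_image a hq')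
        obtain ⟨c, hc⟩ := hfac
        refine ⟨Spec.map (a.residueFieldMap q') ≫ eqToHom (by rw [hal]) ≫ c, ?_⟩
        rw [Category.assoc, Category.assoc, ← hc, ← Scheme.Hom.SpecMap_residueFieldMap_fromSpecResidueField a q']
        congr 1
        exact (fromSpecResidueField_congr hal).symm
      obtain ⟨c₁, hc₁⟩ := key (pullback.fst h₀ h₀) inferInstance
      obtain ⟨c₂, hc₂⟩ := key (pullback.snd h₀ h₀) inferInstance
      have hc : c₁ = c₂ := by
        rw [← cancel_mono (S.fromSpecResidueField (genericPoint S)), ← hτ', ← Category.assoc c₁, ← Category.assoc c₂,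
          ← hc₁, ← hc₂, Category.assoc r, Category.assoc r, pullback.condition]
      have hr : r = (r ≫ pullback.fst h₀ h₀) ≫ pullback.diagonal h₀ := by
        refine pullback.hom_ext (by simp) ?_
        simp only [Category.assoc, pullback.diagonal_snd, Category.comp_id]
        rw [hc₂, hc₁, hc]
      obtain ⟨pt'⟩ := (inferInstance : Nonempty (Spec ((pullback h₀ h₀).residueField q')))
      refine ⟨(r ≫ pullback.fst h₀ h₀) pt', ?_⟩
      rw [← Scheme.Hom.comp_apply, ← hr]
      exact Scheme.fromSpecResidueField_apply _ _⟩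
    exact (isIso_iff_isOpenImmersion_and_surjective _).2 ⟨inferInstance, inferInstance⟩
  haveI : IsIso h₀ := Flat.isIso_of_surjective_of_mono h₀
  refine ⟨inv h₀ ≫ U.ι, by rw [Category.assoc]; exact IsIso.inv_hom_id h₀, ?_⟩
  rw [← Category.assoc, ← hτ', Category.assoc τ', IsIso.hom_inv_id, Category.comp_id, hτ'ι]

end Groth.Agent.MTRigid29
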