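import Groth.Agent.Lib.MTRigid29.SplitTori
import Groth.Agent.Lib.MTRigid29.SubgrpEqvGlobal
import Groth.Agent.Lib.MTRigid29.MonoClosedGlobal
import Groth.Prelude.Def_RedSub

/-!
# Quotients of tori by groups of multiplicative type
-/

set_option autoImplicit false
set_option linter.style.haveILetI false
set_option linter.unusedSectionVars false
set_option backward.isDefEq.respectTransparency.types false
set_option maxSynthPendingDepth 3

universe u

open CategoryTheory Limits MonoidalCategory CartesianMonoidalCategory MonObj AlgebraicGeometry Opposite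

noncomputable section

namespace Groth.Agent.MTRigid29

open DiagGL

variable {S : Scheme.{u}}

/-- A homomorphism constant on the fibres of an fppf covering homomorphism descends along it. -/
theorem exists_desc_hom {T Q G : Over S} [GrpObj T] [GrpObj Q] [GrpObj G] (q : T ⟶ Q) [IsMonHom q] [Flat q.left]
    [Surjective q.left] [LocallyOfFinitePresentation q.left] (p : T ⟶ G) [IsMonHom p]
    (h : ∀ {X : Over S} (a b : X ⟶ T), a ≫ q = b ≫ q → a ≫ p = b ≫ p) :
    ∃ l : Q ⟶ G, IsMonHom l ∧ q ≫ l = p := by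
  haveI : EffectiveEpi q.left := effectiveEpi_of_cover _ fun V hV =>
    q.left.isOpenMap.exists_opens_image_eq_of_prespectralSpace q.left.continuous
      (fun x _ => q.left.surjective x) V.2 hV.isCompact
  have key' : ∀ {W : Scheme.{u}} (g₁ g₂ : W ⟶ T.left), g₁ ≫ q.left = g₂ ≫ q.left →
      g₁ ≫ p.left = g₂ ≫ p.left := by
    intro W g₁ g₂ hg
    let X : Over S := Over.mk (g₁ ≫ T.hom)
    let a : X ⟶ T := Over.homMk g₁ rfl
    let b : X ⟶ T := Over.homMk g₂ (by
      show g₂ ≫ T.hom = g₁ ≫ T.hom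
      rw [← Over.w q, ← Category.assoc, ← hg, Category.assoc])
    exact congrArg CommaMorphism.left (h a b (Over.OverMorphism.ext hg))
  let l₀ := EffectiveEpi.desc q.left p.left key'
  have hl : q.left ≫ l₀ = p.left := EffectiveEpi.fac q.left p.left key'
  let l : Q ⟶ G := Over.homMk l₀ (by rw [← cancel_epi q.left, ← Category.assoc, hl, Over.w, Over.w])
  have hl' : q ≫ l = p := Over.OverMorphism.ext hl
  refine ⟨l, ?_, hl'⟩
  haveI : Flat (q ⊗ₘ q).left :=
    MorphismProperty.pullback_map (P := @Flat) ‹_› ‹_› (Over.w q).symm (Over.w q).symm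
  haveI : Surjective (q ⊗ₘ q).left :=
    MorphismProperty.pullback_map (P := @Surjective) ‹_› ‹_› (Over.w q).symm (Over.w q).symm
  haveI : Epi (q ⊗ₘ q).left := Flat.epi_of_flat_of_surjective _
  haveI : Epi (q ⊗ₘ q) := Over.epi_of_epi_left _
  refine ⟨?_, ?_⟩
  · rw [← IsMonHom.one_hom q, Category.assoc, hl']
    exact IsMonHom.one_hom p
  · rw [← cancel_epi (q ⊗ₘ q), ← IsMonHom.mul_hom_assoc q, hl', IsMonHom.mul_hom p, ← hl', ← tensorHom_comp_tensorHom,
      Category.assoc]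

variable {T H Q : Over S} [GrpObj T] [GrpObj H] [GrpObj Q] {i : H ⟶ T} {q : T ⟶ Q}

theorem quotient_kills [IsMonHom i] [IsMonHom q] (hq : RedSub.IsQuotient i q) : i ≫ q = 1 := by
  obtain ⟨-, -, -, hp⟩ := hq
  have h := congrArg (lift (1 : H ⟶ T) (𝟙 H) ≫ ·) hp.w
  simp only [lift_fst_assoc, Category.assoc, lift_whiskerLeft_assoc, Category.id_comp] at h
  have h2 : lift (1 : H ⟶ T) i ≫ μ[T] = i := by rw [← Hom.mul_def, _root_.one_mul]
  rw [← Category.assoc (lift (1 : H ⟶ T) i), h2, MonObj.one_comp] at h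
  exact h.symm

theorem quotient_fibre [IsMonHom q] (hq : RedSub.IsQuotient i q) {X : Over S} (a b : X ⟶ T) (h : a ≫ q = b ≫ q) :
    ∃ w : X ⟶ H, b = a * (w ≫ i) := by
  obtain ⟨-, -, -, hp⟩ := hq
  let z := hp.lift a b h
  refine ⟨z ≫ snd T H, ?_⟩
  have h1 : z ≫ fst T H = a := hp.lift_fst a b h
  have h2 : z ≫ (T ◁ i) ≫ μ[T] = b := hp.lift_snd a b h
  rw [← h2, Hom.mul_def, ← h1, ← Category.assoc]
  congr 1
  ext <;> simp

/-- Locally on the base the quotient of a split torus by a group of multiplicative type is a split torus. -/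
theorem exists_split_quotient_nhd {M : Type} [AddCommGroup M] [AddGroup.FG M] [IsAddTorsionFree M] (C : Chars M T)
    (i : H ⟶ T) [IsMonHom i] [Mono i] (hH : SGA3x.IsMultTypeFT H) (q : T ⟶ Q) [IsMonHom q]
    (hq : RedSub.IsQuotient i q) (s : S) :
    ∃ U : S.Opens, s ∈ U ∧ IsClosed (U : Set S) ∧ ∃ r : ℕ, r ≤ Module.finrank ℤ M ∧
      Red.IsSplitTorusWith (Fin r → ℤ) (Red.bc U.ι Q) := by
  have hTft := isMultTypeFT_of_chars C
  haveI := isAffineHom_of_isMultTypeFT hTft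
  haveI := isAffineHom_of_isMultTypeFT hH
  haveI := locallyOfFiniteType_of_isMultTypeFT hTft
  obtain ⟨K, _, k, N, _, hfg, hks, ⟨D⟩⟩ := exists_split_point hH s
  haveI := hfg
  haveI := isMonHom_map i k
  obtain ⟨φ, hφ⟩ := exists_mapChS_field D (C.baseChange k T) ((Over.pullback k).map i)
  haveI : Mono (mapChS D (C.baseChange k T) φ) := hφ ▸ inferInstance
  have hφs : Function.Surjective φ := surjective_of_mono_mapChS D (C.baseChange k T) φ
  haveI : Module.Finite ℤ M := Module.Finite.iff_addGroup_fg.2 inferInstance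
  let I : Submodule ℤ M := LinearMap.ker φ.toIntLinearMap
  haveI : Module.Free ℤ I := inferInstance
  let e : (Fin (Module.finrank ℤ I) → ℤ) ≃ₗ[ℤ] I := (Module.finBasis ℤ I).equivFun.symm
  let ψ : (Fin (Module.finrank ℤ I) → ℤ) →+ M := (I.subtype ∘ₗ e.toLinearMap).toAddMonoidHom
  have hψ : Function.Injective ψ := Subtype.val_injective.comp e.injective
  have hψr : ψ.range = φ.ker := by
    ext m
    constructor
    · rintro ⟨v, rfl⟩
      exact (e v).2
    · intro hm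
      exact ⟨e.symm ⟨m, hm⟩, by simp [ψ]⟩
  let χ : M →+ M ⧸ φ.ker := QuotientAddGroup.mk' φ.ker
  let C₂ := charsDS S (Fin (Module.finrank ℤ I) → ℤ)
  let C₃ := charsDS S (M ⧸ φ.ker)
  haveI hfg₂ : AddGroup.FG (Fin (Module.finrank ℤ I) → ℤ) := AddGroup.fg_iff_mul_fg.2 inferInstance
  let κ := mapChS C₃ C χ
  haveI : Mono κ := mono_mapChS C₃ C (QuotientAddGroup.mk'_surjective _)
  haveI : Mono i.left := Over.mono_left_of_mono i
  haveI : Mono κ.left := Over.mono_left_of_mono κ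
  -- the subgroup and the model coincide near the point
  have hpair : PairFG i κ := pairFG_of_base i κ (.inr inferInstance)
  have hhyp : Hyp i κ := ⟨inferInstance, inferInstance, inferInstance, inferInstance, hH,
    isMultTypeFT_of_chars C₃, fun X g h => C.inj fun m => by rw [C.mul, C.mul, _root_.mul_comm], hpair⟩
  obtain ⟨U, hUc, hU, hUe⟩ := good_id hhyp
  let θ : M ⧸ φ.ker ≃+ N := QuotientAddGroup.quotientKerEquivOfSurjective φ hφs
  let E₁ := mapChS D (C₃.baseChange k _) θ.toAddMonoidHom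
  let E₂ := mapChS (C₃.baseChange k _) D θ.symm.toAddMonoidHom
  let Ψ : Red.bc k H ≅ Red.bc k (Red.DS S (M ⧸ φ.ker)) := ⟨E₁, E₂,
    by rw [mapChS_comp, show θ.toAddMonoidHom.comp θ.symm.toAddMonoidHom = AddMonoidHom.id _ from
      AddMonoidHom.ext fun x => θ.apply_symm_apply x, mapChS_id],
    by rw [mapChS_comp, show θ.symm.toAddMonoidHom.comp θ.toAddMonoidHom = AddMonoidHom.id _ from
      AddMonoidHom.ext fun x => θ.symm_apply_apply x, mapChS_id]⟩
  have hk : Eqv i κ k := (eqv_iff_exists_iso i κ k).2 ⟨Ψ, by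
    rw [hφ, pullback_map_mapChS]
    exact (mapChS_comp _ _ _ _ _).trans (congrArg _ (AddMonoidHom.ext fun x => rfl))⟩
  have hsU : s ∈ U := by
    rw [hU, ← hks, Category.comp_id]
    let x := IsLocalRing.closedPoint K
    have h := (eqv_residue i κ k x (𝟙 S)).2 (by
      rw [Category.comp_id]
      exact eqv_comp i κ hk _)
    rwa [Category.comp_id] at h
  rw [Category.comp_id] at hUe
  obtain ⟨ΨU, hΨU⟩ := (eqv_iff_exists_iso i κ U.ι).1 hUe
  refine ⟨U, hsU, hUc, Module.finrank ℤ I, Submodule.finrank_le _, ?_⟩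
  -- work over `U`
  haveI := isMonHom_map q U.ι
  let q₁ := (Over.pullback U.ι).map q
  let D₁ := C.baseChange U.ι T
  let D₂ := C₂.baseChange U.ι (Red.DS S (Fin (Module.finrank ℤ I) → ℤ))
  let D₃ := C₃.baseChange U.ι (Red.DS S (M ⧸ φ.ker))
  have hiq : (Over.pullback U.ι).map i ≫ q₁ = 1 := by
    rw [← Functor.map_comp, quotient_kills hq]
    exact (triv_iff_pullback_map (1 : H ⟶ Q) U.ι).1 fun X x => MonObj.comp_one _
  have hκq : mapChS D₃ D₁ χ ≫ q₁ = 1 := by
    rw [← pullback_map_mapChS, ← cancel_epi ΨU.hom, MonObj.comp_one, ← Category.assoc, hΨU]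
    exact hiq
  haveI := isAffineHom_of_isMultTypeFT (isMultTypeFT_of_chars D₁)
  haveI := isAffineHom_of_isMultTypeFT (isMultTypeFT_of_chars D₂)
  obtain ⟨f, hf, hqf⟩ := exists_factor_mapChS D₁ D₂ D₃ ψ χ hψ (QuotientAddGroup.mk'_surjective _)
    (by rw [QuotientAddGroup.ker_mk', hψr]) q₁ hκq
  -- the inverse
  haveI : Flat q₁.left := MorphismProperty.of_isPullback (P := @Flat) (isPullback_map_left U.ι q) hq.2.1
  haveI : Surjective q₁.left := MorphismProperty.of_isPullback (P := @Surjective) (isPullback_map_left U.ι q) hq.1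
  haveI : LocallyOfFinitePresentation q₁.left :=
    MorphismProperty.of_isPullback (P := @LocallyOfFinitePresentation) (isPullback_map_left U.ι q) hq.2.2.1
  have hψκ : mapChS D₃ D₁ χ ≫ mapChS D₁ D₂ ψ = 1 := by
    rw [mapChS_comp, show χ.comp ψ = 0 from AddMonoidHom.ext fun v =>
      (QuotientAddGroup.eq_zero_iff _).2 (hψr.le ⟨v, rfl⟩), mapChS_zero]
  obtain ⟨g, hg, hqg⟩ := exists_desc_hom q₁ (mapChS D₁ D₂ ψ) fun {X} a b hab => by
    obtain ⟨w, hw⟩ := quotient_fibre hq (fl U.ι T a) (fl U.ι T b)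
      (by rw [← fl_comp_map, ← fl_comp_map]; exact congrArg (fl U.ι Q) hab)
    obtain ⟨w', rfl⟩ := fl_surjective U.ι H w
    rw [← fl_comp_map, ← fl_mul] at hw
    have hb := fl_injective U.ι T hw
    rw [hb, MonObj.mul_comp, Category.assoc w', ← hΨU, Category.assoc, pullback_map_mapChS, hψκ, MonObj.comp_one,
      MonObj.comp_one, _root_.mul_one]
  haveI : Epi (mapChS D₁ D₂ ψ).left := by
    obtain ⟨h1, h2⟩ := flat_surjective_mapChS D₁ D₂ hψ
    haveI := h1
    haveI := h2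
    exact Flat.epi_of_flat_of_surjective _
  haveI : Epi (mapChS D₁ D₂ ψ) := Over.epi_of_epi_left _
  haveI : Epi q₁.left := Flat.epi_of_flat_of_surjective _
  haveI : Epi q₁ := Over.epi_of_epi_left _
  let E : Red.bc U.ι Q ≅ Red.bc U.ι (Red.DS S (Fin (Module.finrank ℤ I) → ℤ)) := ⟨g, f,
    (cancel_epi q₁).1 (by rw [← Category.assoc, hqg, hqf, Category.comp_id]),
    (cancel_epi (mapChS D₁ D₂ ψ)).1 (by rw [← Category.assoc, hqf, hqg, Category.comp_id])⟩
  haveI : IsMonHom E.hom := hg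
  exact chars_split (D₂.transport (Grp.mkIso' E))

theorem isQuotient_bc [Mono i] [IsMonHom i] [IsMonHom q] (hq : RedSub.IsQuotient i q) {S' : Scheme.{u}} (g : S' ⟶ S) :
    RedSub.IsQuotient ((Over.pullback g).map i) ((Over.pullback g).map q) := by
  have hp := hq.2.2.2
  have hact : ∀ {X : Over S'} (z : X ⟶ Red.bc g T ⊗ Red.bc g H),
      z ≫ (Red.bc g T ◁ (Over.pullback g).map i) ≫ μ[Red.bc g T] =
        (z ≫ fst _ _) * ((z ≫ snd _ _) ≫ (Over.pullback g).map i) := fun {X} z => by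
    rw [Hom.mul_def, ← Category.assoc]
    congr 1
    ext <;> simp
  refine ⟨MorphismProperty.of_isPullback (P := @Surjective) (isPullback_map_left g q) hq.1,
    MorphismProperty.of_isPullback (P := @Flat) (isPullback_map_left g q) hq.2.1,
    MorphismProperty.of_isPullback (P := @LocallyOfFinitePresentation) (isPullback_map_left g q) hq.2.2.1,
    IsPullback.mk' ?_ (fun {X} z z' h1 h2 => ?_) (fun {X} a b h => ?_)⟩
  · refine fl_injective g Q ?_
    rw [fl_comp_map, fl_comp_map]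
    conv_rhs => rw [← Category.id_comp (Red.bc g T ◁ _), Category.assoc, hact, fl_mul, MonObj.mul_comp, fl_comp_map,
      Category.assoc, quotient_kills hq, MonObj.comp_one, _root_.mul_one, Category.id_comp]
  · rw [hact, hact, h1, mul_right_inj] at h2
    ext
    · exact congrArg CommaMorphism.left h1
    · exact congrArg CommaMorphism.left ((cancel_mono _).1 h2)
  · obtain ⟨w, hw⟩ := quotient_fibre hq (fl g T a) (fl g T b)
      (by rw [← fl_comp_map, ← fl_comp_map]; exact congrArg (fl g Q) h)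
    obtain ⟨w', rfl⟩ := fl_surjective g H w
    rw [← fl_comp_map, ← fl_mul] at hw
    refine ⟨lift a w', lift_fst _ _, ?_⟩
    rw [hact, lift_fst, lift_snd, fl_injective g T hw]

end Groth.Agent.MTRigid29

namespace Groth.Agent.MTRigid29

open DiagGL

variable {S : Scheme.{u}} {T H Q : Over S} [GrpObj T] [GrpObj H] [GrpObj Q]

theorem isQuotient_split_of_connected [ConnectedSpace ↥S] (r : ℕ) (hT : Red.IsSplitTorusWith (Fin r → ℤ) T)
    (i : H ⟶ T) [IsMonHom i] [Mono i] (hH : SGA3x.IsMultTypeFT H) (q : T ⟶ Q) [IsMonHom q]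
    (hq : RedSub.IsQuotient i q) : ∃ r' : ℕ, r' ≤ r ∧ Red.IsSplitTorusWith (Fin r' → ℤ) Q := by
  obtain ⟨C⟩ := nonempty_chars hT
  haveI : AddGroup.FG (Fin r → ℤ) := AddGroup.fg_iff_mul_fg.2 inferInstance
  obtain ⟨s⟩ : Nonempty ↥S := inferInstance
  obtain ⟨U, hsU, hUc, r', hr', hQ⟩ := exists_split_quotient_nhd C i hH q hq s
  refine ⟨r', by simpa using hr', ?_⟩
  have hall := clopen_top hUc hsU
  haveI : IsIso U.ι := by
    rw [isIso_iff_isOpenImmersion_and_surjective]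
    exact ⟨inferInstance, ⟨fun z => ⟨⟨z, hall ▸ trivial⟩, rfl⟩⟩⟩
  obtain ⟨D⟩ := nonempty_chars hQ
  have D' := charsComp U.ι (inv U.ι) Q (D.baseChange (inv U.ι) (Red.bc U.ι Q))
  rw [IsIso.inv_hom_id] at D'
  obtain ⟨e⟩ := nonempty_bcId Q
  exact chars_split (D'.transport e.symm)

theorem isQuotient_locallySplit (hT : ∀ s : ↥S, ∃ U : S.Opens, s ∈ U ∧ ∃ r : ℕ, Red.IsSplitTorusWith (Fin r → ℤ) (Red.bc U.ι T))
    (i : H ⟶ T) [IsMonHom i] [Mono i] (hH : SGA3x.IsMultTypeFT H) (q : T ⟶ Q) [IsMonHom q]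
    (hq : RedSub.IsQuotient i q) :
    ∀ s : ↥S, ∃ U : S.Opens, s ∈ U ∧ ∃ r : ℕ, Red.IsSplitTorusWith (Fin r → ℤ) (Red.bc U.ι Q) := by
  intro s
  obtain ⟨U, hsU, r, hU⟩ := hT s
  obtain ⟨C⟩ := nonempty_chars hU
  haveI : AddGroup.FG (Fin r → ℤ) := AddGroup.fg_iff_mul_fg.2 inferInstance
  haveI := isMonHom_map i U.ι
  haveI := isMonHom_map q U.ι
  obtain ⟨V, hsV, -, r', -, hQ⟩ := exists_split_quotient_nhd C ((Over.pullback U.ι).map i) (isMultTypeFT_bc hH U.ι)
    ((Over.pullback U.ι).map q) (isQuotient_bc hq U.ι) ⟨s, hsU⟩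
  obtain ⟨D⟩ := nonempty_chars hQ
  let W : S.Opens := U.ι ''ᵁ V
  have hsW : s ∈ W := ⟨⟨s, hsU⟩, hsV, rfl⟩
  let j : (W : Scheme.{u}) ⟶ (V : Scheme.{u}) := IsOpenImmersion.lift (V.ι ≫ U.ι) W.ι (by
    rintro _ ⟨⟨z, y, hy, rfl⟩, rfl⟩
    exact ⟨⟨y, hy⟩, rfl⟩)
  have hj : (j ≫ V.ι) ≫ U.ι = W.ι := by rw [Category.assoc]; exact IsOpenImmersion.lift_fac _ _ _
  have D' := charsComp U.ι (j ≫ V.ι) Q (charsComp V.ι j _ (D.baseChange j _))
  rw [hj] at D'
  exact ⟨W, hsW, r', chars_split D'⟩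

theorem isTorus_quotient (hT : Red.IsTorus T) (i : H ⟶ T) [IsMonHom i] [Mono i] (hH : SGA3x.IsMultTypeFT H)
    (q : T ⟶ Q) [IsMonHom q] (hq : RedSub.IsQuotient i q) : Red.IsTorus Q := by
  obtain ⟨S', f, hf1, hf2, hf3, hf4⟩ := hT
  refine ⟨S', f, hf1, hf2, hf3, fun s => ?_⟩
  obtain ⟨U, hsU, r, hU⟩ := hf4 s
  obtain ⟨C⟩ := nonempty_chars hU
  haveI : AddGroup.FG (Fin r → ℤ) := AddGroup.fg_iff_mul_fg.2 inferInstance
  let g := U.ι ≫ f
  haveI := isMonHom_map i g
  haveI := isMonHom_map q g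
  obtain ⟨V, hsV, -, r', -, hQ⟩ := exists_split_quotient_nhd C ((Over.pullback g).map i) (isMultTypeFT_bc hH g)
    ((Over.pullback g).map q) (isQuotient_bc hq g) ⟨s, hsU⟩
  obtain ⟨D⟩ := nonempty_chars hQ
  let W : S'.Opens := U.ι ''ᵁ V
  have hsW : s ∈ W := ⟨⟨s, hsU⟩, hsV, rfl⟩
  let j : (W : Scheme.{u}) ⟶ (V : Scheme.{u}) := IsOpenImmersion.lift (V.ι ≫ U.ι) W.ι (by
    rintro _ ⟨⟨z, y, hy, rfl⟩, rfl⟩
    exact ⟨⟨y, hy⟩, rfl⟩)
  have hj₀ : j ≫ V.ι ≫ U.ι = W.ι := IsOpenImmersion.lift_fac _ _ _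
  have hj : (j ≫ V.ι) ≫ g = W.ι ≫ f := by
    rw [← hj₀]
    simp [g, Category.assoc]
  have D' := charsComp g (j ≫ V.ι) Q (charsComp V.ι j _ (D.baseChange j _))
  rw [hj] at D'
  exact ⟨W, hsW, r', chars_split D'⟩

theorem cocharacter_factors [ConnectedSpace ↥S] {T T₀ : Over S} [GrpObj T] [GrpObj T₀] (hT : Red.IsTorus T)
    (j₀ : T₀ ⟶ T) (hmax : ∀ (T' : Over S) [GrpObj T'] (j' : T' ⟶ T) [IsMonHom j'] [Mono j'] (r' : ℕ),
      Red.IsSplitTorusWith (Fin r' → ℤ) T' → ∃ g : T' ⟶ T₀, g ≫ j₀ = j')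
    (lam : Red.Gm S ⟶ T) [IsMonHom lam] : ∃ mu : Red.Gm S ⟶ T₀, mu ≫ j₀ = lam := by
  haveI : AddGroup.FG ℤ := AddGroup.fg_iff_mul_fg.2 inferInstance
  obtain ⟨r, T₁, i1, q, j, hq, hj, hjm, hsplit, hqj⟩ :=
    exists_image (isMultTypeFT_of_torus hT) 1 (charsDS S ℤ) lam
  letI := i1
  obtain ⟨g, hg⟩ := hmax T₁ j r hsplit
  exact ⟨q ≫ g, by rw [Category.assoc, hg, hqj]⟩

end Groth.Agent.MTRigid29
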