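import Groth.Agent.Lib.MTRigid29.SplitHom
import Groth.Agent.Lib.MTRigid29.MonoClosedGlobal
import Groth.Agent.Lib.AlgSpDescent.Instances
import Groth.Agent.Lib.FpqcDesc.Basic

/-!
# The loci where a homomorphism of groups of multiplicative type has a given property
-/

set_option autoImplicit false
set_option linter.style.haveILetI false
set_option linter.unusedSectionVars false
set_option backward.isDefEq.respectTransparency.types false
set_option maxSynthPendingDepth 3

universe u

open CategoryTheory Limits MonoidalCategory CartesianMonoidalCategory MonObj AlgebraicGeometry Opposite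

noncomputable section

namespace Groth.Agent.MTRigid29

open DiagGL

variable {S : Scheme.{u}} {G H : Over S} (P : MorphismProperty Scheme.{u}) (u : G ⟶ H)

/-- The base change of `u` along `f` has the property `P`. -/
def MapP {T : Scheme.{u}} (f : T ⟶ S) : Prop := P ((Over.pullback f).map u).left

/-- The locus where `u` has `P` is clopen and `u` has `P` on it. -/
def GoodP {T : Scheme.{u}} (f : T ⟶ S) : Prop :=
  ∃ V : T.Opens, IsClosed (V : Set T) ∧ (∀ t : T, t ∈ V ↔ MapP P u (T.fromSpecResidueField t ≫ f)) ∧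
    MapP P u (V.ι ≫ f)

/-- Compatible squares over `u` compose. -/
theorem exists_isPullback_of_factor {A B : Scheme.{u}} {A' B' : Scheme.{u}} {a : A ⟶ G.left} {v : A ⟶ B}
    {b : B ⟶ H.left} (h : IsPullback a v u.left b) {a' : A' ⟶ G.left} {v' : A' ⟶ B'} {b' : B' ⟶ H.left}
    (h' : IsPullback a' v' u.left b') (θ : B' ⟶ B) (hθ : θ ≫ b = b') :
    ∃ l : A' ⟶ A, IsPullback l v' v θ :=
  ⟨h.lift a' (v' ≫ θ) (by rw [h'.w, Category.assoc, hθ]),
    IsPullback.of_right (by rw [h.lift_fst, hθ]; exact h') (h.lift_snd _ _ _) h⟩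

/-- The comparison of base changes. -/
def bcCompare {T T' : Scheme.{u}} (f : T ⟶ S) (g : T' ⟶ T) : pullback H.hom (g ≫ f) ⟶ pullback H.hom f :=
  pullback.lift (pullback.fst _ _) (pullback.snd _ _ ≫ g) (by rw [pullback.condition, Category.assoc])

theorem isPullback_bcCompare {T T' : Scheme.{u}} (f : T ⟶ S) (g : T' ⟶ T) :
    IsPullback (bcCompare (H := H) f g) (pullback.snd H.hom (g ≫ f)) (pullback.snd H.hom f) g :=
  IsPullback.of_right (by
      rw [bcCompare, pullback.lift_fst]
      exact IsPullback.of_hasPullback H.hom (g ≫ f))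
    (pullback.lift_snd _ _ _) (IsPullback.of_hasPullback H.hom f)

theorem exists_isPullback_bcCompare {T T' : Scheme.{u}} (f : T ⟶ S) (g : T' ⟶ T) :
    ∃ l, IsPullback l ((Over.pullback (g ≫ f)).map u).left ((Over.pullback f).map u).left (bcCompare f g) :=
  exists_isPullback_of_factor u (isPullback_map_left f u) (isPullback_map_left (g ≫ f) u) _ (pullback.lift_fst _ _ _)

variable [P.IsStableUnderBaseChange]

theorem mapP_comp {T T' : Scheme.{u}} {f : T ⟶ S} (h : MapP P u f) (g : T' ⟶ T) : MapP P u (g ≫ f) := by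
  obtain ⟨l, hl⟩ := exists_isPullback_bcCompare u f g
  exact MorphismProperty.of_isPullback hl h

theorem mapP_bc_iff {S' T : Scheme.{u}} (g : S' ⟶ S) (f : T ⟶ S') :
    MapP P ((Over.pullback g).map u) f ↔ MapP P u (f ≫ g) := by
  let e : pullback (pullback.snd H.hom g) f ≅ pullback H.hom (f ≫ g) := pullbackLeftPullbackSndIso H.hom g f
  have h1 := (isPullback_map_left f ((Over.pullback g).map u)).paste_horiz (isPullback_map_left g u)
  have h2 := isPullback_map_left (f ≫ g) u
  constructor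
  · intro h
    obtain ⟨l, hl⟩ := exists_isPullback_of_factor u h1 h2 e.inv (pullbackLeftPullbackSndIso_inv_fst _ _ _)
    exact MorphismProperty.of_isPullback hl h
  · intro h
    obtain ⟨l, hl⟩ := exists_isPullback_of_factor u h2 h1 e.hom (pullbackLeftPullbackSndIso_hom_fst _ _ _)
    exact MorphismProperty.of_isPullback hl h

theorem goodP_bc_iff {S' T : Scheme.{u}} (g : S' ⟶ S) (f : T ⟶ S') :
    GoodP P ((Over.pullback g).map u) f ↔ GoodP P u (f ≫ g) := by
  simp only [GoodP, mapP_bc_iff, Category.assoc]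

variable [P.DescendsAlong (@Surjective ⊓ @Flat ⊓ @QuasiCompact)]

theorem mapP_of_flat_cover {T T' : Scheme.{u}} (q : T' ⟶ T) [Flat q] [Surjective q] [QuasiCompact q]
    {f : T ⟶ S} (h : MapP P u (q ≫ f)) : MapP P u f := by
  obtain ⟨l, hl⟩ := exists_isPullback_bcCompare u f q
  exact MorphismProperty.of_isPullback_of_descendsAlong (Q := @Surjective ⊓ @Flat ⊓ @QuasiCompact) hl.flip
    (MorphismProperty.of_isPullback (P := @Surjective ⊓ @Flat ⊓ @QuasiCompact) (isPullback_bcCompare f q).flip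
      ⟨⟨‹_›, ‹_›⟩, ‹_›⟩) h

theorem mapP_residue {T T' : Scheme.{u}} (q : T' ⟶ T) (t : T') (f : T ⟶ S) :
    MapP P u (T.fromSpecResidueField (q t) ≫ f) ↔ MapP P u (T'.fromSpecResidueField t ≫ q ≫ f) := by
  have key : T'.fromSpecResidueField t ≫ q ≫ f =
      Spec.map (q.residueFieldMap t) ≫ T.fromSpecResidueField (q t) ≫ f := by
    rw [← Category.assoc, ← Category.assoc, Scheme.Hom.SpecMap_residueFieldMap_fromSpecResidueField]
  haveI : Surjective (Spec.map (q.residueFieldMap t)) :=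
    ⟨fun p => ⟨IsLocalRing.closedPoint (T'.residueField t), Subsingleton.elim _ _⟩⟩
  haveI : Flat (Spec.map (q.residueFieldMap t)) :=
    (HasRingHomProperty.Spec_iff (P := @Flat)).2 (RingHom.Flat.of_isField (Field.toIsField _) _)
  rw [key]
  exact ⟨fun h => mapP_comp P u h (Spec.map (q.residueFieldMap t)),
    fun h => mapP_of_flat_cover P u (Spec.map (q.residueFieldMap t)) h⟩

variable [IsZariskiLocalAtTarget P]

theorem mapP_of_cover {T : Scheme.{u}} (f : T ⟶ S)
    (h : ∀ x : T, ∃ (W : Scheme.{u}) (j : W ⟶ T), IsOpenImmersion j ∧ x ∈ Set.range j ∧ MapP P u (j ≫ f)) :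
    MapP P u f := by
  choose W j hj hx hP using h
  let 𝒰 : T.OpenCover := T.openCoverOfIsOpenCover (fun x : T => @Scheme.Hom.opensRange _ _ (j x) (hj x)) (by
    rw [TopologicalSpace.IsOpenCover, _root_.eq_top_iff]
    intro y _
    exact TopologicalSpace.Opens.mem_iSup.2 ⟨y, hx y⟩)
  refine (IsZariskiLocalAtTarget.iff_of_openCover (P := P) (𝒰.pullback₁ (pullback.snd H.hom f))).2 fun x => ?_
  haveI := hj x
  let c : ((@Scheme.Hom.opensRange _ _ (j x) (hj x) : T.Opens) : Scheme.{u}) ⟶ W x :=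
    IsOpenImmersion.lift (j x) (Scheme.Opens.ι _) (by rw [Scheme.Opens.range_ι]; rfl)
  have hc : MapP P u (𝒰.f x ≫ f) := by
    show MapP P u (Scheme.Opens.ι _ ≫ f)
    rw [← IsOpenImmersion.lift_fac (j x) (Scheme.Opens.ι _) (by rw [Scheme.Opens.range_ι]; rfl), Category.assoc]
    exact mapP_comp P u (hP x) c
  obtain ⟨l, hl⟩ := exists_isPullback_bcCompare u f (𝒰.f x)
  let θ : pullback (pullback.snd H.hom f) (𝒰.f x) ≅ pullback H.hom (𝒰.f x ≫ f) :=
    pullbackLeftPullbackSndIso H.hom f (𝒰.f x)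
  show P (pullback.snd ((Over.pullback f).map u).left (pullback.fst (pullback.snd H.hom f) (𝒰.f x)))
  have hθ : θ.hom ≫ bcCompare f (𝒰.f x) = pullback.fst (pullback.snd H.hom f) (𝒰.f x) :=
    pullback.hom_ext
      (by rw [Category.assoc, bcCompare, pullback.lift_fst]; exact pullbackLeftPullbackSndIso_hom_fst _ _ _)
      (by rw [Category.assoc, bcCompare, pullback.lift_snd, ← Category.assoc, pullbackLeftPullbackSndIso_hom_snd,
        pullback.condition])
  have hbase := IsPullback.of_hasPullback ((Over.pullback f).map u).left (pullback.fst (pullback.snd H.hom f) (𝒰.f x))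
  exact MorphismProperty.of_isPullback (f := θ.hom)
    (IsPullback.of_right (h₁₁ := hl.lift (pullback.fst _ _) (pullback.snd _ _ ≫ θ.hom)
      (by rw [Category.assoc, hθ]; exact pullback.condition)) (by rw [hl.lift_fst, hθ]; exact hbase)
      (hl.lift_snd _ _ _) hl) hc

/-- Goodness descends along a flat quasi-compact covering and is local on the source. -/
theorem goodP_descend {T T' : Scheme.{u}} (q : T' ⟶ T) [Flat q] [Surjective q] [QuasiCompact q] (f : T ⟶ S)
    (h : ∀ x : T', ∃ (W : Scheme.{u}) (j : W ⟶ T'), IsOpenImmersion j ∧ x ∈ Set.range j ∧ GoodP P u (j ≫ q ≫ f)) :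
    GoodP P u f := by
  choose W j hj hx V hVc hV hVe using h
  let U₀ : Set T := {t | MapP P u (T.fromSpecResidueField t ≫ f)}
  let V₀ : Set T' := {t | MapP P u (T'.fromSpecResidueField t ≫ q ≫ f)}
  have hpre : q ⁻¹' U₀ = V₀ := Set.ext fun t => mapP_residue P u q t f
  have hloc : ∀ x, j x ⁻¹' V₀ = (V x : Set (W x)) := fun x => Set.ext fun w =>
    (mapP_residue P u (j x) w (q ≫ f)).trans (hV x w).symm
  have hopen : IsOpen V₀ := isOpen_iff_forall_mem_open.2 fun x hxV => by
    haveI := hj x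
    obtain ⟨w, hw⟩ := hx x
    exact ⟨j x '' (j x ⁻¹' V₀), Set.image_preimage_subset _ _,
      (j x).isOpenEmbedding.isOpenMap _ (hloc x ▸ (V x).2), w, show j x w ∈ V₀ by rw [hw]; exact hxV, hw⟩
  have hclosed : IsClosed V₀ := isOpen_compl_iff.1 (isOpen_iff_forall_mem_open.2 fun x hxV => by
    haveI := hj x
    obtain ⟨w, hw⟩ := hx x
    refine ⟨j x '' (j x ⁻¹' V₀)ᶜ, ?_, (j x).isOpenEmbedding.isOpenMap _ ?_, w,
      show j x w ∉ V₀ by rw [hw]; exact hxV, hw⟩
    · rintro _ ⟨z, hz, rfl⟩; exact hz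
    · rw [hloc]; exact (hVc x).isOpen_compl)
  have hq := Flat.isQuotientMap_of_surjective q
  have hU : IsOpen U₀ := hq.isOpen_preimage.1 (hpre ▸ hopen)
  let U : T.Opens := ⟨U₀, hU⟩
  refine ⟨U, hq.isClosed_preimage.1 (show IsClosed (q ⁻¹' U₀) from hpre ▸ hclosed), fun t => Iff.rfl, ?_⟩
  haveI : Flat (q ∣_ U) := IsZariskiLocalAtTarget.restrict ‹_› U
  haveI : Surjective (q ∣_ U) := IsZariskiLocalAtTarget.restrict ‹_› U
  haveI : QuasiCompact (q ∣_ U) := IsZariskiLocalAtTarget.restrict ‹_› U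
  refine mapP_of_flat_cover P u (q ∣_ U) ?_
  rw [← Category.assoc, morphismRestrict_ι, Category.assoc]
  refine mapP_of_cover P u _ fun z => ?_
  let x : T' := (q ⁻¹ᵁ U).ι z
  haveI := hj x
  obtain ⟨w, hw⟩ := hx x
  have hsub : Set.range ((V x).ι ≫ j x) ⊆ Set.range (q ⁻¹ᵁ U).ι := by
    rw [Scheme.Opens.range_ι]
    rintro _ ⟨y, rfl⟩
    show j x ((V x).ι y) ∈ q ⁻¹' U₀
    rw [hpre]
    exact (hloc x).symm.subset y.2
  let k : (V x : Scheme.{u}) ⟶ (q ⁻¹ᵁ U : Scheme.{u}) := IsOpenImmersion.lift (q ⁻¹ᵁ U).ι ((V x).ι ≫ j x) hsub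
  have hk : k ≫ (q ⁻¹ᵁ U).ι = (V x).ι ≫ j x := IsOpenImmersion.lift_fac _ _ _
  haveI : IsOpenImmersion k := by
    haveI : IsOpenImmersion (k ≫ (q ⁻¹ᵁ U).ι) := by rw [hk]; infer_instance
    exact IsOpenImmersion.of_comp k (q ⁻¹ᵁ U).ι
  have hwV : w ∈ (V x : Set (W x)) := by
    rw [← hloc x]
    show j x w ∈ V₀
    rw [hw, ← hpre]
    exact z.2
  refine ⟨_, k, inferInstance, ⟨⟨w, hwV⟩, (q ⁻¹ᵁ U).ι.isOpenEmbedding.injective ?_⟩, ?_⟩
  · rw [← Scheme.Hom.comp_apply, hk]
    exact hw
  · rw [← Category.assoc, hk, Category.assoc]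
    exact hVe x

theorem goodP_of_charts {R : Type u} [CommRing R] (f : Spec (CommRingCat.of R) ⟶ S)
    {J : Type u} [Finite J] (T : J → Type u) [∀ i, CommRing (T i)] [∀ i, Algebra R (T i)]
    (hflat : ∀ i, Module.Flat R (T i))
    (hcov : ∀ q : PrimeSpectrum R, ∃ i, q ∈ Set.range (PrimeSpectrum.comap (algebraMap R (T i))))
    (h : ∀ i, GoodP P u (Spec.map (CommRingCat.ofHom (algebraMap R (T i))) ≫ f)) : GoodP P u f := by
  have hq := sigmaMap_cover (R := R) T hflat hcov
  haveI : Flat (sigmaMap (R := R) T) := hq.1.2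
  haveI : Surjective (sigmaMap (R := R) T) := hq.1.1
  haveI : QuasiCompact (sigmaMap (R := R) T) := hq.2
  refine goodP_descend P u (sigmaMap (R := R) T) f fun x => ?_
  obtain ⟨w, hw⟩ := (sigmaOpenCover fun i => Spec (CommRingCat.of (T i))).covers x
  refine ⟨_, Sigma.ι (fun i => Spec (CommRingCat.of (T i)))
    ((sigmaOpenCover fun i => Spec (CommRingCat.of (T i))).idx x), inferInstance, ⟨w, hw⟩, ?_⟩
  rw [sigmaMap, Sigma.ι_desc_assoc]
  exact h _

/-- A property of homomorphisms of split groups read off on characters. -/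
structure CharCrit (p : ∀ {M₁ M₂ : Type} [AddCommGroup M₁] [AddCommGroup M₂], (M₂ →+ M₁) → Prop) : Prop where
  pos : ∀ {R : Type u} [CommRing R] {H₁ H₂ : Over (Spec (CommRingCat.of R))} [GrpObj H₁] [GrpObj H₂]
    {M₁ M₂ : Type} [AddCommGroup M₁] [AddCommGroup M₂] (C₁ : Chars M₁ H₁) (C₂ : Chars M₂ H₂) (φ : M₂ →+ M₁),
    p φ → P (mapChar C₁ C₂ φ).left
  neg : ∀ {R : Type u} [CommRing R] [Nontrivial R] {H₁ H₂ : Over (Spec (CommRingCat.of R))} [GrpObj H₁] [GrpObj H₂]
    {M₁ M₂ : Type} [AddCommGroup M₁] [AddCommGroup M₂] (C₁ : Chars M₁ H₁) (C₂ : Chars M₂ H₂) (φ : M₂ →+ M₁),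
    P (mapChar C₁ C₂ φ).left → p φ

section Split

variable {R : Type u} [CommRing R] {H₁ H₂ : Over (Spec (CommRingCat.of R))} [GrpObj H₁] [GrpObj H₂]
  {M₁ M₂ : Type} [AddCommGroup M₁] [AddCommGroup M₂]
  {p : ∀ {M₁ M₂ : Type} [AddCommGroup M₁] [AddCommGroup M₂], (M₂ →+ M₁) → Prop}

theorem goodP_split (hp : CharCrit P @p) (C₁ : Chars M₁ H₁) (C₂ : Chars M₂ H₂) [AddGroup.FG M₂] (v : H₁ ⟶ H₂)
    [IsMonHom v] : GoodP P v (𝟙 (Spec (CommRingCat.of R))) := by
  refine goodP_descend P v (𝟙 _) (𝟙 _) fun t => ?_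
  obtain ⟨f, hf, φ, hφ⟩ := exists_local_mapChar C₁ C₂ v t
  let A := Localization.Away f
  let j := Spec.map (CommRingCat.ofHom (algebraMap R A))
  haveI : IsOpenImmersion j := IsOpenImmersion.of_isLocalization f
  have hjt : t ∈ Set.range j := by
    show t ∈ Set.range (PrimeSpectrum.comap (algebraMap R A))
    rw [PrimeSpectrum.localization_away_comap_range A f]
    exact hf
  refine ⟨_, j, inferInstance, hjt, ?_⟩
  rw [Category.id_comp, Category.comp_id]
  have hmap : (Over.pullback j).map v = (Over.pullback j).map (mapChar C₁ C₂ φ) := by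
    refine fl_injective j H₂ ?_
    rw [← Category.id_comp ((Over.pullback j).map v), ← Category.id_comp ((Over.pullback j).map (mapChar C₁ C₂ φ)),
      fl_comp_map, fl_comp_map]
    refine hφ _ ?_ _
    have hu : IsUnit (algebraMap R A f) := IsLocalization.Away.algebraMap_isUnit f
    have h1 := ((hu.map (Scheme.ΓSpecIso (CommRingCat.of A)).inv.hom).map ((Red.bc j H₁).hom.appTop).hom)
    refine (congrArg IsUnit ?_).mpr h1
    show ((Scheme.ΓSpecIso (CommRingCat.of R)).inv ≫ ((Red.bc j H₁).hom ≫ j).appTop).hom f = _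
    rw [Scheme.Hom.comp_appTop, ← Category.assoc, ← Scheme.ΓSpecIso_inv_naturality]
    rfl
  have hiff : ∀ {T : Scheme.{u}} (g : T ⟶ Spec (CommRingCat.of A)),
      MapP P v (g ≫ j) ↔ MapP P (mapChar (C₁.baseChange j H₁) (C₂.baseChange j H₂) φ) g := fun g => by
    rw [← mapP_bc_iff P v j g, hmap, pullback_map_mapChar]
  by_cases hpφ : p φ
  · have hall : ∀ {T : Scheme.{u}} (g : T ⟶ Spec (CommRingCat.of A)), MapP P v (g ≫ j) := fun g =>
      (hiff g).2 (MorphismProperty.of_isPullback (isPullback_map_left g _) (hp.pos _ _ φ hpφ))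
    exact ⟨⊤, isClosed_univ, fun s => iff_of_true trivial (hall _), hall _⟩
  · have hnone : ∀ s, ¬ MapP P v ((Spec (CommRingCat.of A)).fromSpecResidueField s ≫ j) := fun s h => hpφ (by
      let k : Spec (CommRingCat.of ((Spec (CommRingCat.of A)).residueField s : Type u)) ⟶ Spec (CommRingCat.of A) :=
        (Spec (CommRingCat.of A)).fromSpecResidueField s
      have h2 : MapP P (mapChar (C₁.baseChange j H₁) (C₂.baseChange j H₂) φ) k := (hiff _).1 h
      rw [MapP, pullback_map_mapChar] at h2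
      exact hp.neg _ _ φ h2)
    refine ⟨⊥, isClosed_empty, fun s => iff_of_false id (hnone s), ?_⟩
    exact mapP_of_cover P v _ fun x => False.elim x.2

end Split

variable [GrpObj G] [GrpObj H] [IsMonHom u]
  {p : ∀ {M₁ M₂ : Type} [AddCommGroup M₁] [AddCommGroup M₂], (M₂ →+ M₁) → Prop}

theorem isMonHom_map {S' : Scheme.{u}} (g : S' ⟶ S) : IsMonHom ((Over.pullback g).map u) :=
  TorsorSch25.isMonHom_of_points _ fun T a b => fl_injective g H (by
    rw [fl_comp_map, fl_mul, fl_mul, fl_comp_map, fl_comp_map, MonObj.mul_comp])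

/-- The locus where a homomorphism to a group of multiplicative type and of finite type has a property read
off on characters is open and closed. -/
theorem exists_clopen_locus (hp : CharCrit P @p) (hG : IsMT G) (hH : SGA3x.IsMultTypeFT H) :
    ∃ U : S.Opens, IsClosed (U : Set S) ∧
      (∀ s : S, s ∈ U ↔ MapP P u (S.fromSpecResidueField s)) ∧ MapP P u U.ι := by
  have key : GoodP P u (𝟙 S) := by
    refine goodP_descend P u (𝟙 S) (𝟙 S) fun x => ?_
    obtain ⟨V, hV, hxV, -⟩ := exists_isAffineOpen_mem_and_subset (x := x) (U := ⊤) trivial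
    refine ⟨_, hV.fromSpec, inferInstance, by rw [hV.range_fromSpec]; exact hxV, ?_⟩
    rw [Category.id_comp, Category.comp_id]
    obtain ⟨J, hJ, T, _, _, hflat, hcov, hC⟩ := exists_charts hG hV.fromSpec
    refine goodP_of_charts P u hV.fromSpec T hflat hcov fun i => ?_
    obtain ⟨M₁, _, ⟨C₁⟩⟩ := hC i
    let k := Spec.map (CommRingCat.ofHom (algebraMap Γ(S, V) (T i)))
    haveI := isMonHom_map u hV.fromSpec
    haveI := isMonHom_map ((Over.pullback hV.fromSpec).map u) k
    have h2 : SGA3x.IsMultTypeFT (Red.bc k (Red.bc hV.fromSpec H)) :=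
      isMultTypeFT_bc (isMultTypeFT_bc hH hV.fromSpec) k
    obtain ⟨J', hJ', T', _, _, hflat', hcov', hC'⟩ := exists_charts_ft h2 (𝟙 (Spec (CommRingCat.of (T i))))
    have goal : GoodP P ((Over.pullback k).map ((Over.pullback hV.fromSpec).map u)) (𝟙 _) := by
      refine goodP_of_charts P _ (𝟙 _) T' hflat' hcov' fun j => ?_
      obtain ⟨M₂, _, hfg, ⟨C₂⟩⟩ := hC' j
      haveI := hfg
      let k' := Spec.map (CommRingCat.ofHom (algebraMap (T i) (T' j)))
      haveI := isMonHom_map ((Over.pullback k).map ((Over.pullback hV.fromSpec).map u))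
        (𝟙 (Spec (CommRingCat.of (T i))))
      haveI := isMonHom_map ((Over.pullback (𝟙 (Spec (CommRingCat.of (T i))))).map
        ((Over.pullback k).map ((Over.pullback hV.fromSpec).map u))) k'
      have hg := goodP_split P hp ((C₁.baseChange _ _).baseChange _ _) C₂
        ((Over.pullback k').map ((Over.pullback (𝟙 (Spec (CommRingCat.of (T i))))).map
          ((Over.pullback k).map ((Over.pullback hV.fromSpec).map u))))
      rw [goodP_bc_iff, goodP_bc_iff, Category.id_comp] at hg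
      exact hg
    rw [goodP_bc_iff, goodP_bc_iff, Category.id_comp] at goal
    exact goal
  simpa only [GoodP, Category.comp_id] using key

theorem charCrit_mono : CharCrit (MorphismProperty.monomorphisms Scheme.{u})
    (fun {_ _} _ _ φ => Function.Surjective φ) where
  pos C₁ C₂ φ h := by
    haveI := mono_mapChar C₁ C₂ h
    exact inferInstanceAs (Mono (mapChar C₁ C₂ φ).left)
  neg C₁ C₂ φ h := by
    haveI : Mono (mapChar C₁ C₂ φ).left := h
    haveI : Mono (mapChar C₁ C₂ φ) := Over.mono_of_mono_left _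
    exact surjective_of_mono C₁ C₂

theorem charCrit_ff : CharCrit (@Flat ⊓ @Surjective : MorphismProperty Scheme.{u})
    (fun {_ _} _ _ φ => Function.Injective φ) where
  pos C₁ C₂ φ h := flat_surjective_mapChar C₁ C₂ h
  neg C₁ C₂ φ h := by
    haveI : Flat (mapChar C₁ C₂ φ).left := h.1
    haveI : Surjective (mapChar C₁ C₂ φ).left := h.2
    haveI : Epi (mapChar C₁ C₂ φ).left := Flat.epi_of_flat_of_surjective _
    haveI : Epi (mapChar C₁ C₂ φ) := Over.epi_of_epi_left _
    exact injective_of_epi C₁ C₂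

theorem charCrit_iso : CharCrit (MorphismProperty.isomorphisms Scheme.{u})
    (fun {_ _} _ _ φ => Function.Bijective φ) where
  pos C₁ C₂ φ h := by
    haveI := isIso_mapChar C₁ C₂ h
    exact ((Over.forget _).mapIso (asIso (mapChar C₁ C₂ φ))).isIso_hom
  neg C₁ C₂ φ h := by
    haveI : IsIso (mapChar C₁ C₂ φ).left := h
    haveI : Mono (mapChar C₁ C₂ φ) := Over.mono_of_mono_left _
    haveI : Epi (mapChar C₁ C₂ φ) := Over.epi_of_epi_left _
    exact ⟨injective_of_epi C₁ C₂, surjective_of_mono C₁ C₂⟩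

end Groth.Agent.MTRigid29

namespace Groth.Agent.MTRigid29

open DiagGL

variable {S : Scheme.{u}}

theorem isMultTypeFT_of_torus {T : Over S} [GrpObj T] (h : Red.IsTorus T) : SGA3x.IsMultTypeFT T := by
  obtain ⟨S', f, h1, h2, h3, h4⟩ := h
  refine ⟨S', f, h1, h2, h3, fun s => ?_⟩
  obtain ⟨U, hU, r, ⟨e⟩⟩ := h4 s
  exact ⟨U, hU, Fin r → ℤ, inferInstance, AddGroup.fg_iff_mul_fg.2 inferInstance, ⟨e⟩⟩

/-- A monomorphism of split groups with isomorphic finitely generated character groups over a field is an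
isomorphism. -/
theorem isIso_of_mono_split_field {K : Type u} [Field K] {H₁ H₂ : Over (Spec (CommRingCat.of K))} [GrpObj H₁]
    [GrpObj H₂] {M : Type} [AddCommGroup M] [AddGroup.FG M] (C₁ : Chars M H₁) (C₂ : Chars M H₂) (v : H₁ ⟶ H₂)
    [IsMonHom v] [Mono v] : IsIso v := by
  obtain ⟨f, hf, φ, hφ⟩ := exists_local_mapChar C₁ C₂ v (IsLocalRing.closedPoint K)
  have hf0 : f ≠ 0 := fun h => hf (h ▸ zero_mem _)
  have hv : v = mapChar C₁ C₂ φ := by
    rw [← Category.id_comp v, hφ H₁ ((isUnit_iff_ne_zero.2 hf0).map _) (𝟙 _), Category.id_comp]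
  subst hv
  have hsurj : Function.Surjective φ := surjective_of_mono C₁ C₂
  haveI : Module.Finite ℤ M := Module.Finite.iff_addGroup_fg.2 inferInstance
  exact isIso_mapChar C₁ C₂ ⟨OrzechProperty.injective_of_surjective_endomorphism φ.toIntLinearMap hsurj, hsurj⟩

theorem isIso_of_mono_tori {T T' : Over S} [GrpObj T] [GrpObj T'] (hT : Red.IsTorus T) (hT' : Red.IsTorus T')
    (f : T ⟶ T') [IsMonHom f] [Mono f] (hrk : ∀ s : S, ∃ r : ℕ, Red.IsSplitTorusWith (Fin r → ℤ) (Red.geomFibre s T) ∧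
      Red.IsSplitTorusWith (Fin r → ℤ) (Red.geomFibre s T')) : IsIso f := by
  obtain ⟨U, -, hU, hUP⟩ := exists_clopen_locus _ f charCrit_iso (isMT_of_ft (isMultTypeFT_of_torus hT))
    (isMultTypeFT_of_torus hT')
  have hall : ∀ s : S, s ∈ U := fun s => by
    rw [hU]
    obtain ⟨r, h₁, h₂⟩ := hrk s
    obtain ⟨C₁⟩ := nonempty_chars h₁
    obtain ⟨C₂⟩ := nonempty_chars h₂
    haveI : AddGroup.FG (Fin r → ℤ) := AddGroup.fg_iff_mul_fg.2 inferInstance
    haveI := isMonHom_map f (Red.geomPt s)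
    haveI : Mono ((Over.pullback (Red.geomPt s)).map f) := inferInstance
    haveI := isIso_of_mono_split_field C₁ C₂ ((Over.pullback (Red.geomPt s)).map f)
    let q := Spec.map (CommRingCat.ofHom (algebraMap (S.residueField s) (AlgebraicClosure (S.residueField s))))
    haveI : Surjective q := ⟨fun p => ⟨IsLocalRing.closedPoint _, Subsingleton.elim _ _⟩⟩
    haveI : Flat q :=
      (HasRingHomProperty.Spec_iff (P := @Flat)).2 (RingHom.Flat.of_isField (Field.toIsField _) _)
    exact mapP_of_flat_cover _ f q (f := S.fromSpecResidueField s)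
      ((Over.forget _).mapIso (asIso ((Over.pullback (Red.geomPt s)).map f))).isIso_hom
  haveI : IsIso U.ι := by
    rw [isIso_iff_isOpenImmersion_and_surjective]
    exact ⟨inferInstance, ⟨fun s => ⟨⟨s, hall s⟩, rfl⟩⟩⟩
  have h1 : MapP (MorphismProperty.isomorphisms Scheme.{u}) f (𝟙 S) := by
    rw [← IsIso.inv_hom_id U.ι]
    exact mapP_comp _ f hUP _
  haveI : IsIso ((Over.forget S).map ((Over.pullback (𝟙 S)).map f)) := h1
  haveI : IsIso ((Over.pullback (𝟙 S)).map f) :=
    isIso_of_reflects_iso _ (Over.forget S)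
  exact (NatIso.isIso_map_iff (Over.pullbackId (X := S)) f).1 inferInstance

end Groth.Agent.MTRigid29

namespace Groth.Agent.MTRigid29

instance descendsAlong_monomorphisms :
    (MorphismProperty.monomorphisms Scheme.{u}).DescendsAlong (@Surjective ⊓ @Flat ⊓ @QuasiCompact) :=
  MorphismProperty.diagonal_isomorphisms (C := Scheme.{u}) ▸ inferInstance

end Groth.Agent.MTRigid29
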