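import Groth.Agent.Lib.MTRigid29.TransporterSmooth

/-!
# Etale-local conjugacy
-/

set_option autoImplicit false
set_option linter.style.haveILetI false
set_option backward.isDefEq.respectTransparency.types false
set_option maxSynthPendingDepth 3

universe u

open CategoryTheory Limits MonoidalCategory CartesianMonoidalCategory MonObj AlgebraicGeometry Opposite

noncomputable section

namespace Groth.Agent.MTRigid29

open DiagGL

variable {S : Scheme.{u}} {G H H₁ H₂ : Over S} [GrpObj G] [GrpObj H] [GrpObj H₁] [GrpObj H₂]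

omit [GrpObj G] in
/-- A smooth scheme over the base with a geometric point over `s` has a section etale near `s`. -/
theorem exists_etale_point_of_geomPt {T : Over S} [Smooth T.hom] (s : S) (t : Over.mk (Red.geomPt s) ⟶ T) :
    ∃ (S' : Scheme.{u}) (e : S' ⟶ S), Etale e ∧ s ∈ Set.range e.base ∧ Nonempty (Over.mk e ⟶ T) := by
  let q := Spec.map (CommRingCat.ofHom (algebraMap (S.residueField s) (AlgebraicClosure (S.residueField s))))
  let pt : Spec (CommRingCat.of (AlgebraicClosure (S.residueField s))) := default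
  have h0 : Red.geomPt s pt = s := by
    show (q ≫ S.fromSpecResidueField s) pt = s
    rw [Scheme.Hom.comp_apply]
    exact Scheme.fromSpecResidueField_apply s (q pt)
  have h1 : t.left ≫ T.hom = Red.geomPt s := Over.w t
  have hx : T.hom (t.left pt) = s := by
    refine Eq.trans ?_ h0
    exact (Scheme.Hom.comp_apply t.left T.hom pt).symm.trans (congrArg (fun f : _ ⟶ S => f pt) h1)
  obtain ⟨S', e, s', he, hs', h, hh⟩ := SmoothSection.exists_etale_section T.hom (t.left pt)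
  exact ⟨S', e, he, ⟨s', hs'.trans hx⟩, ⟨Over.homMk h hh⟩⟩

/-- A point over `f` as a section of the base change, with what it evaluates to. -/
theorem exists_section_bc {S' : Scheme.{u}} (f : S' ⟶ S) (g₁ : Over.mk f ⟶ G) :
    ∃ g : 𝟙_ (Over S') ⟶ Red.bc f G, ∀ Y : Over S', ∃ x : (Over.map f).obj Y ⟶ Over.mk f,
      fl f G (toUnit Y ≫ g) = x ≫ g₁ := by
  let j : (Over.map f).obj (𝟙_ (Over S')) ⟶ Over.mk f :=
    Over.homMk (𝟙 _) (by show 𝟙 _ ≫ f = 𝟙 _ ≫ f; rfl)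
  obtain ⟨g, hg⟩ := fl_surjective f G (j ≫ g₁)
  exact ⟨g, fun Y => ⟨(Over.map f).map (toUnit Y) ≫ j, by rw [fl_comp, hg, Category.assoc]⟩⟩

theorem exists_etale_conj_hom (hH : SGA3x.IsMultTypeFT H) (hG : Smooth G.hom) (hGa : IsAffineHom G.hom)
    (u₁ u₂ : H ⟶ G) [IsMonHom u₁] [IsMonHom u₂] (s : S)
    (hgeom : ∃ g : Over.mk (Red.geomPt s) ⟶ G, ∀ (X : Over S) (p : X ⟶ Over.mk (Red.geomPt s)) (h : X ⟶ H),
      h ≫ u₂ = (p ≫ g) * (h ≫ u₁) * (p ≫ g)⁻¹) :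
    ∃ (S' : Scheme.{u}) (f : S' ⟶ S), Etale f ∧ s ∈ Set.range f.base ∧ ∃ g : 𝟙_ (Over S') ⟶ Red.bc f G,
      ∀ (X : Over S') (h : X ⟶ Red.bc f H),
        h ≫ (Over.pullback f).map u₂ = (toUnit X ≫ g) * (h ≫ (Over.pullback f).map u₁) * (toUnit X ≫ g)⁻¹ := by
  obtain ⟨T, j, -, hT, hiff⟩ := exists_transporter_hom_smooth hH hG hGa u₁ u₂
  haveI := hT
  obtain ⟨g, hg⟩ := hgeom
  obtain ⟨t, -⟩ := (hiff _ g).2 fun X' x h => (hg X' x h).symm
  obtain ⟨S', f, hf, hs, ⟨l⟩⟩ := exists_etale_point_of_geomPt s t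
  obtain ⟨g', hg'⟩ := exists_section_bc f (l ≫ j)
  refine ⟨S', f, hf, hs, g', fun X h => fl_injective f G ?_⟩
  obtain ⟨x, hx⟩ := hg' X
  rw [fl_mul, fl_mul, fl_comp_map, fl_comp_map, fl_inv f G, hx]
  exact ((hiff _ (l ≫ j)).1 ⟨l, rfl⟩ _ x (fl f H h)).symm

theorem exists_etale_conj_subgroups (h₁ : SGA3x.IsMultTypeFT H₁) (h₂ : SGA3x.IsMultTypeFT H₂) (hG : Smooth G.hom)
    (hGa : IsAffineHom G.hom) (i₁ : H₁ ⟶ G) [IsMonHom i₁] [Mono i₁] (i₂ : H₂ ⟶ G) [IsMonHom i₂] [Mono i₂] (s : S)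
    (hgeom : ∃ g : Over.mk (Red.geomPt s) ⟶ G, ∀ (X : Over S) (p : X ⟶ Over.mk (Red.geomPt s)),
      (∀ a : X ⟶ H₁, ∃ b : X ⟶ H₂, (p ≫ g) * (a ≫ i₁) * (p ≫ g)⁻¹ = b ≫ i₂) ∧
      (∀ b : X ⟶ H₂, ∃ a : X ⟶ H₁, (p ≫ g)⁻¹ * (b ≫ i₂) * (p ≫ g) = a ≫ i₁)) :
    ∃ (S' : Scheme.{u}) (f : S' ⟶ S), Etale f ∧ s ∈ Set.range f.base ∧ ∃ g : 𝟙_ (Over S') ⟶ Red.bc f G,
      SGA3x.ConjBy ((Over.pullback f).map i₁) ((Over.pullback f).map i₂) g := by
  obtain ⟨T, j, -, hT, hiff⟩ := exists_transporter_conj_smooth h₁ h₂ hG hGa i₁ i₂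
  haveI := hT
  obtain ⟨g, hg⟩ := hgeom
  obtain ⟨t, -⟩ := (hiff _ g).2 hg
  obtain ⟨S', f, hf, hs, ⟨l⟩⟩ := exists_etale_point_of_geomPt s t
  obtain ⟨g', hg'⟩ := exists_section_bc f (l ≫ j)
  have key : ∀ (Y : Over S'),
      (∀ a : Y ⟶ Red.bc f H₁, ∃ b : Y ⟶ Red.bc f H₂, (toUnit Y ≫ g') * (a ≫ (Over.pullback f).map i₁) *
        (toUnit Y ≫ g')⁻¹ = b ≫ (Over.pullback f).map i₂) ∧
      (∀ b : Y ⟶ Red.bc f H₂, ∃ a : Y ⟶ Red.bc f H₁, (toUnit Y ≫ g')⁻¹ * (b ≫ (Over.pullback f).map i₂) *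
        (toUnit Y ≫ g') = a ≫ (Over.pullback f).map i₁) := by
    intro Y
    obtain ⟨x, hx⟩ := hg' Y
    refine ⟨fun a => ?_, fun b => ?_⟩
    · obtain ⟨c, hc⟩ := ((hiff _ (l ≫ j)).1 ⟨l, rfl⟩ _ x).1 (fl f H₁ a)
      obtain ⟨z, rfl⟩ := fl_surjective f H₂ c
      refine ⟨z, fl_injective f G ?_⟩
      rw [fl_mul, fl_mul, fl_comp_map, fl_comp_map, fl_inv f G, hx]
      exact hc
    · obtain ⟨c, hc⟩ := ((hiff _ (l ≫ j)).1 ⟨l, rfl⟩ _ x).2 (fl f H₂ b)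
      obtain ⟨z, rfl⟩ := fl_surjective f H₁ c
      refine ⟨z, fl_injective f G ?_⟩
      rw [fl_mul, fl_mul, fl_comp_map, fl_comp_map, fl_inv f G, hx]
      exact hc
  haveI : Mono ((Over.pullback f).map i₁) := inferInstance
  haveI : Mono ((Over.pullback f).map i₂) := inferInstance
  obtain ⟨φ, hφ⟩ := (key (Red.bc f H₁)).1 (𝟙 _)
  obtain ⟨ψ, hψ⟩ := (key (Red.bc f H₂)).2 (𝟙 _)
  rw [Category.id_comp] at hφ hψ
  have hnat : ∀ {Y Y' : Over S'} (k : Y' ⟶ Y), k ≫ toUnit Y ≫ g' = toUnit Y' ≫ g' := fun k => by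
    rw [← Category.assoc, toUnit_unique (k ≫ toUnit _) (toUnit _)]
  refine ⟨S', f, hf, hs, g', ⟨φ, ψ, ?_, ?_⟩, hφ⟩
  · refine (cancel_mono ((Over.pullback f).map i₁)).1 ?_
    rw [Category.assoc, ← hψ, MonObj.comp_mul, MonObj.comp_mul, GrpObj.comp_inv, hnat, ← hφ, Category.id_comp]
    group
  · refine (cancel_mono ((Over.pullback f).map i₂)).1 ?_
    rw [Category.assoc, ← hφ, MonObj.comp_mul, MonObj.comp_mul, GrpObj.comp_inv, hnat, ← hψ, Category.id_comp]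
    group

end Groth.Agent.MTRigid29
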