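import Groth.Agent.Lib.MTRigid29.HomDual
import Groth.Agent.Lib.MTRigid29.Descends
import Groth.Agent.Lib.TorsorSch25.Transfer
import Groth.Prelude.Def_SGA3x

/-!
# Groups of multiplicative type are flat
-/

set_option autoImplicit false
set_option linter.style.haveILetI false
set_option backward.isDefEq.respectTransparency false
set_option backward.isDefEq.respectTransparency.types false
set_option maxSynthPendingDepth 3

universe u

open CategoryTheory Limits AlgebraicGeometry

noncomputable section

namespace Groth.Agent.MTRigid29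

variable {S : Scheme.{u}}

theorem flat_DS (S : Scheme.{u}) (M : Type) [AddCommGroup M] : Flat (Red.DS S M).hom := by
  show Flat (pullback.snd (Red.diag (ULift.{u} ℤ) M).hom _)
  have h : Flat (Spec.map (CommRingCat.ofHom
      (algebraMap (ULift.{u} ℤ) (MonoidAlgebra (ULift.{u} ℤ) (Multiplicative M))))) :=
    HasRingHomProperty.Spec_iff.2 (RingHom.flat_algebraMap_iff.2 inferInstance)
  exact MorphismProperty.pullback_snd _ _ h

theorem flat_of_isMultTypeFT {H : Over S} [GrpObj H] (hH : SGA3x.IsMultTypeFT H) : Flat H.hom := by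
  obtain ⟨κ, V, f, hf, hV, -⟩ := exists_cover_of_fpqc (show TwC.Locally S TwC.Topology.fpqc (fun U g =>
    ∃ (M : Type) (_ : AddCommGroup M), AddGroup.FG M ∧
      Nonempty (Grp.mk (Red.bc g H) ≅ Grp.mk (Red.DS U M))) from hH)
  haveI := TorsorSch25.flat_descendsAlong.{u}
  refine prop_of_fpqc_cover f hf @Flat _ fun i => ?_
  obtain ⟨M, _, -, ⟨e⟩⟩ := (hV i).2.2
  rw [← show e.hom.hom.hom.left ≫ (Red.DS (V i) M).hom = pullback.snd H.hom (f i) from Over.w e.hom.hom.hom]
  haveI : IsIso e.hom.hom.hom.left :=
    (inferInstance : IsIso ((Grp.forget (Over (V i)) ⋙ Over.forget _).map e.hom))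
  exact (MorphismProperty.cancel_left_of_respectsIso @Flat _ _).2 (flat_DS (V i) M)

end Groth.Agent.MTRigid29
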