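import Groth.Agent.Lib.MTRigid29.ConjMain
import Groth.Agent.Lib.MTRigid29.Global
import Groth.Agent.Lib.MultType.HomLift

/-!
# Lifting homomorphisms between groups of multiplicative type in point form
-/

set_option autoImplicit false
set_option linter.style.haveILetI false
set_option backward.isDefEq.respectTransparency.types false

universe u

open CategoryTheory Limits MonoidalCategory CartesianMonoidalCategory MonObj AlgebraicGeometry Opposite
open scoped TensorProduct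
open WithConv

noncomputable section

namespace Groth.Agent.MTRigid29

open MultTypeLib (IsInt KT)

variable {R : Type u} [CommRing R]

/-- Split by finitely many faithfully flat charts. -/
def IsSplit (A : Type u) [CommRing A] [HopfAlgebra R A] : Prop :=
  ∃ (Idx : Type u) (_ : Finite Idx) (T : Idx → Type u) (_ : ∀ i, CommRing (T i)) (_ : ∀ i, Algebra R (T i)),
    Module.FaithfullyFlat R (Π i, T i) ∧ ∀ i, SGA3b.IsDiag (T i) (T i ⊗[R] A)

/-- An affine model with an integral and a splitting. -/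
theorem exists_model_split {H : Over (Spec (CommRingCat.of R))} [GrpObj H] (hH : IsMT H) :
    ∃ (A : Type u) (_ : CommRing A) (_ : HopfAlgebra R A) (j : A →ₗ[R] R),
      IsInt j ∧ IsSplit (R := R) A ∧ Nonempty (Grp.mk (CoactBr.sp R A) ≅ Grp.mk H) := by
  obtain ⟨A, _, _, j, hj, ⟨e⟩⟩ := exists_model_affine hH
  refine ⟨A, _, _, j, hj, ?_, ⟨e⟩⟩
  obtain ⟨e'⟩ := nonempty_bcId H
  obtain ⟨J, hJ, T, _, _, hflat, hcov, hC⟩ := exists_charts hH (𝟙 (Spec (CommRingCat.of R)))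
  haveI := hflat
  refine ⟨J, hJ, T, inferInstance, inferInstance, MultTypeLib.faithfullyFlat_pi (R := R) T hcov, fun i => ?_⟩
  obtain ⟨M, _, ⟨C⟩⟩ := hC i
  obtain ⟨E⟩ := nonempty_bialgEquiv (e ≪≫ e'.symm) C
  exact ⟨ULift.{u} (Multiplicative M), inferInstance,
    ⟨E.trans (MonoidAlgebra.domCongrBialgEquiv (T i) (T i) MulEquiv.ulift.symm)⟩⟩

variable {A A' : Type u} [CommRing A] [HopfAlgebra R A] [CommRing A'] [HopfAlgebra R A']

/-- Homomorphisms out of a split group agreeing modulo a nilpotent ideal are equal. -/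
theorem eq_of_mod_nilpotent (hA' : IsSplit (R := R) A') {j : A →ₗ[R] R} (hj : IsInt j) {J : Ideal R}
    (hJ : IsNilpotent J) (φ ψ : A' →ₐc[R] A) (h : ∀ c, (1 : R ⧸ J) ⊗ₜ[R] φ c = (1 : R ⧸ J) ⊗ₜ[R] ψ c) : φ = ψ := by
  classical
  obtain ⟨Idx, hι, T, _, _, hff, hd⟩ := hA'
  haveI := Fintype.ofFinite Idx
  refine DFunLike.ext _ _ fun c => ?_
  refine Module.FaithfullyFlat.tensorProduct_mk_injective (A := R) (B := Π i, T i) A ?_
  have hz : ∀ w : (Π i, T i) ⊗[R] A, ∑ i, (LinearMap.single R T i).rTensor A ((LinearMap.proj i).rTensor A w) = w := by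
    intro w
    induction w using TensorProduct.induction_on with
    | zero => simp
    | tmul g a =>
      simp only [LinearMap.rTensor_tmul, LinearMap.proj_apply, ← TensorProduct.sum_tmul]
      congr 1
      exact Finset.univ_sum_single g
    | add x y hx hy => simp [Finset.sum_add_distrib, hx, hy]
  show (1 : Π i, T i) ⊗ₜ[R] φ c = (1 : Π i, T i) ⊗ₜ[R] ψ c
  rw [← hz ((1 : Π i, T i) ⊗ₜ[R] φ c), ← hz ((1 : Π i, T i) ⊗ₜ[R] ψ c)]
  refine Finset.sum_congr rfl fun i _ => congrArg _ ?_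
  rw [LinearMap.rTensor_tmul, LinearMap.rTensor_tmul]
  show (1 : T i) ⊗ₜ[R] φ c = (1 : T i) ⊗ₜ[R] ψ c
  have hbc := MultTypeLib.eq_of_mod_nil_of_isDiag (hj.baseChange (Q := T i)) (hd i) (MultTypeLib.nil_map hJ (T i))
    (MultTypeLib.bcMap (T i) φ) (MultTypeLib.bcMap (T i) ψ) fun x => by
      induction x using TensorProduct.induction_on with
      | zero => simp
      | add x y hx hy => rw [map_add, map_add, add_sub_add_comm]; exact add_mem hx hy
      | tmul t c =>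
        rw [MultTypeLib.bcMap_tmul, MultTypeLib.bcMap_tmul, ← TensorProduct.tmul_sub]
        refine Submodule.smul_induction_on (MultTypeLib.sub_mem_KT_iff_one_tmul_eq.2 (h c)) ?_ ?_
        · intro r hr m _
          rw [TensorProduct.tmul_smul, ← algebraMap_smul (T i) r (t ⊗ₜ[R] m)]
          exact Submodule.smul_mem_smul (Ideal.mem_map_of_mem _ hr) trivial
        · intro a b ha hb
          rw [TensorProduct.tmul_add]; exact add_mem ha hb
  exact DFunLike.congr_fun hbc ((1 : T i) ⊗ₜ[R] c)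

variable {J : Ideal R}

/-- A homomorphism point over `R/J` is a homomorphism of Hopf algebras. -/
theorem exists_bialgHom_of_isHom (φ : A' →ₐ[R] AA A J)
    (h : IsHom (G := CoactBr.sp R A') J (CoactBr.pt φ)) :
    ∃ φ₀ : ((R ⧸ J) ⊗[R] A') →ₐc[R ⧸ J] AA A J, ∀ a, φ₀ ((1 : R ⧸ J) ⊗ₜ[R] a) = φ a := by
  have hmul : (iΔ J).comp φ = (Algebra.TensorProduct.lift ((i₁ (A := A) J).comp φ) ((i₂ J).comp φ)
      fun _ _ => Commute.all (S := CC A J) _ _).comp (Bialgebra.comulAlgHom R A') := by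
    refine CoactBr.pt_injective ?_
    rw [← CoactBr.pt_mul_pt]
    simp only [CoactBr.pt_comp]
    exact h
  have hone : (εT J).comp φ = (Algebra.ofId R (R ⧸ J)).comp (Bialgebra.counitAlgHom R A') := by
    have h2 := congrArg (fun k => pmap (G := CoactBr.sp R A') ((εT J).comp (r₁ (A := A) J)) k) h
    simp only [map_mul, pmap_pmap] at h2
    have e1 : ((εT J).comp (r₁ (A := A) J)).comp (i₁ J) = εT J := by
      refine AlgHom.ext fun x => ?_
      show εT J (r₁ J (i₁ J x)) = _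
      rw [r₁_i₁]
    have e2 : ((εT J).comp (r₁ (A := A) J)).comp (i₂ J) = εT J := by
      refine Algebra.TensorProduct.ext (Ideal.Quotient.algHom_ext _ (Subsingleton.elim _ _)) (AlgHom.ext fun a => ?_)
      simp [εT, r₁, i₂]
    have e3 : ((εT J).comp (r₁ (A := A) J)).comp (iΔ J) = εT J := by
      refine Algebra.TensorProduct.ext (Ideal.Quotient.algHom_ext _ (Subsingleton.elim _ _)) (AlgHom.ext fun a => ?_)
      show εT J (r₁ J ((1 : R ⧸ J) ⊗ₜ[R] Coalgebra.comul (R := R) a)) = εT J ((1 : R ⧸ J) ⊗ₜ[R] a)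
      conv_rhs => rw [← Coalgebra.sum_counit_smul (R := R) (Coalgebra.Repr.arbitrary R a)]
      simp [← (Coalgebra.Repr.arbitrary R a).eq, εT, r₁, TensorProduct.tmul_sum, Algebra.smul_def, mul_comm]
    rw [e1, e2, e3] at h2
    refine CoactBr.pt_injective ?_
    rw [CoactBr.pt_comp, ← CoactBr.one_eq_pt]
    exact mul_eq_left.1 h2.symm
  let F : (R ⧸ J) ⊗[R] A' →ₐ[R ⧸ J] AA A J :=
    Algebra.TensorProduct.lift (Algebra.ofId (R ⧸ J) (AA A J)) φ fun _ _ => .all _ _
  have hF : ∀ a, F ((1 : R ⧸ J) ⊗ₜ[R] a) = φ a := fun a =>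
    (Algebra.TensorProduct.lift_tmul _ _ _ _ _).trans (by rw [map_one, _root_.one_mul])
  refine ⟨BialgHom.ofAlgHom F ?_ ?_, hF⟩
  · refine Algebra.TensorProduct.ext (Subsingleton.elim _ _) (AlgHom.ext fun a => ?_)
    show Coalgebra.counit (R := R ⧸ J) (F ((1 : R ⧸ J) ⊗ₜ[R] a)) = Coalgebra.counit (R := R ⧸ J) ((1 : R ⧸ J) ⊗ₜ[R] a)
    rw [hF]
    have hc : ∀ z : AA A J, Coalgebra.counit (R := R ⧸ J) z = εT J z := by
      intro z
      induction z using TensorProduct.induction_on with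
      | zero => simp
      | add x y hx hy => simp only [map_add, hx, hy]
      | tmul t b => simp [εT, Algebra.smul_def, mul_comm]
    rw [hc]
    refine (DFunLike.congr_fun hone a).trans ?_
    simp [Algebra.smul_def]
  · let κ : CC A J →ₐ[R] (AA A J ⊗[R ⧸ J] AA A J) := Algebra.TensorProduct.lift (IsScalarTower.toAlgHom R (R ⧸ J) (AA A J ⊗[R ⧸ J] AA A J))
      (Algebra.TensorProduct.lift ((Algebra.TensorProduct.includeLeft (R := R ⧸ J) (S := R)).comp (gen J))
        (((Algebra.TensorProduct.includeRight : AA A J →ₐ[R ⧸ J] (AA A J ⊗[R ⧸ J] AA A J)).restrictScalars R).comp (gen J))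
        fun _ _ => Commute.all (S := (AA A J ⊗[R ⧸ J] AA A J)) _ _) fun _ _ => Commute.all (S := (AA A J ⊗[R ⧸ J] AA A J)) _ _
    refine Algebra.TensorProduct.ext (Subsingleton.elim _ _) (AlgHom.ext fun a => ?_)
    show Algebra.TensorProduct.map F F (Coalgebra.comul (R := R ⧸ J) ((1 : R ⧸ J) ⊗ₜ[R] a)) =
      Coalgebra.comul (R := R ⧸ J) (F ((1 : R ⧸ J) ⊗ₜ[R] a))
    rw [hF]
    have hmove : ∀ (t : R ⧸ J) (l r : A), (t ⊗ₜ[R] l) ⊗ₜ[R ⧸ J] ((1 : R ⧸ J) ⊗ₜ[R] r) =
        ((1 : R ⧸ J) ⊗ₜ[R] l) ⊗ₜ[R ⧸ J] (t ⊗ₜ[R] r) := by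
      intro t l r
      rw [show t ⊗ₜ[R] l = t • ((1 : R ⧸ J) ⊗ₜ[R] l) by rw [TensorProduct.smul_tmul', smul_eq_mul, _root_.mul_one],
        TensorProduct.smul_tmul, TensorProduct.smul_tmul', smul_eq_mul, _root_.mul_one]
    have hκΔ : ∀ z : AA A J, κ (iΔ J z) = Coalgebra.comul (R := R ⧸ J) z := by
      intro z
      induction z using TensorProduct.induction_on with
      | zero => simp
      | add x y hx hy => simp only [map_add, hx, hy]
      | tmul t b =>
        simp [κ, iΔ, gen, ← (Coalgebra.Repr.arbitrary R b).eq, TensorProduct.tmul_sum,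
          Algebra.TensorProduct.algebraMap_apply, Algebra.TensorProduct.tmul_mul_tmul]
        exact Finset.sum_congr rfl fun x _ => hmove _ _ _
    have hκ1 : ∀ z : AA A J, κ (i₁ J z) = z ⊗ₜ[R ⧸ J] (1 : AA A J) := by
      intro z
      induction z using TensorProduct.induction_on with
      | zero => simp
      | add x y hx hy => simp only [map_add, hx, hy, TensorProduct.add_tmul]
      | tmul t b => simp [κ, i₁, gen, Algebra.TensorProduct.algebraMap_apply, Algebra.TensorProduct.one_def]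
    have hκ2 : ∀ z : AA A J, κ (i₂ J z) = (1 : AA A J) ⊗ₜ[R ⧸ J] z := by
      intro z
      induction z using TensorProduct.induction_on with
      | zero => simp
      | add x y hx hy => simp only [map_add, hx, hy, TensorProduct.tmul_add]
      | tmul t b =>
        simp [κ, i₂, gen, Algebra.TensorProduct.algebraMap_apply, Algebra.TensorProduct.one_def]
        exact hmove _ _ _
    rw [← hκΔ, show iΔ J (φ a) = ((Algebra.TensorProduct.lift ((i₁ J).comp φ) ((i₂ J).comp φ)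
      fun _ _ => Commute.all (S := CC A J) _ _).comp (Bialgebra.comulAlgHom R A')) a from DFunLike.congr_fun hmul a]
    simp [← (Coalgebra.Repr.arbitrary R a).eq, TensorProduct.tmul_sum, hF, hκ1, hκ2]

/-- A pair of points is a point of the tensor product. -/
theorem exists_pairMor (R : Type u) [CommRing R] (C B : Type u) [CommRing C] [Algebra R C] [CommRing B] [Algebra R B] :
    ∃ P : CoactBr.sp R C ⊗ CoactBr.sp R B ⟶ CoactBr.sp R (C ⊗[R] B),
      P ≫ CoactBr.pt (Algebra.TensorProduct.includeLeft (S := R)) = fst _ _ ∧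
      P ≫ CoactBr.pt Algebra.TensorProduct.includeRight = snd _ _ := by
  refine ⟨Over.homMk (pullbackSpecIso R C B).hom ?_, ?_, ?_⟩
  · exact pullbackSpecIso_hom_base _ _ _
  · ext
    exact pullbackSpecIso_hom_fst _ _ _
  · ext
    exact pullbackSpecIso_hom_snd _ _ _

variable {G H H' : Over (Spec (CommRingCat.of R))} [GrpObj G] [GrpObj H] [GrpObj H']
  (e : Grp.mk (CoactBr.sp R A) ≅ Grp.mk H) (e' : Grp.mk (CoactBr.sp R A') ≅ Grp.mk H')

/-- Lifting the homomorphism given on the generic point modulo `J`. -/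
theorem exists_lift_hom (hA' : IsSplit (R := R) A') {j : A →ₗ[R] R} (hj : IsInt j) (hJ : IsNilpotent J)
    (y : Pts H' (AA A J)) (hy : IsHom J y) :
    ∃ φ : A' →ₐc[R] A, CoactBr.pt ((cst J).comp (Algebra.ofId R (R ⧸ J))) = CoactBr.pt (Algebra.ofId R (AA A J)) ∧
      y = CoactBr.pt ((gen J).comp (φ : A' →ₐ[R] A)) ≫ e'.hom.hom.hom := by
  haveI : IsMonHom e'.inv.hom.hom := e'.inv.hom.isMonHom_hom
  obtain ⟨φ, hφ⟩ := exists_pt (y ≫ e'.inv.hom.hom)
  have hhom : IsHom (G := CoactBr.sp R A') J (CoactBr.pt φ) := by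
    rw [← hφ]
    unfold IsHom at hy ⊢
    simp only [pmap_apply] at hy ⊢
    rw [← Category.assoc, hy, MonObj.mul_comp, Category.assoc, Category.assoc]
  obtain ⟨φ₀, hφ₀⟩ := exists_bialgHom_of_isHom φ hhom
  obtain ⟨Idx, _, T, _, _, hff, hd⟩ := hA'
  haveI := hff
  obtain ⟨ψ, hψ⟩ := MultTypeLib.exists_bialgHom_lift_of_family hj hJ T hd φ₀
  refine ⟨ψ, congrArg CoactBr.pt (Subsingleton.elim _ _), ?_⟩
  have : (gen J).comp (ψ : A' →ₐ[R] A) = φ := AlgHom.ext fun a => by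
    rw [← hφ₀, hψ]
    rfl
  rw [this, ← hφ, Category.assoc, ← Mon.comp_hom', ← Grp.comp', e'.inv_hom_id]
  exact (Category.comp_id y).symm

/-- The morphism of groups attached to a map of Hopf algebras. -/
def ofBialg (φ : A' →ₐc[R] A) : H ⟶ H' := e.inv.hom.hom ≫ CoactBr.pt (φ : A' →ₐ[R] A) ≫ e'.hom.hom.hom

instance isMonHom_ofBialg (φ : A' →ₐc[R] A) : IsMonHom (ofBialg e e' φ) := by
  haveI : IsMonHom e.inv.hom.hom := e.inv.hom.isMonHom_hom
  haveI : IsMonHom e'.hom.hom.hom := e'.hom.hom.isMonHom_hom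
  haveI : IsMonHom (CoactBr.pt (φ : A' →ₐ[R] A)) :=
    ((hopfSpec (CommRingCat.of R)).map (CommHopfAlgCat.ofHom φ).op).hom.isMonHom_hom
  unfold ofBialg
  infer_instance

theorem hgen_ofBialg (L : Ideal R) (φ : A' →ₐc[R] A) :
    hgen e L ≫ ofBialg e e' φ = CoactBr.pt ((gen L).comp (φ : A' →ₐ[R] A)) ≫ e'.hom.hom.hom := by
  rw [hgen, ofBialg, Category.assoc, ← Category.assoc e.hom.hom.hom, ← Mon.comp_hom', ← Grp.comp', e.hom_inv_id,
    CoactBr.pt_comp, Category.assoc]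
  exact congrArg (CoactBr.pt (gen L) ≫ ·) (Category.id_comp _)

theorem isHom_of_mono {H' : Over (Spec (CommRingCat.of R))} [GrpObj H'] (i' : H' ⟶ G) [IsMonHom i'] [Mono i']
    (L : Ideal R) (y : Pts H' (AA A L)) (h : IsHom L (y ≫ i')) : IsHom L y := by
  unfold IsHom at h ⊢
  simp only [pmap_apply] at h ⊢
  rw [← cancel_mono i', MonObj.mul_comp, Category.assoc, Category.assoc, Category.assoc]
  exact h

include e e' in
/-- Conjugate subgroups of multiplicative type modulo a nilpotent ideal are isomorphic over the base. -/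
theorem exists_iso_lift (hA : IsSplit (R := R) A) (hA' : IsSplit (R := R) A') {j : A →ₗ[R] R} (hj : IsInt j)
    {j' : A' →ₗ[R] R} (hj' : IsInt j') (hJ : IsNilpotent J) (i : H ⟶ G) [IsMonHom i] [Mono i]
    (i' : H' ⟶ G) [IsMonHom i'] [Mono i']
    (g₀ : (Over.mk (Spec.map (CommRingCat.ofHom (Ideal.Quotient.mk J))) : Over (Spec (CommRingCat.of R))) ⟶ G)
    (h0 : ∀ (X : Over (Spec (CommRingCat.of R))) (p : X ⟶ (Over.mk (Spec.map (CommRingCat.ofHom (Ideal.Quotient.mk J))) : Over (Spec (CommRingCat.of R)))),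
      (∀ h : X ⟶ H, ∃ h' : X ⟶ H', (p ≫ g₀) * (h ≫ i) * (p ≫ g₀)⁻¹ = h' ≫ i') ∧
      (∀ h' : X ⟶ H', ∃ h : X ⟶ H, (p ≫ g₀)⁻¹ * (h' ≫ i') * (p ≫ g₀) = h ≫ i)) :
    ∃ (f : H ≅ H') (_ : IsMonHom f.hom),
      ∀ (X : Over (Spec (CommRingCat.of R))) (p : X ⟶ (Over.mk (Spec.map (CommRingCat.ofHom (Ideal.Quotient.mk J))) : Over (Spec (CommRingCat.of R)))) (h : X ⟶ H),
        h ≫ f.hom ≫ i' = (p ≫ g₀) * (h ≫ i) * (p ≫ g₀)⁻¹ := by
  obtain ⟨y, hy⟩ := (h0 _ (toBase (cst J))).1 (hgen e J)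
  obtain ⟨y', hy'⟩ := (h0 _ (toBase (cst J))).2 (hgen e' J)
  have hyH : IsHom J y := isHom_of_mono i' J y (hy ▸ (isHom_hgen e J i).conj J g₀)
  have hyH' : IsHom J y' := by
    refine isHom_of_mono i J y' ?_
    rw [← hy']
    have := (isHom_hgen e' J i').conj J (g₀⁻¹ : Pts G (R ⧸ J))
    rwa [map_inv, inv_inv] at this
  obtain ⟨φ, -, hφ⟩ := exists_lift_hom e' hA' hj hJ y hyH
  obtain ⟨φ', -, hφ'⟩ := exists_lift_hom e hA hj' hJ y' hyH'
  rw [← hgen_ofBialg e e'] at hφ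
  rw [← hgen_ofBialg e' e] at hφ'
  -- every point over the base is obtained from the generic one
  have gen_univ : ∀ {B : Type u} [CommRing B] [HopfAlgebra R B] {K : Over (Spec (CommRingCat.of R))} [GrpObj K]
      (e : Grp.mk (CoactBr.sp R B) ≅ Grp.mk K) (X : Over (Spec (CommRingCat.of R)))
      (p : X ⟶ (Over.mk (Spec.map (CommRingCat.ofHom (Ideal.Quotient.mk J))) : Over (Spec (CommRingCat.of R)))) (h : X ⟶ K),
      ∃ w : X ⟶ CoactBr.sp R (AA B J), w ≫ hgen e J = h ∧ w ≫ toBase (cst J) = p := by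
    intro B _ _ K _ e X p h
    obtain ⟨P, hP1, hP2⟩ := exists_pairMor R (R ⧸ J) B
    refine ⟨lift (p : X ⟶ CoactBr.sp R (R ⧸ J)) (h ≫ e.inv.hom.hom) ≫ P, ?_, ?_⟩
    · have h1 : P ≫ hgen e J = snd _ _ ≫ e.hom.hom.hom :=
        (Category.assoc _ _ _).symm.trans (congrArg (· ≫ e.hom.hom.hom) hP2)
      refine (Category.assoc _ _ _).trans ((congrArg (lift _ _ ≫ ·) h1).trans ?_)
      refine (lift_snd_assoc _ _ _).trans ?_
      rw [Category.assoc, ← Mon.comp_hom', ← Grp.comp', e.inv_hom_id]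
      exact Category.comp_id h
    · exact (Category.assoc _ _ _).trans ((congrArg (lift _ _ ≫ ·) hP1).trans (lift_fst _ _))
  have F1 : ∀ (X : Over (Spec (CommRingCat.of R))) (p : X ⟶ (Over.mk (Spec.map (CommRingCat.ofHom (Ideal.Quotient.mk J))) : Over (Spec (CommRingCat.of R)))) (h : X ⟶ H),
      h ≫ ofBialg e e' φ ≫ i' = (p ≫ g₀) * (h ≫ i) * (p ≫ g₀)⁻¹ := by
    intro X p h
    obtain ⟨w, hw1, hw2⟩ := gen_univ e X p h
    have h1 : hgen e J ≫ ofBialg e e' φ ≫ i' = (toBase (cst J) ≫ g₀) * (hgen e J ≫ i) * (toBase (cst J) ≫ g₀)⁻¹ := by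
      rw [← Category.assoc, ← hφ, ← hy]
    have h2 := congrArg (w ≫ ·) h1
    simp only [MonObj.comp_mul, GrpObj.comp_inv] at h2
    rwa [← Category.assoc w (hgen e J), hw1, ← Category.assoc w (toBase (cst J)), hw2, ← Category.assoc w (hgen e J),
      hw1] at h2
  have F2 : ∀ (X : Over (Spec (CommRingCat.of R))) (p : X ⟶ (Over.mk (Spec.map (CommRingCat.ofHom (Ideal.Quotient.mk J))) : Over (Spec (CommRingCat.of R)))) (h : X ⟶ H'),
      h ≫ ofBialg e' e φ' ≫ i = (p ≫ g₀)⁻¹ * (h ≫ i') * (p ≫ g₀) := by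
    intro X p h
    obtain ⟨w, hw1, hw2⟩ := gen_univ e' X p h
    have h1 : hgen e' J ≫ ofBialg e' e φ' ≫ i = (toBase (cst J) ≫ g₀)⁻¹ * (hgen e' J ≫ i') * (toBase (cst J) ≫ g₀) := by
      rw [← Category.assoc, ← hφ', ← hy']
    have h2 := congrArg (w ≫ ·) h1
    simp only [MonObj.comp_mul, GrpObj.comp_inv] at h2
    rwa [← Category.assoc w (hgen e' J), hw1, ← Category.assoc w (toBase (cst J)), hw2, ← Category.assoc w (hgen e' J),
      hw1] at h2
  have hid : ∀ {B B' : Type u} [CommRing B] [HopfAlgebra R B] [CommRing B'] [HopfAlgebra R B']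
      {K K' : Over (Spec (CommRingCat.of R))} [GrpObj K] [GrpObj K'] (e : Grp.mk (CoactBr.sp R B) ≅ Grp.mk K)
      (e' : Grp.mk (CoactBr.sp R B') ≅ Grp.mk K') (_ : IsSplit (R := R) B) {j : B →ₗ[R] R} (_ : IsInt j)
      (φ : B' →ₐc[R] B) (φ' : B →ₐc[R] B'),
      hgen e J ≫ ofBialg e e' φ ≫ ofBialg e' e φ' = hgen e J → ofBialg e e' φ ≫ ofBialg e' e φ' = 𝟙 K := by
    intro B B' _ _ _ _ K K' _ _ e e' hB j hj φ φ' hmod
    have hc : (φ : B' →ₐ[R] B).comp (φ' : B →ₐ[R] B') = AlgHom.id R B := by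
      have h1 : ∀ c, (1 : R ⧸ J) ⊗ₜ[R] (φ.comp φ') c = (1 : R ⧸ J) ⊗ₜ[R] (BialgHom.id R B) c := by
        have h2 : (gen J).comp ((φ : B' →ₐ[R] B).comp (φ' : B →ₐ[R] B')) = gen J := by
          refine CoactBr.pt_injective ((cancel_mono e.hom.hom.hom).1 (Eq.trans ?_ hmod))
          rw [← AlgHom.comp_assoc, CoactBr.pt_comp, Category.assoc, ← Category.assoc (hgen e J), hgen_ofBialg, ofBialg,
            Category.assoc, ← Category.assoc e'.hom.hom.hom, ← Mon.comp_hom', ← Grp.comp', e'.hom_inv_id]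
          exact congrArg (CoactBr.pt ((gen J).comp (φ : B' →ₐ[R] B)) ≫ ·) (Category.id_comp _).symm
        exact fun c => DFunLike.congr_fun h2 c
      have := eq_of_mod_nilpotent hB hj hJ _ _ h1
      exact AlgHom.ext fun c => DFunLike.congr_fun this c
    rw [ofBialg, ofBialg, Category.assoc, Category.assoc, ← Category.assoc e'.hom.hom.hom, ← Mon.comp_hom', ← Grp.comp',
      e'.hom_inv_id]
    show e.inv.hom.hom ≫ CoactBr.pt (φ : B' →ₐ[R] B) ≫ 𝟙 _ ≫ CoactBr.pt (φ' : B →ₐ[R] B') ≫ e.hom.hom.hom = _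
    rw [Category.id_comp, ← Category.assoc (CoactBr.pt (φ : B' →ₐ[R] B)), ← CoactBr.pt_comp, hc, CoactBr.pt_id,
      Category.id_comp, ← Mon.comp_hom', ← Grp.comp', e.inv_hom_id]
    rfl
  have r1 : hgen e J ≫ ofBialg e e' φ ≫ ofBialg e' e φ' = hgen e J := by
    rw [← cancel_mono i, Category.assoc, Category.assoc, ← Category.assoc (hgen e J), F2 _ (toBase (cst J)),
      Category.assoc, F1 _ (toBase (cst J))]
    group
  have r2 : hgen e' J ≫ ofBialg e' e φ' ≫ ofBialg e e' φ = hgen e' J := by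
    rw [← cancel_mono i', Category.assoc, Category.assoc, ← Category.assoc (hgen e' J), F1 _ (toBase (cst J)),
      Category.assoc, F2 _ (toBase (cst J))]
    group
  exact ⟨⟨ofBialg e e' φ, ofBialg e' e φ', hid e e' hA hj φ φ' r1, hid e' e hA' hj' φ' φ r2⟩,
    isMonHom_ofBialg e e' φ, F1⟩

end Groth.Agent.MTRigid29
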