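import Groth.Agent.Lib.MTRigid29.ContentLocus
import Groth.Agent.Lib.MTRigid29.BaseChange

/-!
# Representability of transporters by closed subschemes
-/

set_option autoImplicit false
set_option linter.style.haveILetI false
set_option backward.isDefEq.respectTransparency.types false
set_option maxSynthPendingDepth 3

universe u

open CategoryTheory Limits MonoidalCategory CartesianMonoidalCategory MonObj AlgebraicGeometry Opposite
open scoped TensorProduct

noncomputable section

namespace Groth.Agent.MTRigid29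

variable {S : Scheme.{u}}

/-- Being of multiplicative type is stable under base change. -/
theorem isMT_bc {H : Over S} [GrpObj H] (hH : IsMT H) {T : Scheme.{u}} (q : T ⟶ S) : IsMT (Red.bc q H) := by
  obtain ⟨S', f, hflat, hsurj, hcov, hloc⟩ := hH
  refine ⟨pullback q f, pullback.fst q f, MorphismProperty.pullback_fst _ _ hflat,
    MorphismProperty.pullback_fst _ _ hsurj, cover_pullback f q hcov, fun t => ?_⟩
  obtain ⟨U, hU, M, _, ⟨e⟩⟩ := hloc (pullback.snd q f t)
  let V : (pullback q f).Opens := pullback.snd q f ⁻¹ᵁ U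
  let b : (V : Scheme.{u}) ⟶ (U : Scheme.{u}) := pullback.snd q f ∣_ U
  have w : (V.ι ≫ pullback.fst q f) ≫ q = b ≫ (U.ι ≫ f) := by
    rw [Category.assoc, pullback.condition, ← Category.assoc b, morphismRestrict_ι, Category.assoc]
  exact ⟨V, hU, M, inferInstance,
    nonempty_grpIso_of_chars (DiagGL.Chars.transport (charsFactor w H ((DiagGL.charsDS (U : Scheme.{u}) M).transport e))
      (Iso.refl _)) (DiagGL.charsDS _ M)⟩

theorem hasContentLoc_of_isMT {H : Over S} [GrpObj H] (hH : IsMT H) : HasContentLoc H.hom := by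
  intro R _ g _
  obtain ⟨A, _, _, j, hj, ⟨e⟩⟩ := exists_model hH g
  obtain ⟨J, hJ, T, _, _, hflat, hcov, hC⟩ := exists_charts hH g
  haveI := hflat
  haveI hff := MultTypeLib.faithfullyFlat_pi (R := R) T hcov
  have hA : IsSplit (R := R) A := ⟨J, hJ, T, inferInstance, inferInstance, hff, fun i => by
    obtain ⟨M, _, ⟨C⟩⟩ := hC i
    obtain ⟨E⟩ := nonempty_bialgEquiv e C
    exact ⟨ULift.{u} (Multiplicative M), inferInstance,
      ⟨E.trans (MonoidAlgebra.domCongrBialgEquiv (T i) (T i) MulEquiv.ulift.symm)⟩⟩⟩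
  let F : CoactBr.sp R A ≅ Red.bc g H :=
    ⟨e.hom.hom.hom, e.inv.hom.hom, by rw [← Mon.comp_hom', ← Grp.comp', e.hom_inv_id]; rfl,
      by rw [← Mon.comp_hom', ← Grp.comp', e.inv_hom_id]; rfl⟩
  refine ⟨A, inferInstance, inferInstance, F.hom.left ≫ pullback.fst H.hom g, ?_, hasContent_of_split hA hj⟩
  exact IsPullback.of_iso (IsPullback.of_hasPullback H.hom g) ((Over.forget _).mapIso F.symm) (Iso.refl _)
    (Iso.refl _) (Iso.refl _) (by
      show pullback.fst H.hom g ≫ 𝟙 _ = F.inv.left ≫ F.hom.left ≫ pullback.fst H.hom g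
      rw [← Category.assoc, ← Over.comp_left, Iso.inv_hom_id]
      simp) (by
      show pullback.snd H.hom g ≫ 𝟙 _ = F.inv.left ≫ (CoactBr.sp R A).hom
      rw [Over.w]
      simp) (by simp) (by simp)

theorem hasContentLoc_of_isMultTypeFT {H : Over S} [GrpObj H] (hH : SGA3x.IsMultTypeFT H) : HasContentLoc H.hom :=
  hasContentLoc_of_isMT (isMT_of_ft hH)

theorem hasContentLoc_of_finite_flat {Y T : Scheme.{u}} (p : Y ⟶ T) [IsFinite p] [Flat p]
    [LocallyOfFinitePresentation p] : HasContentLoc p := by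
  intro R _ g _
  haveI : IsFinite (pullback.snd p g) := MorphismProperty.pullback_snd _ _ inferInstance
  haveI : Flat (pullback.snd p g) := MorphismProperty.pullback_snd _ _ inferInstance
  haveI : LocallyOfFinitePresentation (pullback.snd p g) := MorphismProperty.pullback_snd _ _ inferInstance
  haveI : IsAffine (pullback p g) := isAffine_of_isAffineHom (pullback.snd p g)
  let Z := pullback p g
  let k : Spec Γ(Z, ⊤) ⟶ Spec (CommRingCat.of R) := Z.isoSpec.inv ≫ pullback.snd p g
  letI : Algebra R Γ(Z, ⊤) := (Spec.preimage k).hom.toAlgebra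
  have hk : Spec.map (CommRingCat.ofHom (algebraMap R Γ(Z, ⊤))) = k := by
    show Spec.map (CommRingCat.ofHom (Spec.preimage k).hom) = k
    rw [CommRingCat.ofHom_hom, Spec.map_preimage]
  haveI : IsFinite (Spec.map (CommRingCat.ofHom (algebraMap R Γ(Z, ⊤)))) := by rw [hk]; infer_instance
  haveI : Flat (Spec.map (CommRingCat.ofHom (algebraMap R Γ(Z, ⊤)))) := by rw [hk]; infer_instance
  haveI : LocallyOfFinitePresentation (Spec.map (CommRingCat.ofHom (algebraMap R Γ(Z, ⊤)))) := by
    rw [hk]; infer_instance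
  haveI : Module.Finite R Γ(Z, ⊤) := RingHom.finite_algebraMap.1 ((IsFinite.SpecMap_iff _).1 ‹_›)
  haveI : Module.Flat R Γ(Z, ⊤) :=
    RingHom.flat_algebraMap_iff.1 ((HasRingHomProperty.Spec_iff (P := @Flat)).1 ‹_›)
  haveI : Algebra.FinitePresentation R Γ(Z, ⊤) :=
    RingHom.finitePresentation_algebraMap.1 ((HasRingHomProperty.Spec_iff (P := @LocallyOfFinitePresentation)).1 ‹_›)
  haveI : Module.FinitePresentation R Γ(Z, ⊤) := Module.FinitePresentation.of_finite_of_finitePresentation R Γ(Z, ⊤)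
  haveI : Module.Projective R Γ(Z, ⊤) := Module.Flat.projective_of_finitePresentation
  refine ⟨Γ(Z, ⊤), inferInstance, inferInstance, Z.isoSpec.inv ≫ pullback.fst p g, ?_, hasContent_of_projective⟩
  rw [hk]
  exact IsPullback.of_iso (IsPullback.of_hasPullback p g) Z.isoSpec (Iso.refl _) (Iso.refl _) (Iso.refl _)
    (by simp [k, Z]) (by simp [k, Z]) (by simp) (by simp)

variable {G Y W : Over S} [GrpObj G]

/-- Conjugation, on the product. -/
def conjMap (y : Y ⟶ G) : Y ⊗ G ⟶ G := snd Y G * (fst Y G ≫ y) * (snd Y G)⁻¹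

theorem comp_conjMap (y : Y ⟶ G) {X : Over S} (a : X ⟶ Y) (g : X ⟶ G) :
    lift a g ≫ conjMap y = g * (a ≫ y) * g⁻¹ := by
  simp [conjMap, MonObj.comp_mul, GrpObj.comp_inv]

/-- Points of `G` carrying every point of `Y` into a closed subscheme of `Y ⊗ G` form a closed subscheme. -/
theorem exists_transporter_locus (hY : HasContentLoc (snd Y G).left) [LocallyOfFinitePresentation G.hom]
    (i : W ⟶ Y ⊗ G) [IsClosedImmersion i.left] [LocallyOfFinitePresentation i.left] :
    ∃ (C : Over S) (c : C ⟶ G), IsClosedImmersion c.left ∧ LocallyOfFinitePresentation C.hom ∧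
      ∀ (X : Over S) (g : X ⟶ G), (∃ z : X ⟶ C, z ≫ c = g) ↔
        ∀ (X' : Over S) (x : X' ⟶ X) (a : X' ⟶ Y), ∃ b : X' ⟶ W, b ≫ i = lift a (x ≫ g) := by
  obtain ⟨C₀, c₀, hc, hcfp, hC⟩ := exists_contains_locus (snd Y G).left i.left hY
  refine ⟨Over.mk (c₀ ≫ G.hom), Over.homMk c₀ rfl, hc, inferInstanceAs (LocallyOfFinitePresentation (c₀ ≫ G.hom)),
    fun X g => ?_⟩
  have h1 : (∃ z : X ⟶ Over.mk (c₀ ≫ G.hom), z ≫ Over.homMk c₀ rfl = g) ↔ ∃ z, z ≫ c₀ = g.left := by
    refine ⟨fun ⟨z, hz⟩ => ⟨z.left, congrArg CommaMorphism.left hz⟩, fun ⟨z, hz⟩ => ?_⟩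
    exact ⟨Over.homMk z (by
      show z ≫ c₀ ≫ G.hom = X.hom
      rw [← Category.assoc, hz]; exact Over.w g), Over.OverMorphism.ext hz⟩
  rw [h1, hC]
  constructor
  · intro h X' x a
    obtain ⟨l, hl⟩ := h X'.left (lift a (x ≫ g)).left x.left (by
      rw [← Over.comp_left, lift_snd]; rfl)
    exact ⟨Over.homMk l (by rw [← Over.w i, ← Category.assoc, hl]; exact Over.w (lift a (x ≫ g))),
      Over.OverMorphism.ext hl⟩
  · intro h Z y t ht
    let X' : Over S := Over.mk (t ≫ X.hom)
    let x : X' ⟶ X := Over.homMk t rfl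
    let y' : X' ⟶ Y ⊗ G := Over.homMk y (by
      show y ≫ (Y ⊗ G).hom = t ≫ X.hom
      rw [← Over.w (snd Y G), ← Category.assoc, ht, Category.assoc, Over.w g])
    have hy : lift (y' ≫ fst Y G) (x ≫ g) = y' := by
      apply CartesianMonoidalCategory.hom_ext
      · rw [lift_fst]
      · rw [lift_snd]
        exact Over.OverMorphism.ext ht.symm
    obtain ⟨b, hb⟩ := h X' x (y' ≫ fst Y G)
    exact ⟨b.left, congrArg CommaMorphism.left (hb.trans hy)⟩

/-- Transporter into a closed subscheme. -/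
theorem exists_transporter_into {Y' : Over S} (hY : HasContentLoc (snd Y G).left)
    [LocallyOfFinitePresentation G.hom] (y : Y ⟶ G) (y' : Y' ⟶ G) [IsClosedImmersion y'.left]
    [LocallyOfFinitePresentation Y'.hom] :
    ∃ (C : Over S) (c : C ⟶ G), IsClosedImmersion c.left ∧ LocallyOfFinitePresentation C.hom ∧
      ∀ (X : Over S) (g : X ⟶ G), (∃ z : X ⟶ C, z ≫ c = g) ↔
        ∀ (X' : Over S) (x : X' ⟶ X) (a : X' ⟶ Y), ∃ a' : X' ⟶ Y', (x ≫ g) * (a ≫ y) * (x ≫ g)⁻¹ = a' ≫ y' := by
  haveI : LocallyOfFinitePresentation (y'.left ≫ G.hom) := by rw [Over.w y']; infer_instance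
  haveI : LocallyOfFinitePresentation y'.left := SchBasic.locallyOfFinitePresentation_of_comp y'.left G.hom
  let Wl := pullback (conjMap y).left y'.left
  let W : Over S := Over.mk (pullback.fst (conjMap y).left y'.left ≫ (Y ⊗ G).hom)
  let i : W ⟶ Y ⊗ G := Over.homMk (pullback.fst (conjMap y).left y'.left) rfl
  haveI : IsClosedImmersion i.left := inferInstanceAs (IsClosedImmersion (pullback.fst (conjMap y).left y'.left))
  haveI : LocallyOfFinitePresentation i.left :=
    inferInstanceAs (LocallyOfFinitePresentation (pullback.fst (conjMap y).left y'.left))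
  obtain ⟨C, c, hc, hfp, hC⟩ := exists_transporter_locus hY i
  refine ⟨C, c, hc, hfp, fun X g => (hC X g).trans ?_⟩
  refine forall_congr' fun X' => forall_congr' fun x => forall_congr' fun a => ⟨fun ⟨b, hb⟩ => ?_, fun ⟨a', ha'⟩ => ?_⟩
  · let b' : X' ⟶ Y' := Over.homMk (b.left ≫ pullback.snd (conjMap y).left y'.left) (by
      rw [← Over.w y', Category.assoc]
      show b.left ≫ (pullback.snd _ _ ≫ y'.left ≫ G.hom) = X'.hom
      rw [← pullback.condition_assoc, Over.w (conjMap y)]
      exact Over.w b)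
    refine ⟨b', ?_⟩
    rw [← comp_conjMap, ← hb, Category.assoc]
    refine Over.OverMorphism.ext ?_
    show b.left ≫ pullback.fst _ _ ≫ (conjMap y).left = (b.left ≫ pullback.snd _ _) ≫ y'.left
    rw [pullback.condition, Category.assoc]
  · rw [← comp_conjMap] at ha'
    refine ⟨Over.homMk (pullback.lift (lift a (x ≫ g)).left a'.left (congrArg CommaMorphism.left ha')) ?_,
      Over.OverMorphism.ext (pullback.lift_fst _ _ _)⟩
    show pullback.lift _ _ _ ≫ pullback.fst _ _ ≫ (Y ⊗ G).hom = X'.hom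
    rw [pullback.lift_fst_assoc]
    exact Over.w (lift a (x ≫ g))

/-- Transporter of one morphism to another. -/
theorem exists_transporter_eq (hY : HasContentLoc (snd Y G).left) [LocallyOfFinitePresentation G.hom]
    [IsSeparated G.hom] (y₁ y₂ : Y ⟶ G) :
    ∃ (C : Over S) (c : C ⟶ G), IsClosedImmersion c.left ∧ LocallyOfFinitePresentation C.hom ∧
      ∀ (X : Over S) (g : X ⟶ G), (∃ z : X ⟶ C, z ≫ c = g) ↔
        ∀ (X' : Over S) (x : X' ⟶ X) (a : X' ⟶ Y), (x ≫ g) * (a ≫ y₁) * (x ≫ g)⁻¹ = a ≫ y₂ := by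
  haveI : LocallyOfFinitePresentation (pullback.diagonal G.hom) := by
    haveI : LocallyOfFinitePresentation (pullback.diagonal G.hom ≫ pullback.fst G.hom G.hom) := by
      rw [pullback.diagonal_fst]; infer_instance
    exact SchBasic.locallyOfFinitePresentation_of_comp _ (pullback.fst G.hom G.hom)
  let p₁ := (conjMap y₁).left
  let p₂ := (fst Y G ≫ y₂).left
  let j : (Y ⊗ G).left ⟶ pullback G.hom G.hom := pullback.lift p₁ p₂ ((Over.w (conjMap y₁)).trans (Over.w (fst Y G ≫ y₂)).symm)
  let W : Over S := Over.mk (pullback.fst j (pullback.diagonal G.hom) ≫ (Y ⊗ G).hom)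
  let i : W ⟶ Y ⊗ G := Over.homMk (pullback.fst j (pullback.diagonal G.hom)) rfl
  haveI : IsClosedImmersion i.left := MorphismProperty.pullback_fst _ _ (inferInstanceAs (IsClosedImmersion (pullback.diagonal G.hom)))
  haveI : LocallyOfFinitePresentation i.left := MorphismProperty.pullback_fst _ _ ‹LocallyOfFinitePresentation (pullback.diagonal G.hom)›
  obtain ⟨C, c, hc, hfp, hC⟩ := exists_transporter_locus hY i
  refine ⟨C, c, hc, hfp, fun X g => (hC X g).trans ?_⟩
  refine forall_congr' fun X' => forall_congr' fun x => forall_congr' fun a => ⟨fun ⟨b, hb⟩ => ?_, fun ha => ?_⟩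
  · have h1 : i ≫ conjMap y₁ = i ≫ fst Y G ≫ y₂ := by
      refine Over.OverMorphism.ext ?_
      have hd : pullback.fst j (pullback.diagonal G.hom) ≫ j ≫ pullback.fst G.hom G.hom =
          pullback.fst j (pullback.diagonal G.hom) ≫ j ≫ pullback.snd G.hom G.hom := by
        simp only [pullback.condition_assoc, pullback.diagonal_fst, pullback.diagonal_snd]
      simp only [j, pullback.lift_fst, pullback.lift_snd] at hd
      exact hd
    have h2 := congrArg (b ≫ ·) h1
    simp only [← Category.assoc, hb, lift_fst, comp_conjMap] at h2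
    exact h2
  · have he : lift a (x ≫ g) ≫ conjMap y₁ = lift a (x ≫ g) ≫ fst Y G ≫ y₂ := by
      rw [comp_conjMap, ha, lift_fst_assoc]
    have he' := congrArg CommaMorphism.left he
    refine ⟨Over.homMk (pullback.lift (lift a (x ≫ g)).left ((lift a (x ≫ g)).left ≫ p₁) (pullback.hom_ext ?_ ?_)) ?_,
      Over.OverMorphism.ext (pullback.lift_fst _ _ _)⟩
    · simp only [j, Category.assoc, pullback.diagonal_fst, Category.comp_id]
      exact congrArg (_ ≫ ·) (pullback.lift_fst _ _ _)
    · simp only [j, Category.assoc, pullback.lift_snd, pullback.diagonal_snd, Category.comp_id]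
      exact he'.symm
    · show pullback.lift _ _ _ ≫ pullback.fst _ _ ≫ (Y ⊗ G).hom = X'.hom
      rw [pullback.lift_fst_assoc]
      exact Over.w (lift a (x ≫ g))

theorem hasContentLoc_snd_of_isMultTypeFT {H : Over S} [GrpObj H] (hH : SGA3x.IsMultTypeFT H) :
    HasContentLoc (snd H G).left :=
  hasContentLoc_of_isMultTypeFT (isMultTypeFT_bc hH G.hom)

theorem hasContentLoc_snd_of_isMT {H : Over S} [GrpObj H] (hH : IsMT H) : HasContentLoc (snd H G).left :=
  hasContentLoc_of_isMT (isMT_bc hH G.hom)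

theorem hasContentLoc_snd_of_finite_flat [IsFinite Y.hom] [Flat Y.hom] [LocallyOfFinitePresentation Y.hom] :
    HasContentLoc (snd Y G).left := by
  haveI : IsFinite (pullback.snd Y.hom G.hom) := MorphismProperty.pullback_snd _ _ inferInstance
  haveI : Flat (pullback.snd Y.hom G.hom) := MorphismProperty.pullback_snd _ _ inferInstance
  haveI : LocallyOfFinitePresentation (pullback.snd Y.hom G.hom) := MorphismProperty.pullback_snd _ _ inferInstance
  exact hasContentLoc_of_finite_flat (pullback.snd Y.hom G.hom)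

end Groth.Agent.MTRigid29
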