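import Groth.Agent.Lib.MTRigid29.ActionFibres
import Groth.Agent.Lib.MTRigid29.LiftHom
import Groth.Agent.Lib.MTRigid29.TransporterRep

/-!
# Fixed points of a group of multiplicative type acting on a smooth scheme are smooth
-/

set_option autoImplicit false
set_option linter.style.haveILetI false
set_option backward.isDefEq.respectTransparency.types false
set_option backward.isDefEq.respectTransparency false
set_option maxSynthPendingDepth 3

universe u

open CategoryTheory Limits MonoidalCategory CartesianMonoidalCategory MonObj AlgebraicGeometry Opposite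
open scoped TensorProduct
open WithConv

noncomputable section

namespace Groth.Agent.MTRigid29

open DiagGL

/-- A coaction trivial modulo an ideal of square zero has an algebra retraction onto invariants. -/
theorem exists_retraction {R A C : Type u} [CommRing R] [CommRing A] [Bialgebra R A] [CommRing C] [Algebra R C]
    {j : A →ₗ[R] R} (hj : MultTypeLib.IsInt j) (ρ : C →ₐ[R] A ⊗[R] C)
    (hco : ∀ c, TensorProduct.assoc R A A C ((Coalgebra.comul (R := R)).rTensor C (ρ c)) = ρ.toLinearMap.lTensor A (ρ c))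
    (J : Ideal C) (hJ : J * J = ⊥)
    (h : ∀ c, ρ c - (1 : A) ⊗ₜ[R] c ∈ J.map (Algebra.TensorProduct.includeRight : C →ₐ[R] A ⊗[R] C)) :
    ∃ P : C →ₐ[R] C, (∀ c, P c - c ∈ J) ∧
      (Algebra.TensorProduct.map (AlgHom.id R A) P).comp ρ = Algebra.TensorProduct.includeRight.comp P := by
  let P₀ : A ⊗[R] C →ₗ[R] C := (TensorProduct.lid R C).toLinearMap ∘ₗ j.rTensor C
  let inR : C →ₐ[R] A ⊗[R] C := Algebra.TensorProduct.includeRight
  have hlin : ∀ (x : C) (w : A ⊗[R] C), P₀ (inR x * w) = x * P₀ w := by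
    intro x w
    induction w using TensorProduct.induction_on with
    | zero => simp
    | add p q hp hq => simp [mul_add, hp, hq]
    | tmul a b => simp [P₀, inR]
  have hP₀ : ∀ w ∈ J.map inR, P₀ w ∈ J := by
    intro w hw
    suffices ∀ v, P₀ (v * w) ∈ J by simpa using this 1
    refine Submodule.span_induction (p := fun w _ => ∀ v, P₀ (v * w) ∈ J) ?_ ?_ ?_ ?_ hw
    · rintro _ ⟨x, hx, rfl⟩ v
      rw [mul_comm, hlin]
      exact J.mul_mem_right _ hx
    · intro v; simp
    · intro p q _ _ hp hq v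
      rw [mul_add, map_add]; exact add_mem (hp v) (hq v)
    · intro r p _ hp v
      rw [smul_eq_mul, ← _root_.mul_assoc]; exact hp _
  let δ : C → A ⊗[R] C := fun c => ρ c - inR c
  have hδ : ∀ c, ρ c = inR c + δ c := fun c => (add_sub_cancel (inR c) (ρ c)).symm
  have hP1 : ∀ c, P₀ (inR c) = c := fun c => by simp [P₀, inR, hj.one]
  have hPd : ∀ c, P₀ (ρ c) = c + P₀ (δ c) := fun c => by rw [hδ c, map_add, hP1]
  have hmul : ∀ x y, P₀ (ρ (x * y)) = P₀ (ρ x) * P₀ (ρ y) := by
    intro x y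
    have hdd : δ x * δ y = 0 := by
      have h1 := Ideal.mul_mem_mul (h x) (h y)
      rw [← Ideal.map_mul, hJ, Ideal.map_bot, Ideal.mem_bot] at h1
      exact h1
    have hee : P₀ (δ x) * P₀ (δ y) = 0 := by
      have h1 := Ideal.mul_mem_mul (hP₀ _ (h x)) (hP₀ _ (h y))
      rw [hJ, Ideal.mem_bot] at h1
      exact h1
    have e1 : ρ (x * y) = inR (x * y) + inR x * δ y + inR y * δ x := by
      rw [map_mul, hδ x, hδ y, map_mul]
      linear_combination hdd
    rw [e1, map_add, map_add, hP1, hlin, hlin, hPd, hPd]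
    linear_combination -hee
  let P : C →ₐ[R] C := AlgHom.ofLinearMap (P₀ ∘ₗ ρ.toLinearMap)
    (by simp [P₀, Algebra.TensorProduct.one_def, hj.one]) hmul
  have hP : ∀ c, P c = P₀ (ρ c) := fun _ => rfl
  refine ⟨P, fun c => ?_, AlgHom.ext fun c => ?_⟩
  · rw [hP, hPd, add_sub_cancel_left]
    exact hP₀ _ (h c)
  · have h1 : ∀ z : A ⊗[R] C, Algebra.TensorProduct.map (AlgHom.id R A) P z =
        P₀.lTensor A (ρ.toLinearMap.lTensor A z) := by
      intro z
      induction z using TensorProduct.induction_on with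
      | zero => simp
      | add p q hp hq => simp only [map_add, hp, hq]
      | tmul a b => simp [hP]
    have h2 : ∀ z : A ⊗[R] C, P₀.lTensor A (TensorProduct.assoc R A A C ((Coalgebra.comul (R := R)).rTensor C z)) =
        (1 : A) ⊗ₜ[R] P₀ z := by
      intro z
      induction z using TensorProduct.induction_on with
      | zero => simp
      | add p q hp hq => simp [hp, hq, TensorProduct.tmul_add]
      | tmul a b =>
        have h3 : ∀ w : A ⊗[R] A, P₀.lTensor A (TensorProduct.assoc R A A C (w ⊗ₜ[R] b)) =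
            (TensorProduct.lid R A (j.rTensor A (TensorProduct.comm R A A w))) ⊗ₜ[R] b := by
          intro w
          induction w using TensorProduct.induction_on with
          | zero => simp
          | add p q hp hq => simp [TensorProduct.add_tmul, hp, hq]
          | tmul p q => simp [P₀, TensorProduct.smul_tmul]
        rw [LinearMap.rTensor_tmul, h3, hj.right]
        simp [P₀, TensorProduct.smul_tmul']
    show Algebra.TensorProduct.map (AlgHom.id R A) P (ρ c) = inR (P c)
    rw [h1, ← hco, h2, hP]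
    rfl

section Local

variable {S : Scheme.{u}} {R : Type u} [CommRing R] (g : Spec (CommRingCat.of R) ⟶ S)
variable {G : Over S} [GrpObj G] {A : Type u} [CommRing A] [HopfAlgebra R A]
  (e : Grp.mk (CoactBr.sp R A) ≅ Grp.mk (Red.bc g G))
variable {X : Over S} (a : AlgGrp.Action G X)

/-- A point fixed by the universal point of `G` is fixed by all points. -/
theorem fixed_of_univ {C : Type u} [CommRing C] [Algebra R C] (x : tg g C ⟶ X)
    (h : univPt g e x ≫ a.act = univPt g e x ≫ snd G X) (T : Over S) (t : T ⟶ tg g C) (g' : T ⟶ G) :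
    lift g' (t ≫ x) ≫ a.act = t ≫ x := by
  let T'' : Over (Spec (CommRingCat.of R)) := Over.mk (t.left ≫ (CoactBr.sp R C).hom)
  have hw : T''.hom ≫ g = T.hom := (Category.assoc _ _ _).trans (Over.w t)
  let c : T ⟶ (Over.map g).obj T'' := Over.homMk (𝟙 T.left) ((Category.id_comp _).trans hw)
  let c' : (Over.map g).obj T'' ⟶ T := Over.homMk (𝟙 T.left) ((Category.id_comp _).trans hw.symm)
  have hc : c ≫ c' = 𝟙 T := Over.OverMorphism.ext (Category.id_comp _)
  obtain ⟨y, hy⟩ := fl_surjective g G (c' ≫ g')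
  let t'' : T'' ⟶ CoactBr.sp R C := Over.homMk t.left rfl
  obtain ⟨P, hP₁, hP₂⟩ := exists_pairMor R A C
  let k : T'' ⟶ CoactBr.sp R (A ⊗[R] C) := lift (y ≫ e.inv.hom.hom) t'' ≫ P
  let m : T ⟶ tg g (A ⊗[R] C) := c ≫ (Over.map g).map k
  have h1 : m ≫ gpt g e (Algebra.TensorProduct.includeLeft (S := R)) = g' := by
    show (c ≫ (Over.map g).map k) ≫ fl g G _ = g'
    rw [Category.assoc, ← fl_comp, ← Category.assoc k, show k ≫ CoactBr.pt (Algebra.TensorProduct.includeLeft (S := R)) =
      y ≫ e.inv.hom.hom by simp only [k, Category.assoc, hP₁, lift_fst], Category.assoc, ← Mon.comp_hom', ← Grp.comp',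
      e.inv_hom_id]
    show c ≫ fl g G (y ≫ 𝟙 _) = g'
    rw [Category.comp_id, hy, ← Category.assoc, hc, Category.id_comp]
  have h2 : m ≫ tm g Algebra.TensorProduct.includeRight = t := by
    show (c ≫ (Over.map g).map k) ≫ (Over.map g).map _ = t
    rw [Category.assoc, ← Functor.map_comp, show k ≫ CoactBr.pt Algebra.TensorProduct.includeRight = t'' by
      simp only [k, Category.assoc, hP₂, lift_snd]]
    exact Over.OverMorphism.ext (Category.id_comp _)
  have h3 : m ≫ univPt g e x = lift g' (t ≫ x) := by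
    rw [univPt, comp_lift, h1, ← Category.assoc, h2]
  rw [← h3, Category.assoc, h, ← Category.assoc, h3, lift_snd]

variable {B : Type u} [CommRing B] [Algebra R B] (xB : tg g B ⟶ X) [IsOpenImmersion g] [IsOpenImmersion xB.left]

/-- Coassociativity for the action on a closed subscheme of an affine piece. -/
theorem coassoc_of_act_quot {C : Type u} [CommRing C] [Algebra R C] (m : B →ₐ[R] C) (hm : Function.Surjective m)
    (ρ : C →ₐ[R] A ⊗[R] C) (hρ : tm g ρ ≫ tm g m ≫ xB = univPt g e (tm g m ≫ xB) ≫ a.act) :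
    ∀ b, TensorProduct.assoc R A A C ((Coalgebra.comul (R := R)).rTensor C (ρ b)) =
      ρ.toLinearMap.lTensor A (ρ b) := by
  obtain ⟨x₂, hx₂⟩ : ∃ x : tg g C ⟶ X, x = tm g m ≫ xB := ⟨_, rfl⟩
  rw [← hx₂] at hρ
  let AB := A ⊗[R] C
  let D := A ⊗[R] AB
  let h₁ : A →ₐ[R] D := Algebra.TensorProduct.includeLeft (S := R)
  let inR : AB →ₐ[R] D := Algebra.TensorProduct.includeRight
  let iA : A →ₐ[R] AB := Algebra.TensorProduct.includeLeft (S := R)
  let iB : C →ₐ[R] AB := Algebra.TensorProduct.includeRight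
  let prod : A →ₐ[R] D := (Algebra.TensorProduct.lift h₁ (inR.comp iA) fun _ _ => .all _ _).comp (Bialgebra.comulAlgHom R A)
  let θ₁ : AB →ₐ[R] D := Algebra.TensorProduct.lift prod (inR.comp iB) fun _ _ => .all _ _
  let θ₂ : AB →ₐ[R] D := Algebra.TensorProduct.lift h₁ (inR.comp ρ) fun _ _ => .all _ _
  have hθ : ∀ (p : A →ₐ[R] D) (q : C →ₐ[R] D), lift (gpt g e p) (tm g q ≫ x₂) =
      tm g (Algebra.TensorProduct.lift p q fun _ _ => .all _ _) ≫ univPt g e x₂ := fun p q => by
    rw [univPt, comp_lift, ← gpt_comp, ← Category.assoc, ← tm_comp, Algebra.TensorProduct.lift_comp_includeLeft,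
      Algebra.TensorProduct.lift_comp_includeRight']
  have hassoc : tm g (θ₁.comp ρ) ≫ x₂ = tm g (θ₂.comp ρ) ≫ x₂ := by
    rw [tm_comp, tm_comp, Category.assoc, Category.assoc, hρ, ← Category.assoc, ← Category.assoc, ← hθ, ← hθ,
      ← gpt_mul, act_mul]
    congr 2
    rw [tm_comp, tm_comp, Category.assoc, Category.assoc, hρ, univPt, comp_lift_assoc, ← gpt_comp]
  have hassoc' : (θ₁.comp ρ).comp m = (θ₂.comp ρ).comp m := tm_xB_injective g xB (by
    rw [tm_comp g m, tm_comp g m, Category.assoc, Category.assoc, ← hx₂]; exact hassoc)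
  intro b
  have e1 : ∀ z : AB, θ₁ z = TensorProduct.assoc R A A C ((Coalgebra.comul (R := R)).rTensor C z) := by
    intro z
    induction z using TensorProduct.induction_on with
    | zero => simp
    | add x y hx hy => simp [hx, hy]
    | tmul p q =>
      rw [LinearMap.rTensor_tmul]
      show prod p * inR (iB q) = _
      show Algebra.TensorProduct.lift h₁ (inR.comp iA) (fun x y => Commute.all (h₁ x) ((inR.comp iA) y)) (Coalgebra.comul (R := R) p) * inR (iB q) = _
      generalize Coalgebra.comul (R := R) p = w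
      induction w using TensorProduct.induction_on with
      | zero => simp
      | add x y hx hy => rw [map_add, add_mul, hx, hy, TensorProduct.add_tmul, map_add]
      | tmul x y =>
        rw [Algebra.TensorProduct.lift_tmul]
        show ((x ⊗ₜ[R] (1 : AB)) * ((1 : A) ⊗ₜ[R] (y ⊗ₜ[R] (1 : C)))) * ((1 : A) ⊗ₜ[R] ((1 : A) ⊗ₜ[R] q)) = _
        simp [AB]
  have e2 : ∀ z : AB, θ₂ z = ρ.toLinearMap.lTensor A z := by
    intro z
    induction z using TensorProduct.induction_on with
    | zero => simp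
    | add x y hx hy => simp [hx, hy]
    | tmul p q =>
      refine (Algebra.TensorProduct.lift_tmul _ _ _ _ _).trans ?_
      show (p ⊗ₜ[R] (1 : AB)) * ((1 : A) ⊗ₜ[R] ρ q) = p ⊗ₜ[R] ρ q
      rw [Algebra.TensorProduct.tmul_mul_tmul, _root_.mul_one, _root_.one_mul]
  rw [← e1, ← e2]
  obtain ⟨b, rfl⟩ := hm b
  exact DFunLike.congr_fun hassoc' b

include e in
/-- The fixed locus in an affine piece has a section on its first neighbourhood. -/
theorem exists_section_fixed {F' : Type u} [CommRing F'] [Algebra R F'] (f : B →ₐ[R] F')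
    (hf : Function.Surjective f) {j : A →ₗ[R] R} (hj : MultTypeLib.IsInt j)
    (hfix : ∀ (D : Type u) [CommRing D] [Algebra R D] (φ : F' →ₐ[R] D) (h : tg g D ⟶ G),
      lift h (tm g (φ.comp f) ≫ xB) ≫ a.act = tm g (φ.comp f) ≫ xB)
    (hrep : ∀ (D : Type u) [CommRing D] [Algebra R D] (χ : B →ₐ[R] D),
      (∀ (T : Over S) (t : T ⟶ tg g D) (g' : T ⟶ G),
        lift g' (t ≫ tm g χ ≫ xB) ≫ a.act = t ≫ tm g χ ≫ xB) →
      RingHom.ker f.toRingHom ≤ RingHom.ker χ.toRingHom) :
    ∃ σ : F' →ₐ[R] B ⧸ RingHom.ker f.toRingHom ^ 2, f.kerSquareLift.comp σ = AlgHom.id R F' := by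
  set I := RingHom.ker f.toRingHom with hI
  let C := B ⧸ I ^ 2
  let m : B →ₐ[R] C := Ideal.Quotient.mkₐ R (I ^ 2)
  have hm : Function.Surjective m := Ideal.Quotient.mkₐ_surjective R _
  let π : C →ₐ[R] F' := f.kerSquareLift
  have hπm : π.comp m = f := AlgHom.ext fun b => AlgHom.kerSquareLift_mk f b
  have hπ : Function.Surjective π := fun y => by
    obtain ⟨b, rfl⟩ := hf y
    exact ⟨m b, DFunLike.congr_fun hπm b⟩
  let J : Ideal C := RingHom.ker π.toRingHom
  have hJ : J * J = ⊥ := by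
    show RingHom.ker f.kerSquareLift.toRingHom * RingHom.ker f.kerSquareLift.toRingHom = ⊥
    rw [← pow_two, AlgHom.ker_kerSquareLift, Ideal.cotangentIdeal_square]
  let x₂ : tg g C ⟶ X := tm g m ≫ xB
  let AC := A ⊗[R] C
  let inR : C →ₐ[R] AC := Algebra.TensorProduct.includeRight
  let w : tg g AC ⟶ X := univPt g e x₂ ≫ a.act
  have hrange : Set.range w.left ⊆ Set.range xB.left := by
    rintro _ ⟨z, rfl⟩
    let z' : PrimeSpectrum AC := z
    let L := z'.asIdeal.ResidueField
    let q : AC →ₐ[R] L := IsScalarTower.toAlgHom R AC L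
    let qb : B →ₐ[R] L := q.comp (inR.comp m)
    have hqb : RingHom.ker f.toRingHom ≤ RingHom.ker qb.toRingHom := fun i hi => by
      have h2 : m (i * i) = 0 := Ideal.Quotient.eq_zero_iff_mem.2 (by rw [pow_two]; exact Ideal.mul_mem_mul hi hi)
      have h3 : qb i * qb i = 0 := by
        rw [← map_mul]
        show q (inR (m (i * i))) = 0
        rw [h2, map_zero, map_zero]
      exact (mul_self_eq_zero.1 h3)
    let φ : F' →ₐ[R] L := AlgHom.liftOfSurjective f hf qb hqb
    have hφ : φ.comp f = qb := AlgHom.liftOfSurjective_comp f hf qb hqb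
    have hq : tm g q ≫ w = tm g qb ≫ xB := by
      show tm g q ≫ univPt g e x₂ ≫ a.act = _
      rw [univPt, ← Category.assoc, comp_lift, ← hφ]
      have h4 : tm g q ≫ tm g inR ≫ x₂ = tm g (φ.comp f) ≫ xB := by
        simp only [hφ, qb, x₂, tm_comp, Category.assoc]
      rw [h4]
      exact hfix L φ _
    let c : PrimeSpectrum L := IsLocalRing.closedPoint L
    have hc : PrimeSpectrum.comap (algebraMap AC L) c = z' := by
      apply PrimeSpectrum.ext
      show Ideal.comap (algebraMap AC L) _ = _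
      rw [Ideal.eq_bot_of_prime c.asIdeal, ← RingHom.ker_eq_comap_bot, Ideal.ker_algebraMap_residueField]
    refine ⟨PrimeSpectrum.comap qb.toRingHom c, ?_⟩
    have := congrArg (fun k : Spec (CommRingCat.of L) ⟶ X.left => k c) (congrArg CommaMorphism.left hq)
    rw [← show (tm g q).left c = z from hc]
    exact this.symm
  obtain ⟨ρ', hρ'⟩ := exists_algHom g xB w hrange
  let mu : AC →ₐ[R] A ⊗[R] F' := Algebra.TensorProduct.map (AlgHom.id R A) π
  let inR' : F' →ₐ[R] A ⊗[R] F' := Algebra.TensorProduct.includeRight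
  have hmu : mu.comp ρ' = inR'.comp f := tm_xB_injective g xB (by
    rw [tm_comp, Category.assoc, hρ']
    show tm g mu ≫ univPt g e x₂ ≫ a.act = _
    rw [univPt, ← Category.assoc, comp_lift]
    have h4 : tm g mu ≫ tm g inR ≫ x₂ = tm g (inR'.comp f) ≫ xB := by
      have h5 : mu.comp (inR.comp m) = inR'.comp f := by
        rw [← hπm]; ext b; exact Algebra.TensorProduct.map_tmul (AlgHom.id R A) π 1 (m b)
      rw [← h5]
      simp only [x₂, tm_comp, Category.assoc]
    rw [h4]
    exact hfix _ inR' _)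
  have hker : RingHom.ker mu.toRingHom = J.map inR := Algebra.TensorProduct.lTensor_ker π hπ
  have hρI : ∀ i ∈ I, ρ' i ∈ J.map inR := fun i hi => by
    rw [← hker, RingHom.mem_ker]
    show mu (ρ' i) = 0
    rw [show mu (ρ' i) = inR' (f i) from DFunLike.congr_fun hmu i, show f i = 0 from hi, map_zero]
  have hρ2 : ∀ i ∈ I ^ 2, ρ' i = 0 := by
    suffices I ^ 2 ≤ RingHom.ker ρ'.toRingHom from fun i hi => this hi
    refine (pow_two I).trans_le (Ideal.mul_le.2 ?_)
    intro p hp q hq
    rw [RingHom.mem_ker]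
    show ρ' (p * q) = 0
    have h1 := Ideal.mul_mem_mul (hρI p hp) (hρI q hq)
    rw [← Ideal.map_mul, hJ, Ideal.map_bot, Ideal.mem_bot] at h1
    rw [map_mul]
    exact h1
  let ρ : C →ₐ[R] AC := Ideal.Quotient.liftₐ (I ^ 2) ρ' hρ2
  have hρm : ρ.comp m = ρ' := AlgHom.ext fun _ => rfl
  have hρ : tm g ρ ≫ tm g m ≫ xB = univPt g e (tm g m ≫ xB) ≫ a.act := by
    rw [← Category.assoc, ← tm_comp, hρm]; exact hρ'
  have hco := coassoc_of_act_quot g e a xB m hm ρ hρ
  obtain ⟨P, hPJ, hP⟩ := exists_retraction hj ρ hco J hJ fun c => by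
    obtain ⟨b, rfl⟩ := hm c
    rw [← hker, RingHom.mem_ker]
    show mu (ρ' b - (1 : A) ⊗ₜ[R] m b) = 0
    rw [map_sub, show mu (ρ' b) = inR' (f b) from DFunLike.congr_fun hmu b, sub_eq_zero, ← hπm]
    exact (Algebra.TensorProduct.map_tmul (AlgHom.id R A) π 1 (m b)).symm
  let χ : B →ₐ[R] C := P.comp m
  have huniv : univPt g e (tm g χ ≫ xB) ≫ a.act = univPt g e (tm g χ ≫ xB) ≫ snd G X := by
    let Q : AC →ₐ[R] AC := Algebra.TensorProduct.map (AlgHom.id R A) P
    have hQL : Q.comp (Algebra.TensorProduct.includeLeft (S := R)) = Algebra.TensorProduct.includeLeft (S := R) := by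
      ext x; exact (Algebra.TensorProduct.map_tmul (AlgHom.id R A) P x 1).trans (by rw [map_one]; rfl)
    have hQR : Q.comp inR = inR.comp P := by ext x; exact Algebra.TensorProduct.map_tmul (AlgHom.id R A) P 1 x
    have h6 : univPt g e (tm g χ ≫ xB) = tm g Q ≫ univPt g e x₂ := by
      rw [univPt, univPt, comp_lift, ← gpt_comp, hQL, ← Category.assoc (tm g Q), ← tm_comp, hQR]
      simp only [χ, x₂, inR, tm_comp, Category.assoc]
    have h7 : univPt g e (tm g χ ≫ xB) ≫ snd G X = tm g inR ≫ tm g χ ≫ xB := by rw [univPt, lift_snd]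
    rw [h7, h6, Category.assoc, ← hρ]
    show tm g Q ≫ tm g ρ ≫ tm g m ≫ xB = _
    rw [← Category.assoc, ← tm_comp, show Q.comp ρ = inR.comp P from hP]
    simp only [χ, tm_comp, Category.assoc]
  have hχ := hrep C χ (fun T t g' => fixed_of_univ g e a (tm g χ ≫ xB) huniv T t g')
  refine ⟨AlgHom.liftOfSurjective f hf χ hχ, AlgHom.ext fun y => ?_⟩
  obtain ⟨b, rfl⟩ := hf y
  show π (AlgHom.liftOfSurjective f hf χ hχ (f b)) = f b
  rw [AlgHom.liftOfSurjective_apply, show χ b = P (m b) from rfl, ← DFunLike.congr_fun hπm b]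
  exact sub_eq_zero.1 ((map_sub π _ _).symm.trans (hPJ (m b)))

end Local

/-- The fixed points of an action on a separated scheme of finite presentation form a closed subscheme of finite
presentation. -/
theorem exists_fixed_locus {S : Scheme.{u}} (G X : Over S) [GrpObj G] (hG : IsMT G)
    [IsSeparated X.hom] [LocallyOfFinitePresentation X.hom] (a : AlgGrp.Action G X) :
    ∃ (C : Scheme.{u}) (c : C ⟶ X.left), IsClosedImmersion c ∧ LocallyOfFinitePresentation c ∧
      ∀ (T : Over S) (x : T ⟶ X), (∃ y : T.left ⟶ C, y ≫ c = x.left) ↔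
        ∀ (T' : Over S) (t : T' ⟶ T) (g : T' ⟶ G), lift g (t ≫ x) ≫ a.act = t ≫ x := by
  haveI : LocallyOfFinitePresentation (pullback.diagonal X.hom) := by
    haveI : LocallyOfFinitePresentation (pullback.diagonal X.hom ≫ pullback.fst X.hom X.hom) := by
      rw [pullback.diagonal_fst]; infer_instance
    exact SchBasic.locallyOfFinitePresentation_of_comp _ (pullback.fst X.hom X.hom)
  let p₁ := a.act.left
  let p₂ := (snd G X).left
  let j : (G ⊗ X).left ⟶ pullback X.hom X.hom := pullback.lift p₁ p₂ ((Over.w a.act).trans (Over.w (snd G X)).symm)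
  let i := pullback.fst j (pullback.diagonal X.hom)
  haveI : IsClosedImmersion i := MorphismProperty.pullback_fst _ _ (inferInstanceAs (IsClosedImmersion (pullback.diagonal X.hom)))
  haveI : LocallyOfFinitePresentation i := MorphismProperty.pullback_fst _ _ ‹LocallyOfFinitePresentation (pullback.diagonal X.hom)›
  obtain ⟨C, c, hc, hcfp, hC⟩ := exists_contains_locus p₂ i (hasContentLoc_of_isMT (isMT_bc hG X.hom) :)
  haveI := hc; haveI := hcfp
  have fwd : ∀ {T : Over S} (x : T ⟶ X), (∀ (T' : Over S) (t : T' ⟶ T) (g : T' ⟶ G), lift g (t ≫ x) ≫ a.act = t ≫ x) →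
      Contains p₂ i x.left := by
    intro T x h Z y t ht
    let T' : Over S := Over.mk (t ≫ T.hom)
    let t' : T' ⟶ T := Over.homMk t rfl
    let y' : T' ⟶ G ⊗ X := Over.homMk y (by
      show y ≫ (G ⊗ X).hom = t ≫ T.hom
      rw [← Over.w (snd G X), ← Category.assoc, ht, Category.assoc, Over.w x])
    have hy : lift (y' ≫ fst G X) (t' ≫ x) = y' := by
      apply CartesianMonoidalCategory.hom_ext
      · rw [lift_fst]
      · rw [lift_snd]; exact Over.OverMorphism.ext ht.symm
    have h1 := h T' t' (y' ≫ fst G X)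
    rw [hy, ← lift_snd (y' ≫ fst G X) (t' ≫ x), hy] at h1
    have h2 : y ≫ p₁ = y ≫ p₂ := congrArg CommaMorphism.left h1
    refine ⟨pullback.lift y (y ≫ p₁) (pullback.hom_ext ?_ ?_), pullback.lift_fst _ _ _⟩
    · simp only [j, Category.assoc, pullback.diagonal_fst, Category.comp_id, pullback.lift_fst]
    · simp only [j, Category.assoc, pullback.lift_snd, pullback.diagonal_snd, Category.comp_id, h2]
  have bwd : ∀ {T : Over S} (x : T ⟶ X), Contains p₂ i x.left →
      ∀ (T' : Over S) (t : T' ⟶ T) (g : T' ⟶ G), lift g (t ≫ x) ≫ a.act = t ≫ x := by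
    intro T x h T' t g
    obtain ⟨l, hl⟩ := h T'.left (lift g (t ≫ x)).left t.left (by
      show (lift g (t ≫ x)).left ≫ (snd G X).left = _
      rw [← Over.comp_left, lift_snd]; rfl)
    conv_rhs => rw [← lift_snd g (t ≫ x)]
    refine Over.OverMorphism.ext ?_
    show (lift g (t ≫ x)).left ≫ p₁ = (lift g (t ≫ x)).left ≫ p₂
    have hd : i ≫ p₁ = i ≫ p₂ := by
      have hd : i ≫ j ≫ pullback.fst X.hom X.hom = i ≫ j ≫ pullback.snd X.hom X.hom := by
        simp only [i, pullback.condition_assoc, pullback.diagonal_fst, pullback.diagonal_snd]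
      simp only [j, pullback.lift_fst, pullback.lift_snd] at hd
      exact hd
    rw [← hl, Category.assoc, Category.assoc, hd]
  exact ⟨C, c, hc, hcfp, fun T x => ⟨fun h => bwd x ((hC x.left).1 h), fun h => (hC x.left).2 (fwd x h)⟩⟩

/-- The fixed locus of an action on a separated scheme of finite presentation is of finite presentation. -/
theorem locallyOfFinitePresentation_fixed {S : Scheme.{u}} (G X : Over S) [GrpObj G] (hG : IsMT G)
    [IsSeparated X.hom] [LocallyOfFinitePresentation X.hom] (a : AlgGrp.Action G X) {F : Scheme.{u}} (f : F ⟶ X.left)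
    [IsClosedImmersion f]
    (hF : ∀ (T : Over S) (x : T ⟶ X), (∃ y : T.left ⟶ F, y ≫ f = x.left) ↔
        ∀ (T' : Over S) (t : T' ⟶ T) (g : T' ⟶ G), lift g (t ≫ x) ≫ a.act = t ≫ x) :
    LocallyOfFinitePresentation f := by
  obtain ⟨C, c, hc, hcfp, hC⟩ := exists_fixed_locus G X hG a
  haveI := hc; haveI := hcfp
  let xF : Over.mk (f ≫ X.hom) ⟶ X := Over.homMk f rfl
  obtain ⟨z, hz⟩ := (hC _ xF).2 ((hF _ xF).1 ⟨𝟙 F, Category.id_comp f⟩)
  have hz : z ≫ c = f := hz
  let xC : Over.mk (c ≫ X.hom) ⟶ X := Over.homMk c rfl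
  obtain ⟨y, hy⟩ := (hF _ xC).2 ((hC _ xC).1 ⟨𝟙 C, Category.id_comp c⟩)
  have hy' : y ≫ f = c := hy
  haveI : IsIso z := ⟨y, (cancel_mono f).1 (by rw [Category.assoc, hy', hz, Category.id_comp]),
    (cancel_mono c).1 (by rw [Category.assoc, hz, hy', Category.id_comp])⟩
  rw [← hz]
  infer_instance

/-- The fixed locus of a group of multiplicative type acting on a smooth separated scheme is smooth. -/
theorem smooth_fixed {S : Scheme.{u}} (G X : Over S) [GrpObj G] (hG : IsMT G) [Smooth X.hom] [IsSeparated X.hom]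
    (a : AlgGrp.Action G X) {F : Scheme.{u}} (f : F ⟶ X.left) [IsClosedImmersion f]
    (hF : ∀ (T : Over S) (x : T ⟶ X), (∃ y : T.left ⟶ F, y ≫ f = x.left) ↔
        ∀ (T' : Over S) (t : T' ⟶ T) (g : T' ⟶ G), lift g (t ≫ x) ≫ a.act = t ≫ x) :
    Smooth (f ≫ X.hom) := by
  haveI := locallyOfFinitePresentation_fixed G X hG a f hF
  rw [HasRingHomProperty.iff_exists_appLE (P := @Smooth)
    (RingHom.Smooth.stableUnderComposition.stableUnderCompositionWithLocalizationAway
      RingHom.Smooth.holdsForLocalizationAway).1]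
  intro z
  obtain ⟨U, hU, hzU, -⟩ := exists_isAffineOpen_mem_and_subset (X := S) (x := X.hom (f z)) (U := ⊤) trivial
  obtain ⟨V, hV, hzV, hVU⟩ := exists_isAffineOpen_mem_and_subset (x := f z) (U := X.hom ⁻¹ᵁ U) hzU
  let W : F.Opens := f ⁻¹ᵁ V
  have hW : IsAffineOpen W := hV.preimage f
  have hWU : W ≤ (f ≫ X.hom) ⁻¹ᵁ U := fun p hp => hVU hp
  refine ⟨⟨U, hU⟩, ⟨W, hW⟩, hzV, hWU, ?_⟩
  let g : Spec (CommRingCat.of Γ(S, U)) ⟶ S := hU.fromSpec
  letI : Algebra Γ(S, U) Γ(X.left, V) := (X.hom.appLE U V hVU).hom.toAlgebra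
  letI : Algebra Γ(S, U) Γ(F, W) := ((f ≫ X.hom).appLE U W hWU).hom.toAlgebra
  haveI : Algebra.Smooth Γ(S, U) Γ(X.left, V) :=
    RingHom.smooth_algebraMap.1 (X.hom.smooth_appLE hU hV hVU)
  have hcomp : X.hom.appLE U V hVU ≫ f.app V = (f ≫ X.hom).appLE U W hWU := by
    rw [Scheme.Hom.app_eq_appLE, Scheme.Hom.appLE_comp_appLE]
  let fA : Γ(X.left, V) →ₐ[Γ(S, U)] Γ(F, W) :=
    { toRingHom := (f.app V).hom
      commutes' := fun r => congrArg (fun k : Γ(S, U) ⟶ Γ(F, W) => k.hom r) hcomp }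
  have hfA : Function.Surjective fA := f.app_surjective V hV
  let xB : tg g Γ(X.left, V) ⟶ X := Over.homMk hV.fromSpec (hU.SpecMap_appLE_fromSpec X.hom hV hVU).symm
  haveI : IsOpenImmersion xB.left := inferInstanceAs (IsOpenImmersion hV.fromSpec)
  haveI : IsOpenImmersion g := inferInstanceAs (IsOpenImmersion hU.fromSpec)
  obtain ⟨A, _, _, j, hj, ⟨e⟩⟩ := exists_model hG g
  have hsq : Spec.map (f.app V) ≫ hV.fromSpec = hW.fromSpec ≫ f := by
    rw [Scheme.Hom.app_eq_appLE]; exact hV.SpecMap_appLE_fromSpec f hW le_rfl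
  have hfix : ∀ (D : Type u) [CommRing D] [Algebra Γ(S, U) D] (φ : Γ(F, W) →ₐ[Γ(S, U)] D) (h : tg g D ⟶ G),
      lift h (tm g (φ.comp fA) ≫ xB) ≫ a.act = tm g (φ.comp fA) ≫ xB := by
    intro D _ _ φ h
    have h1 : ∃ y : (tg g D).left ⟶ F, y ≫ f = (tm g (φ.comp fA) ≫ xB).left := by
      refine ⟨Spec.map (CommRingCat.ofHom φ.toRingHom) ≫ hW.fromSpec, ?_⟩
      show (_ ≫ hW.fromSpec) ≫ f = Spec.map (f.app V ≫ CommRingCat.ofHom φ.toRingHom) ≫ hV.fromSpec
      rw [Category.assoc, ← hsq, Spec.map_comp, Category.assoc]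
    have h2 := (hF _ _).1 h1 _ (𝟙 _) h
    simpa using h2
  have hrep : ∀ (D : Type u) [CommRing D] [Algebra Γ(S, U) D] (χ : Γ(X.left, V) →ₐ[Γ(S, U)] D),
      (∀ (T : Over S) (t : T ⟶ tg g D) (g' : T ⟶ G),
        lift g' (t ≫ tm g χ ≫ xB) ≫ a.act = t ≫ tm g χ ≫ xB) →
      RingHom.ker fA.toRingHom ≤ RingHom.ker χ.toRingHom := by
    intro D _ _ χ h
    obtain ⟨y, hy⟩ := (hF (tg g D) (tm g χ ≫ xB)).2 h
    have hy' : y ≫ f = Spec.map (CommRingCat.ofHom χ.toRingHom) ≫ hV.fromSpec := hy
    have hr : Set.range y ⊆ Set.range hW.fromSpec := by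
      rintro _ ⟨p, rfl⟩
      rw [hW.range_fromSpec]
      show f (y p) ∈ V
      rw [← Scheme.Hom.comp_apply, hy', Scheme.Hom.comp_apply, ← SetLike.mem_coe, ← hV.range_fromSpec]
      exact Set.mem_range_self _
    let l : Spec (CommRingCat.of D) ⟶ Spec Γ(F, W) := IsOpenImmersion.lift hW.fromSpec y hr
    have hl : l ≫ hW.fromSpec = y := IsOpenImmersion.lift_fac _ _ _
    have h1 : Spec.map (CommRingCat.ofHom χ.toRingHom) = Spec.map (f.app V ≫ Spec.preimage l) := by
      rw [← cancel_mono hV.fromSpec, ← hy', ← hl, Category.assoc, ← hsq, Spec.map_comp, Spec.map_preimage, Category.assoc]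
    intro b hb
    show χ.toRingHom b = 0
    rw [show χ.toRingHom = (Spec.preimage l).hom.comp (f.app V).hom from
      congrArg CommRingCat.Hom.hom (Spec.map_injective h1), RingHom.comp_apply,
      show (f.app V).hom b = 0 from hb, map_zero]
  obtain ⟨σ, hσ⟩ := exists_section_fixed g e a xB fA hfA hj hfix hrep
  haveI : Algebra.FormallySmooth Γ(S, U) Γ(F, W) := Algebra.FormallySmooth.of_split fA σ hσ
  haveI : Algebra.FinitePresentation Γ(S, U) Γ(F, W) :=
    HasRingHomProperty.appLE @LocallyOfFinitePresentation (f ≫ X.hom) inferInstance ⟨U, hU⟩ ⟨W, hW⟩ hWU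
  exact RingHom.smooth_algebraMap.2 ⟨inferInstance, inferInstance⟩

end Groth.Agent.MTRigid29
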