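import Groth.Agent.Lib.MTRigid29.Model

/-!
# The graph of a free coaction of a group of multiplicative type is surjective
-/

set_option autoImplicit false
set_option linter.style.haveILetI false

universe u

open scoped TensorProduct
open WithConv

noncomputable section

namespace Groth.Agent.MTRigid29

variable {R A B : Type u} [CommRing R] [CommRing A] [Bialgebra R A] [CommRing B] [Algebra R B]

/-- The graph of a coaction. -/
def graphHom (ρ : B →ₐ[R] A ⊗[R] B) : B ⊗[R] B →ₐ[R] A ⊗[R] B :=
  Algebra.TensorProduct.lift ρ Algebra.TensorProduct.includeRight fun _ _ => .all _ _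

section Indicator

variable {F : Type*} [CommRing F] {N : Type*} [CommMonoid N]

/-- Summing the coefficients in a subset. -/
def indSum (P : N → Prop) [DecidablePred P] : MonoidAlgebra F N →ₗ[F] F :=
  Finsupp.linearCombination F (fun n => if P n then (1 : F) else 0) ∘ₗ
    (MonoidAlgebra.coeffLinearEquiv F).toLinearMap

theorem indSum_single (P : N → Prop) [DecidablePred P] (n : N) (r : F) :
    indSum P (MonoidAlgebra.single n r) = if P n then r else 0 := by
  simp [indSum, mul_ite]

theorem sum_coeff (z : MonoidAlgebra F N) : z = z.coeff.sum fun n r => MonoidAlgebra.single n r :=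
  MonoidAlgebra.coeff_inj.1 (by
    rw [Finsupp.sum, MonoidAlgebra.coeff_sum]
    simp only [MonoidAlgebra.coeff_single]
    exact (Finsupp.sum_single z.coeff).symm)

theorem indSum_mul (P : N → Prop) [DecidablePred P] {y y' : MonoidAlgebra F N}
    (h : ∀ m n, y.coeff m ≠ 0 → y'.coeff n ≠ 0 → (P (m * n) ↔ P m ∧ P n)) :
    indSum P (y * y') = indSum P y * indSum P y' := by
  classical
  conv_lhs => rw [sum_coeff y, sum_coeff y']
  conv_rhs => rw [sum_coeff y, sum_coeff y']
  simp only [Finsupp.sum, Finset.sum_mul, Finset.mul_sum, map_sum]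
  refine Finset.sum_congr rfl fun n hn => Finset.sum_congr rfl fun m hm => ?_
  rw [MonoidAlgebra.single_mul_single, indSum_single, indSum_single, indSum_single]
  have := h m n (Finsupp.mem_support_iff.1 hm) (Finsupp.mem_support_iff.1 hn)
  by_cases hm' : P m <;> by_cases hn' : P n <;> simp [hm', hn', this]

end Indicator

variable {T : Type u} [CommRing T] [Algebra R T] {N : Type} [CommGroup N]
  (E : T ⊗[R] A ≃ₐc[T] MonoidAlgebra T N)

local notation "B'" => T ⊗[R] B

/-- The universal point. -/
def x₀ : A →ₐ[R] MonoidAlgebra T N :=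
  ((E : T ⊗[R] A →ₐ[T] MonoidAlgebra T N).restrictScalars R).comp Algebra.TensorProduct.includeRight

/-- Extension of scalars of the coefficients. -/
def coef : MonoidAlgebra T N →ₐ[T] MonoidAlgebra B' N :=
  MonoidAlgebra.mapAlgHom N (Algebra.ofId T B')

theorem coef_single (n : N) (t : T) :
    coef (R := R) (B := B) (MonoidAlgebra.single n t) = MonoidAlgebra.single n (algebraMap T B' t) :=
  MonoidAlgebra.mapAlgHom_single _ _ _

/-- `A ⊗ B → B'[N]`. -/
def evA : A ⊗[R] B →ₐ[R] MonoidAlgebra B' N :=
  Algebra.TensorProduct.lift (((coef (R := R) (B := B)).restrictScalars R).comp (x₀ E))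
    ((IsScalarTower.toAlgHom R B' (MonoidAlgebra B' N)).comp Algebra.TensorProduct.includeRight) fun _ _ => .all _ _

theorem evA_tmul (a : A) (b : B) :
    evA E (a ⊗ₜ[R] b) = coef (R := R) (B := B) (x₀ E a) * MonoidAlgebra.single 1 ((1 : T) ⊗ₜ[R] b) :=
  Algebra.TensorProduct.lift_tmul _ _ _ _ _

variable (ρ : B →ₐ[R] A ⊗[R] B)

/-- The coaction over `T`. -/
def coactT : B' →ₐ[T] MonoidAlgebra B' N :=
  Algebra.TensorProduct.lift (Algebra.ofId T _) ((evA E).comp ρ) fun _ _ => .all _ _

theorem coactT_tmul (t : T) (b : B) : coactT E ρ (t ⊗ₜ[R] b) = algebraMap T _ t * evA E (ρ b) :=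
  Algebra.TensorProduct.lift_tmul _ _ _ _ _

/-- The character trivial on `N`. -/
def aug : MonoidAlgebra B' N →ₐ[B'] B' := MonoidAlgebra.lift B' B' N 1

theorem aug_single (n : N) (c : B') : aug (R := R) (T := T) (MonoidAlgebra.single n c) = c := by
  simp [aug]

variable (hcu : ∀ b, TensorProduct.lid R B ((Coalgebra.counit (R := R) (A := A)).rTensor B (ρ b)) = b)

include hcu in
theorem aug_coactT (c : B') : aug (coactT E ρ c) = c := by
  have h1 : ∀ a : A, aug (R := R) (T := T) (coef (R := R) (B := B) (x₀ E a)) = algebraMap R B' (Coalgebra.counit (R := R) a) := by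
    intro a
    have h2 : ∀ z : MonoidAlgebra T N, aug (R := R) (T := T) (coef (R := R) (B := B) z) =
        algebraMap T B' (Coalgebra.counit (R := T) z) := by
      intro z
      induction z using MonoidAlgebra.induction_linear with
      | zero => simp
      | add x y hx hy => simp only [map_add, hx, hy]
      | single n t => rw [coef_single, aug_single, MonoidAlgebra.counit_single]; simp
    rw [h2, show x₀ E a = E ((1 : T) ⊗ₜ[R] a) from rfl, CoalgHomClass.counit_comp_apply]
    rw [IsScalarTower.algebraMap_apply R T B']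
    simp [Algebra.smul_def]
  induction c using TensorProduct.induction_on with
  | zero => simp
  | add x y hx hy => simp only [map_add, hx, hy]
  | tmul t b =>
    have h3 : ∀ z : A ⊗[R] B, aug (evA E z) = (1 : T) ⊗ₜ[R]
        TensorProduct.lid R B ((Coalgebra.counit (R := R) (A := A)).rTensor B z) := by
      intro z
      induction z using TensorProduct.induction_on with
      | zero => simp
      | add x y hx hy => simp only [map_add, hx, hy, TensorProduct.tmul_add]
      | tmul a b =>
        rw [evA_tmul, map_mul, h1, aug_single, LinearMap.rTensor_tmul, TensorProduct.lid_tmul,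
          TensorProduct.tmul_smul, Algebra.smul_def]
    rw [coactT_tmul, map_mul, h3, hcu, IsScalarTower.algebraMap_apply T B' (MonoidAlgebra B' N), AlgHom.commutes]
    show (t ⊗ₜ[R] (1 : B)) * ((1 : T) ⊗ₜ[R] b) = t ⊗ₜ[R] b
    simp

/-- The diagonal. -/
def diagHom : N →* MonoidAlgebra (MonoidAlgebra B' N) N where
  toFun n := MonoidAlgebra.single n (MonoidAlgebra.single n 1)
  map_one' := by simp [MonoidAlgebra.one_def]
  map_mul' m n := by rw [MonoidAlgebra.single_mul_single, MonoidAlgebra.single_mul_single, _root_.mul_one]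

variable (hco : ∀ b, TensorProduct.assoc R A A B ((Coalgebra.comul (R := R)).rTensor B (ρ b)) =
  ρ.toLinearMap.lTensor A (ρ b))

include hco in
theorem coactT_coactT (c : B') :
    MonoidAlgebra.mapAlgHom N (coactT E ρ) (coactT E ρ c) =
      MonoidAlgebra.lift B' (MonoidAlgebra (MonoidAlgebra B' N) N) N diagHom (coactT E ρ c) := by
  let W := MonoidAlgebra (MonoidAlgebra B' N) N
  let D := MonoidAlgebra.lift B' W N diagHom
  let out : MonoidAlgebra T N →ₐ[T] W := MonoidAlgebra.mapAlgHom N (Algebra.ofId T (MonoidAlgebra B' N))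
  have hD : ∀ n (d : B'), D (MonoidAlgebra.single n d) = MonoidAlgebra.single n (MonoidAlgebra.single n d) := fun n d => by
    simp [D, W, diagHom, MonoidAlgebra.lift_single, MonoidAlgebra.smul_single]
  let ev2 : A ⊗[R] (A ⊗[R] B) →ₐ[R] W :=
    Algebra.TensorProduct.lift ((out.restrictScalars R).comp (x₀ E))
      ((IsScalarTower.toAlgHom R (MonoidAlgebra B' N) W).comp (evA E)) fun x y => Commute.all (S := W) _ _
  have h1 : ∀ z : A ⊗[R] B, ev2 (ρ.toLinearMap.lTensor A z) = MonoidAlgebra.mapAlgHom N (coactT E ρ) (evA E z) := by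
    intro z
    induction z using TensorProduct.induction_on with
    | zero => simp
    | add x y hx hy => simp only [map_add, hx, hy]
    | tmul a b =>
      rw [LinearMap.lTensor_tmul, evA_tmul, map_mul]
      refine (Algebra.TensorProduct.lift_tmul _ _ _ _ _).trans ?_
      congr 1
      · show out (x₀ E a) = _
        generalize x₀ E a = z
        induction z using MonoidAlgebra.induction_linear with
        | zero => simp
        | add x y hx hy => simp only [map_add, hx, hy]
        | single n t =>
          simp only [coef_single, MonoidAlgebra.mapAlgHom_single, AlgHom.commutes]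
          exact (MonoidAlgebra.mapAlgHom_single _ _ _).trans rfl
      · rw [MonoidAlgebra.mapAlgHom_single, coactT_tmul, map_one, _root_.one_mul]
        rfl
  have h2 : ∀ z : A ⊗[R] B,
      ev2 (TensorProduct.assoc R A A B ((Coalgebra.comul (R := R)).rTensor B z)) = D (evA E z) := by
    intro z
    induction z using TensorProduct.induction_on with
    | zero => simp
    | add x y hx hy => simp only [map_add, hx, hy]
    | tmul a b =>
      let mid : MonoidAlgebra T N →ₐ[T] W :=
        (IsScalarTower.toAlgHom T (MonoidAlgebra B' N) W).comp (coef (R := R) (B := B))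
      have h3 : ∀ w : A ⊗[R] A, ev2 (TensorProduct.assoc R A A B (w ⊗ₜ[R] b)) =
          Algebra.TensorProduct.lift ((out.restrictScalars R).comp (x₀ E)) ((mid.restrictScalars R).comp (x₀ E))
            (fun x y => Commute.all (((out.restrictScalars R).comp (x₀ E)) x) (((mid.restrictScalars R).comp (x₀ E)) y)) w *
            D (MonoidAlgebra.single 1 ((1 : T) ⊗ₜ[R] b)) := by
        intro w
        induction w using TensorProduct.induction_on with
        | zero => simp
        | add x y hx hy => simp only [TensorProduct.add_tmul, map_add, add_mul, hx, hy]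
        | tmul p q =>
          rw [TensorProduct.assoc_tmul, show ev2 (p ⊗ₜ[R] (q ⊗ₜ[R] b)) = out (x₀ E p) * algebraMap _ W (evA E (q ⊗ₜ[R] b))
            from Algebra.TensorProduct.lift_tmul _ _ _ _ _, Algebra.TensorProduct.lift_tmul, hD]
          rw [_root_.mul_assoc]
          refine congrArg₂ _ rfl ?_
          show algebraMap (MonoidAlgebra B' N) W (evA E (q ⊗ₜ[R] b)) = _
          rw [evA_tmul, map_mul]
          rfl
      rw [LinearMap.rTensor_tmul, h3, evA_tmul, map_mul]
      refine congrArg (· * _) ?_
      have h4 : ∀ z : MonoidAlgebra T N, Algebra.TensorProduct.lift out mid (fun x y => Commute.all (out x) (mid y))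
          (Coalgebra.comul (R := T) z) = D (coef (R := R) (B := B) z) := by
        intro z
        induction z using MonoidAlgebra.induction_linear with
        | zero => simp
        | add x y hx hy => simp only [map_add, hx, hy]
        | single n t =>
          rw [MonoidAlgebra.comul_single, coef_single, hD]
          simp only [CommSemiring.comul_apply, TensorProduct.map_tmul, Algebra.TensorProduct.lift_tmul,
            MonoidAlgebra.lsingle_apply]
          show out (MonoidAlgebra.single n 1) * algebraMap (MonoidAlgebra B' N) W (coef (MonoidAlgebra.single n t)) = _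
          rw [coef_single, show out (MonoidAlgebra.single n (1 : T)) =
            MonoidAlgebra.single n (1 : MonoidAlgebra B' N) from (MonoidAlgebra.mapAlgHom_single _ _ _).trans (by rw [map_one]),
            MonoidAlgebra.coe_algebraMap, Function.comp_apply]
          simp [W, MonoidAlgebra.single_mul_single, MonoidAlgebra.coe_algebraMap]
      rw [← h4, show x₀ E a = E ((1 : T) ⊗ₜ[R] a) from rfl]
      have hE := CoalgHomClass.map_comp_comul_apply E ((1 : T) ⊗ₜ[R] a)
      rw [← hE]
      have hΔ : Coalgebra.comul (R := T) ((1 : T) ⊗ₜ[R] a) = TensorProduct.mapOfCompatibleSMul T R R _ _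
          (TensorProduct.map (TensorProduct.mk R T A 1) (TensorProduct.mk R T A 1) (Coalgebra.comul (R := R) a)) := by
        simp [← (Coalgebra.Repr.arbitrary R a).eq, TensorProduct.tmul_sum]
      rw [hΔ]
      generalize Coalgebra.comul (R := R) a = w
      induction w using TensorProduct.induction_on with
      | zero => simp
      | add x y hx hy => simp only [map_add, hx, hy]
      | tmul p q => simp [x₀]
  induction c using TensorProduct.induction_on with
  | zero => simp
  | add x y hx hy => simp only [map_add] at hx hy ⊢; rw [hx, hy]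
  | tmul t b =>
    have h5 := h1 (ρ b)
    rw [← hco, h2] at h5
    rw [coactT_tmul, map_mul, map_mul, AlgHom.commutes, ← h5]
    congr 1
    rw [IsScalarTower.algebraMap_apply T B' (MonoidAlgebra B' N), AlgHom.commutes,
      ← IsScalarTower.algebraMap_apply T B' W]

include hco in
theorem coactT_component (c : B') (m : N) :
    coactT E ρ ((coactT E ρ c).coeff m) = MonoidAlgebra.single m ((coactT E ρ c).coeff m) := by
  classical
  have h := congrArg (fun z : MonoidAlgebra (MonoidAlgebra B' N) N => z.coeff m) (coactT_coactT E ρ hco c)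
  simp only [MonoidAlgebra.coeff_mapAlgHom] at h
  refine h.trans ?_
  generalize coactT E ρ c = z
  induction z using MonoidAlgebra.induction_linear with
  | zero => simp
  | add x y hx hy => simp only [map_add, MonoidAlgebra.coeff_add, Finsupp.add_apply, hx, hy, MonoidAlgebra.single_add]
  | single n d =>
    simp [diagHom, MonoidAlgebra.lift_single, MonoidAlgebra.smul_single, MonoidAlgebra.coeff_single, Finsupp.single_apply]
    split_ifs with hnm
    · subst hnm; rfl
    · simp

variable (hfree : ∀ (C : Type u) [CommRing C] [Algebra R C] (φ : A →ₐ[R] C) (x : B →ₐ[R] C),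
  (Algebra.TensorProduct.lift φ x fun _ _ => .all _ _).comp ρ = x → φ = (Algebra.ofId R C).comp (Bialgebra.counitAlgHom R A))

include hcu hco hfree in
theorem exists_component_notMem (q : Ideal B') [q.IsPrime] (m : N) : ∃ c, (coactT E ρ c).coeff m ∉ q := by
  classical
  let pi := fun (m : N) (c : B') => (coactT E ρ c).coeff m
  have hpi : ∀ m c, coactT E ρ (pi m c) = MonoidAlgebra.single m (pi m c) := fun m c => coactT_component E ρ hco c m
  let S : Submonoid N :=
    { carrier := {m | ∃ c, pi m c ∉ q}
      one_mem' := ⟨1, by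
        show (coactT E ρ 1).coeff 1 ∉ q
        rw [map_one (coactT E ρ), MonoidAlgebra.one_def, MonoidAlgebra.coeff_single, Finsupp.single_eq_same]
        exact fun h => Ideal.IsPrime.ne_top ‹_› ((Ideal.eq_top_iff_one _).2 h)⟩
      mul_mem' := by
        rintro m n ⟨c, hc⟩ ⟨d, hd⟩
        refine ⟨pi m c * pi n d, ?_⟩
        have h : pi (m * n) (pi m c * pi n d) = pi m c * pi n d := by
          show (coactT E ρ _).coeff (m * n) = _
          rw [map_mul (coactT E ρ), hpi, hpi, MonoidAlgebra.single_mul_single, MonoidAlgebra.coeff_single, Finsupp.single_eq_same]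
        rw [h]
        exact fun hm => (Ideal.IsPrime.mem_or_mem ‹_› hm).elim hc hd }
  let P : Subgroup N :=
    { carrier := {m | m ∈ S ∧ m⁻¹ ∈ S}
      one_mem' := ⟨S.one_mem, by rw [inv_one]; exact S.one_mem⟩
      mul_mem' := fun ha hb => ⟨S.mul_mem ha.1 hb.1, by rw [mul_inv]; exact S.mul_mem ha.2 hb.2⟩
      inv_mem' := fun ha => ⟨ha.2, by rw [inv_inv]; exact ha.1⟩ }
  suffices hP : ∀ m, m ∈ P from (hP m).1
  -- the point with trivial components outside `P`
  let y : B' →ₐ[T] MonoidAlgebra (B' ⧸ q) N :=
    (MonoidAlgebra.mapAlgHom N (Ideal.Quotient.mkₐ T q)).comp (coactT E ρ)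
  have hy : ∀ c m, (y c).coeff m = Ideal.Quotient.mk q (pi m c) := fun c m => MonoidAlgebra.coeff_mapAlgHom _ _ _
  have hyS : ∀ c m, (y c).coeff m ≠ 0 → m ∈ S := fun c m h => ⟨c, fun hc => h (by
    rw [hy, Ideal.Quotient.eq_zero_iff_mem.2 hc])⟩
  let x' : B' →ₐ[T] B' ⧸ q := AlgHom.ofLinearMap ((indSum (· ∈ P)).restrictScalars T ∘ₗ y.toLinearMap)
    (by
      show indSum (· ∈ P) (y 1) = 1
      rw [map_one, MonoidAlgebra.one_def, indSum_single, if_pos P.one_mem])
    (fun c d => by
      show indSum (· ∈ P) (y (c * d)) = _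
      rw [map_mul]
      refine indSum_mul _ fun m n hm hn => ⟨fun h => ⟨⟨hyS c m hm, ?_⟩, ⟨hyS d n hn, ?_⟩⟩, fun h => P.mul_mem h.1 h.2⟩
      · have := S.mul_mem (hyS d n hn) h.2
        rwa [show n * (m * n)⁻¹ = m⁻¹ by group] at this
      · have := S.mul_mem (hyS c m hm) h.2
        rwa [show m * (m * n)⁻¹ = n⁻¹ by rw [mul_inv_rev, ← _root_.mul_assoc, mul_comm m, _root_.mul_assoc]; group] at this)
  let K := MonoidAlgebra (B' ⧸ q) (N ⧸ P)
  let χ : MonoidAlgebra T N →ₐ[T] K :=
    MonoidAlgebra.lift T K N ((MonoidAlgebra.of (B' ⧸ q) (N ⧸ P)).comp (QuotientGroup.mk' P))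
  let xK : B →ₐ[R] K := (IsScalarTower.toAlgHom R (B' ⧸ q) K).comp ((x'.restrictScalars R).comp Algebra.TensorProduct.includeRight)
  let xT : B' →ₐ[T] K := (IsScalarTower.toAlgHom T (B' ⧸ q) K).comp x'
  let L : MonoidAlgebra B' N →+* K := MonoidAlgebra.liftNCRingHom (xT : B' →+* K)
    ((MonoidAlgebra.of (B' ⧸ q) (N ⧸ P)).comp (QuotientGroup.mk' P)) (fun x y => Commute.all (S := K) (xT x) _)
  have hL : ∀ n d, L (MonoidAlgebra.single n d) = MonoidAlgebra.single (QuotientGroup.mk' P n) (x' d) := fun n d => by
    refine (MonoidAlgebra.liftNC_single _ _ _ _).trans ?_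
    show algebraMap (B' ⧸ q) K (x' d) * MonoidAlgebra.of (B' ⧸ q) (N ⧸ P) (QuotientGroup.mk' P n) = _
    simp [K, MonoidAlgebra.coe_algebraMap, MonoidAlgebra.single_mul_single]
  have hLρ : ∀ c, L (coactT E ρ c) = algebraMap (B' ⧸ q) K (x' c) := by
    intro c
    have e : ∀ n, x' (pi n c) = if n ∈ P then Ideal.Quotient.mk q (pi n c) else 0 := fun n => by
      show indSum (· ∈ P) (MonoidAlgebra.mapAlgHom N (Ideal.Quotient.mkₐ T q) (coactT E ρ (pi n c))) = _
      rw [hpi, MonoidAlgebra.mapAlgHom_single, indSum_single]
      rfl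
    rw [show algebraMap (B' ⧸ q) K (x' c) = algebraMap (B' ⧸ q) K (x' (aug (coactT E ρ c))) by rw [aug_coactT E ρ hcu]]
    rw [sum_coeff (coactT E ρ c)]
    simp only [Finsupp.sum, map_sum, aug_single]
    refine Finset.sum_congr rfl fun n _ => ?_
    rw [hL, MonoidAlgebra.coe_algebraMap, Function.comp_apply]
    show MonoidAlgebra.single _ (x' (pi n c)) = MonoidAlgebra.single _ (x' (pi n c))
    by_cases hn : n ∈ P
    · rw [show QuotientGroup.mk' P n = 1 from (QuotientGroup.eq_one_iff n).2 hn]
    · rw [e n, if_neg hn, MonoidAlgebra.single_zero, MonoidAlgebra.single_zero]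
  have hfix := hfree K ((χ.restrictScalars R).comp (x₀ E)) xK (AlgHom.ext fun b => by
    have h : ∀ z : A ⊗[R] B, Algebra.TensorProduct.lift ((χ.restrictScalars R).comp (x₀ E)) xK
        (fun x y => Commute.all (((χ.restrictScalars R).comp (x₀ E)) x) (xK y)) z = L (evA E z) := by
      intro z
      induction z using TensorProduct.induction_on with
      | zero => simp
      | add x y hx hy => simp only [map_add, hx, hy]
      | tmul a b =>
        rw [Algebra.TensorProduct.lift_tmul, evA_tmul, map_mul, hL, map_one]
        refine congrArg₂ (· * ·) ?_ ?_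
        · show χ (x₀ E a) = _
          generalize x₀ E a = z
          induction z using MonoidAlgebra.induction_linear with
          | zero => simp
          | add x y hx hy => simp only [map_add, hx, hy]
          | single n t =>
            rw [coef_single, hL, AlgHom.commutes]
            simp [χ, K, MonoidAlgebra.lift_single, MonoidAlgebra.smul_single, Algebra.algebraMap_eq_smul_one]
        · simp [xK, K, MonoidAlgebra.coe_algebraMap]
    show Algebra.TensorProduct.lift ((χ.restrictScalars R).comp (x₀ E)) xK
        (fun x y => Commute.all (((χ.restrictScalars R).comp (x₀ E)) x) (xK y)) (ρ b) = xK b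
    rw [h, show evA E (ρ b) = coactT E ρ ((1 : T) ⊗ₜ[R] b) by rw [coactT_tmul, map_one, _root_.one_mul], hLρ]
    rfl)
  intro m
  obtain ⟨z, hz⟩ := E.surjective (MonoidAlgebra.single m 1)
  have hχ : ∀ z : T ⊗[R] A, χ (E z) = algebraMap T K (Coalgebra.counit (R := T) z) := by
    intro z
    induction z using TensorProduct.induction_on with
    | zero => simp
    | add x y hx hy => simp only [map_add, hx, hy]
    | tmul t a =>
      have : (χ (x₀ E a)) = algebraMap R K (Coalgebra.counit (R := R) a) := DFunLike.congr_fun hfix a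
      rw [show t ⊗ₜ[R] a = t • ((1 : T) ⊗ₜ[R] a) by rw [TensorProduct.smul_tmul', smul_eq_mul, _root_.mul_one],
        map_smul, map_smul, map_smul, show E ((1 : T) ⊗ₜ[R] a) = x₀ E a from rfl, this, Algebra.smul_def,
        IsScalarTower.algebraMap_apply R T K, smul_eq_mul, map_mul]
      simp [Algebra.smul_def]
  have h1 := hχ z
  have hz' : E z = MonoidAlgebra.single m 1 := hz
  rw [← CoalgHomClass.counit_comp_apply E z, hz', MonoidAlgebra.counit_single] at h1
  simp [χ, K, MonoidAlgebra.lift_single] at h1
  have h2 : (MonoidAlgebra.single (QuotientGroup.mk' P m) (1 : B' ⧸ q)) = MonoidAlgebra.single 1 1 := by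
    simpa [MonoidAlgebra.one_def] using h1
  have h3 := congrArg (fun w : K => w.coeff (QuotientGroup.mk' P m)) h2
  simp only [MonoidAlgebra.coeff_single, Finsupp.single_eq_same, Finsupp.single_apply] at h3
  by_contra hm
  rw [if_neg fun h => hm ((QuotientGroup.eq_one_iff m).1 h.symm)] at h3
  exact one_ne_zero h3

include E hcu hco hfree in
/-- After splitting the group, the graph is surjective. -/
theorem lTensor_graphHom_surjective :
    Function.Surjective ((graphHom ρ).toLinearMap.lTensor T) := by
  let Φ : T ⊗[R] (A ⊗[R] B) →ₐ[T] MonoidAlgebra B' N :=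
    Algebra.TensorProduct.lift (Algebra.ofId T _) (evA E) fun _ _ => .all _ _
  let Θ : T ⊗[R] (B ⊗[R] B) →ₐ[T] MonoidAlgebra B' N := Φ.comp (Algebra.TensorProduct.map (AlgHom.id T T) (graphHom ρ))
  let mapA : T ⊗[R] A →ₐ[T] T ⊗[R] (A ⊗[R] B) :=
    Algebra.TensorProduct.map (AlgHom.id T T) (Algebra.TensorProduct.includeLeft (S := R))
  let mapB : B' →ₐ[T] T ⊗[R] (A ⊗[R] B) :=
    Algebra.TensorProduct.map (AlgHom.id T T) Algebra.TensorProduct.includeRight
  let Ψ : MonoidAlgebra B' N →+* T ⊗[R] (A ⊗[R] B) := MonoidAlgebra.liftNCRingHom (mapB : B' →+* _)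
    (((mapA.comp (E.symm : MonoidAlgebra T N →ₐ[T] T ⊗[R] A)) : MonoidAlgebra T N →* _).comp (MonoidAlgebra.of T N))
    (fun _ _ => .all _ _)
  have hΨ : ∀ n d, Ψ (MonoidAlgebra.single n d) = mapB d * mapA (E.symm (MonoidAlgebra.single n 1)) := fun n d =>
    MonoidAlgebra.liftNC_single _ _ _ _
  have hΨcoef : ∀ w, Ψ (coef (R := R) (B := B) w) = mapA (E.symm w) := by
    intro w
    induction w using MonoidAlgebra.induction_linear with
    | zero => simp
    | add x y hx hy => simp only [map_add, hx, hy]
    | single n t =>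
      rw [coef_single, hΨ, AlgHom.commutes, ← Algebra.smul_def, ← map_smul, ← map_smul]
      simp [MonoidAlgebra.smul_single]
  have hinj : Function.Injective Φ := by
    refine Function.LeftInverse.injective (g := Ψ) fun z => ?_
    induction z using TensorProduct.induction_on with
    | zero => simp
    | add x y hx hy => simp only [map_add, hx, hy]
    | tmul t w =>
      rw [show Φ (t ⊗ₜ[R] w) = algebraMap T _ t * evA E w from Algebra.TensorProduct.lift_tmul _ _ _ _ _, map_mul,
        IsScalarTower.algebraMap_apply T B' (MonoidAlgebra B' N), MonoidAlgebra.coe_algebraMap, Function.comp_apply, hΨ,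
        show MonoidAlgebra.single (1 : N) (1 : T) = 1 from rfl, map_one, map_one, _root_.mul_one, Algebra.algebraMap_self_apply, AlgHom.commutes]
      induction w using TensorProduct.induction_on with
      | zero => simp
      | add x y hx hy => simp only [map_add, mul_add, hx, hy, TensorProduct.tmul_add]
      | tmul a b =>
        rw [evA_tmul, map_mul, hΨcoef, hΨ, show MonoidAlgebra.single (1 : N) (1 : T) = 1 from rfl, map_one, map_one,
          _root_.mul_one, show E.symm (x₀ E a) = (1 : T) ⊗ₜ[R] a from E.symm_apply_apply _]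
        simp [mapA, mapB]
  -- the image
  have hone : ∀ c : B', MonoidAlgebra.single (1 : N) c ∈ Θ.range := by
    intro c
    induction c using TensorProduct.induction_on with
    | zero => rw [MonoidAlgebra.single_zero]; exact zero_mem _
    | add x y hx hy => rw [MonoidAlgebra.single_add]; exact add_mem hx hy
    | tmul t b =>
      refine (AlgHom.mem_range _).2 ⟨t ⊗ₜ[R] ((1 : B) ⊗ₜ[R] b), ?_⟩
      rw [show ∀ z, Θ z = Φ (Algebra.TensorProduct.map (AlgHom.id T T) (graphHom ρ) z) from fun _ => rfl]
      rw [Algebra.TensorProduct.map_tmul, show graphHom ρ ((1 : B) ⊗ₜ[R] b) = (1 : A) ⊗ₜ[R] b by simp [graphHom]]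
      refine (Algebra.TensorProduct.lift_tmul _ _ _ _ _).trans ?_
      rw [evA_tmul, map_one, map_one, _root_.one_mul]
      simp [IsScalarTower.algebraMap_apply T B' (MonoidAlgebra B' N), MonoidAlgebra.coe_algebraMap,
        MonoidAlgebra.single_mul_single]
  have hco' : ∀ c : B', coactT E ρ c ∈ Θ.range := by
    intro c
    induction c using TensorProduct.induction_on with
    | zero => rw [map_zero]; exact zero_mem _
    | add x y hx hy => rw [map_add]; exact add_mem hx hy
    | tmul t b =>
      refine (AlgHom.mem_range _).2 ⟨t ⊗ₜ[R] (b ⊗ₜ[R] (1 : B)), ?_⟩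
      rw [show ∀ z, Θ z = Φ (Algebra.TensorProduct.map (AlgHom.id T T) (graphHom ρ) z) from fun _ => rfl]
      rw [Algebra.TensorProduct.map_tmul, show graphHom ρ (b ⊗ₜ[R] (1 : B)) = ρ b from
        (Algebra.TensorProduct.lift_tmul _ _ _ _ _).trans (by rw [map_one, _root_.mul_one]), coactT_tmul]
      exact Algebra.TensorProduct.lift_tmul _ _ _ _ _
  have hall : ∀ m (c : B'), MonoidAlgebra.single m c ∈ Θ.range := by
    intro m
    let J : Ideal B' :=
      { carrier := {c | MonoidAlgebra.single m c ∈ Θ.range}
        zero_mem' := by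
          show MonoidAlgebra.single m (0 : B') ∈ Θ.range
          rw [MonoidAlgebra.single_zero]
          exact zero_mem _
        add_mem' := fun {x y} hx hy => by
          show MonoidAlgebra.single m (x + y) ∈ Θ.range
          rw [MonoidAlgebra.single_add]; exact add_mem hx hy
        smul_mem' := fun r x hx => by
          show MonoidAlgebra.single m (r * x) ∈ Θ.range
          have := mul_mem (hone r) hx
          rwa [MonoidAlgebra.single_mul_single, _root_.one_mul] at this }
    suffices hJ : J = ⊤ from fun c => show c ∈ J by rw [hJ]; trivial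
    by_contra hJ
    obtain ⟨q, hq, hle⟩ := Ideal.exists_le_maximal J hJ
    haveI := hq.isPrime
    obtain ⟨c, hc⟩ := exists_component_notMem E ρ hcu hco hfree q m
    refine hc (hle ?_)
    show MonoidAlgebra.single m _ ∈ Θ.range
    rw [← coactT_component E ρ hco c m]
    exact hco' _
  intro z
  have hz : Φ z ∈ Θ.range := by
    generalize Φ z = w
    induction w using MonoidAlgebra.induction_linear with
    | zero => exact zero_mem _
    | add x y hx hy => exact add_mem hx hy
    | single n d => exact hall n d
  obtain ⟨p, hp⟩ := hz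
  refine ⟨p, hinj ?_⟩
  refine Eq.trans (congrArg Φ ?_) hp
  exact LinearMap.congr_fun (show (graphHom ρ).toLinearMap.lTensor T =
    (Algebra.TensorProduct.map (AlgHom.id T T) (graphHom ρ)).toLinearMap.restrictScalars R from
      TensorProduct.ext' fun t w => rfl) p

/-- Surjectivity is detected by finitely many flat charts. -/
theorem surjective_of_lTensor {V W : Type u} [AddCommGroup V] [Module R V] [AddCommGroup W] [Module R W]
    (f : V →ₗ[R] W) {J : Type u} [Finite J] (U : J → Type u) [∀ i, CommRing (U i)] [∀ i, Algebra R (U i)]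
    [∀ i, Module.Flat R (U i)] (hcov : ∀ q : PrimeSpectrum R, ∃ i, q ∈ Set.range (PrimeSpectrum.comap (algebraMap R (U i))))
    (h : ∀ i, Function.Surjective (f.lTensor (U i))) : Function.Surjective f := by
  classical
  have := Fintype.ofFinite J
  haveI := MultTypeLib.faithfullyFlat_pi (R := R) U hcov
  refine (Module.FaithfullyFlat.lTensor_surjective_iff_surjective R (Π i, U i) f).1 fun z => ?_
  choose p hp using fun i => h i ((LinearMap.proj i).rTensor W z)
  refine ⟨∑ i, (LinearMap.single R U i).rTensor V (p i), ?_⟩
  have hz : ∀ w : (Π i, U i) ⊗[R] W, ∑ i, (LinearMap.single R U i).rTensor W ((LinearMap.proj i).rTensor W w) = w := by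
    intro w
    induction w using TensorProduct.induction_on with
    | zero => simp
    | tmul g a =>
      simp only [LinearMap.rTensor_tmul, LinearMap.proj_apply, ← TensorProduct.sum_tmul]
      congr 1
      exact Finset.univ_sum_single g
    | add x y hx hy => simp [Finset.sum_add_distrib, hx, hy]
  rw [map_sum]
  refine Eq.trans (Finset.sum_congr rfl fun i _ => ?_) (hz z)
  rw [← hp i, ← LinearMap.comp_apply, ← LinearMap.comp_apply, LinearMap.lTensor_comp_rTensor,
    LinearMap.rTensor_comp_lTensor]

end Groth.Agent.MTRigid29
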