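import Groth.Agent.Lib.MTRigid29.Action
import Groth.Agent.Lib.MTRigid29.Free

/-!
# The graph of a free action of a group of multiplicative type on an affine scheme is a closed immersion
-/

set_option autoImplicit false
set_option linter.style.haveILetI false
set_option backward.isDefEq.respectTransparency.types false
set_option backward.isDefEq.respectTransparency false

universe u

open CategoryTheory Limits MonoidalCategory CartesianMonoidalCategory MonObj AlgebraicGeometry Opposite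
open scoped TensorProduct

noncomputable section

namespace Groth.Agent.MTRigid29

open DiagGL

theorem isAffineHom_of_isMT {S : Scheme.{u}} {G : Over S} [GrpObj G] (hG : IsMT G) : IsAffineHom G.hom := by
  refine ⟨fun U hU => ?_⟩
  haveI : IsAffine (pullback G.hom hU.fromSpec) := isAffine_bc (R := Γ(S, U)) hG hU.fromSpec
  have h := isAffineOpen_opensRange (pullback.fst G.hom hU.fromSpec)
  rwa [show (pullback.fst G.hom hU.fromSpec).opensRange = G.hom ⁻¹ᵁ U from TopologicalSpace.Opens.ext (by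
    show Set.range (pullback.fst G.hom hU.fromSpec) = G.hom ⁻¹' (U : Set S)
    rw [IsOpenImmersion.range_pullbackFst]
    exact congrArg (G.hom ⁻¹' ·) hU.range_fromSpec)] at h

theorem isAffineHom_tensor {S : Scheme.{u}} (G X : Over S) [IsAffineHom G.hom] [IsAffineHom X.hom] :
    IsAffineHom (G ⊗ X).hom := by
  rw [← Over.w (fst G X)]
  haveI : IsAffineHom (fst G X).left := MorphismProperty.pullback_fst (P := @IsAffineHom) G.hom X.hom ‹IsAffineHom X.hom›
  infer_instance

section Piece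

variable {S : Scheme.{u}} {R : Type u} [CommRing R] (g : Spec (CommRingCat.of R) ⟶ S) [IsOpenImmersion g]
  {Y : Over S}

/-- An affine piece over the chart. -/
theorem range_subset_piece {D E : Type u} [CommRing D] [Algebra R D] [CommRing E] [Algebra R E] (w : tg g E ⟶ Y)
    (hw : Set.range w.left = Y.hom ⁻¹' Set.range g) (f : tg g D ⟶ Y) : Set.range f.left ⊆ Set.range w.left := by
  rw [hw]
  rintro _ ⟨p, rfl⟩
  exact ⟨Spec.map (CommRingCat.ofHom (algebraMap R D)) p,
    (congrArg (fun k : Spec (CommRingCat.of D) ⟶ S => k p) (show f.left ≫ Y.hom = _ ≫ g from Over.w f)).symm⟩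

end Piece

section Local

variable {S : Scheme.{u}} {R : Type u} [CommRing R] (g : Spec (CommRingCat.of R) ⟶ S) [IsOpenImmersion g]
  {G : Over S} [GrpObj G] {A : Type u} [CommRing A] [HopfAlgebra R A]
  (e : Grp.mk (CoactBr.sp R A) ≅ Grp.mk (Red.bc g G)) {X : Over S} {B : Type u} [CommRing B] [Algebra R B]
  (xB : tg g B ⟶ X) [IsOpenImmersion xB.left] (a : AlgGrp.Action G X)

theorem gpt_injective {C : Type u} [CommRing C] [Algebra R C] {φ ψ : A →ₐ[R] C}
    (h : gpt g e φ = gpt g e ψ) : φ = ψ :=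
  CoactBr.pt_injective ((cancel_mono e.hom.hom.hom).1 (fl_injective g G h))

theorem gpt_one (C : Type u) [CommRing C] [Algebra R C] :
    gpt g e ((Algebra.ofId R C).comp (Bialgebra.counitAlgHom R A)) = 1 := by
  have h : gpt g e ((Algebra.ofId R C).comp (Bialgebra.counitAlgHom R A)) *
      gpt g e ((Algebra.ofId R C).comp (Bialgebra.counitAlgHom R A)) =
      gpt g e ((Algebra.ofId R C).comp (Bialgebra.counitAlgHom R A)) := by
    rw [gpt_mul]
    congr 1
    exact CoactBr.pt_injective (by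
      rw [← CoactBr.pt_mul_pt, ← CoactBr.one_eq_pt, _root_.one_mul])
  exact mul_eq_left.1 h

omit [IsOpenImmersion g] [IsOpenImmersion xB.left] in
theorem lift_gpt_tm {C : Type u} [CommRing C] [Algebra R C] (p : A →ₐ[R] C) (q : B →ₐ[R] C) :
    lift (gpt g e p) (tm g q ≫ xB) =
      tm g (Algebra.TensorProduct.lift p q fun _ _ => .all _ _) ≫ univPt g e xB := by
  rw [univPt, comp_lift, ← gpt_comp, ← Category.assoc, ← tm_comp, Algebra.TensorProduct.lift_comp_includeLeft,
    Algebra.TensorProduct.lift_comp_includeRight']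

theorem lid_counit (ρ : B →ₐ[R] A ⊗[R] B) (hρ : tm g ρ ≫ xB = univPt g e xB ≫ a.act) (b : B) :
    TensorProduct.lid R B ((Coalgebra.counit (R := R) (A := A)).rTensor B (ρ b)) = b := by
  let t : A ⊗[R] B →ₐ[R] B := Algebra.TensorProduct.lift ((Algebra.ofId R B).comp (Bialgebra.counitAlgHom R A))
    (AlgHom.id R B) fun _ _ => .all _ _
  have h : t.comp ρ = AlgHom.id R B := tm_xB_injective g xB (by
    rw [tm_comp, Category.assoc, hρ, ← Category.assoc, ← lift_gpt_tm, gpt_one, Hom.one_def, ← lift_whiskerRight,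
      Category.assoc, a.one_act, lift_leftUnitor_hom])
  have ht : ∀ z : A ⊗[R] B, t z = TensorProduct.lid R B ((Coalgebra.counit (R := R) (A := A)).rTensor B z) := by
    intro z
    induction z using TensorProduct.induction_on with
    | zero => simp
    | add x y hx hy => simp only [map_add, hx, hy]
    | tmul p q => simp [t, Algebra.smul_def]
  rw [← ht]
  exact DFunLike.congr_fun h b

theorem free_algebraic (hfree : ∀ (Y : Over S) (h : Y ⟶ G) (x : Y ⟶ X), lift h x ≫ a.act = x → h = 1)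
    (ρ : B →ₐ[R] A ⊗[R] B) (hρ : tm g ρ ≫ xB = univPt g e xB ≫ a.act)
    (C : Type u) [CommRing C] [Algebra R C] (φ : A →ₐ[R] C) (x : B →ₐ[R] C)
    (h : (Algebra.TensorProduct.lift φ x fun _ _ => .all _ _).comp ρ = x) :
    φ = (Algebra.ofId R C).comp (Bialgebra.counitAlgHom R A) := by
  refine gpt_injective g e ?_
  rw [gpt_one]
  refine hfree _ _ (tm g x ≫ xB) ?_
  rw [lift_gpt_tm, Category.assoc, ← hρ, ← Category.assoc, ← tm_comp, h]

theorem exists_surjective_graph (hG : IsMT G)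
    (hfree : ∀ (Y : Over S) (h : Y ⟶ G) (x : Y ⟶ X), lift h x ≫ a.act = x → h = 1)
    (hxB : Set.range xB.left = X.hom ⁻¹' Set.range g)
    {C C₂ : Type u} [CommRing C] [Algebra R C] [CommRing C₂] [Algebra R C₂]
    (w : tg g C ⟶ G ⊗ X) [IsOpenImmersion w.left] (hw : Set.range w.left = (G ⊗ X).hom ⁻¹' Set.range g)
    (w₂ : tg g C₂ ⟶ X ⊗ X) [IsOpenImmersion w₂.left] (hw₂ : Set.range w₂.left = (X ⊗ X).hom ⁻¹' Set.range g)
    (e : Grp.mk (CoactBr.sp R A) ≅ Grp.mk (Red.bc g G)) :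
    ∃ κ : C₂ →ₐ[R] C, Function.Surjective κ ∧ w ≫ lift a.act (snd G X) = tm g κ ≫ w₂ := by
  let u := univPt g e xB
  obtain ⟨ρ, hρ⟩ := exists_algHom g xB (u ≫ a.act) (range_subset_piece g xB hxB _)
  obtain ⟨χ, hχ⟩ := exists_algHom g xB (w ≫ snd G X) (range_subset_piece g xB hxB _)
  obtain ⟨φ, hφ⟩ := exists_gpt g e (w ≫ fst G X)
  let θ : A ⊗[R] B →ₐ[R] C := Algebra.TensorProduct.lift φ χ fun _ _ => .all _ _
  have hθ : tm g θ ≫ u = w := by
    rw [← lift_gpt_tm, hφ, hχ]
    exact CartesianMonoidalCategory.hom_ext _ _ (by rw [lift_fst]) (by rw [lift_snd])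
  obtain ⟨χ', hχ'⟩ := exists_algHom g w u (range_subset_piece g w hw _)
  have hθsurj : Function.Surjective θ := fun c => ⟨χ' c, DFunLike.congr_fun
    (tm_xB_injective g w (χ := θ.comp χ') (χ' := AlgHom.id R C) (by
      rw [tm_comp, Category.assoc, hχ', hθ, show tm g (AlgHom.id R C) = 𝟙 _ by
        rw [tm, CoactBr.pt_id, (Over.map g).map_id], Category.id_comp])) c⟩
  let P : tg g (B ⊗[R] B) ⟶ X ⊗ X :=
    lift (tm g (Algebra.TensorProduct.includeLeft (S := R)) ≫ xB) (tm g Algebra.TensorProduct.includeRight ≫ xB)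
  have hP : ∀ {D : Type u} [CommRing D] [Algebra R D] (p q : B →ₐ[R] D),
      tm g (Algebra.TensorProduct.lift p q fun _ _ => .all _ _) ≫ P = lift (tm g p ≫ xB) (tm g q ≫ xB) := by
    intro D _ _ p q
    rw [comp_lift, ← Category.assoc, ← Category.assoc, ← tm_comp, ← tm_comp,
      Algebra.TensorProduct.lift_comp_includeLeft, Algebra.TensorProduct.lift_comp_includeRight']
  have hgraph : u ≫ lift a.act (snd G X) = tm g (graphHom ρ) ≫ P := by
    rw [comp_lift, ← hρ, graphHom, hP]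
    congr 1
    exact lift_snd _ _
  obtain ⟨lam, hlam⟩ := exists_algHom g w₂ P (range_subset_piece g w₂ hw₂ _)
  obtain ⟨p₁, hp₁⟩ := exists_algHom g xB (w₂ ≫ fst X X) (range_subset_piece g xB hxB _)
  obtain ⟨p₂, hp₂⟩ := exists_algHom g xB (w₂ ≫ snd X X) (range_subset_piece g xB hxB _)
  let θ₂ : B ⊗[R] B →ₐ[R] C₂ := Algebra.TensorProduct.lift p₁ p₂ fun _ _ => .all _ _
  have hθ₂ : tm g θ₂ ≫ P = w₂ := by
    rw [hP, hp₁, hp₂]
    exact CartesianMonoidalCategory.hom_ext _ _ (by rw [lift_fst]) (by rw [lift_snd])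
  have hlamsurj : Function.Surjective lam := by
    have h : tm g (lam.comp θ₂) ≫ P = tm g (AlgHom.id R (B ⊗[R] B)) ≫ P := by
      rw [tm_comp, Category.assoc, hθ₂, hlam, tm, CoactBr.pt_id, (Over.map g).map_id, Category.id_comp]
    have h1 := congrArg (· ≫ fst X X) h
    have h2 := congrArg (· ≫ snd X X) h
    simp only [Category.assoc, P, lift_fst, lift_snd] at h1 h2
    rw [← Category.assoc, ← Category.assoc, ← tm_comp, ← tm_comp] at h1 h2
    have e1 := tm_xB_injective g xB h1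
    have e2 := tm_xB_injective g xB h2
    have e3 : lam.comp θ₂ = AlgHom.id R _ := Algebra.TensorProduct.ext e1 e2
    exact fun c => ⟨θ₂ c, DFunLike.congr_fun e3 c⟩
  have hψ : Function.Surjective (graphHom ρ) := by
    obtain ⟨J, _, T, _, _, hflat, hcov, hC⟩ := exists_charts hG g
    haveI := hflat
    refine surjective_of_lTensor (graphHom ρ).toLinearMap T hcov fun i => ?_
    obtain ⟨M, _, ⟨C0⟩⟩ := hC i
    obtain ⟨E⟩ := nonempty_bialgEquiv e C0
    exact lTensor_graphHom_surjective E ρ (lid_counit g e xB a ρ hρ) (coassoc_of_act g e xB a ρ hρ)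
      (free_algebraic g e xB a hfree ρ hρ)
  refine ⟨(θ.comp (graphHom ρ)).comp lam, hθsurj.comp (hψ.comp hlamsurj), ?_⟩
  rw [tm_comp, tm_comp, Category.assoc, Category.assoc, hlam, ← hgraph, ← Category.assoc, hθ]

end Local

theorem isClosedImmersion_graph {S : Scheme.{u}} {G X : Over S} [GrpObj G] (hG : IsMT G) [IsAffineHom X.hom]
    (a : AlgGrp.Action G X)
    (hfree : ∀ (Y : Over S) (h : Y ⟶ G) (x : Y ⟶ X), lift h x ≫ a.act = x → h = 1) :
    IsClosedImmersion (lift a.act (snd G X)).left := by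
  haveI := isAffineHom_of_isMT hG
  haveI := isAffineHom_tensor G X
  haveI := isAffineHom_tensor X X
  set φ := lift a.act (snd G X)
  refine IsZariskiLocalAtTarget.of_iSup_eq_top (P := @IsClosedImmersion)
    (fun U : S.affineOpens => (X ⊗ X).hom ⁻¹ᵁ U.1) ?_ fun U => ?_
  · rw [← Scheme.Hom.preimage_iSup, iSup_affineOpens_eq_top]
    rfl
  obtain ⟨U, hU⟩ := U
  let R := Γ(S, U)
  let g : Spec (CommRingCat.of R) ⟶ S := hU.fromSpec
  let V := X.hom ⁻¹ᵁ U
  have hV : IsAffineOpen V := hU.preimage X.hom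
  let W₂ := (X ⊗ X).hom ⁻¹ᵁ U
  have hW₂ : IsAffineOpen W₂ := hU.preimage (X ⊗ X).hom
  have hWW : φ.left ⁻¹ᵁ W₂ = (G ⊗ X).hom ⁻¹ᵁ U := by
    rw [← Scheme.Hom.comp_preimage, Over.w φ]
  let W := φ.left ⁻¹ᵁ W₂
  have hW : IsAffineOpen W := by
    show IsAffineOpen (φ.left ⁻¹ᵁ W₂)
    rw [hWW]
    exact hU.preimage (G ⊗ X).hom
  letI : Algebra R Γ(X.left, V) := (X.hom.appLE U V le_rfl).hom.toAlgebra
  letI : Algebra R Γ((X ⊗ X).left, W₂) := ((X ⊗ X).hom.appLE U W₂ le_rfl).hom.toAlgebra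
  letI : Algebra R Γ((G ⊗ X).left, W) := ((G ⊗ X).hom.appLE U W hWW.le).hom.toAlgebra
  let xB : tg g Γ(X.left, V) ⟶ X := Over.homMk hV.fromSpec (hU.SpecMap_appLE_fromSpec X.hom hV le_rfl).symm
  haveI : IsOpenImmersion xB.left := inferInstanceAs (IsOpenImmersion hV.fromSpec)
  let w₂ : tg g Γ((X ⊗ X).left, W₂) ⟶ X ⊗ X :=
    Over.homMk hW₂.fromSpec (hU.SpecMap_appLE_fromSpec (X ⊗ X).hom hW₂ le_rfl).symm
  haveI : IsOpenImmersion w₂.left := inferInstanceAs (IsOpenImmersion hW₂.fromSpec)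
  let w : tg g Γ((G ⊗ X).left, W) ⟶ G ⊗ X :=
    Over.homMk hW.fromSpec (hU.SpecMap_appLE_fromSpec (G ⊗ X).hom hW hWW.le).symm
  haveI : IsOpenImmersion w.left := inferInstanceAs (IsOpenImmersion hW.fromSpec)
  obtain ⟨A, _, _, j, -, ⟨e⟩⟩ := exists_model hG g
  have hr : ∀ {Y : Scheme.{u}} (h : Y ⟶ S), h ⁻¹' Set.range g = ((h ⁻¹ᵁ U : Y.Opens) : Set Y) := fun h => by
    show h ⁻¹' Set.range hU.fromSpec = _
    rw [hU.range_fromSpec]
    rfl
  obtain ⟨κ, hκ, heq⟩ := exists_surjective_graph g xB a hG hfree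
    (by rw [hr]; exact hV.range_fromSpec) w (by rw [hr, ← hWW]; exact hW.range_fromSpec) w₂
    (by rw [hr]; exact hW₂.range_fromSpec) e
  have hfac : hW.fromSpec ≫ φ.left = Spec.map (CommRingCat.ofHom κ.toRingHom) ≫ hW₂.fromSpec :=
    congrArg CommaMorphism.left heq
  have hres : φ.left ∣_ W₂ = hW.isoSpec.hom ≫ Spec.map (CommRingCat.ofHom κ.toRingHom) ≫ hW₂.isoSpec.inv := by
    rw [← cancel_mono W₂.ι, morphismRestrict_ι, Category.assoc, Category.assoc, IsAffineOpen.isoSpec_inv_ι, ← hfac,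
      IsAffineOpen.isoSpec_hom_fromSpec_assoc]
  show IsClosedImmersion (φ.left ∣_ W₂)
  rw [hres]
  haveI : IsClosedImmersion (Spec.map (CommRingCat.ofHom κ.toRingHom)) :=
    IsClosedImmersion.spec_of_surjective _ hκ
  infer_instance

theorem isClosedImmersion_orbitMap {S : Scheme.{u}} {G X : Over S} [GrpObj G] [IsAffineHom X.hom]
    (a : AlgGrp.Action G X) (h : IsClosedImmersion (lift a.act (snd G X)).left) (σ : 𝟙_ (Over S) ⟶ X) :
    IsClosedImmersion (a.orbitMap σ).left := by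
  have sect : ∀ (Y : Over S) (s : Y ⟶ X), IsClosedImmersion (lift (𝟙 Y) s).left := by
    intro Y s
    haveI : IsSeparated (fst Y X).left := inferInstanceAs (IsSeparated (pullback.fst Y.hom X.hom))
    haveI : IsClosedImmersion ((lift (𝟙 Y) s).left ≫ (fst Y X).left) := by
      rw [← Over.comp_left, lift_fst]
      exact inferInstanceAs (IsClosedImmersion (𝟙 Y.left))
    exact IsClosedImmersion.of_comp (lift (𝟙 Y) s).left (fst Y X).left
  haveI := sect X (toUnit X ≫ σ)
  haveI := sect G (toUnit G ≫ σ)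
  have key : a.orbitMap σ ≫ lift (𝟙 X) (toUnit X ≫ σ) = lift (𝟙 G) (toUnit G ≫ σ) ≫ lift a.act (snd G X) := by
    rw [comp_lift, comp_lift, lift_snd, Category.comp_id, AlgGrp.Action.orbitMap, ← Category.assoc _ (toUnit X),
      toUnit_unique (_ ≫ toUnit X) (toUnit G)]
  haveI : IsClosedImmersion ((a.orbitMap σ).left ≫ (lift (𝟙 X) (toUnit X ≫ σ)).left) := by
    rw [← Over.comp_left, key, Over.comp_left]
    infer_instance
  exact IsClosedImmersion.of_comp (a.orbitMap σ).left (lift (𝟙 X) (toUnit X ≫ σ)).left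

end Groth.Agent.MTRigid29
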