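import Groth.Agent.Lib.MTRigid29.Conj
import Groth.Agent.Lib.SmoothLift15.Main

/-!
# Conjugacy of infinitesimally close homomorphisms, and lifting of conjugating points
-/

set_option autoImplicit false
set_option linter.style.haveILetI false
set_option backward.isDefEq.respectTransparency.types false

universe u

open CategoryTheory Limits MonoidalCategory CartesianMonoidalCategory MonObj AlgebraicGeometry Opposite
open scoped TensorProduct
open WithConv

noncomputable section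

namespace Groth.Agent.MTRigid29

variable {R : Type u} [CommRing R] {A : Type u} [CommRing A] [HopfAlgebra R A]
  {G H : Over (Spec (CommRingCat.of R))} [GrpObj G] [GrpObj H]
  (e : Grp.mk (CoactBr.sp R A) ≅ Grp.mk H)

/-- The generic point of `H` over `R/L`. -/
def hgen (L : Ideal R) : CoactBr.sp R (AA A L) ⟶ H := CoactBr.pt (gen L) ≫ e.hom.hom.hom

theorem isHom_hgen (L : Ideal R) (u : H ⟶ G) [IsMonHom u] : IsHom L (hgen e L ≫ u) := by
  rw [hgen, Category.assoc]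
  exact isHom_gen L e u

/-- Reduction from `R/L` to `R/L'`. -/
def red {L L' : Ideal R} (h : L ≤ L') : AA A L →ₐ[R] AA A L' :=
  Algebra.TensorProduct.map (Ideal.Quotient.factorₐ R h) (AlgHom.id R A)

theorem red_gen {L L' : Ideal R} (h : L ≤ L') : (red (A := A) h).comp (gen L) = gen L' :=
  Algebra.TensorProduct.map_comp_includeRight _ _

theorem red_cst {L L' : Ideal R} (h : L ≤ L') :
    (red (A := A) h).comp (cst L) = (cst L').comp (Ideal.Quotient.factorₐ R h) :=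
  Algebra.TensorProduct.map_comp_includeLeft _ _

theorem pmap_red_hgen {L L' : Ideal R} (h : L ≤ L') (u : H ⟶ G) :
    pmap (red (A := A) h) (hgen e L ≫ u) = hgen e L' ≫ u := by
  rw [pmap_apply, hgen, hgen, ← Category.assoc, ← Category.assoc, ← CoactBr.pt_comp, red_gen, Category.assoc]

/-- A map killing `K` factors through `R/K ⊗ A`. -/
theorem exists_factor_red {L K : Ideal R} (h : L ≤ K) :
    ∃ ψ : AA A K →ₐ[R] AA A L ⧸ KI K (AA A L),
      ψ.comp (red (A := A) h) = Ideal.Quotient.mkₐ R (KI K (AA A L)) := by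
  let φ : (R ⧸ K) →ₐ[R] AA A L ⧸ KI K (AA A L) := Ideal.Quotient.liftₐ _ (Algebra.ofId R _) fun r hr => by
    show algebraMap R (AA A L ⧸ KI K (AA A L)) r = 0
    rw [IsScalarTower.algebraMap_apply R (AA A L) (AA A L ⧸ KI K (AA A L))]
    exact Ideal.Quotient.eq_zero_iff_mem.2 (Ideal.mem_map_of_mem _ hr)
  refine ⟨Algebra.TensorProduct.lift φ ((Ideal.Quotient.mkₐ R _).comp (gen L)) fun _ _ => .all _ _, ?_⟩
  refine Algebra.TensorProduct.ext (Ideal.Quotient.algHom_ext _ (Subsingleton.elim _ _)) (AlgHom.ext fun a => ?_)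
  simp [red, gen]

/-- `R/L ⊗ A → A` for `L = 0`. -/
theorem exists_collapse {L : Ideal R} (hL : L = ⊥) :
    ∃ (σ : (R ⧸ L) →ₐ[R] R) (l : AA A L →ₐ[R] A),
      l.comp (gen L) = AlgHom.id R A ∧ l.comp (cst L) = (Algebra.ofId R A).comp σ := by
  let σ : (R ⧸ L) →ₐ[R] R := Ideal.Quotient.liftₐ L (AlgHom.id R R) fun r hr => by
    rw [hL] at hr; exact hr
  exact ⟨σ, Algebra.TensorProduct.lift ((Algebra.ofId R A).comp σ) (AlgHom.id R A) fun _ _ => .all _ _,
    Algebra.TensorProduct.lift_comp_includeRight' _ _ _, Algebra.TensorProduct.lift_comp_includeLeft _ _ _⟩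

/-- An `R`-valued point as a section. -/
def secEquiv (G : Over (Spec (CommRingCat.of R))) :
    𝟙_ (Over (Spec (CommRingCat.of R))) ≅ CoactBr.sp R R :=
  Over.isoMk (Iso.refl _) (by
    show 𝟙 _ ≫ Spec.map (CommRingCat.ofHom (algebraMap R R)) = 𝟙 (Spec (CommRingCat.of R))
    rw [Category.id_comp, show algebraMap R R = RingHom.id R from rfl]
    exact Spec.map_id _)

theorem toUnit_secEquiv (C : Type u) [CommRing C] [Algebra R C] :
    toUnit (CoactBr.sp R C) ≫ (secEquiv G).hom = CoactBr.pt (Algebra.ofId R C) := by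
  ext
  show Spec.map (CommRingCat.ofHom (algebraMap R C)) ≫ 𝟙 _ = Spec.map (CommRingCat.ofHom (Algebra.ofId R C).toRingHom)
  rw [Category.comp_id]
  rfl

/-- From a conjugation identity on the generic point to all points. -/
theorem finish {L : Ideal R} (hL : L = ⊥) (u v : H ⟶ G) (g : Pts G (R ⧸ L))
    (h : hgen e L ≫ v = pmap (cst L) g * (hgen e L ≫ u) * (pmap (cst L) g)⁻¹) :
    ∃ g' : 𝟙_ (Over (Spec (CommRingCat.of R))) ⟶ G,
      (∀ (C : Type u) [CommRing C] [Algebra R C] (q : (R ⧸ L) →ₐ[R] C),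
        toUnit (CoactBr.sp R C) ≫ g' = pmap q g) ∧
      ∀ (X : Over (Spec (CommRingCat.of R))) (k : X ⟶ H), k ≫ v = (toUnit X ≫ g') * (k ≫ u) * (toUnit X ≫ g')⁻¹ := by
  obtain ⟨σ, l, hl1, hl2⟩ := exists_collapse (A := A) hL
  refine ⟨(secEquiv G).hom ≫ pmap σ g, fun C _ _ q => ?_, fun X k => ?_⟩
  · rw [← Category.assoc, toUnit_secEquiv, ← pmap_apply, pmap_pmap]
    rw [show (Algebra.ofId R C).comp σ = q from Ideal.Quotient.algHom_ext _ (Subsingleton.elim _ _)]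
  have h' := congrArg (pmap l) h
  simp only [map_mul, map_inv, pmap_pmap, hl2] at h'
  have hg : ∀ w : H ⟶ G, pmap l (hgen e L ≫ w) = e.hom.hom.hom ≫ w := fun w => by
    rw [pmap_apply, hgen, ← Category.assoc, ← Category.assoc, ← CoactBr.pt_comp, hl1, CoactBr.pt_id, Category.id_comp]
  rw [hg, hg, ← pmap_pmap] at h'
  have h2 := congrArg (fun z => (k ≫ e.inv.hom.hom) ≫ z) h'
  have hk : ∀ w : H ⟶ G, (k ≫ e.inv.hom.hom) ≫ e.hom.hom.hom ≫ w = k ≫ w := fun w => by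
    rw [Category.assoc, ← Category.assoc (e.inv.hom.hom), ← Mon.comp_hom', ← Grp.comp', e.inv_hom_id]
    exact congrArg (k ≫ ·) (Category.id_comp w)
  simp only [MonObj.comp_mul, GrpObj.comp_inv, hk] at h2
  have hc : (k ≫ e.inv.hom.hom) ≫ pmap (Algebra.ofId R A) (pmap σ g) = toUnit X ≫ (secEquiv G).hom ≫ pmap σ g := by
    rw [pmap_apply (Algebra.ofId R A), ← toUnit_secEquiv (G := G), ← Category.assoc (toUnit X), ← Category.assoc,
      ← Category.assoc, toUnit_unique ((k ≫ e.inv.hom.hom) ≫ toUnit (CoactBr.sp R A)) (toUnit X)]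
  rw [hc] at h2
  exact h2

theorem exists_lift_of_surjective {U V : Scheme.{u}} {h : U ⟶ V} (hh : MoreMor.IsFormallySmoothHom h)
    {B' B : Type u} [CommRing B'] [CommRing B] (π : B' →+* B) (hπ : Function.Surjective π)
    (hsq : RingHom.ker π ^ 2 = ⊥) (a : Spec (.of B) ⟶ U) (b : Spec (.of B') ⟶ V)
    (w : Spec.map (CommRingCat.ofHom π) ≫ b = a ≫ h) :
    ∃ c : Spec (.of B') ⟶ U, Spec.map (CommRingCat.ofHom π) ≫ c = a ∧ c ≫ h = b := by
  let i : CommRingCat.of (B' ⧸ RingHom.ker π) ≅ CommRingCat.of B :=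
    (RingHom.quotientKerEquivOfSurjective hπ).toCommRingCatIso
  have he : CommRingCat.ofHom (Ideal.Quotient.mk (RingHom.ker π)) ≫ i.hom = CommRingCat.ofHom π :=
    CommRingCat.hom_ext (RingHom.ext fun x => rfl)
  obtain ⟨c, h1, h2⟩ := hh B' (RingHom.ker π) hsq (Spec.map i.inv ≫ a) b (by
    rw [Category.assoc, ← w, ← Category.assoc, ← Spec.map_comp, ← he, Category.assoc, Iso.hom_inv_id,
      Category.comp_id])
  refine ⟨c, ?_, h2⟩
  rw [← he, Spec.map_comp, Category.assoc, h1, ← Category.assoc, ← Spec.map_comp, Iso.inv_hom_id, Spec.map_id,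
    Category.id_comp]

/-- A point of a smooth scheme lifts along a square-zero extension. -/
theorem exists_lift_smooth (hG : Smooth G.hom) {L K : Ideal R} (hLK : L ≤ K) (hKL : K * K ≤ L) (g : Pts G (R ⧸ K)) :
    ∃ g' : Pts G (R ⧸ L), pmap (Ideal.Quotient.factorₐ R hLK) g' = g := by
  have hsq : RingHom.ker (Ideal.Quotient.factor hLK) ^ 2 = ⊥ := by
    rw [Ideal.Quotient.factor_ker, ← Ideal.map_pow, Ideal.map_eq_bot_iff_le_ker, Ideal.mk_ker, pow_two]
    exact hKL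
  obtain ⟨w', h1, h2⟩ := exists_lift_of_surjective (SmoothLift15.isFormallySmoothHom_of_smooth G.hom)
    (Ideal.Quotient.factor hLK) (Ideal.Quotient.factor_surjective hLK) hsq g.left
    (Spec.map (CommRingCat.ofHom (algebraMap R (R ⧸ L)))) (by
      rw [specMap_comp, show (Ideal.Quotient.factor hLK).comp (algebraMap R (R ⧸ L)) = algebraMap R (R ⧸ K) from rfl]
      exact (Over.w g).symm)
  exact ⟨Over.homMk w' h2, Over.OverMorphism.ext h1⟩

variable {J : Ideal R}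

/-- The quotient point `Spec C → Spec (R/J)`. -/
def toBase {C : Type u} [CommRing C] [Algebra R C] (q : (R ⧸ J) →ₐ[R] C) :
    CoactBr.sp R C ⟶ (Over.mk (Spec.map (CommRingCat.ofHom (Ideal.Quotient.mk J))) : Over (Spec (CommRingCat.of R))) :=
  CoactBr.pt q

include e in
theorem exists_conj_squareZero {j : A →ₗ[R] R} (hj : MultTypeLib.IsInt j) (hJ : J ^ 2 = ⊥)
    (u v : H ⟶ G) [IsMonHom u] [IsMonHom v]
    (h0 : ∀ (X : Over (Spec (CommRingCat.of R))) (_ : X ⟶ (Over.mk (Spec.map (CommRingCat.ofHom (Ideal.Quotient.mk J))) : Over (Spec (CommRingCat.of R)))) (h : X ⟶ H), h ≫ u = h ≫ v) :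
    ∃ g : 𝟙_ (Over (Spec (CommRingCat.of R))) ⟶ G,
      toUnit (Over.mk (Spec.map (CommRingCat.ofHom (Ideal.Quotient.mk J))) : Over (Spec (CommRingCat.of R))) ≫ g = 1 ∧
      ∀ (X : Over (Spec (CommRingCat.of R))) (h : X ⟶ H), h ≫ v = (toUnit X ≫ g) * (h ≫ u) * (toUnit X ≫ g)⁻¹ := by
  have hKL : J * J ≤ ⊥ := by rw [← pow_two, hJ]
  obtain ⟨ψ, hψ⟩ := exists_factor_red (A := A) (bot_le : ⊥ ≤ J)
  have hxy : pmap (Ideal.Quotient.mkₐ R (KI J (AA A (⊥ : Ideal R)))) (hgen e (⊥ : Ideal R) ≫ v) =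
      pmap (Ideal.Quotient.mkₐ R (KI J (AA A (⊥ : Ideal R)))) (hgen e (⊥ : Ideal R) ≫ u) := by
    rw [← hψ, ← pmap_pmap, ← pmap_pmap, pmap_red_hgen, pmap_red_hgen]
    congr 1
    exact (h0 _ (toBase (cst J)) (hgen e J)).symm
  obtain ⟨t, ht1, ht2⟩ := exists_conj_step ⊥ hj hKL (bot_le : ⊥ ≤ J) (isHom_hgen e (⊥ : Ideal R) v) (isHom_hgen e (⊥ : Ideal R) u) hxy
  obtain ⟨g, hg1, hg2⟩ := finish e rfl u v t ht2
  refine ⟨g, ?_, hg2⟩
  have h3 := hg1 (R ⧸ J) (Ideal.Quotient.factorₐ R bot_le)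
  rw [ht1] at h3
  exact h3

include e in
theorem exists_step {j : A →ₗ[R] R} (hj : MultTypeLib.IsInt j) (hG : Smooth G.hom) {L K : Ideal R} (hLK : L ≤ K)
    (hKL : K * K ≤ L) (u v : H ⟶ G) [IsMonHom u] [IsMonHom v] (g : Pts G (R ⧸ K))
    (hg : hgen e K ≫ v = pmap (cst K) g * (hgen e K ≫ u) * (pmap (cst K) g)⁻¹) :
    ∃ g'' : Pts G (R ⧸ L), pmap (Ideal.Quotient.factorₐ R hLK) g'' = g ∧
      hgen e L ≫ v = pmap (cst L) g'' * (hgen e L ≫ u) * (pmap (cst L) g'')⁻¹ := by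
  obtain ⟨g', hg'⟩ := exists_lift_smooth hG hLK hKL g
  obtain ⟨ψ, hψ⟩ := exists_factor_red (A := A) hLK
  have hxy : pmap (Ideal.Quotient.mkₐ R (KI K (AA A L))) (hgen e L ≫ v) =
      pmap (Ideal.Quotient.mkₐ R (KI K (AA A L)))
        (pmap (cst L) g' * (hgen e L ≫ u) * (pmap (cst L) g')⁻¹) := by
    rw [← hψ, ← pmap_pmap, ← pmap_pmap]
    congr 1
    simp only [map_mul, map_inv]
    rw [pmap_red_hgen, pmap_red_hgen, pmap_pmap, red_cst, ← pmap_pmap, hg']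
    exact hg
  obtain ⟨t, ht1, ht2⟩ := exists_conj_step L hj hKL hLK (isHom_hgen e L v) ((isHom_hgen e L u).conj L g') hxy
  refine ⟨t * g', by rw [map_mul, ht1, hg', _root_.one_mul], ?_⟩
  rw [map_mul, ht2]
  group

include e in
theorem exists_conj_nilpotent {j : A →ₗ[R] R} (hj : MultTypeLib.IsInt j) (hJ : IsNilpotent J) (hG : Smooth G.hom)
    (u v : H ⟶ G) [IsMonHom u] [IsMonHom v]
    (g₀ : (Over.mk (Spec.map (CommRingCat.ofHom (Ideal.Quotient.mk J))) : Over (Spec (CommRingCat.of R))) ⟶ G)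
    (h0 : ∀ (X : Over (Spec (CommRingCat.of R))) (p : X ⟶ (Over.mk (Spec.map (CommRingCat.ofHom (Ideal.Quotient.mk J))) : Over (Spec (CommRingCat.of R)))) (h : X ⟶ H), h ≫ v = (p ≫ g₀) * (h ≫ u) * (p ≫ g₀)⁻¹) :
    ∃ g : 𝟙_ (Over (Spec (CommRingCat.of R))) ⟶ G,
      toUnit (Over.mk (Spec.map (CommRingCat.ofHom (Ideal.Quotient.mk J))) : Over (Spec (CommRingCat.of R))) ≫ g = g₀ ∧
      ∀ (X : Over (Spec (CommRingCat.of R))) (h : X ⟶ H), h ≫ v = (toUnit X ≫ g) * (h ≫ u) * (toUnit X ≫ g)⁻¹ := by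
  have key : ∀ k : ℕ, ∃ (hk : J ^ 2 ^ k ≤ J) (g : Pts G (R ⧸ J ^ 2 ^ k)),
      (∀ g₁ : Pts G (R ⧸ J), g₁ = g₀ → pmap (Ideal.Quotient.factorₐ R hk) g = g₁) ∧
      hgen e (J ^ 2 ^ k) ≫ v = pmap (cst (J ^ 2 ^ k)) g * (hgen e (J ^ 2 ^ k) ≫ u) * (pmap (cst (J ^ 2 ^ k)) g)⁻¹ := by
    intro k
    induction k with
    | zero =>
      have hk : J ^ 2 ^ 0 ≤ J := le_of_eq (by simp)
      let i : (R ⧸ J) →ₐ[R] (R ⧸ J ^ 2 ^ 0) := Ideal.Quotient.factorₐ R (le_of_eq (by simp))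
      refine ⟨hk, pmap i g₀, fun g₁ hg₁ => ?_, ?_⟩
      · rw [pmap_pmap, show (Ideal.Quotient.factorₐ R hk).comp i = AlgHom.id R _ from
          Ideal.Quotient.algHom_ext _ (Subsingleton.elim _ _), hg₁]
        exact pmap_id _
      · rw [pmap_pmap]
        exact h0 _ (toBase ((cst (J ^ 2 ^ 0)).comp i)) (hgen e (J ^ 2 ^ 0))
    | succ k ih =>
      obtain ⟨hk, g, hg0, hg⟩ := ih
      have hLK : J ^ 2 ^ (k + 1) ≤ J ^ 2 ^ k := Ideal.pow_le_pow_right (Nat.pow_le_pow_right two_pos k.le_succ)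
      have hKL : J ^ 2 ^ k * J ^ 2 ^ k ≤ J ^ 2 ^ (k + 1) := le_of_eq (by rw [← pow_add, pow_succ, mul_two])
      obtain ⟨g'', h1, h2⟩ := exists_step e hj hG hLK hKL u v g hg
      refine ⟨hLK.trans hk, g'', fun g₁ hg₁ => ?_, h2⟩
      rw [show Ideal.Quotient.factorₐ R (hLK.trans hk) =
        (Ideal.Quotient.factorₐ R hk).comp (Ideal.Quotient.factorₐ R hLK) from
        Ideal.Quotient.algHom_ext _ (Subsingleton.elim _ _), ← pmap_pmap, h1]
      exact hg0 g₁ hg₁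
  obtain ⟨n, hn⟩ := hJ
  obtain ⟨hk, g, hg0, hg⟩ := key n
  have hbot : J ^ 2 ^ n = ⊥ := le_bot_iff.1 (le_of_le_of_eq (Ideal.pow_le_pow_right Nat.lt_two_pow_self.le) hn)
  obtain ⟨g', hg1, hg2⟩ := finish e hbot u v g hg
  refine ⟨g', ?_, hg2⟩
  exact (hg1 (R ⧸ J) (Ideal.Quotient.factorₐ R hk)).trans (hg0 g₀ rfl)

end Groth.Agent.MTRigid29
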