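import Groth.Agent.Lib.MTRigid29.ConstS
import Groth.Agent.Lib.Slice.Global
import Groth.Agent.Lib.HTop25.Basic
import Mathlib.AlgebraicGeometry.Morphisms.Etale

/-!
# Properties of constant schemes
-/

set_option autoImplicit false
set_option backward.isDefEq.respectTransparency false
set_option backward.isDefEq.respectTransparency.types false

universe u v w

open CategoryTheory Limits MonoidalCategory CartesianMonoidalCategory AlgebraicGeometry

noncomputable section

namespace Groth.Agent.MTRigid29

variable {S : Scheme.{u}} {I : Type v} [Small.{u} I] {J : Type w} [Small.{u} J]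

theorem pt_constMap (φ : I → J) (a : I) : TwC.pt S I a ≫ TwC.constMap S φ = TwC.pt S J (φ a) := by
  refine Over.OverMorphism.ext ?_
  exact Sigma.ι_desc _ a

/-- Constant schemes on equivalent index types are isomorphic. -/
def constEquiv (e : I ≃ J) : TwC.const S I ≅ TwC.const S J where
  hom := TwC.constMap S e
  inv := TwC.constMap S e.symm
  hom_inv_id := Over.OverMorphism.ext (Sigma.hom_ext _ _ fun a => by simp [TwC.constMap])
  inv_hom_id := Over.OverMorphism.ext (Sigma.hom_ext _ _ fun a => by simp [TwC.constMap])

instance etale_const : Etale (TwC.const S I).hom :=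
  IsZariskiLocalAtSource.sigmaDesc fun _ => inferInstanceAs (Etale (𝟙 S))

instance isSeparated_const : IsSeparated (TwC.const S I).hom := by
  haveI h : IsSeparated (TwC.const S (Shrink.{u} I)).hom :=
    Slice.isSeparated_sigmaDesc (fun _ : Shrink.{u} I => S) (fun _ => 𝟙 S)
  rw [← Over.w (constEquiv (S := S) (equivShrink.{u} I)).hom]
  haveI : IsIso (constEquiv (S := S) (equivShrink.{u} I)).hom.left :=
    (inferInstance : IsIso ((Over.forget _).map (constEquiv (S := S) (equivShrink.{u} I)).hom))
  exact (MorphismProperty.cancel_left_of_respectsIso @IsSeparated _ _).2 h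

theorem isFinite_const [Finite I] : IsFinite (TwC.const S I).hom := by
  haveI : Finite (Shrink.{u} I) := Finite.of_equiv I (equivShrink.{u} I)
  haveI h : IsFinite (TwC.const S (Shrink.{u} I)).hom :=
    HTop25.isFinite_sigmaDesc (fun _ : Shrink.{u} I => 𝟙 S)
  rw [← Over.w (constEquiv (S := S) (equivShrink.{u} I)).hom]
  haveI : IsIso (constEquiv (S := S) (equivShrink.{u} I)).hom.left :=
    (inferInstance : IsIso ((Over.forget _).map (constEquiv (S := S) (equivShrink.{u} I)).hom))
  exact (MorphismProperty.cancel_left_of_respectsIso @IsFinite _ _).2 h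

end Groth.Agent.MTRigid29
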