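import Groth.Agent.Lib.MTRigid29.HomDual
import Groth.Agent.Lib.MTRigid29.ConstProps
import Mathlib.RingTheory.Finiteness.Finsupp

/-!
# Homomorphism schemes of twisted constant groups and groups of multiplicative type
-/

set_option autoImplicit false
set_option linter.style.haveILetI false
set_option linter.unusedSectionVars false
set_option backward.isDefEq.respectTransparency false
set_option backward.isDefEq.respectTransparency.types false
set_option maxSynthPendingDepth 3

universe u

open CategoryTheory Limits MonoidalCategory CartesianMonoidalCategory MonObj AlgebraicGeometry Opposite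

noncomputable section

namespace Groth.Agent.MTRigid29

open AutFam DiagGL

variable {S : Scheme.{u}}

/-- Two covering families have a common refinement by their fibre products. -/
theorem exists_common_cover {κ κ' : Type u} {V : κ → Scheme.{u}} {W : κ' → Scheme.{u}} (f : ∀ i, V i ⟶ S)
    (g : ∀ j, W j ⟶ S) (hf : Presieve.ofArrows V f ∈ Scheme.fpqcPrecoverage S)
    (hg : Presieve.ofArrows W g ∈ Scheme.fpqcPrecoverage S) :
    Presieve.ofArrows (fun p : Σ _ : κ, κ' => pullback (f p.1) (g p.2))
      (fun p => pullback.fst (f p.1) (g p.2) ≫ f p.1) ∈ Scheme.fpqcPrecoverage S :=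
  Precoverage.comp_mem_coverings f hf (fun i j => pullback.fst (f i) (g j)) fun i =>
    Precoverage.mem_coverings_of_isPullback g hg (f i) _ (fun j => pullback.snd (f i) (g j))
      fun j => IsPullback.of_hasPullback (f i) (g j)

/-- The character group of a finite group of multiplicative type over a nonempty base is finite. -/
theorem finite_of_chars_isFinite {H : Over S} [GrpObj H] [IsFinite H.hom] {M : Type} [AddCommGroup M]
    (C : Chars M H) [hS : Nonempty ↥S] : Finite M := by
  obtain ⟨s⟩ := hS
  let K : Type u := (S.residueField s : Type u)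
  let k : Spec (CommRingCat.of K) ⟶ S := S.fromSpecResidueField s
  obtain ⟨e⟩ := nonempty_grpIso_of_chars (charsDiag K M) (C.baseChange k H)
  haveI hfin : IsFinite (Red.bc k H).hom := inferInstanceAs (IsFinite (pullback.snd H.hom k))
  have hw : e.hom.hom.hom.left ≫ (Red.bc k H).hom = (Red.diag K M).hom := Over.w _
  haveI : IsFinite (Red.diag K M).hom := by
    rw [← hw]
    haveI : IsIso e.hom.hom.hom.left :=
      (inferInstance : IsIso ((Grp.forget (Over (Spec (CommRingCat.of K))) ⋙ Over.forget _).map e.hom))
    exact (MorphismProperty.cancel_left_of_respectsIso @IsFinite _ _).2 hfin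
  have h1 : (algebraMap K (MonoidAlgebra K (Multiplicative M))).Finite :=
    (IsFinite.SpecMap_iff (CommRingCat.ofHom (algebraMap K (MonoidAlgebra K (Multiplicative M))))).1
      (inferInstanceAs (IsFinite (Red.diag K M).hom))
  haveI : Module.Finite K (MonoidAlgebra K (Multiplicative M)) := RingHom.finite_algebraMap.1 h1
  haveI : Module.Finite K (Multiplicative M →₀ K) :=
    Module.Finite.equiv (MonoidAlgebra.coeffLinearEquiv K : MonoidAlgebra K (Multiplicative M) ≃ₗ[K] _)
  haveI : Finite (Multiplicative M) := Module.Finite.finite_basis (Finsupp.basisSingleOne (R := K) («ι» := Multiplicative M))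
  exact Finite.of_equiv _ Multiplicative.toAdd

/-- The law on the dual of a split group is that of the constant group. -/
theorem pt_mul_of_split {H Z : Over S} [GrpObj H] [GrpObj Z] {M N : Type} [AddCommGroup M] [AddCommGroup N]
    (C : Chars M H) (D : Chars N Z) {υ : H ⊗ TwC.const S (N →+ M) ⟶ Z}
    (hυ : RepresentsHom H Z (TwC.const S (N →+ M)) υ)
    (hval : ∀ (X : Over S) (g : X ⟶ H) (a : N →+ M),
      lift g (toUnit X ≫ TwC.pt S (N →+ M) a) ≫ υ = g ≫ mapChS C D a)
    [GrpObj (TwC.const S (N →+ M))] (hmul : IsMulParam H Z (TwC.const S (N →+ M)) υ) (a b : N →+ M) :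
    TwC.pt S (N →+ M) a * TwC.pt S (N →+ M) b = TwC.pt S (N →+ M) (a + b) := by
  refine rep_ext hυ fun X g x => ?_
  rw [MonObj.comp_mul, show x = toUnit X from toUnit_unique _ _, hmul, hval, hval, hval]
  refine D.inj fun n => ?_
  rw [D.mul, ch_mapChS, ch_mapChS, ch_mapChS, ← map_mul]
  rfl

theorem isAffineHom_DS (S : Scheme.{u}) (M : Type) [AddCommGroup M] : IsAffineHom (Red.DS S M).hom := by
  show IsAffineHom (pullback.snd (Red.diag (ULift.{u} ℤ) M).hom _)
  haveI : IsAffineHom (Red.diag (ULift.{u} ℤ) M).hom := inferInstanceAs (IsAffineHom (Spec.map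
    (CommRingCat.ofHom (algebraMap (ULift.{u} ℤ) (MonoidAlgebra (ULift.{u} ℤ) (Multiplicative M))))))
  exact MorphismProperty.pullback_snd _ _ this

end Groth.Agent.MTRigid29
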