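import Groth.Prelude.Def_TwC
import Mathlib.AlgebraicGeometry.Limits

/-!
# Morphisms into and out of constant schemes

A morphism to `I_S` cuts its source into pieces indexed by `I`.
-/

set_option autoImplicit false
set_option backward.isDefEq.respectTransparency false
set_option backward.isDefEq.respectTransparency.types false

universe u v

open CategoryTheory Limits MonoidalCategory CartesianMonoidalCategory AlgebraicGeometry

noncomputable section

namespace Groth.Agent.MTRigid29

variable {S : Scheme.{u}} {I : Type v} [Small.{u} I] {T : Over S}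

/-- The part of `T` sent to the copy `a`. -/
def piece (k : T ⟶ TwC.const S I) (a : I) : T.left.Opens :=
  k.left ⁻¹ᵁ (Sigma.ι (fun _ : I => S) a).opensRange

/-- An open subscheme as an object over the base. -/
abbrev openOver {T : Over S} (U : T.left.Opens) : Over S := Over.mk (U.ι ≫ T.hom)

/-- The inclusion of an open subscheme. -/
abbrev openIncl {T : Over S} (U : T.left.Opens) : openOver U ⟶ T := Over.homMk U.ι rfl

theorem iSup_piece (k : T ⟶ TwC.const S I) : ⨆ a, piece k a = ⊤ := by
  refine eq_top_iff.2 fun z _ => ?_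
  obtain ⟨a, za, ha⟩ := (sigmaOpenCover (fun _ : I => S)).exists_eq (k.left z)
  exact TopologicalSpace.Opens.mem_iSup.2 ⟨a, za, ha⟩

theorem disjoint_piece (k : T ⟶ TwC.const S I) {a b : I} (h : a ≠ b) : Disjoint (piece k a) (piece k b) := by
  have hab := disjoint_opensRange_sigmaι (fun _ : I => S) a b h
  rw [disjoint_iff, eq_bot_iff] at hab ⊢
  rintro z ⟨hza, hzb⟩
  exact (hab ⟨hza, hzb⟩).elim

theorem eq_of_mem_piece (k : T ⟶ TwC.const S I) {a b : I} {z : T.left} (ha : z ∈ piece k a) (hb : z ∈ piece k b) :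
    a = b := by
  by_contra h
  exact (disjoint_iff_inf_le.1 (disjoint_piece k h) (x := z) ⟨ha, hb⟩).elim

theorem mem_piece_self (k : T ⟶ TwC.const S I) (z : T.left) : ∃ a, z ∈ piece k a :=
  TopologicalSpace.Opens.mem_iSup.1 (iSup_piece k ▸ trivial)

theorem piece_comp {T' : Over S} (g : T' ⟶ T) (k : T ⟶ TwC.const S I) (a : I) :
    piece (g ≫ k) a = g.left ⁻¹ᵁ piece k a := rfl

/-- A map all of whose points go to the copy `a` is the point of index `a`. -/
theorem eq_toUnit_pt (k : T ⟶ TwC.const S I) (a : I) (h : ∀ z : T.left, z ∈ piece k a) :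
    k = toUnit T ≫ TwC.pt S I a := by
  have hr : Set.range k.left ⊆ Set.range (Sigma.ι (fun _ : I => S) a) := by
    rintro _ ⟨x, rfl⟩
    exact h x
  have hl := IsOpenImmersion.lift_fac (Sigma.ι (fun _ : I => S) a) k.left hr
  have hl' : IsOpenImmersion.lift (Sigma.ι (fun _ : I => S) a) k.left hr = T.hom := by
    have := congrArg (· ≫ (TwC.const S I).hom) hl
    simp only [Category.assoc] at this
    erw [Sigma.ι_desc, Over.w k, Category.comp_id] at this
    exact this
  refine Over.OverMorphism.ext ?_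
  rw [← hl, hl']
  rfl

theorem piece_toUnit_pt (a : I) (z : T.left) : z ∈ piece (toUnit T ≫ TwC.pt S I a) a :=
  ⟨(toUnit T).left z, rfl⟩

theorem openIncl_comp (k : T ⟶ TwC.const S I) (a : I) (U : T.left.Opens) (hU : U ≤ piece k a) :
    openIncl U ≫ k = toUnit _ ≫ TwC.pt S I a :=
  eq_toUnit_pt _ a fun z => hU z.2

/-- Morphisms are determined on an open cover of the source. -/
theorem hom_ext_opens {Y : Over S} {ι : Type*} (U : ι → T.left.Opens) (hU : ⨆ i, U i = ⊤) {g g' : T ⟶ Y}
    (h : ∀ i, openIncl (U i) ≫ g = openIncl (U i) ≫ g') : g = g' := by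
  refine Over.OverMorphism.ext ((T.left.openCoverOfIsOpenCover U hU).hom_ext _ _ fun i => ?_)
  exact congrArg CommaMorphism.left (h i)

theorem hom_ext_piece (k : T ⟶ TwC.const S I) {Y : Over S} {g g' : T ⟶ Y}
    (h : ∀ a, openIncl (piece k a) ≫ g = openIncl (piece k a) ≫ g') : g = g' :=
  hom_ext_opens _ (iSup_piece k) h

/-- Morphisms on the pieces glue. -/
theorem exists_glue (U : I → T.left.Opens) (hU : ⨆ a, U a = ⊤) (hd : Pairwise (fun a b => Disjoint (U a) (U b)))
    {Y : Over S} (g : ∀ a, openOver (U a) ⟶ Y) : ∃ h : T ⟶ Y, ∀ a, openIncl (U a) ≫ h = g a := by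
  obtain ⟨hlim⟩ := nonempty_isColimit_cofanMk_of (fun a => (U a).ι)
    (by simpa only [Scheme.Opens.opensRange_ι] using hU)
    (fun a b hab => by
      show Disjoint (U a).ι.opensRange (U b).ι.opensRange
      simpa only [Scheme.Opens.opensRange_ι] using hd hab)
  refine ⟨Over.homMk (Cofan.IsColimit.desc hlim fun a => (g a).left)
    (Cofan.IsColimit.hom_ext hlim _ _ fun a => ?_), fun a => Over.OverMorphism.ext (Cofan.IsColimit.fac hlim _ a)⟩
  show (U a).ι ≫ _ = (U a).ι ≫ T.hom
  rw [← Category.assoc]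
  erw [Cofan.IsColimit.fac hlim _ a]
  exact Over.w (g a)

theorem exists_glue_piece (k : T ⟶ TwC.const S I) {Y : Over S} (g : ∀ a, openOver (piece k a) ⟶ Y) :
    ∃ h : T ⟶ Y, ∀ a, openIncl (piece k a) ≫ h = g a :=
  exists_glue _ (iSup_piece k) (fun _ _ hab => disjoint_piece k hab) g

/-- Morphisms to a constant scheme correspond to partitions. -/
theorem exists_hom_of_partition (U : I → T.left.Opens) (hU : ⨆ a, U a = ⊤)
    (hd : Pairwise (fun a b => Disjoint (U a) (U b))) :
    ∃ k : T ⟶ TwC.const S I, ∀ a, U a ≤ piece k a := by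
  obtain ⟨k, hk⟩ := exists_glue U hU hd (fun a => toUnit (openOver (U a)) ≫ TwC.pt S I a)
  refine ⟨k, fun a z hz => ?_⟩
  have := piece_toUnit_pt (T := openOver (U a)) a ⟨z, hz⟩
  rw [← hk a, piece_comp] at this
  exact this

theorem eq_of_piece_le (k k' : T ⟶ TwC.const S I) (h : ∀ a, piece k a ≤ piece k' a) : k = k' :=
  hom_ext_piece k fun a => by rw [openIncl_comp k a _ le_rfl, openIncl_comp k' a _ (h a)]

end Groth.Agent.MTRigid29
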