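import Groth.Agent.Lib.MTRigid29.ConstProps
import Groth.Agent.Lib.MTRigid29.Descends
import Groth.Prelude.Def_Red
import Mathlib.AlgebraicGeometry.ValuativeCriterion
import Mathlib.AlgebraicGeometry.Morphisms.UniversallyOpen

/-!
# Properties of twisted constant schemes
-/

set_option autoImplicit false
set_option backward.isDefEq.respectTransparency false
set_option backward.isDefEq.respectTransparency.types false
set_option maxSynthPendingDepth 3

universe u v

open CategoryTheory Limits MonoidalCategory CartesianMonoidalCategory AlgebraicGeometry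

noncomputable section

namespace Groth.Agent.MTRigid29

variable {S : Scheme.{u}}

section Existence

/-- Constant schemes satisfy the existence part of the valuative criterion. -/
theorem existence_const {I : Type v} [Small.{u} I] : ValuativeCriterion.Existence (TwC.const S I).hom := by
  rintro ⟨R, K, i₁, i₂, ⟨w⟩⟩
  let T : Over S := Over.mk (Spec.map (CommRingCat.ofHom (algebraMap R K)) ≫ i₂)
  let k : T ⟶ TwC.const S I := Over.homMk i₁ w
  let z : T.left := IsLocalRing.closedPoint K
  obtain ⟨a, ha⟩ := mem_piece_self k z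
  have hk : k = toUnit T ≫ TwC.pt S I a := eq_toUnit_pt k a fun z' => by
    rwa [Subsingleton.elim (α := PrimeSpectrum K) z' z]
  refine ⟨⟨⟨i₂ ≫ Sigma.ι (fun _ : I => S) a, ?_, ?_⟩⟩⟩
  · show Spec.map (CommRingCat.ofHom (algebraMap R K)) ≫ i₂ ≫ Sigma.ι (fun _ : I => S) a = k.left
    rw [hk, ← Category.assoc]
    rfl
  · show (i₂ ≫ Sigma.ι (fun _ : I => S) a) ≫ Sigma.desc _ = i₂
    rw [Category.assoc, Sigma.ι_desc, Category.comp_id]

/-- The existence part of the valuative criterion descends along flat jointly surjective families. -/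
theorem existence_of_cover {κ : Type*} {V : κ → Scheme.{u}} (f : ∀ i, V i ⟶ S) [∀ i, Flat (f i)]
    (hf : ∀ s : S, ∃ i, s ∈ Set.range (f i)) {X : Scheme.{u}} (g : X ⟶ S)
    (h : ∀ i, ValuativeCriterion.Existence (pullback.snd g (f i))) : ValuativeCriterion.Existence g := by
  refine ValuativeCriterion.Existence.of_specializingMap g fun X' S' i₁ i₂ g' sq => ?_
  show SpecializingMap g'.base
  intro x' y hxy
  obtain ⟨i, v, hv⟩ := hf (i₂ y)
  let q := pullback.fst i₂ (f i)
  obtain ⟨w, hw, -⟩ := Scheme.Pullback.exists_preimage_pullback (f := i₂) (g := f i) y v hv.symm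
  obtain ⟨w', hw'w, hw'⟩ := Flat.generalizingMap q (show g'.base x' ⤳ q w by rw [hw]; exact hxy)
  obtain ⟨p, hp₁, hp₂⟩ := Scheme.Pullback.exists_preimage_pullback (f := g') (g := q) x' w' hw'.symm
  have hex : ValuativeCriterion.Existence (pullback.snd g' q) := by
    have sq1 := ((IsPullback.of_hasPullback g' q).paste_horiz sq.flip)
    have sq2 : IsPullback (pullback.fst g' q ≫ i₁) (pullback.snd g' q) g (pullback.snd i₂ (f i) ≫ f i) := by
      rw [← pullback.condition]
      exact sq1
    have sq3 := IsPullback.of_hasPullback g (f i)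
    let l := sq3.lift (pullback.fst g' q ≫ i₁) (pullback.snd g' q ≫ pullback.snd i₂ (f i))
      (by rw [sq2.w, Category.assoc])
    have sq4 : IsPullback l (pullback.snd g' q) (pullback.snd g (f i)) (pullback.snd i₂ (f i)) :=
      IsPullback.of_right (by rw [sq3.lift_fst]; exact sq2) (sq3.lift_snd _ _ _) sq3
    exact MorphismProperty.of_isPullback (P := ValuativeCriterion.Existence) sq4 (h i)
  obtain ⟨p', hpp', hp'⟩ := ValuativeCriterion.Existence.specializingMap _ hex (show (pullback.snd g' q) p ⤳ w by
    rw [hp₂]; exact hw'w)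
  refine ⟨pullback.fst g' q p', ?_, ?_⟩
  · rw [← hp₁]
    exact hpp'.map (pullback.fst g' q).continuous
  · show g' (pullback.fst g' q p') = y
    rw [← Scheme.Hom.comp_apply, pullback.condition, Scheme.Hom.comp_apply, hp', hw]

end Existence

section BaseChange

variable {S' : Scheme.{u}} (k : S' ⟶ S) (I : Type v) [Small.{u} I]

/-- The map from the constant scheme over `S'` to the one over `S`. -/
def constToBase : (Over.map k).obj (TwC.const S' I) ⟶ TwC.const S I :=
  Over.homMk (Sigma.desc fun a => k ≫ Sigma.ι (fun _ : I => S) a)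
    (Sigma.hom_ext _ _ fun a => by simp)

theorem piece_constToBase {T : Over S'} (w : T ⟶ TwC.const S' I) (a : I) :
    piece w a ≤ piece ((Over.map k).map w ≫ constToBase k I) a := by
  intro z hz
  obtain ⟨s, hs⟩ := hz
  refine ⟨k s, ?_⟩
  have h1 : Sigma.ι (fun _ : I => S') a ≫ (constToBase k I).left = k ≫ Sigma.ι (fun _ : I => S) a :=
    Sigma.ι_desc _ a
  show Sigma.ι (fun _ : I => S) a (k s) = (constToBase k I).left (w.left z)
  rw [← hs]
  exact (congrArg (fun h : S' ⟶ (TwC.const S I).left => h s) h1).symm

/-- Base change of a constant scheme. -/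
theorem isIso_constBC : IsIso ((Over.mapPullbackAdj k).homEquiv _ _ (constToBase k I)) := by
  let e := (Over.mapPullbackAdj k).homEquiv
  have hsurj : ∀ (T : Over S') (z : (Over.map k).obj T ⟶ TwC.const S I),
      ∃ w : T ⟶ TwC.const S' I, (Over.map k).map w ≫ constToBase k I = z := by
    intro T z
    obtain ⟨w, hw⟩ := exists_hom_of_partition (S := S') (T := T) (fun a => piece (S := S) (T := (Over.map k).obj T) z a) (iSup_piece (S := S) (T := (Over.map k).obj T) z)
      fun a b hab => disjoint_piece (S := S) (T := (Over.map k).obj T) z hab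
    refine ⟨w, (eq_of_piece_le _ _ fun a => ?_).symm⟩
    exact (hw a).trans (piece_constToBase k I w a)
  have hinj : ∀ (T : Over S') (w w' : T ⟶ TwC.const S' I),
      (Over.map k).map w ≫ constToBase k I = (Over.map k).map w' ≫ constToBase k I → w = w' := by
    intro T w w' h
    refine eq_of_piece_le w w' fun a z hz => ?_
    obtain ⟨b, hb⟩ := mem_piece_self w' z
    have h1 := piece_constToBase k I w a hz
    rw [h] at h1
    rwa [eq_of_mem_piece _ h1 (piece_constToBase k I w' b hb)]
  obtain ⟨g, hg⟩ := hsurj _ ((e _ _).symm (𝟙 ((Over.pullback k).obj (TwC.const S I))))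
  refine ⟨g, ?_, ?_⟩
  · refine hinj _ _ _ ?_
    rw [CategoryTheory.Functor.map_comp, Category.assoc, hg, CategoryTheory.Functor.map_id, Category.id_comp,
      ← Adjunction.homEquiv_naturality_left_symm, Category.comp_id]
    exact Equiv.symm_apply_apply _ _
  · refine ((e _ _).symm).injective ?_
    rw [Adjunction.homEquiv_naturality_left_symm]
    exact (congrArg _ (Equiv.symm_apply_apply _ _)).trans hg

/-- Base change of a constant scheme. -/
def constBC : Red.bc k (TwC.const S I) ≅ TwC.const S' I :=
  letI := isIso_constBC k I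
  (asIso ((Over.mapPullbackAdj k).homEquiv _ _ (constToBase k I))).symm

end BaseChange

section Finite

/-- A quasi-compact closed subscheme of a constant scheme over a compact base is finite. -/
theorem isFinite_of_compact {I : Type u} {Z : Scheme.{u}} [CompactSpace Z] (z : Z ⟶ (TwC.const S I).left)
    [IsClosedImmersion z] : IsFinite (z ≫ (TwC.const S I).hom) := by
  classical
  let T : Over S := Over.mk (z ≫ (TwC.const S I).hom)
  let k : T ⟶ TwC.const S I := Over.homMk z rfl
  haveI : CompactSpace T.left := ‹CompactSpace Z›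
  obtain ⟨J, hJ⟩ := (isCompact_univ (X := T.left)).elim_finite_subcover
    (fun a => ((piece k a : T.left.Opens) : Set T.left))
    (fun a => (piece k a).2) (fun x _ => by
      obtain ⟨a, ha⟩ := mem_piece_self k x
      exact Set.mem_iUnion.2 ⟨a, ha⟩)
  obtain ⟨k', hk'⟩ := exists_hom_of_partition (I := {a // a ∈ J}) (fun a => piece k a.1)
    (eq_top_iff.2 fun x _ => by
      obtain ⟨a, haJ, ha⟩ := Set.mem_iUnion₂.1 (hJ (Set.mem_univ x))
      exact TopologicalSpace.Opens.mem_iSup.2 ⟨⟨a, haJ⟩, ha⟩)
    (fun a b hab => disjoint_piece k fun h => hab (Subtype.ext h))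
  have hcomp : k' ≫ TwC.constMap S (fun a : {a // a ∈ J} => a.1) = k := by
    refine hom_ext_opens (fun a : {a // a ∈ J} => piece k a.1) (eq_top_iff.2 fun x _ => by
      obtain ⟨a, haJ, ha⟩ := Set.mem_iUnion₂.1 (hJ (Set.mem_univ x))
      exact TopologicalSpace.Opens.mem_iSup.2 ⟨⟨a, haJ⟩, ha⟩) fun a => ?_
    rw [← Category.assoc, openIncl_comp k' a _ (hk' a), Category.assoc, pt_constMap, openIncl_comp k a.1 _ le_rfl]
  haveI := isFinite_const (S := S) (I := {a // a ∈ J})
  haveI : IsSeparated (TwC.constMap S (fun a : {a // a ∈ J} => a.1)).left := by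
    have h := Over.w (TwC.constMap S (fun a : {a // a ∈ J} => a.1))
    haveI : IsSeparated ((TwC.constMap S (fun a : {a // a ∈ J} => a.1)).left ≫ (TwC.const S I).hom) := by
      rw [h]; infer_instance
    exact IsSeparated.of_comp _ (TwC.const S I).hom
  haveI : IsClosedImmersion (k'.left ≫ (TwC.constMap S (fun a : {a // a ∈ J} => a.1)).left) := by
    rw [← Over.comp_left, hcomp]
    exact inferInstanceAs (IsClosedImmersion z)
  haveI : IsClosedImmersion k'.left := IsClosedImmersion.of_comp _ (TwC.constMap S (fun a : {a // a ∈ J} => a.1)).left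
  show IsFinite T.hom
  rw [← Over.w k']
  infer_instance

/-- A closed subscheme of a constant scheme, quasi-compact over the base, is finite. -/
theorem isFinite_of_closed_const {I : Type u} {Z : Scheme.{u}} (z : Z ⟶ (TwC.const S I).left)
    [IsClosedImmersion z] [QuasiCompact (z ≫ (TwC.const S I).hom)] : IsFinite (z ≫ (TwC.const S I).hom) := by
  refine (IsZariskiLocalAtTarget.iff_of_openCover (P := @IsFinite) S.affineCover).2 fun j => ?_
  show IsFinite (pullback.snd (z ≫ (TwC.const S I).hom) (S.affineCover.f j))
  let k := S.affineCover.f j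
  let P := pullback (z ≫ (TwC.const S I).hom) k
  haveI : IsAffine (S.affineCover.X j) := inferInstance
  haveI : CompactSpace ↥P := QuasiCompact.compactSpace_of_compactSpace (pullback.snd (z ≫ (TwC.const S I).hom) k)
  let l : P ⟶ (Red.bc k (TwC.const S I)).left :=
    pullback.lift (pullback.fst _ _ ≫ z) (pullback.snd _ _) (by rw [Category.assoc, pullback.condition])
  have h2 : l ≫ pullback.snd (TwC.const S I).hom k = pullback.snd _ _ := pullback.lift_snd _ _ _
  have h3 : pullback.fst (z ≫ (TwC.const S I).hom) k ≫ z = l ≫ pullback.fst (TwC.const S I).hom k :=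
    (pullback.lift_fst _ _ _).symm
  have sql : IsPullback (pullback.fst (z ≫ (TwC.const S I).hom) k) l z (pullback.fst (TwC.const S I).hom k) :=
    IsPullback.of_bot (by rw [h2]; exact IsPullback.of_hasPullback (z ≫ (TwC.const S I).hom) k) h3
      (IsPullback.of_hasPullback (TwC.const S I).hom k)
  haveI : IsClosedImmersion l := MorphismProperty.of_isPullback sql ‹IsClosedImmersion z›
  let e := (constBC k I).hom
  haveI : IsIso e.left := (inferInstance : IsIso ((Over.forget _).map e))
  have h := isFinite_of_compact (l ≫ e.left)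
  rwa [Category.assoc, Over.w e, show l ≫ (Red.bc k (TwC.const S I)).hom = pullback.snd _ k from
    pullback.lift_snd _ _ _] at h

end Finite

end Groth.Agent.MTRigid29
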