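import Groth.Agent.Lib.MTRigid29.HomSplit
import Groth.Agent.Lib.MTRigid29.BaseChange
import Groth.Prelude.Def_Red2

/-!
# Duals of constant groups and of split groups; group laws on representing schemes of homomorphisms
-/

set_option autoImplicit false
set_option linter.style.haveILetI false
set_option linter.unusedSectionVars false
set_option backward.isDefEq.respectTransparency false
set_option backward.isDefEq.respectTransparency.types false
set_option maxSynthPendingDepth 3

universe u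

open CategoryTheory Limits MonoidalCategory CartesianMonoidalCategory MonObj AlgebraicGeometry Opposite

noncomputable section

namespace Groth.Agent.MTRigid29

open AutFam DiagGL

section Covers

variable {S : Scheme.{u}}

theorem exists_cover_of_etale {P : ∀ S' : Scheme.{u}, (S' ⟶ S) → Prop}
    (h : TwC.Locally S TwC.Topology.etale P) :
    ∃ (V : S → Scheme.{u}) (f : ∀ s, V s ⟶ S), Presieve.ofArrows V f ∈ Scheme.fpqcPrecoverage S ∧
      (∀ s, Etale (f s) ∧ Nonempty ↥(V s) ∧ P (V s) (f s)) ∧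
      ∀ Q : ∀ S' : Scheme.{u}, (S' ⟶ S) → Prop, (∀ s, Q (V s) (f s)) → TwC.Locally S TwC.Topology.etale Q := by
  choose V f hf hs hP using h
  refine ⟨V, f, Scheme.fppfPrecoverage_le_fpqcPrecoverage _ ?_, fun s => ⟨hf s, ⟨(hs s).choose⟩, hP s⟩,
    fun Q hQ s => ⟨V s, f s, hf s, hs s, hQ s⟩⟩
  refine (Scheme.ofArrows_mem_precoverage_iff _).2 ⟨fun s => ⟨s, hs s⟩, fun s => ?_⟩
  haveI := hf s
  exact ⟨inferInstance, inferInstance⟩

theorem exists_cover_of_fpqc {P : ∀ S' : Scheme.{u}, (S' ⟶ S) → Prop}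
    (h : TwC.Locally S TwC.Topology.fpqc P) :
    ∃ (κ : Type u) (V : κ → Scheme.{u}) (f : ∀ k, V k ⟶ S), Presieve.ofArrows V f ∈ Scheme.fpqcPrecoverage S ∧
      (∀ k, Flat (f k) ∧ Nonempty ↥(V k) ∧ P (V k) (f k)) ∧
      ∀ Q : ∀ S' : Scheme.{u}, (S' ⟶ S) → Prop, (∀ k, Q (V k) (f k)) → TwC.Locally S TwC.Topology.fpqc Q := by
  obtain ⟨S', π, hflat, hsurj, hcov, hloc⟩ := h
  haveI := hflat
  choose U hU hP using hloc
  refine ⟨S', fun s => (U s : Scheme.{u}), fun s => (U s).ι ≫ π, ?_, fun s => ⟨inferInstance, ⟨⟨s, hU s⟩⟩, hP s⟩,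
    fun Q hQ => ⟨S', π, hflat, hsurj, hcov, fun s => ⟨U s, hU s, hQ s⟩⟩⟩
  haveI := quasiCompactCover_singleton.{u} π hcov
  have h0 : Presieve.ofArrows (fun _ : PUnit.{u + 1} => S') (fun _ => π) ∈ Scheme.fpqcPrecoverage S := by
    rw [Presieve.ofArrows_pUnit]
    refine ⟨?_, (Scheme.singleton_mem_precoverage_iff _ π).2 ⟨π.surjective, ‹_›⟩⟩
    rw [← PreZeroHypercover.presieve₀_singleton, Scheme.presieve₀_mem_qcPrecoverage_iff]
    infer_instance
  have h1 : Presieve.ofArrows (fun s => (U s : Scheme.{u})) (fun s => (U s).ι) ∈ Scheme.fpqcPrecoverage S' :=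
    Scheme.zariskiPrecoverage_le_fpqcPrecoverage _
      ((Scheme.ofArrows_mem_precoverage_iff _).2 ⟨fun s => ⟨s, ⟨⟨s, hU s⟩, rfl⟩⟩, fun s => inferInstance⟩)
  have h2 := Precoverage.comp_mem_coverings (fun _ : PUnit.{u + 1} => π) h0
    (σ := fun _ => ↥S') (fun _ s => (U s).ι) (fun _ => h1)
  convert! h2 using 1
  refine le_antisymm ?_ ?_
  · rintro _ _ ⟨s⟩
    exact Presieve.ofArrows.mk (⟨PUnit.unit, s⟩ : Σ _ : PUnit.{u + 1}, ↥S')
  · rintro _ _ ⟨⟨_, s⟩⟩
    exact Presieve.ofArrows.mk s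

end Covers

section Rep

variable {S : Scheme.{u}}

/-- Multiplicativity of a family in its parameter. -/
def IsMulParam (G H : Over S) [GrpObj H] (A : Over S) [GrpObj A] (υ : G ⊗ A ⟶ H) : Prop :=
  ∀ (X : Over S) (g : X ⟶ G) (a b : X ⟶ A), lift g (a * b) ≫ υ = (lift g a ≫ υ) * (lift g b ≫ υ)

variable {G H : Over S} [GrpObj G] [GrpObj H] {A : Over S} {υ : G ⊗ A ⟶ H}

theorem rep_ext (h : RepresentsHom G H A υ) {T : Over S} {a b : T ⟶ A}
    (hab : ∀ (X : Over S) (g : X ⟶ G) (x : X ⟶ T), lift g (x ≫ a) ≫ υ = lift g (x ≫ b) ≫ υ) : a = b := by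
  refine (h.2 T _ (isHomFamily_comp b h.1)).unique ?_ rfl
  have := hab (G ⊗ T) (fst _ _) (snd _ _)
  rwa [show lift (fst G T) (snd G T ≫ a) = G ◁ a by ext <;> simp,
    show lift (fst G T) (snd G T ≫ b) = G ◁ b by ext <;> simp] at this

theorem mul_mul_mul_comm_of_comm {X : Over S} (hc : ∀ a b : X ⟶ H, a * b = b * a) (a b c d : X ⟶ H) :
    a * b * (c * d) = a * c * (b * d) := by
  rw [_root_.mul_assoc, ← _root_.mul_assoc b c d, hc b c, _root_.mul_assoc c b d, ← _root_.mul_assoc]

/-- The representing scheme of homomorphisms into a commutative group is a group. -/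
theorem exists_grpObj_rep (h : RepresentsHom G H A υ) (hc : ∀ (X : Over S) (a b : X ⟶ H), a * b = b * a) :
    ∃ _ : GrpObj A, IsMulParam G H A υ := by
  have hone : IsHomFamily G H (1 : G ⊗ 𝟙_ (Over S) ⟶ H) := fun X g₁ g₂ t => by
    rw [MonObj.comp_one, MonObj.comp_one, MonObj.comp_one, _root_.one_mul]
  obtain ⟨e, he, -⟩ := h.2 _ 1 hone
  have hmul : IsHomFamily G H (((G ◁ fst A A) ≫ υ) * ((G ◁ snd A A) ≫ υ)) := fun X g₁ g₂ t => by
    simp only [MonObj.comp_mul, lift_whiskerLeft_assoc]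
    rw [h.1, h.1]
    exact mul_mul_mul_comm_of_comm (hc X) _ _ _ _
  obtain ⟨m, hm, -⟩ := h.2 _ _ hmul
  have hinv : IsHomFamily G H υ⁻¹ := fun X g₁ g₂ t => by
    rw [GrpObj.comp_inv, GrpObj.comp_inv, GrpObj.comp_inv, h.1, mul_inv_rev]
    exact hc X _ _
  obtain ⟨i, hi, -⟩ := h.2 _ _ hinv
  have ev1 : ∀ {X : Over S} (g : X ⟶ G) (x : X ⟶ 𝟙_ (Over S)), lift g (x ≫ e) ≫ υ = 1 := fun g x => by
    rw [← lift_whiskerLeft_assoc, he, MonObj.comp_one]
  have evm : ∀ {X : Over S} (g : X ⟶ G) (x : X ⟶ A ⊗ A),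
      lift g (x ≫ m) ≫ υ = (lift g (x ≫ fst A A) ≫ υ) * (lift g (x ≫ snd A A) ≫ υ) := fun g x => by
    rw [← lift_whiskerLeft_assoc, hm, MonObj.comp_mul, lift_whiskerLeft_assoc, lift_whiskerLeft_assoc]
  have evi : ∀ {X : Over S} (g : X ⟶ G) (x : X ⟶ A), lift g (x ≫ i) ≫ υ = (lift g x ≫ υ)⁻¹ := fun g x => by
    rw [← lift_whiskerLeft_assoc, hi, GrpObj.comp_inv]
  letI inst : GrpObj A :=
    { one := e
      mul := m
      one_mul := rep_ext h fun X g x => by
        rw [← Category.assoc, evm, Category.assoc, Category.assoc, whiskerRight_fst, whiskerRight_snd,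
          ← Category.assoc x (fst (𝟙_ (Over S)) A) e, ev1, _root_.one_mul, leftUnitor_hom]
      mul_one := rep_ext h fun X g x => by
        rw [← Category.assoc, evm, Category.assoc, Category.assoc, whiskerLeft_fst, whiskerLeft_snd,
          ← Category.assoc x (snd A (𝟙_ (Over S))) e, ev1, _root_.mul_one, rightUnitor_hom]
      mul_assoc := rep_ext h fun X g x => by
        simp only [← Category.assoc]
        rw [evm, evm]
        simp only [Category.assoc, whiskerRight_fst, whiskerRight_snd, whiskerLeft_fst, whiskerLeft_snd,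
          associator_hom_fst, associator_hom_snd_fst, associator_hom_snd_snd]
        rw [← Category.assoc x (fst (A ⊗ A) A) m, evm]
        have hx : x ≫ (α_ A A A).hom ≫ snd A (A ⊗ A) ≫ m = (x ≫ (α_ A A A).hom ≫ snd A (A ⊗ A)) ≫ m := by
          simp only [Category.assoc]
        rw [hx, evm]
        simp only [Category.assoc, associator_hom_snd_fst, associator_hom_snd_snd, _root_.mul_assoc]
      inv := i
      left_inv := rep_ext h fun X g x => by
        rw [← Category.assoc, evm, Category.assoc, Category.assoc, lift_fst, lift_snd, evi, Category.comp_id,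
          inv_mul_cancel, ← Category.assoc, ev1]
      right_inv := rep_ext h fun X g x => by
        rw [← Category.assoc, evm, Category.assoc, Category.assoc, lift_fst, lift_snd, evi, Category.comp_id,
          mul_inv_cancel, ← Category.assoc, ev1] }
  refine ⟨inst, fun X g a b => ?_⟩
  show lift g (lift a b ≫ m) ≫ υ = _
  rw [evm, lift_fst, lift_snd]

/-- Group laws which make the universal families multiplicative agree. -/
theorem grpIso_of_representsHom [GrpObj A] (h : RepresentsHom G H A υ) (hA : IsMulParam G H A υ) {B : Over S}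
    [GrpObj B] {υ' : G ⊗ B ⟶ H} (h' : RepresentsHom G H B υ') (hB : IsMulParam G H B υ') :
    ∃ e : A ≅ B, IsMonHom e.hom ∧ (G ◁ e.hom) ≫ υ' = υ := by
  obtain ⟨e, he⟩ := representsHom_iso h h'
  refine ⟨e, TorsorSch25.isMonHom_of_points _ fun T a b => rep_ext h' fun X g x => ?_, he⟩
  have hev : ∀ (y : X ⟶ A), lift g (y ≫ e.hom) ≫ υ' = lift g y ≫ υ := fun y => by
    rw [← he, lift_whiskerLeft_assoc]
  rw [MonObj.comp_mul, ← Category.assoc, MonObj.comp_mul, hev, hA, hB, ← Category.assoc, ← Category.assoc, hev, hev]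

theorem isMulParam_bcFam [GrpObj A] (hA : IsMulParam G H A υ) {S' : Scheme.{u}} (f : S' ⟶ S) :
    IsMulParam (Red.bc f G) (Red.bc f H) (Red.bc f A) (bcFam f υ) := by
  intro X g a b
  refine fl_injective f H ?_
  rw [fl_mul, fl_lift_comp, fl_lift_comp, fl_lift_comp]
  simp only [bcFam, famUp_famDown, lift_whiskerLeft_assoc, map_lw_id]
  rw [show lw f A (a * b) = lw f A a * lw f A b from fl_mul f A a b]
  exact hA _ _ _ _

/-- Points of a group with characters commute. -/
theorem comm_of_chars {M : Type} [AddCommGroup M] (C : Chars M H) {X : Over S} (a b : X ⟶ H) : a * b = b * a :=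
  C.inj fun m => by rw [C.mul, C.mul, mul_comm]

end Rep

section Const

variable {S : Scheme.{u}} {G Z : Over S} [GrpObj G] [GrpObj Z] {M : Type} [CommGroup M]

/-- Two points of a group with characters `ℤ` are equal when their values at the generator are. -/
theorem chars_int_ext (C : Chars ℤ Z) {T : Over S} {a b : T ⟶ Z}
    (h : C.ch a (Multiplicative.ofAdd 1) = C.ch b (Multiplicative.ofAdd 1)) : a = b :=
  C.inj fun n => by rw [show C.ch a = C.ch b from MonoidHom.ext_mint h]

/-- The dual of a constant group is diagonalisable. -/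
theorem exists_representsHom_const (e : G ≅ TwC.const S M) (he : TwC.IsConstGrp M G e) (C : Chars ℤ Z) :
    ∃ υ : G ⊗ Red.DS S (Additive M) ⟶ Z,
      RepresentsHom G Z (Red.DS S (Additive M)) υ ∧ IsMulParam G Z (Red.DS S (Additive M)) υ := by
  let C₁ : Chars (Additive M) (Red.DS S (Additive M)) := charsDS S (Additive M)
  let ψ : M → (Red.DS S (Additive M) ⟶ Z) := fun m => mapChS C₁ C (zmultiplesHom (Additive M) (Additive.ofMul m))
  have hψ : ∀ {T : Over S} (t : T ⟶ Red.DS S (Additive M)) (m : M),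
      C.ch (t ≫ ψ m) (Multiplicative.ofAdd 1) = C₁.ch t (Multiplicative.ofAdd (Additive.ofMul m)) := fun t m => by
    rw [ch_mapChS]
    congr 1
    simp
  have hψmul : ∀ {T : Over S} (t : T ⟶ Red.DS S (Additive M)) (a b : M), t ≫ ψ (a * b) = (t ≫ ψ a) * (t ≫ ψ b) :=
    fun t a b => chars_int_ext C (by rw [C.mul, hψ, hψ, hψ, ofMul_mul, ofAdd_add, map_mul])
  let k₀ : G ⊗ Red.DS S (Additive M) ⟶ TwC.const S M := fst _ _ ≫ e.hom
  obtain ⟨υ, hυ⟩ := exists_glue_piece k₀ fun m => openIncl (piece k₀ m) ≫ snd _ _ ≫ ψ m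
  have hval : ∀ (X : Over S) (g : X ⟶ G) (t : X ⟶ Red.DS S (Additive M)) (m : M),
      (∀ z, z ∈ piece (g ≫ e.hom) m) → lift g t ≫ υ = t ≫ ψ m := by
    intro X g t m h
    have hr : Set.range (lift g t).left ⊆ Set.range (piece k₀ m).ι := by
      rintro _ ⟨w, rfl⟩
      rw [Scheme.Opens.range_ι]
      have hw := h w
      rw [show g ≫ e.hom = lift g t ≫ k₀ from (lift_fst_assoc _ _ _).symm, piece_comp] at hw
      exact hw
    let l : X ⟶ openOver (piece k₀ m) :=
      Over.homMk (IsOpenImmersion.lift (piece k₀ m).ι (lift g t).left hr) (by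
        show _ ≫ (piece k₀ m).ι ≫ _ = _
        rw [IsOpenImmersion.lift_fac_assoc, Over.w])
    have hl : l ≫ openIncl (piece k₀ m) = lift g t := Over.OverMorphism.ext (IsOpenImmersion.lift_fac _ _ hr)
    rw [← hl, Category.assoc, hυ, ← Category.assoc l, hl, lift_snd_assoc]
  let pm : ∀ (T : Over S), M → (T ⟶ G) := fun T m => toUnit T ≫ TwC.pt S M m ≫ e.inv
  have hpm : ∀ (T : Over S) (a b : M), pm T a * pm T b = pm T (a * b) := fun T a b => by
    simp only [pm]
    rw [← MonObj.comp_mul, he]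
  have hpiece : ∀ {T : Over S} (g : T ⟶ G) (m : M), (∀ z, z ∈ piece (g ≫ e.hom) m) → g = pm T m := by
    intro T g m h
    rw [← cancel_mono e.hom, eq_toUnit_pt _ m h]
    simp [pm]
  have hpiece' : ∀ (T : Over S) (m : M) (z : T.left), z ∈ piece (pm T m ≫ e.hom) m := fun T m z => by
    simp only [pm, Category.assoc, Iso.inv_hom_id, Category.comp_id]
    exact piece_toUnit_pt m z
  refine ⟨υ, ⟨fun X g₁ g₂ t => ?_, fun T φ hφ => ?_⟩, fun X g a b => ?_⟩
  · let U : M × M → X.left.Opens := fun p => piece (g₁ ≫ e.hom) p.1 ⊓ piece (g₂ ≫ e.hom) p.2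
    refine hom_ext_opens U (eq_top_iff.2 fun z _ => ?_) fun p => ?_
    · obtain ⟨a, ha⟩ := mem_piece_self (g₁ ≫ e.hom) z
      obtain ⟨b, hb⟩ := mem_piece_self (g₂ ≫ e.hom) z
      exact TopologicalSpace.Opens.mem_iSup.2 ⟨(a, b), ha, hb⟩
    · let i := openIncl (U p)
      have h₁ : i ≫ g₁ = pm _ p.1 := hpiece _ _ fun z => z.2.1
      have h₂ : i ≫ g₂ = pm _ p.2 := hpiece _ _ fun z => z.2.2
      show i ≫ _ = i ≫ _
      rw [MonObj.comp_mul, ← Category.assoc, ← Category.assoc, ← Category.assoc, comp_lift, comp_lift, comp_lift,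
        MonObj.comp_mul, h₁, h₂, hpm, hval _ _ _ _ (hpiece' _ _), hval _ _ _ _ (hpiece' _ _),
        hval _ _ _ _ (hpiece' _ _), hψmul]
  · let χ : M → (T ⟶ Z) := fun m => lift (pm T m) (𝟙 T) ≫ φ
    have hχ : ∀ a b, χ (a * b) = χ a * χ b := fun a b => by
      simp only [χ, ← hpm]
      exact hφ T _ _ _
    have hχ1 : χ 1 = 1 := by
      have h1 := hχ 1 1
      rw [_root_.one_mul (1 : M)] at h1
      exact mul_eq_left.1 h1.symm
    let c : Multiplicative (Additive M) →* Γ(T.left, ⊤) :=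
      { toFun := fun a => C.ch (χ a.toAdd.toMul) (Multiplicative.ofAdd 1)
        map_one' := by
          show C.ch (χ 1) _ = 1
          rw [hχ1, C.one]
        map_mul' := fun a b => by
          show C.ch (χ (a.toAdd.toMul * b.toAdd.toMul)) _ = _
          rw [hχ, C.mul] }
    obtain ⟨t, ht⟩ := C₁.surj c
    have hχt : ∀ m, t ≫ ψ m = χ m := fun m => chars_int_ext C (by rw [hψ, ht]; rfl)
    refine ⟨t, ?_, fun t' ht' => ?_⟩
    · refine hom_ext_piece (fst G T ≫ e.hom) fun m => ?_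
      let i := openIncl (piece (fst G T ≫ e.hom) m)
      have hg : i ≫ fst G T = pm _ m := hpiece _ _ fun z => z.2
      show i ≫ (G ◁ t) ≫ υ = i ≫ φ
      rw [show i = lift (i ≫ fst G T) (i ≫ snd G T) by ext <;> simp, hg, lift_whiskerLeft_assoc,
        hval _ _ _ _ (hpiece' _ _), Category.assoc, hχt]
      simp only [χ, ← Category.assoc, comp_lift, Category.comp_id, pm, comp_toUnit]
    · refine C₁.inj fun a => ?_
      have h' : lift (pm T a.toAdd.toMul) (𝟙 T) ≫ (G ◁ t') ≫ υ = χ a.toAdd.toMul := by rw [ht']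
      rw [lift_whiskerLeft_assoc, Category.id_comp, hval _ _ _ _ (hpiece' _ _), ← hχt] at h'
      have h'' := congrArg (fun y => C.ch y (Multiplicative.ofAdd 1)) h'
      simp only [hψ] at h''
      exact h''
  · refine hom_ext_piece (g ≫ e.hom) fun m => ?_
    let i := openIncl (piece (g ≫ e.hom) m)
    have hg : i ≫ g = pm _ m := hpiece _ _ fun z => z.2
    show i ≫ _ = i ≫ _
    rw [MonObj.comp_mul, ← Category.assoc, ← Category.assoc, ← Category.assoc, comp_lift, comp_lift, comp_lift,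
      MonObj.comp_mul, hg, hval _ _ _ _ (hpiece' _ _), hval _ _ _ _ (hpiece' _ _), hval _ _ _ _ (hpiece' _ _)]
    exact MonObj.mul_comp _ _ _

end Const

end Groth.Agent.MTRigid29
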