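import Groth.Agent.Lib.DiagGL.Chars
import Groth.Agent.Lib.MultType.Integral
import Groth.Agent.Lib.FpqcDesc.Basic
import Groth.Prelude.Def_TwC
import Mathlib.RingTheory.RingHom.Flat

/-!
# Affine models with an invariant integral of groups of multiplicative type
-/

set_option autoImplicit false
set_option linter.style.haveILetI false
set_option backward.isDefEq.respectTransparency.types false

universe u

open CategoryTheory Limits MonoidalCategory CartesianMonoidalCategory MonObj AlgebraicGeometry Opposite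
open scoped TensorProduct
open WithConv

noncomputable section

namespace Groth.Agent.MTRigid29

open DiagGL

variable {R : Type u} [CommRing R]

/-- Every point of an affine scheme with values in an algebra is an algebra map. -/
theorem exists_pt {B C : Type u} [CommRing B] [Algebra R B] [CommRing C] [Algebra R C]
    (f : CoactBr.sp R C ⟶ CoactBr.sp R B) : ∃ φ : B →ₐ[R] C, f = CoactBr.pt φ := by
  haveI : (algSpec (CommRingCat.of R)).Full := algSpec.instFull
  obtain ⟨φ, hφ⟩ := (algSpec (CommRingCat.of R)).map_surjective (X := op (CommAlgCat.of R C))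
    (Y := op (CommAlgCat.of R B)) f
  exact ⟨φ.unop.hom, hφ.symm⟩

/-- Algebra points as morphisms, multiplicatively. -/
def ptEquiv (A : Type u) [CommRing A] [Bialgebra R A] (C : Type u) [CommRing C] [Algebra R C] :
    WithConv (A →ₐ[R] C) ≃* (CoactBr.sp R C ⟶ CoactBr.sp R A) :=
  MulEquiv.mk (Equiv.ofBijective (fun f => CoactBr.pt f.ofConv)
    ⟨fun _ _ h => ofConv_injective (CoactBr.pt_injective h),
      fun g => (exists_pt g).elim fun φ hφ => ⟨toConv φ, hφ.symm⟩⟩)
    fun f g => map_mul Spec.mapMulEquiv f g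

theorem ptEquiv_apply {A : Type u} [CommRing A] [Bialgebra R A] {C : Type u} [CommRing C] [Algebra R C]
    (f : WithConv (A →ₐ[R] C)) : ptEquiv A C f = CoactBr.pt f.ofConv := rfl

/-- Two group objects with the same characters are isomorphic as schemes. -/
theorem nonempty_iso_of_chars {S : Scheme.{u}} {M : Type} [AddCommGroup M] {σ τ : Over S} [GrpObj σ] [GrpObj τ]
    (C : Chars M σ) (D : Chars M τ) : Nonempty (σ ≅ τ) := by
  obtain ⟨f, hf⟩ := D.surj (C.ch (𝟙 σ))
  obtain ⟨g, hg⟩ := C.surj (D.ch (𝟙 τ))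
  refine ⟨⟨f, g, C.inj fun a => ?_, D.inj fun a => ?_⟩⟩
  · rw [C.nat, hg, ← D.nat, Category.comp_id, hf]
  · rw [D.nat, hf, ← C.nat, Category.comp_id, hg]

section Universal

variable {T : Type u} [CommRing T] [Algebra R T]

/-- A `T`-algebra seen over `R`. -/
def spIso (X : Type u) [CommRing X] [Algebra R X] [Algebra T X] [IsScalarTower R T X] :
    (Over.map (Spec.map (CommRingCat.ofHom (algebraMap R T)))).obj (CoactBr.sp T X) ≅ CoactBr.sp R X :=
  Over.isoMk (Iso.refl _) (by
    show 𝟙 _ ≫ Spec.map (CommRingCat.ofHom (algebraMap R X)) =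
      Spec.map (CommRingCat.ofHom (algebraMap T X)) ≫ Spec.map (CommRingCat.ofHom (algebraMap R T))
    rw [Category.id_comp, ← Spec.map_comp, ← CommRingCat.ofHom_comp, ← IsScalarTower.algebraMap_eq])

variable {A : Type u} [CommRing A] [HopfAlgebra R A] {H : Over (Spec (CommRingCat.of R))} [GrpObj H]
  (e : Grp.mk (CoactBr.sp R A) ≅ Grp.mk H) {M : Type} [AddCommGroup M]
  (C0 : Chars M (Red.bc (Spec.map (CommRingCat.ofHom (algebraMap R T))) H))

/-- The point of the base change attached to an algebra map. -/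
def bcPt (X : Type u) [CommRing X] [Algebra R X] [Algebra T X] [IsScalarTower R T X]
    (f : WithConv (A →ₐ[R] X)) :
    CoactBr.sp T X ⟶ Red.bc (Spec.map (CommRingCat.ofHom (algebraMap R T))) H :=
  (Over.mapPullbackAdj _).homEquiv _ _ ((spIso X).hom ≫ ptEquiv A X f ≫ e.hom.hom.hom)

theorem fl_bcPt (X : Type u) [CommRing X] [Algebra R X] [Algebra T X] [IsScalarTower R T X]
    (f : WithConv (A →ₐ[R] X)) :
    fl _ H (bcPt (T := T) e X f) = (spIso X).hom ≫ ptEquiv A X f ≫ e.hom.hom.hom :=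
  Equiv.symm_apply_apply _ _

/-- The characters of a point of `A` with values in a `T`-algebra. -/
def chi (X : Type u) [CommRing X] [Algebra R X] [Algebra T X] [IsScalarTower R T X]
    (f : WithConv (A →ₐ[R] X)) : Multiplicative M →* X :=
  (Scheme.ΓSpecIso (CommRingCat.of X)).hom.hom.toMonoidHom.comp (C0.ch (bcPt (T := T) e X f))

theorem chi_mul (X : Type u) [CommRing X] [Algebra R X] [Algebra T X] [IsScalarTower R T X]
    (f g : WithConv (A →ₐ[R] X)) (m : Multiplicative M) :
    chi e C0 X (f * g) m = chi e C0 X f m * chi e C0 X g m := by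
  haveI : IsMonHom e.hom.hom.hom := e.hom.hom.isMonHom_hom
  have h : bcPt (T := T) e X (f * g) = bcPt e X f * bcPt e X g := fl_injective _ H (by
    rw [fl_mul, fl_bcPt, fl_bcPt, fl_bcPt, map_mul, MonObj.mul_comp, MonObj.comp_mul])
  show (Scheme.ΓSpecIso (CommRingCat.of X)).hom.hom (C0.ch (bcPt (T := T) e X (f * g)) m) = _
  rw [h, C0.mul]
  refine (map_mul (Scheme.ΓSpecIso (CommRingCat.of X)).hom.hom _ _).trans ?_
  rfl

theorem chi_bijective (X : Type u) [CommRing X] [Algebra R X] [Algebra T X] [IsScalarTower R T X] :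
    Function.Bijective (chi (T := T) e C0 X) := by
  have hb : Function.Bijective (bcPt (T := T) e X) := by
    refine ((Over.mapPullbackAdj _).homEquiv _ _).bijective.comp ⟨fun f g h => ?_, fun q => ?_⟩
    · exact (ptEquiv A X).injective ((cancel_mono e.hom.hom.hom).1 ((cancel_epi (spIso X).hom).1 h))
    · obtain ⟨f, hf⟩ := (ptEquiv A X).surjective ((spIso X).inv ≫ q ≫ e.inv.hom.hom)
      refine ⟨f, ?_⟩
      show (spIso X).hom ≫ ptEquiv A X f ≫ e.hom.hom.hom = q
      rw [hf, Category.assoc, Category.assoc, Iso.hom_inv_id_assoc, ← Mon.comp_hom', ← Grp.comp', e.inv_hom_id]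
      exact Category.comp_id q
  have hΓ := (ConcreteCategory.bijective_of_isIso (Scheme.ΓSpecIso (CommRingCat.of X)).hom)
  refine Function.Bijective.comp ⟨fun c c' h => MonoidHom.ext fun m => hΓ.1 (DFunLike.congr_fun h m), fun c => ?_⟩
    (Function.Bijective.comp ⟨fun x y h => C0.inj fun m => DFunLike.congr_fun h m, fun c => C0.surj c⟩ hb)
  exact ⟨(Scheme.ΓSpecIso (CommRingCat.of X)).inv.hom.toMonoidHom.comp c,
    MonoidHom.ext fun m => ConcreteCategory.congr_hom (Scheme.ΓSpecIso (CommRingCat.of X)).inv_hom_id (c m)⟩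

theorem chi_nat {X X' : Type u} [CommRing X] [Algebra R X] [Algebra T X] [IsScalarTower R T X]
    [CommRing X'] [Algebra R X'] [Algebra T X'] [IsScalarTower R T X']
    (h : X →ₐ[T] X') (f : WithConv (A →ₐ[R] X)) (m : Multiplicative M) :
    chi e C0 X' (MultTypeLib.postComp (h.restrictScalars R) f) m = h (chi e C0 X f m) := by
  have hpt : bcPt (T := T) e X' (MultTypeLib.postComp (h.restrictScalars R) f) = CoactBr.pt h ≫ bcPt e X f := by
    refine fl_injective _ H ?_
    rw [fl_comp, fl_bcPt, fl_bcPt, MultTypeLib.postComp_apply, ptEquiv_apply, ptEquiv_apply, ofConv_toConv,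
      CoactBr.pt_comp, Category.assoc, ← Category.assoc (spIso X').hom, ← Category.assoc ((Over.map _).map _)]
    congr 1
  show (Scheme.ΓSpecIso (CommRingCat.of X')).hom.hom (C0.ch (bcPt (T := T) e X' (MultTypeLib.postComp (h.restrictScalars R) f)) m) = _
  rw [hpt, C0.nat]
  exact ConcreteCategory.congr_hom (Scheme.ΓSpecIso_naturality (CommRingCat.ofHom h.toRingHom))
    (C0.ch (bcPt (T := T) e X f) m)

theorem chi_one (X : Type u) [CommRing X] [Algebra R X] [Algebra T X] [IsScalarTower R T X]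
    (m : Multiplicative M) : chi (T := T) e C0 X 1 m = 1 := by
  haveI : IsMonHom e.hom.hom.hom := e.hom.hom.isMonHom_hom
  have h : bcPt (T := T) e X 1 = 1 := by
    have h2 : bcPt (T := T) e X 1 * bcPt e X 1 = bcPt e X 1 := fl_injective _ H (by
      rw [fl_mul, fl_bcPt, ← MonObj.comp_mul, ← MonObj.mul_comp, ← map_mul, _root_.one_mul])
    exact mul_eq_left.1 h2
  show (Scheme.ΓSpecIso (CommRingCat.of X)).hom.hom (C0.ch (bcPt (T := T) e X 1) m) = 1
  rw [h, C0.one]
  exact map_one (Scheme.ΓSpecIso (CommRingCat.of X)).hom.hom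

include e C0 in
theorem nonempty_bialgEquiv :
    Nonempty (T ⊗[R] A ≃ₐc[T] MonoidAlgebra T (Multiplicative M)) := by
  let B := MonoidAlgebra T (Multiplicative M)
  let C := T ⊗[R] A
  obtain ⟨x0, hx0⟩ := (chi_bijective e C0 B).2 (MonoidAlgebra.of T (Multiplicative M))
  let inR : WithConv (A →ₐ[R] C) := toConv Algebra.TensorProduct.includeRight
  let φ : C →ₐ[T] B := Algebra.TensorProduct.lift (Algebra.ofId T B) x0.ofConv fun _ _ => .all _ _
  let ψ : B →ₐ[T] C := MonoidAlgebra.lift T C _ (chi e C0 C inR)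
  have hφ1 : ∀ a, φ (1 ⊗ₜ[R] a) = x0.ofConv a := fun a =>
    (Algebra.TensorProduct.lift_tmul _ _ _ _ _).trans (by rw [map_one, _root_.one_mul])
  have hφ : MultTypeLib.postComp (φ.restrictScalars R) inR = x0 :=
    ofConv_injective (AlgHom.ext fun a => hφ1 a)
  have hφψ : φ.comp ψ = AlgHom.id T B :=
    (MonoidAlgebra.lift T B (Multiplicative M)).symm.injective (MonoidHom.ext fun m => by
      show φ (ψ (MonoidAlgebra.of T _ m)) = MonoidAlgebra.of T _ m
      rw [MonoidAlgebra.lift_of, ← chi_nat, hφ, hx0])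
  have hψ : MultTypeLib.postComp (ψ.restrictScalars R) x0 = inR := (chi_bijective e C0 C).1 (MonoidHom.ext fun m => by
    rw [chi_nat, hx0, MonoidAlgebra.lift_of])
  have hψφ : ψ.comp φ = AlgHom.id T C := Algebra.TensorProduct.ext (Subsingleton.elim _ _) (AlgHom.ext fun a => by
    show ψ (φ (1 ⊗ₜ[R] a)) = (1 : T) ⊗ₜ[R] a
    rw [hφ1 a]
    exact DFunLike.congr_fun (congrArg WithConv.ofConv hψ) a)
  let E : C ≃ₐ[T] B := AlgEquiv.ofAlgHom φ ψ hφψ hψφ
  refine ⟨BialgEquiv.ofAlgEquiv E ?_ ?_⟩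
  · refine Algebra.TensorProduct.ext (Subsingleton.elim _ _) (AlgHom.ext fun a => ?_)
    have h1 : MultTypeLib.postComp ((Bialgebra.counitAlgHom T B).restrictScalars R) x0 =
        (1 : WithConv (A →ₐ[R] T)) := (chi_bijective e C0 T).1 (MonoidHom.ext fun m => by
      rw [chi_nat, hx0, chi_one, MonoidAlgebra.of_apply]
      exact (MonoidAlgebra.counit_single _ _).trans (by simp))
    refine (congrArg (Bialgebra.counitAlgHom T B) (hφ1 a)).trans ?_
    refine (DFunLike.congr_fun (congrArg WithConv.ofConv h1) a).trans ?_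
    show algebraMap R T (Coalgebra.counit (R := R) a) = _
    simp [Algebra.smul_def]
  · refine Algebra.TensorProduct.ext (Subsingleton.elim _ _) (AlgHom.ext fun a => ?_)
    let i1 : B →ₐ[T] B ⊗[T] B := Algebra.TensorProduct.includeLeft
    let i2 : B →ₐ[T] B ⊗[T] B := Algebra.TensorProduct.includeRight
    have h1 : MultTypeLib.postComp ((Bialgebra.comulAlgHom T B).restrictScalars R) x0 =
        MultTypeLib.postComp (i1.restrictScalars R) x0 * MultTypeLib.postComp (i2.restrictScalars R) x0 :=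
      (chi_bijective e C0 (B ⊗[T] B)).1 (MonoidHom.ext fun m => by
        rw [chi_mul, chi_nat, chi_nat, chi_nat, hx0, MonoidAlgebra.of_apply]
        exact (MonoidAlgebra.comul_single _ _).trans (by simp [i1, i2, MonoidAlgebra.of_apply]))
    have h2 := DFunLike.congr_fun (congrArg WithConv.ofConv h1) a
    show Algebra.TensorProduct.map φ φ (Coalgebra.comul (R := T) ((1 : T) ⊗ₜ[R] a)) =
      Coalgebra.comul (R := T) (φ (1 ⊗ₜ[R] a))
    rw [hφ1 a]
    have hΔ : Coalgebra.comul (R := T) ((1 : T) ⊗ₜ[R] a) =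
        ∑ x ∈ (Coalgebra.Repr.arbitrary R a).index, ((1 : T) ⊗ₜ[R] (Coalgebra.Repr.arbitrary R a).left x) ⊗ₜ[T]
          ((1 : T) ⊗ₜ[R] (Coalgebra.Repr.arbitrary R a).right x) := by
      simp [← (Coalgebra.Repr.arbitrary R a).eq, TensorProduct.tmul_sum]
    refine Eq.trans ?_ h2.symm
    rw [hΔ, map_sum, AlgHom.convMul_apply, ← (Coalgebra.Repr.arbitrary R a).eq]
    simp [hφ1, MultTypeLib.postComp_apply, i1, i2]

include e C0 in
theorem exists_isInt_algebra : ∃ j : A →ₗ[R] T, MultTypeLib.IsInt j := by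
  obtain ⟨E⟩ := nonempty_bialgEquiv e C0
  exact ⟨_, ((MultTypeLib.isInt_coeffOne T (Multiplicative M)).comp_equiv E).of_baseChange⟩

end Universal

section Factor

variable {S P P' Q : Scheme.{u}} {a : P ⟶ S} {b : P' ⟶ P} {k : P' ⟶ Q} {g : Q ⟶ S} (w : k ≫ g = b ≫ a)

/-- Two ways to view an object over the base. -/
def mapIso (T : Over P') : (Over.map a).obj ((Over.map b).obj T) ≅ (Over.map g).obj ((Over.map k).obj T) :=
  Over.isoMk (Iso.refl _) (by simp [w])

theorem mapIso_nat {T T' : Over P'} (t : T' ⟶ T) :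
    (mapIso w T').hom ≫ (Over.map g).map ((Over.map k).map t) =
      (Over.map a).map ((Over.map b).map t) ≫ (mapIso w T).hom := by
  ext
  exact (Category.id_comp _).trans (Category.comp_id _).symm

variable (H : Over S) [GrpObj H]

/-- A point of the two step base change as a point of the direct one. -/
def factorPt (T : Over P') (x : T ⟶ Red.bc k (Red.bc g H)) : (Over.map b).obj T ⟶ Red.bc a H :=
  (Over.mapPullbackAdj a).homEquiv _ _ ((mapIso w T).hom ≫ fl g H (fl k _ x))

theorem fl_factorPt (T : Over P') (x : T ⟶ Red.bc k (Red.bc g H)) :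
    fl a H (factorPt w H T x) = (mapIso w T).hom ≫ fl g H (fl k _ x) :=
  Equiv.symm_apply_apply _ _

/-- Characters of a base change in two steps. -/
def charsFactor {M : Type} [AddCommGroup M] (C : Chars M (Red.bc a H)) : Chars M (Red.bc k (Red.bc g H)) where
  ch {T} x := C.ch (factorPt w H T x)
  nat {T T'} t x m := by
    rw [show factorPt w H T' (t ≫ x) = (Over.map b).map t ≫ factorPt w H T x from fl_injective a H (by
      rw [fl_comp, fl_factorPt, fl_factorPt, fl_comp, fl_comp, ← Category.assoc, mapIso_nat, Category.assoc]), C.nat]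
    rfl
  mul {T} x y m := by
    rw [show factorPt w H T (x * y) = factorPt w H T x * factorPt w H T y from fl_injective a H (by
      rw [fl_mul, fl_factorPt, fl_factorPt, fl_factorPt, fl_mul, fl_mul, MonObj.comp_mul]), C.mul]
  inj {T x y} h := by
    have h' := congrArg (fl a H) (C.inj h)
    rw [fl_factorPt, fl_factorPt] at h'
    exact fl_injective k _ (fl_injective g H ((cancel_epi _).1 h'))
  surj {T} c := by
    obtain ⟨x, hx⟩ := C.surj (T := (Over.map b).obj T) c
    obtain ⟨y, hy⟩ := fl_surjective g H ((mapIso w T).inv ≫ fl a H x)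
    obtain ⟨z, rfl⟩ := fl_surjective k _ y
    refine ⟨z, ?_⟩
    rw [show factorPt w H T z = x from fl_injective a H (by rw [fl_factorPt, hy, Iso.hom_inv_id_assoc])]
    exact hx

end Factor

theorem isAffineHom_of_chars {S : Scheme.{u}} {M : Type} [AddCommGroup M] {σ : Over S} [GrpObj σ]
    (C : Chars M σ) : IsAffineHom σ.hom := by
  obtain ⟨i⟩ := nonempty_iso_of_chars C (charsDS S M)
  haveI : IsAffineHom (Red.diag (ULift.{u} ℤ) M).hom := inferInstanceAs (IsAffineHom (Spec.map _))
  haveI : IsAffineHom (Red.DS S M).hom := MorphismProperty.pullback_snd _ _ inferInstance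
  rw [← Over.w i.hom]
  infer_instance

/-- The hypothesis of being of multiplicative type. -/
abbrev IsMT {S : Scheme.{u}} (H : Over S) [GrpObj H] : Prop :=
  TwC.Locally S TwC.Topology.fpqc (fun S' f => ∃ (M : Type) (_ : AddCommGroup M),
    Nonempty (Grp.mk (Red.bc f H) ≅ Grp.mk (Red.DS S' M)))

/-- Finitely many affine flat charts over an affine piece of the base. -/
theorem exists_charts {S : Scheme.{u}} {H : Over S} [GrpObj H] (hH : IsMT H) (g : Spec (CommRingCat.of R) ⟶ S)
    [IsOpenImmersion g] :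
    ∃ (J : Type u) (_ : Finite J) (T : J → Type u) (_ : ∀ i, CommRing (T i)) (_ : ∀ i, Algebra R (T i)),
      (∀ i, Module.Flat R (T i)) ∧
      (∀ q : PrimeSpectrum R, ∃ i, q ∈ Set.range (PrimeSpectrum.comap (algebraMap R (T i)))) ∧
      ∀ i, ∃ (M : Type) (_ : AddCommGroup M),
        Nonempty (Chars M (Red.bc (Spec.map (CommRingCat.ofHom (algebraMap R (T i)))) (Red.bc g H))) := by
  obtain ⟨S', f, _, _, hqc, hloc⟩ := hH
  obtain ⟨W, hWc, hW⟩ := hqc g.opensRange (isAffineOpen_opensRange g)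
  choose U hU hP using hloc
  have hnhd : ∀ s : W, ∃ O : S'.Opens, IsAffineOpen O ∧ (s : S') ∈ O ∧ O ≤ W ⊓ U s := fun s => by
    obtain ⟨O, hO, hsO, hle⟩ := exists_isAffineOpen_mem_and_subset (x := (s : S')) (U := W ⊓ U s) ⟨s.2, hU s⟩
    exact ⟨O, hO, hsO, hle⟩
  choose O hO hmem hle using hnhd
  obtain ⟨t, ht⟩ := hWc.elim_finite_subcover (fun s : W => (O s : Set S')) (fun s => (O s).2)
    fun s hs => Set.mem_iUnion.2 ⟨⟨s, hs⟩, hmem _⟩
  have hfac : ∀ s : W, Set.range ((hO s).fromSpec ≫ f) ⊆ Set.range g := fun s => by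
    rintro _ ⟨z, rfl⟩
    have : f ((hO s).fromSpec z) ∈ f '' (W : Set S') :=
      Set.mem_image_of_mem _ ((hle s).trans inf_le_left (show (hO s).fromSpec z ∈ (O s : Set S') from (hO s).range_fromSpec.subset (Set.mem_range_self z)))
    rw [hW] at this
    exact this
  let k := fun s : W => IsOpenImmersion.lift g ((hO s).fromSpec ≫ f) (hfac s)
  have hk : ∀ s, k s ≫ g = (hO s).fromSpec ≫ f := fun s => IsOpenImmersion.lift_fac _ _ _
  let ψ := fun s : W => (Spec.preimage (k s)).hom
  have hψ : ∀ s, Spec.map (CommRingCat.ofHom (ψ s)) = k s := fun s => by simp [ψ]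
  refine ⟨t, inferInstance, fun i => Γ(S', O i), fun _ => inferInstance, fun i => (ψ i).toAlgebra,
    fun i => ?_, fun q => ?_, fun i => ?_⟩
  · haveI : Flat (k i ≫ g) := by rw [hk]; infer_instance
    haveI : Flat (k i) := MorphismProperty.of_isPullback (P := @Flat)
      (IsPullback.of_horiz_isIso_mono (fst := 𝟙 _) (snd := k i) (f := k i ≫ g) (g := g) ⟨by simp⟩) ‹_›
    have h : Flat (Spec.map (CommRingCat.ofHom (ψ i))) := by rw [hψ]; infer_instance
    exact (HasRingHomProperty.Spec_iff (P := @Flat)).1 h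
  · obtain ⟨s, hs, hfs⟩ : g q ∈ f '' (W : Set S') := by rw [hW]; exact ⟨q, rfl⟩
    obtain ⟨i, hi, hsi⟩ := Set.mem_iUnion₂.1 (ht hs)
    obtain ⟨z, rfl⟩ : s ∈ Set.range (hO i).fromSpec := (hO i).range_fromSpec.symm ▸ hsi
    refine ⟨⟨i, hi⟩, z, g.isOpenEmbedding.injective ?_⟩
    show g (Spec.map (CommRingCat.ofHom (ψ i)) z) = g q
    rw [hψ, ← Scheme.Hom.comp_apply, hk, ← hfs]
    rfl
  · obtain ⟨M, _, ⟨e⟩⟩ := hP (i : W)
    refine ⟨M, inferInstance, ⟨?_⟩⟩
    have hj : Set.range (hO i).fromSpec ⊆ Set.range (U (i : W)).ι := by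
      rw [(hO i).range_fromSpec, Scheme.Opens.range_ι]
      exact (hle i).trans inf_le_right
    refine charsFactor (b := IsOpenImmersion.lift _ _ hj) ?_ H ((charsDS _ M).transport e)
    show Spec.map (CommRingCat.ofHom (ψ i)) ≫ g = _
    rw [hψ, hk, IsOpenImmersion.lift_fac_assoc]

theorem isAffine_bc {S : Scheme.{u}} {H : Over S} [GrpObj H] (hH : IsMT H) (g : Spec (CommRingCat.of R) ⟶ S)
    [IsOpenImmersion g] : IsAffine (Red.bc g H).left := by
  obtain ⟨J, _, T, _, _, hflat, hcov, hC⟩ := exists_charts hH g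
  let q : (∐ fun i => Spec (CommRingCat.of (T i))) ⟶ Spec (CommRingCat.of R) :=
    Sigma.desc fun i => Spec.map (CommRingCat.ofHom (algebraMap R (T i)))
  haveI : ∀ i, Flat (Spec.map (CommRingCat.ofHom (algebraMap R (T i)))) := fun i =>
    (HasRingHomProperty.Spec_iff (P := @Flat)).2 (RingHom.flat_algebraMap_iff.2 (hflat i))
  have hflatq : Flat q := IsZariskiLocalAtSource.sigmaDesc inferInstance
  have hqcq : QuasiCompact q := (quasiCompact_iff_compactSpace q).2 inferInstance
  have hsurj : Surjective q := ⟨fun x => by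
    obtain ⟨i, z, hz⟩ := hcov x
    exact ⟨Sigma.ι (fun i => Spec (CommRingCat.of (T i))) i z, by
      rw [← Scheme.Hom.comp_apply, Sigma.ι_desc]; exact hz⟩⟩
  have hq : (@Surjective ⊓ @Flat ⊓ @QuasiCompact : MorphismProperty Scheme.{u}) q := ⟨⟨hsurj, hflatq⟩, hqcq⟩
  have := FpqcDesc.descendsAlong_isAffineHom.{u}
  haveI : IsAffineHom (Red.bc g H).hom := by
    refine MorphismProperty.of_pullback_fst_of_descendsAlong (P := @IsAffineHom) (f := q) hq ?_
    refine (IsZariskiLocalAtTarget.iff_of_openCover (P := @IsAffineHom) (sigmaOpenCover _)).2 fun i => ?_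
    obtain ⟨M, _, ⟨C⟩⟩ := hC i
    have h1 : IsAffineHom (pullback.snd (Red.bc g H).hom (Spec.map (CommRingCat.ofHom (algebraMap R (T i))))) :=
      isAffineHom_of_chars C
    have e1 : IsPullback (pullback.fst (Red.bc g H).hom (Spec.map (CommRingCat.ofHom (algebraMap R (T i)))))
        (pullback.snd _ _) (Red.bc g H).hom (Sigma.ι (fun i => Spec (CommRingCat.of (T i))) i ≫ q) := by
      rw [Sigma.ι_desc]
      exact IsPullback.of_hasPullback _ _
    have e2 := (IsPullback.of_hasPullback (pullback.fst q (Red.bc g H).hom)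
      (Sigma.ι (fun i => Spec (CommRingCat.of (T i))) i)).paste_horiz (IsPullback.of_hasPullback q (Red.bc g H).hom).flip
    have e3 := e1.isoIsPullback_hom_snd _ _ e2
    show IsAffineHom (pullback.snd (pullback.fst q (Red.bc g H).hom) (Sigma.ι (fun i => Spec (CommRingCat.of (T i))) i))
    rw [← e3] at h1
    exact (MorphismProperty.cancel_left_of_respectsIso @IsAffineHom _ _).1 h1
  exact isAffine_of_isAffineHom (Red.bc g H).hom

/-- An affine model with an invariant integral. -/
theorem exists_model {S : Scheme.{u}} {H : Over S} [GrpObj H] (hH : IsMT H) (g : Spec (CommRingCat.of R) ⟶ S)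
    [IsOpenImmersion g] :
    ∃ (A : Type u) (_ : CommRing A) (_ : HopfAlgebra R A) (j : A →ₗ[R] R),
      MultTypeLib.IsInt j ∧ Nonempty (Grp.mk (CoactBr.sp R A) ≅ Grp.mk (Red.bc g H)) := by
  haveI := isAffine_bc hH g
  obtain ⟨⟨A⟩, ⟨e⟩⟩ := (essImage_hopfSpec (G := Grp.mk (Red.bc g H))).2 ‹_›
  let e' : Grp.mk (CoactBr.sp R A.X) ≅ Grp.mk (Red.bc g H) := e
  obtain ⟨J, _, T, _, _, hflat, hcov, hC⟩ := exists_charts hH g
  have hj : ∀ i, ∃ j : A.X →ₗ[R] T i, MultTypeLib.IsInt j := fun i => by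
    obtain ⟨M, _, ⟨C⟩⟩ := hC i
    exact exists_isInt_algebra e' C
  choose j hj using hj
  haveI := hflat
  haveI := MultTypeLib.faithfullyFlat_pi (R := R) T hcov
  obtain ⟨j₀, hj₀⟩ := (MultTypeLib.IsInt.pi hj).descend
  exact ⟨A.X, A.commRing, A.hopfAlgebra, j₀, hj₀, ⟨e'⟩⟩

end Groth.Agent.MTRigid29
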