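import Groth.Agent.Lib.MTRigid29.NormalCentral
import Groth.Agent.Lib.MTRigid29.CentralizerNormalizer

/-!
# Extensions of groups with connected fibres by groups of multiplicative type are central
-/

set_option autoImplicit false
set_option linter.style.haveILetI false
set_option backward.isDefEq.respectTransparency.types false
set_option maxSynthPendingDepth 3

universe u

open CategoryTheory Limits MonoidalCategory CartesianMonoidalCategory MonObj AlgebraicGeometry Opposite

noncomputable section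

namespace Groth.Agent.MTRigid29

open DiagGL

variable {S : Scheme.{u}}

/-- Points over `f` commute with the subgroup. -/
def CommAt {K H : Over S} [GrpObj K] (i : H ⟶ K) {T₀ : Scheme.{u}} (f : T₀ ⟶ K.left) : Prop :=
  ∀ (W : Over S) (t : W.left ⟶ T₀) (k : W ⟶ K), k.left = t ≫ f → ∀ h : W ⟶ H, k * (h ≫ i) = (h ≫ i) * k

/-- The points commuting with a normal subgroup of multiplicative type form an open and closed set. -/
theorem exists_commute_locus {K H : Over S} [GrpObj K] [GrpObj H] (i : H ⟶ K) [IsMonHom i] [Mono i]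
    (hH : SGA3x.IsMultTypeFT H) (hn : AlgGrp.IsNormalHom i) :
    ∃ U : Set K.left, IsClopen U ∧ (∀ s : S, (1 : 𝟙_ (Over S) ⟶ K).left s ∈ U) ∧
      (∀ {T₀ : Scheme.{u}} (f : T₀ ⟶ K.left) (x : K.left), (∀ z, f z = x) → x ∈ U → CommAt i f) ∧
      (∀ (L : Type u) [Field L] (f : Spec (CommRingCat.of L) ⟶ K.left),
        CommAt i f → f (IsLocalRing.closedPoint L) ∈ U) ∧
      (U = Set.univ → ∀ (X : Over S) (k : X ⟶ K) (h : X ⟶ H), k * (h ≫ i) = (h ≫ i) * k) := by
  let f : K.left ⟶ S := K.hom
  let HK := Red.bc f H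
  -- the universal conjugation
  let kY : ∀ (Y : Over K.left), (Over.map f).obj Y ⟶ K := fun Y => Over.homMk Y.hom rfl
  obtain ⟨n, hn'⟩ := hn _ (kY HK) (fl f H (𝟙 HK))
  let α : HK ⟶ HK := (Over.mapPullbackAdj f).homEquiv _ _ n
  have hα : ∀ (Y : Over K.left) (y : Y ⟶ HK),
      fl f H (y ≫ α) ≫ i = kY Y * (fl f H y ≫ i) * (kY Y)⁻¹ := by
    intro Y y
    have h1 : fl f H y = (Over.map f).map y ≫ fl f H (𝟙 HK) := by rw [← fl_comp, Category.comp_id]
    have h2 : kY Y = (Over.map f).map y ≫ kY HK := Over.OverMorphism.ext (Over.w y).symm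
    rw [fl_comp, show fl f H α = n from Equiv.symm_apply_apply _ _, Category.assoc, ← hn', h1, h2]
    simp only [MonObj.comp_mul, GrpObj.comp_inv, Category.assoc]
  have hα1 : ∀ (Y : Over K.left) (a b : Y ⟶ HK), (a * b) ≫ α = (a ≫ α) * (b ≫ α) := fun Y a b =>
    fl_injective f H ((cancel_mono i).1 (by
      rw [hα, fl_mul, fl_mul, MonObj.mul_comp, MonObj.mul_comp, hα, hα]
      group))
  let v : HK ⟶ HK := α * (𝟙 HK)⁻¹
  have hHK := isMultTypeFT_bc hH f
  haveI : IsMonHom v := TorsorSch25.isMonHom_of_points v fun Y a b => by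
    simp only [v, MonObj.comp_mul, GrpObj.comp_inv, Category.comp_id, hα1, mul_inv_rev]
    have hc : ∀ p q : Y ⟶ HK, p * q = q * p := fun p q => commute_of_isMultTypeFT hHK p q
    calc (a ≫ α) * (b ≫ α) * (b⁻¹ * a⁻¹) = (a ≫ α) * (((b ≫ α) * b⁻¹) * a⁻¹) := by group
      _ = (a ≫ α) * (a⁻¹ * ((b ≫ α) * b⁻¹)) := by rw [hc ((b ≫ α) * b⁻¹) a⁻¹]
      _ = (a ≫ α) * a⁻¹ * ((b ≫ α) * b⁻¹) := by group
  haveI := isAffineHom_of_isMultTypeFT hHK
  haveI := locallyOfFiniteType_of_isMultTypeFT hHK
  obtain ⟨U, hUc, hU, hUt⟩ := exists_triv_locus v hHK (.inr inferInstance)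
  -- the unit section lies in the locus
  let e : S ⟶ K.left := (1 : 𝟙_ (Over S) ⟶ K).left
  have he : e ≫ f = 𝟙 S := Over.w (1 : 𝟙_ (Over S) ⟶ K)
  have het : Triv v e := by
    intro T y
    have hk : kY ((Over.map e).obj T) = 1 := by
      refine Over.OverMorphism.ext ?_
      rw [← MonObj.comp_one (toUnit ((Over.map f).obj ((Over.map e).obj T)))]
      show T.hom ≫ e = _ ≫ e
      congr 1
      have := Over.w (toUnit ((Over.map f).obj ((Over.map e).obj T)))
      exact ((Category.comp_id _).symm.trans (congrArg (T.hom ≫ ·) he.symm)).trans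
        ((Category.assoc _ _ _).symm.trans (this.symm.trans (Category.comp_id _)))
    simp only [v, MonObj.comp_mul, GrpObj.comp_inv, Category.comp_id, mul_inv_eq_one]
    exact fl_injective f H ((cancel_mono i).1 (by rw [hα, hk, _root_.one_mul, inv_one, _root_.mul_one]))
  have heU : ∀ s, e s ∈ U := by
    intro s
    rw [hU]
    haveI : IsImmersion (e ≫ f) := by rw [he]; infer_instance
    haveI : IsImmersion e := IsImmersion.of_comp e f
    haveI : IsIso (e.residueFieldMap s) := by
      refine (ConcreteCategory.isIso_iff_bijective (e.residueFieldMap s)).2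
        ⟨(e.residueFieldMap s).hom.injective, ?_⟩
      have h1 : Function.Surjective (e.stalkMap s ≫ S.residue s) := by
        simp only [CommRingCat.hom_comp, RingHom.coe_comp]
        exact (Scheme.residue_surjective _ _).comp (e.stalkMap_surjective s)
      rw [← Scheme.residue_residueFieldMap] at h1
      exact Function.Surjective.of_comp (g := ⇑(K.left.residue (e s)).hom) h1
    have h2 := triv_comp v het (S.fromSpecResidueField s)
    rw [← Scheme.Hom.SpecMap_residueFieldMap_fromSpecResidueField] at h2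
    have h3 := triv_comp v h2 (inv (Spec.map (e.residueFieldMap s)))
    rwa [IsIso.inv_hom_id_assoc] at h3
  -- commutation on points
  have hpt : ∀ {T₀ : Scheme.{u}} (q : T₀ ⟶ K.left), Triv v q ↔ CommAt i q := by
    intro T₀ q
    constructor
    · intro hq W t k hk h
      let Z : Over T₀ := Over.mk t
      let j : (Over.map f).obj ((Over.map q).obj Z) ≅ W := Over.isoMk (Iso.refl _) (by
        show 𝟙 _ ≫ W.hom = (t ≫ q) ≫ f
        rw [Category.id_comp, ← hk]
        exact (Over.w k).symm)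
      obtain ⟨y, hy⟩ := fl_surjective f H (j.hom ≫ h)
      have h0 := hq Z y
      simp only [v, MonObj.comp_mul, GrpObj.comp_inv, Category.comp_id, mul_inv_eq_one] at h0
      have h1 := hα _ y
      rw [h0, hy, show kY ((Over.map q).obj Z) = j.hom ≫ k from
        Over.OverMorphism.ext (hk.symm.trans (Category.id_comp _).symm)] at h1
      rw [← cancel_epi j.hom, MonObj.comp_mul, MonObj.comp_mul, ← Category.assoc]
      exact mul_inv_eq_iff_eq_mul.1 h1.symm
    · intro hc Z y
      simp only [v, MonObj.comp_mul, GrpObj.comp_inv, Category.comp_id, mul_inv_eq_one]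
      refine fl_injective f H ((cancel_mono i).1 ?_)
      rw [hα, mul_inv_eq_iff_eq_mul]
      exact hc _ Z.hom (kY _) rfl _
  refine ⟨U, ⟨hUc, U.2⟩, heU, fun q x hq hx => (hpt q).1 ?_, fun L _ q hq => ?_, fun huniv X k h => ?_⟩
  · have hq' : Set.range q ⊆ Set.range U.ι := by
      rintro _ ⟨z, rfl⟩
      rw [hq z]
      exact ⟨⟨x, hx⟩, rfl⟩
    rw [← IsOpenImmersion.lift_fac U.ι q hq']
    exact triv_comp v hUt _
  · obtain ⟨ψ, hψ⟩ : ∃ ψ, q = Spec.map ψ ≫ K.left.fromSpecResidueField (q (IsLocalRing.closedPoint L)) :=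
      ⟨_, (Scheme.descResidueField_stalkClosedPointTo_fromSpecResidueField L K.left q).symm⟩
    haveI : Flat (Spec.map ψ) := by
      refine HasRingHomProperty.Spec_iff.2 ?_
      letI := ψ.hom.toAlgebra
      show Module.Flat (K.left.residueField (q (IsLocalRing.closedPoint L))) L
      infer_instance
    haveI : Surjective (Spec.map ψ) := ⟨fun z => ⟨IsLocalRing.closedPoint L, Subsingleton.elim _ _⟩⟩
    refine (hU _).2 (triv_of_flat_cover v (Spec.map ψ) ?_)
    rw [← hψ]
    exact (hpt q).2 hq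
  have hall : Triv v (𝟙 K.left) := triv_of_cover v (𝟙 _) fun x =>
    ⟨_, U.ι, inferInstance, ⟨⟨x, huniv.symm.subset (Set.mem_univ x)⟩, rfl⟩, hUt⟩
  -- the given point
  let Y : Over K.left := Over.mk k.left
  let j : (Over.map f).obj Y ≅ X := Over.isoMk (Iso.refl _) ((Category.id_comp _).trans (Over.w k).symm)
  let j' : Y ≅ (Over.map (𝟙 K.left)).obj Y := Over.isoMk (Iso.refl _) (by simp)
  obtain ⟨y, hy⟩ := fl_surjective f H (j.hom ≫ h)
  have h0 : y ≫ v = 1 := by
    have := congrArg (j'.hom ≫ ·) (hall Y (j'.inv ≫ y))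
    simpa [MonObj.comp_one] using this
  simp only [v, MonObj.comp_mul, GrpObj.comp_inv, Category.comp_id, mul_inv_eq_one] at h0
  have h1 := hα Y y
  rw [h0, Category.comp_id, hy, show kY Y = j.hom ≫ k from Over.OverMorphism.ext (Category.id_comp _).symm] at h1
  rw [← cancel_epi j.hom, MonObj.comp_mul, MonObj.comp_mul, ← Category.assoc]
  exact mul_inv_eq_iff_eq_mul.1 h1.symm

/-- A group of multiplicative type, kernel of a faithfully flat homomorphism onto a group with connected fibres, is central. -/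
theorem central_of_extension {E H U : Over S} [GrpObj E] [GrpObj H] [GrpObj U]
    (p : E ⟶ U) [IsMonHom p] [Surjective p.left] [Flat p.left] [QuasiCompact p.left]
    (i : H ⟶ E) [IsMonHom i] (hker : AlgGrp.IsKernel i p) (hH : SGA3x.IsMultTypeFT H)
    (hU : ∀ s : S, _root_.IsConnected (U.hom.base ⁻¹' {s})) (X : Over S) (h : X ⟶ H) (e : X ⟶ E) :
    (h ≫ i) * e = e * (h ≫ i) := by
  have hfac : ∀ {W : Over S} (g : W ⟶ E), g ≫ p = 1 → ∃ c : W ⟶ H, c ≫ i = g := fun {W} g hg =>
    ⟨hker.lift g (toUnit W) (by rw [hg, Hom.one_def]), hker.lift_fst _ _ _⟩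
  have hip : ∀ {W : Over S} (c : W ⟶ H), (c ≫ i) ≫ p = 1 := fun c => by
    rw [Category.assoc, hker.w, ← Category.assoc, toUnit_unique (c ≫ toUnit H) (toUnit _), Hom.one_def]
  haveI : Mono i := ⟨fun a b hab => hker.hom_ext hab (toUnit_unique _ _)⟩
  have hn : AlgGrp.IsNormalHom i := fun W g n => by
    obtain ⟨c, hc⟩ := hfac (g * (n ≫ i) * g⁻¹) (by
      rw [MonObj.mul_comp, MonObj.mul_comp, hip, _root_.mul_one, GrpObj.inv_comp, mul_inv_cancel])
    exact ⟨c, hc.symm⟩
  obtain ⟨V, hV, he, hcomm, hmem, huniv⟩ := exists_commute_locus i hH hn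
  have hsat : ∀ x x' : E.left, p.left x = p.left x' → x ∈ V → x' ∈ V := by
    intro x x' hxx hx
    obtain ⟨z, hz1, hz2⟩ := Scheme.Pullback.exists_preimage_pullback x x' hxx
    let L := (pullback p.left p.left).residueField z
    let ρ := (pullback p.left p.left).fromSpecResidueField z
    let f₁ : Spec L ⟶ E.left := ρ ≫ pullback.fst _ _
    let f₂ : Spec L ⟶ E.left := ρ ≫ pullback.snd _ _
    have h1 : CommAt i f₁ := hcomm f₁ x (fun w => by
      rw [← hz1]
      exact congrArg _ (Scheme.fromSpecResidueField_apply _ w)) hx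
    have h2 : CommAt i f₂ := by
      intro W t k hk c
      have hb : f₁ ≫ E.hom = f₂ ≫ E.hom := by
        rw [← Over.w p]
        simp only [f₁, f₂, Category.assoc]
        rw [pullback.condition_assoc]
      let k₁ : W ⟶ E := Over.homMk (t ≫ f₁) (by
        rw [Category.assoc, hb, ← Category.assoc, ← hk]
        exact Over.w k)
      have hk1 : k₁ ≫ p = k ≫ p := by
        refine Over.OverMorphism.ext ?_
        show (t ≫ ρ ≫ pullback.fst _ _) ≫ p.left = k.left ≫ p.left
        rw [hk]
        simp only [f₂, Category.assoc]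
        rw [pullback.condition]
      obtain ⟨d, hd⟩ := hfac (k₁⁻¹ * k) (by rw [MonObj.mul_comp, GrpObj.inv_comp, hk1, inv_mul_cancel])
      have hc : (d ≫ i) * (c ≫ i) = (c ≫ i) * (d ≫ i) := by
        rw [← MonObj.mul_comp, ← MonObj.mul_comp, commute_of_isMultTypeFT hH]
      rw [eq_mul_of_inv_mul_eq hd.symm, _root_.mul_assoc, hc, ← _root_.mul_assoc, h1 W t k₁ rfl c, _root_.mul_assoc]
    have h3 := hmem L f₂ h2
    rwa [Scheme.Hom.comp_apply, Scheme.fromSpecResidueField_apply, hz2] at h3
  have hpre : p.left ⁻¹' (p.left '' V) = V :=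
    (Set.subset_preimage_image _ _).antisymm' fun y ⟨x, hx, hxy⟩ => hsat x y hxy hx
  have hclopen : IsClopen (p.left '' V) :=
    ⟨(Flat.isQuotientMap_of_surjective p.left).isClosed_preimage.1 (hpre.symm ▸ hV.1),
      (Flat.isQuotientMap_of_surjective p.left).isOpen_preimage.1 (hpre.symm ▸ hV.2)⟩
  refine (huniv (Set.eq_univ_of_forall fun x => ?_) X e h).symm
  let o : 𝟙_ (Over S) ⟶ E := 1
  have ho : ∀ s : S, U.hom (p.left (o.left s)) = s := fun s => by
    rw [← Scheme.Hom.comp_apply, Over.w p, ← Scheme.Hom.comp_apply, Over.w o]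
    rfl
  have hmem' := (hU (U.hom (p.left x))).isPreconnected.subset_isClopen hclopen
    ⟨_, ho _, Set.mem_image_of_mem _ (he (U.hom (p.left x)))⟩ (show p.left x ∈ _ from rfl)
  rw [← hpre]
  exact hmem'

end Groth.Agent.MTRigid29
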