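import Groth.Agent.Lib.MTRigid29.ImageBasics
import Groth.Agent.Lib.MTRigid29.CentralizerNormalizer

/-!
# Locally split subtori of groups of multiplicative type form a directed family
-/

set_option autoImplicit false
set_option linter.style.haveILetI false
set_option linter.unusedSectionVars false
set_option backward.isDefEq.respectTransparency.types false
set_option maxSynthPendingDepth 3

universe u

open CategoryTheory Limits MonoidalCategory CartesianMonoidalCategory MonObj AlgebraicGeometry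

noncomputable section

namespace Groth.Agent.MTRigid29

open DiagGL

variable {S S' : Scheme.{u}}

/-- Zariski locally split. -/
abbrev IsLocSplit (T : Over S) [GrpObj T] : Prop :=
  ∀ s : ↥S, ∃ U : S.Opens, s ∈ U ∧ ∃ r : ℕ, Red.IsSplitTorusWith (Fin r → ℤ) (Red.bc U.ι T)

theorem isTorus_of_isLocSplit {T : Over S} [GrpObj T] (h : IsLocSplit T) : Red.IsTorus T := by
  refine ⟨S, 𝟙 S, inferInstance, inferInstance,
    fun V hV => ⟨V, hV.isCompact, Set.image_id _⟩, fun s => ?_⟩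
  obtain ⟨U, hU, r, hr⟩ := h s
  refine ⟨U, hU, r, ?_⟩
  rw [Category.comp_id]
  exact hr

/-- Characters restrict to smaller opens. -/
theorem nonempty_chars_of_le {T : Over S} [GrpObj T] {U V : S.Opens} (hVU : V ≤ U) {M : Type} [AddCommGroup M]
    (C : Chars M (Red.bc U.ι T)) : Nonempty (Chars M (Red.bc V.ι T)) := by
  let j := S.homOfLE hVU
  have h := charsComp U.ι j T (C.baseChange j _)
  rw [Scheme.homOfLE_ι] at h
  exact ⟨h⟩

section Prod

variable {A B : Over S} [GrpObj A] [GrpObj B] (g : S' ⟶ S) {M N : Type} [AddCommGroup M] [AddCommGroup N]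

theorem bc_fst_snd_injective {X : Over S'} {x y : X ⟶ Red.bc g (A ⊗ B)}
    (h1 : x ≫ (Over.pullback g).map (fst A B) = y ≫ (Over.pullback g).map (fst A B))
    (h2 : x ≫ (Over.pullback g).map (snd A B) = y ≫ (Over.pullback g).map (snd A B)) : x = y := by
  refine fl_injective g (A ⊗ B) (CartesianMonoidalCategory.hom_ext _ _ ?_ ?_)
  · rw [← fl_comp_map, ← fl_comp_map, h1]
  · rw [← fl_comp_map, ← fl_comp_map, h2]

theorem exists_bc_lift {X : Over S'} (a : X ⟶ Red.bc g A) (b : X ⟶ Red.bc g B) :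
    ∃ x : X ⟶ Red.bc g (A ⊗ B), x ≫ (Over.pullback g).map (fst A B) = a ∧
      x ≫ (Over.pullback g).map (snd A B) = b := by
  obtain ⟨x, hx⟩ := fl_surjective g (A ⊗ B) (lift (fl g A a) (fl g B b))
  refine ⟨x, fl_injective g A ?_, fl_injective g B ?_⟩
  · rw [fl_comp_map, hx, lift_fst]
  · rw [fl_comp_map, hx, lift_snd]

/-- Characters of a product. -/
def charsProd (C : Chars M (Red.bc g A)) (D : Chars N (Red.bc g B)) : Chars (M × N) (Red.bc g (A ⊗ B)) :=
  haveI := isMonHom_map (fst A B) g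
  haveI := isMonHom_map (snd A B) g
  { ch := fun x =>
      (C.ch (x ≫ (Over.pullback g).map (fst A B))).comp (AddMonoidHom.fst M N).toMultiplicative *
        (D.ch (x ≫ (Over.pullback g).map (snd A B))).comp (AddMonoidHom.snd M N).toMultiplicative
    nat := fun t x a => by
      simp only [MonoidHom.mul_apply, MonoidHom.comp_apply, Category.assoc, C.nat, D.nat, map_mul]
    mul := fun x y a => by
      simp only [MonoidHom.mul_apply, MonoidHom.comp_apply, MonObj.mul_comp, C.mul, D.mul]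
      exact mul_mul_mul_comm _ _ _ _
    inj := fun {T x y} h => bc_fst_snd_injective g
      (C.inj fun m => by
        simpa [D.one, map_one] using h (Multiplicative.ofAdd (m.toAdd, (0 : N))))
      (D.inj fun n => by
        simpa [C.one, map_one] using h (Multiplicative.ofAdd ((0 : M), n.toAdd)))
    surj := fun {T} c => by
      obtain ⟨a, ha⟩ := C.surj (T := T) (c.comp (AddMonoidHom.inl M N).toMultiplicative)
      obtain ⟨b, hb⟩ := D.surj (T := T) (c.comp (AddMonoidHom.inr M N).toMultiplicative)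
      obtain ⟨x, hx1, hx2⟩ := exists_bc_lift g a b
      refine ⟨x, MonoidHom.ext fun m => ?_⟩
      simp only [MonoidHom.mul_apply, MonoidHom.comp_apply, hx1, hx2, ha, hb, ← map_mul]
      refine congrArg c ?_
      exact congrArg Multiplicative.ofAdd (Prod.ext (add_zero m.toAdd.1) (zero_add m.toAdd.2)) }

end Prod

section Subgroup

variable {P G E : Over S} [GrpObj G]

/-- The points over `g` factoring through `j₃` form a subgroup. -/
def SubgroupOn (j₃ : E ⟶ G) (g : S' ⟶ S) : Prop :=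
  ∀ Y : Over S', (∃ c : (Over.map g).obj Y ⟶ E, c ≫ j₃ = 1) ∧
    (∀ a b : (Over.map g).obj Y ⟶ E, ∃ c : (Over.map g).obj Y ⟶ E, c ≫ j₃ = (a ≫ j₃) * (b ≫ j₃)) ∧
    ∀ a : (Over.map g).obj Y ⟶ E, ∃ c : (Over.map g).obj Y ⟶ E, c ≫ j₃ = (a ≫ j₃)⁻¹

theorem fl_map (g : S' ⟶ S) {X Z : Over S} {Y : Over S'} (x : Y ⟶ Red.bc g X) (f : X ⟶ Z) :
    fl g Z (x ≫ (Over.pullback g).map f) = fl g X x ≫ f :=
  Adjunction.homEquiv_naturality_right_symm _ _ _

theorem fl_surj (g : S' ⟶ S) {X : Over S} {Y : Over S'} : Function.Surjective (fl g X (T := Y)) :=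
  ((Over.mapPullbackAdj g).homEquiv Y X).symm.surjective

/-- Subgroups after base change give subgroups below. -/
theorem SubgroupOn.of_bc {j₃ : E ⟶ G} {g : S' ⟶ S} {S'' : Scheme.{u}} {k : S'' ⟶ S'}
    (h : SubgroupOn ((Over.pullback g).map j₃) k) : SubgroupOn j₃ (k ≫ g) := by
  intro Y
  let i : (Over.map (k ≫ g)).obj Y ≅ (Over.map g).obj ((Over.map k).obj Y) := Over.isoMk (Iso.refl _) (by simp)
  obtain ⟨⟨c₁, hc₁⟩, hmul, hinv⟩ := h Y
  refine ⟨⟨i.hom ≫ fl g E c₁, ?_⟩, fun a b => ?_, fun a => ?_⟩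
  · rw [Category.assoc, ← fl_map, hc₁, fl_one, MonObj.comp_one]
  · obtain ⟨a', ha'⟩ := fl_surj g (X := E) (i.inv ≫ a)
    obtain ⟨b', hb'⟩ := fl_surj g (X := E) (i.inv ≫ b)
    obtain ⟨c, hc⟩ := hmul a' b'
    refine ⟨i.hom ≫ fl g E c, ?_⟩
    rw [Category.assoc, ← fl_map, hc, fl_mul, fl_map, fl_map, ha', hb', MonObj.comp_mul]
    simp only [Category.assoc, Iso.hom_inv_id_assoc]
  · obtain ⟨a', ha'⟩ := fl_surj g (X := E) (i.inv ≫ a)
    obtain ⟨c, hc⟩ := hinv a'
    refine ⟨i.hom ≫ fl g E c, ?_⟩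
    rw [Category.assoc, ← fl_map, hc, fl_inv, fl_map, ha', GrpObj.comp_inv]
    simp only [Category.assoc, Iso.hom_inv_id_assoc]

/-- An image isomorphic to a subgroup is a subgroup. -/
theorem SubgroupOn.of_iso {j₃ : E ⟶ G} {g : S' ⟶ S} {T : Over S'} [GrpObj T] (j' : T ⟶ Red.bc g G) [IsMonHom j']
    (Φ : Red.bc g E ≅ T) (hΦ : Φ.hom ≫ j' = (Over.pullback g).map j₃) : SubgroupOn j₃ g := by
  intro Y
  have hfl : ∀ t : Y ⟶ T, fl g E (t ≫ Φ.inv) ≫ j₃ = fl g G (t ≫ j') := fun t => by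
    rw [← fl_map, ← hΦ, Category.assoc, Iso.inv_hom_id_assoc]
  have hsurj : ∀ a : (Over.map g).obj Y ⟶ E, ∃ t : Y ⟶ T, fl g E (t ≫ Φ.inv) = a := fun a => by
    obtain ⟨a', ha'⟩ := fl_surj g (X := E) a
    exact ⟨a' ≫ Φ.hom, by rw [Category.assoc, Iso.hom_inv_id, Category.comp_id, ha']⟩
  refine ⟨⟨fl g E ((1 : Y ⟶ T) ≫ Φ.inv), ?_⟩, fun a b => ?_, fun a => ?_⟩
  · rw [hfl, MonObj.one_comp, fl_one]
  · obtain ⟨a', ha⟩ := hsurj a
    obtain ⟨b', hb⟩ := hsurj b
    exact ⟨fl g E ((a' * b') ≫ Φ.inv), by rw [hfl, MonObj.mul_comp, fl_mul, ← hfl, ← hfl, ha, hb]⟩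
  · obtain ⟨a', ha⟩ := hsurj a
    exact ⟨fl g E (a'⁻¹ ≫ Φ.inv), by rw [hfl, GrpObj.inv_comp, fl_inv, ← hfl, ha]⟩

/-- A local description of the image. -/
def SplitPiece (j₃ : E ⟶ G) (g : S' ⟶ S) : Prop :=
  ∃ (r : ℕ) (T : Over S') (_ : GrpObj T) (_ : Chars (Fin r → ℤ) T) (j' : T ⟶ Red.bc g G),
    IsMonHom j' ∧ Mono j' ∧ ∃ Φ : Red.bc g E ≅ T, Φ.hom ≫ j' = (Over.pullback g).map j₃

/-- A split piece gives a split base change of the image. -/
theorem SplitPiece.chars {j₃ : E ⟶ G} {g : S' ⟶ S} (h : SplitPiece j₃ g) [GrpObj E] [IsMonHom j₃] :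
    ∃ r : ℕ, Nonempty (Chars (Fin r → ℤ) (Red.bc g E)) := by
  obtain ⟨r, T, _, C, j', hj', _, Φ, hΦ⟩ := h
  haveI := isMonHom_map j₃ g
  haveI : IsMonHom Φ.hom := TorsorSch25.isMonHom_of_points _ fun X a b => (cancel_mono j').1 (by
    haveI : IsMonHom (Φ.hom ≫ j') := hΦ ▸ isMonHom_map j₃ g
    rw [Category.assoc, MonObj.mul_comp, MonObj.mul_comp, Category.assoc, Category.assoc])
  exact ⟨r, ⟨C.transport (Grp.mkIso' Φ)⟩⟩

end Subgroup

section Image

variable {G : Over S} [GrpObj G]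

/-- Near every point the image of a homomorphism out of a split torus with trivial complementary part is split. -/
theorem exists_splitPiece {P E : Over S} [GrpObj P] {M₁ : Type} [AddCommGroup M₁] [AddGroup.FG M₁] [IsAddTorsionFree M₁]
    (C₁ : Chars M₁ P) (hG : SGA3x.IsMultTypeFT G) (J : P ⟶ G) [IsMonHom J] (j₃ : E ⟶ G) (hE : IsImage J j₃) (s : S) :
    ∃ (U : S.Opens) (hs : s ∈ U) (V : (U : Scheme.{u}).Opens), ⟨s, hs⟩ ∈ V ∧
      SplitPiece ((Over.pullback U.ι).map j₃) V.ι := by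
  obtain ⟨K, _, k, M, _, hfg, hks, ⟨D⟩⟩ := exists_split_point hG s
  haveI := hfg
  haveI := isMonHom_map J k
  obtain ⟨φ, hφ⟩ := exists_mapChS_field (C₁.baseChange k P) D ((Over.pullback k).map J)
  haveI : Module.Finite ℤ M₁ := Module.Finite.iff_addGroup_fg.2 inferInstance
  let I : Submodule ℤ M₁ := LinearMap.range φ.toIntLinearMap
  haveI : Module.Free ℤ I := inferInstance
  let e : (Fin (Module.finrank ℤ I) → ℤ) ≃ₗ[ℤ] I := (Module.finBasis ℤ I).equivFun.symm
  let ψ : (Fin (Module.finrank ℤ I) → ℤ) →+ M₁ := (I.subtype ∘ₗ e.toLinearMap).toAddMonoidHom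
  have hψ : Function.Injective ψ := Subtype.val_injective.comp e.injective
  have hψr : ψ.range = φ.range := by
    ext m
    constructor
    · rintro ⟨v, rfl⟩
      obtain ⟨x, hx⟩ := (e v).2
      exact ⟨x, hx⟩
    · rintro ⟨x, rfl⟩
      exact ⟨e.symm ⟨φ x, x, rfl⟩, by simp [ψ]⟩
  let χ : M₁ →+ M₁ ⧸ φ.range := QuotientAddGroup.mk' φ.range
  let C₂ := charsDS S (Fin (Module.finrank ℤ I) → ℤ)
  let C₃ := charsDS S (M₁ ⧸ φ.range)
  haveI : AddGroup.FG (M₁ ⧸ φ.range) := inferInstance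
  haveI hfg₂ : AddGroup.FG (Fin (Module.finrank ℤ I) → ℤ) := AddGroup.fg_iff_mul_fg.2 inferInstance
  haveI := isAffineHom_of_isMultTypeFT hG
  haveI := locallyOfFiniteType_of_isMultTypeFT hG
  let κ := mapChS C₃ C₁ χ
  obtain ⟨U, hUc, hU, hUt⟩ := exists_triv_locus (κ ≫ J) (isMultTypeFT_of_chars C₃) (.inr inferInstance)
  let x := IsLocalRing.closedPoint K
  have hks' : k x = s := hks
  have hsU : s ∈ U := by
    rw [← hks', hU]
    haveI : Surjective (Spec.map (k.residueFieldMap x)) :=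
      ⟨fun q => ⟨IsLocalRing.closedPoint _, Subsingleton.elim _ _⟩⟩
    haveI : Flat (Spec.map (k.residueFieldMap x)) :=
      (HasRingHomProperty.Spec_iff (P := @Flat)).2 (RingHom.Flat.of_isField (Field.toIsField _) _)
    refine triv_of_flat_cover _ (Spec.map (k.residueFieldMap x)) ?_
    rw [Scheme.Hom.SpecMap_residueFieldMap_fromSpecResidueField]
    exact triv_comp _ ((triv_iff_pullback_map (κ ≫ J) k).2 (by
      rw [Functor.map_comp, hφ, pullback_map_mapChS, mapChS_comp, show χ.comp φ = 0 from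
        AddMonoidHom.ext fun x => (QuotientAddGroup.eq_zero_iff _).2 ⟨x, rfl⟩, mapChS_zero])) _
  -- work over `U`
  haveI := isMonHom_map J U.ι
  let D₁ := C₁.baseChange U.ι P
  let D₂ := C₂.baseChange U.ι (Red.DS S (Fin (Module.finrank ℤ I) → ℤ))
  let D₃ := C₃.baseChange U.ι (Red.DS S (M₁ ⧸ φ.range))
  have hκ : mapChS D₃ D₁ χ ≫ (Over.pullback U.ι).map J = 1 := by
    rw [← pullback_map_mapChS, ← Functor.map_comp]
    exact (triv_iff_pullback_map (κ ≫ J) U.ι).1 hUt
  have hGU := isMultTypeFT_bc hG U.ι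
  haveI := isAffineHom_of_isMultTypeFT hGU
  haveI := isAffineHom_of_isMultTypeFT (isMultTypeFT_of_chars D₁)
  haveI := isAffineHom_of_isMultTypeFT (isMultTypeFT_of_chars D₂)
  obtain ⟨j', hj'hom, hj'⟩ := exists_factor_mapChS D₁ D₂ D₃ ψ χ hψ (QuotientAddGroup.mk'_surjective _)
    (by rw [QuotientAddGroup.ker_mk', hψr]) _ hκ
  obtain ⟨V, hVc, hV, hVP⟩ := exists_clopen_locus (MorphismProperty.monomorphisms Scheme.{u}) j' charCrit_mono
    (isMT_of_chars D₂) hGU
  have hrange : Set.range k ⊆ Set.range U.ι := by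
    rintro _ ⟨z, rfl⟩
    rw [show z = x from Subsingleton.elim _ _, hks']
    exact ⟨⟨s, hsU⟩, rfl⟩
  let k' := IsOpenImmersion.lift U.ι k hrange
  have hk' : k' ≫ U.ι = k := IsOpenImmersion.lift_fac _ _ _
  have hk'x : k' x = ⟨s, hsU⟩ := Subtype.ext (by
    show U.ι (k' x) = s
    rw [← Scheme.Hom.comp_apply, hk', hks'])
  have w : k' ≫ U.ι = 𝟙 _ ≫ k := hk'.trans (Category.id_comp _).symm
  let D' := charsFactor w G D
  let E₁ := D₁.baseChange k' (Red.bc U.ι P)
  let E₂ := D₂.baseChange k' (Red.bc U.ι (Red.DS S (Fin (Module.finrank ℤ I) → ℤ)))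
  haveI := isMonHom_map j' k'
  obtain ⟨θ, hθ⟩ := exists_mapChS_field E₂ D' ((Over.pullback k').map j')
  have hJ₂ : (Over.pullback k').map ((Over.pullback U.ι).map J) = mapChS E₁ D' φ := by
    refine D'.inj fun m => ?_
    conv_rhs => rw [← Category.id_comp (mapChS E₁ D' φ), ch_mapChS]
    rw [← Category.id_comp ((Over.pullback k').map ((Over.pullback U.ι).map J))]
    generalize (𝟙 ((Over.pullback k').obj ((Over.pullback U.ι).obj P))) = y
    have h1 : factorPt w G _ (y ≫ (Over.pullback k').map ((Over.pullback U.ι).map J)) =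
        factorPt w P _ y ≫ (Over.pullback k).map J := fl_injective k G (by
      rw [fl_factorPt, fl_comp_map, fl_comp_map, fl_comp_map, fl_factorPt, Category.assoc])
    show D.ch (factorPt w G _ (y ≫ (Over.pullback k').map ((Over.pullback U.ι).map J))) m = _
    rw [h1, hφ, ch_mapChS]
    show C₁.ch (fl k P (factorPt w P _ y)) _ = _
    rw [fl_factorPt, C₁.nat]
    rfl
  have h := congrArg ((Over.pullback k').map) hj'
  rw [Functor.map_comp, hθ, hJ₂, pullback_map_mapChS, mapChS_comp] at h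
  have hcomp : ψ.comp θ = φ := by
    refine AddMonoidHom.ext fun m => ?_
    obtain ⟨x, hx⟩ := exists_chr E₁ (MonoidAlgebra.of K (Multiplicative M₁))
    have h2 := congrArg (fun v => chr D' (x ≫ v) (Multiplicative.ofAdd m)) h
    simp only [mapChS_eq_mapChar, chr_mapChar, hx] at h2
    exact congrArg Multiplicative.toAdd (MonoidAlgebra.of_injective ((DFunLike.congr_fun hx _).symm.trans h2))
  have hsurj : Function.Surjective θ := fun v => by
    obtain ⟨m, hm⟩ : ψ v ∈ φ.range := hψr ▸ ⟨v, rfl⟩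
    exact ⟨m, hψ ((DFunLike.congr_fun hcomp m).trans hm)⟩
  have hkP : MapP (MorphismProperty.monomorphisms Scheme.{u}) j' k' := by
    haveI := mono_mapChS E₂ D' hsurj
    show Mono _
    rw [hθ]
    infer_instance
  have hsV : (⟨s, hsU⟩ : (U : Scheme.{u})) ∈ V :=
    hk'x ▸ (hV (k' x)).2 (mapP_residue_of_field (MorphismProperty.monomorphisms Scheme.{u}) j' k' hkP)
  refine ⟨U, hsU, V, hsV, Module.finrank ℤ I, _, inferInstance, D₂.baseChange V.ι _, (Over.pullback V.ι).map j',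
    isMonHom_map j' V.ι, ?_, ?_⟩
  · haveI : Mono ((Over.pullback V.ι).map j').left := hVP
    exact Over.mono_of_mono_left _
  · let q := mapChS (D₁.baseChange V.ι _) (D₂.baseChange V.ι _) ψ
    obtain ⟨hfl, hsj⟩ := flat_surjective_mapChS (D₁.baseChange V.ι (Red.bc U.ι P))
      (D₂.baseChange V.ι (Red.bc U.ι (Red.DS S (Fin (Module.finrank ℤ I) → ℤ)))) hψ
    haveI : Flat q.left := hfl
    haveI : Surjective q.left := hsj
    have hT := isMultTypeFT_of_chars (D₂.baseChange V.ι (Red.bc U.ι (Red.DS S (Fin (Module.finrank ℤ I) → ℤ))))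
    haveI := isAffineHom_of_isMultTypeFT (isMultTypeFT_of_chars (D₁.baseChange V.ι (Red.bc U.ι P)))
    haveI := isAffineHom_of_isMultTypeFT hT
    haveI : QuasiCompact q.left := quasiCompact_left q
    haveI : Mono ((Over.pullback V.ι).map j').left := hVP
    haveI : Mono ((Over.pullback V.ι).map j') := Over.mono_of_mono_left _
    haveI := isMonHom_map j' V.ι
    haveI : IsClosedImmersion ((Over.pullback V.ι).map j').left :=
      isClosedImmersion_of_mono hT (isAffineHom_of_isMultTypeFT (isMultTypeFT_bc hGU V.ι)) _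
    exact ((hE.bc U.ι).bc V.ι).exists_iso q ((Over.pullback V.ι).map j') (by
      rw [← hj', Functor.map_comp, pullback_map_mapChS])

end Image

end Groth.Agent.MTRigid29
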