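import Groth.Agent.Lib.MTRigid29.MapChS

/-!
# Split subtori of groups of multiplicative type over a connected base
-/

set_option autoImplicit false
set_option linter.style.haveILetI false
set_option linter.unusedSectionVars false
set_option backward.isDefEq.respectTransparency.types false
set_option maxSynthPendingDepth 3

universe u

open CategoryTheory Limits MonoidalCategory CartesianMonoidalCategory MonObj AlgebraicGeometry Opposite

noncomputable section

namespace Groth.Agent.MTRigid29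

open DiagGL

variable {S : Scheme.{u}}

section Factor

variable {H₁ H₂ H₃ G : Over S} [GrpObj H₁] [GrpObj H₂] [GrpObj H₃] [GrpObj G]
  {M₁ M₂ M₃ : Type} [AddCommGroup M₁] [AddCommGroup M₂] [AddCommGroup M₃]
  (C₁ : Chars M₁ H₁) (C₂ : Chars M₂ H₂) (C₃ : Chars M₃ H₃) (ψ : M₂ →+ M₁) (χ : M₁ →+ M₃)

/-- Points killed by a map of characters come from the complementary group. -/
theorem exists_lift_ker (hχ : Function.Surjective χ) (hker : χ.ker = ψ.range) {T : Over S} (x : T ⟶ H₁)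
    (hx : x ≫ mapChS C₁ C₂ ψ = 1) : ∃ w : T ⟶ H₃, w ≫ mapChS C₃ C₁ χ = x := by
  let F : Multiplicative M₁ →* Γ(T.left, ⊤)ˣ := (C₁.ch x).toHomUnits
  have hle : χ.toMultiplicative.ker ≤ F.ker := by
    intro m hm
    have hm' : m.toAdd ∈ χ.ker := congrArg Multiplicative.toAdd hm
    rw [hker] at hm'
    obtain ⟨n, hn⟩ := hm'
    refine Units.ext ?_
    have h := congrArg (fun z => C₂.ch z (Multiplicative.ofAdd n)) hx
    simp only [ch_mapChS, C₂.one] at h
    show C₁.ch x m = 1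
    rw [show m = ψ.toMultiplicative (Multiplicative.ofAdd n) from (congrArg Multiplicative.ofAdd hn).symm]
    exact h
  let c := χ.toMultiplicative.liftOfSurjective (fun z => by
    obtain ⟨m, hm⟩ := hχ z.toAdd
    exact ⟨Multiplicative.ofAdd m, congrArg Multiplicative.ofAdd hm⟩) ⟨F, hle⟩
  obtain ⟨w, hw⟩ := C₃.surj ((Units.coeHom _).comp c)
  refine ⟨w, C₁.inj fun m => ?_⟩
  rw [ch_mapChS, hw]
  show ((c (χ.toMultiplicative m) : Γ(T.left, ⊤)ˣ) : Γ(T.left, ⊤)) = _
  rw [MonoidHom.liftOfRightInverse_comp_apply]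
  rfl

/-- A homomorphism killing the kernel of a faithfully flat map of split groups factors through it. -/
theorem exists_factor_mapChS [QuasiCompact H₁.hom] [IsSeparated H₂.hom] (hψ : Function.Injective ψ)
    (hχ : Function.Surjective χ) (hker : χ.ker = ψ.range) (j : H₁ ⟶ G) [IsMonHom j]
    (hj : mapChS C₃ C₁ χ ≫ j = 1) : ∃ j' : H₂ ⟶ G, IsMonHom j' ∧ mapChS C₁ C₂ ψ ≫ j' = j := by
  let q := mapChS C₁ C₂ ψ
  obtain ⟨hfl, hsj⟩ := flat_surjective_mapChS C₁ C₂ hψ
  haveI : Flat q.left := hfl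
  haveI : Surjective q.left := hsj
  haveI : QuasiCompact q.left := quasiCompact_left q
  haveI : EffectiveEpi q.left := effectiveEpi_of_cover _ fun V hV =>
    ⟨q.left ⁻¹ᵁ V, q.left.isCompact_preimage hV.isCompact, Set.image_preimage_eq _ q.left.surjective⟩
  have key : ∀ {T : Over S} (a b : T ⟶ H₁), a ≫ q = b ≫ q → a ≫ j = b ≫ j := by
    intro T a b hab
    obtain ⟨w, hw⟩ := exists_lift_ker C₁ C₂ C₃ ψ χ hχ hker (a * b⁻¹) (by
      rw [MonObj.mul_comp, GrpObj.inv_comp, hab, mul_inv_cancel])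
    have h := congrArg (· ≫ j) hw
    simp only [Category.assoc, hj, MonObj.comp_one, MonObj.mul_comp, GrpObj.inv_comp] at h
    exact mul_inv_eq_one.1 h.symm
  have key' : ∀ {W : Scheme.{u}} (g₁ g₂ : W ⟶ H₁.left), g₁ ≫ q.left = g₂ ≫ q.left →
      g₁ ≫ j.left = g₂ ≫ j.left := by
    intro W g₁ g₂ h
    let T : Over S := Over.mk (g₁ ≫ H₁.hom)
    let a : T ⟶ H₁ := Over.homMk g₁ rfl
    let b : T ⟶ H₁ := Over.homMk g₂ (by
      show g₂ ≫ H₁.hom = g₁ ≫ H₁.hom
      rw [← Over.w q, ← Category.assoc, ← h, Category.assoc])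
    exact congrArg CommaMorphism.left (key a b (Over.OverMorphism.ext h))
  let l := EffectiveEpi.desc q.left j.left key'
  have hl : q.left ≫ l = j.left := EffectiveEpi.fac q.left j.left key'
  let j' : H₂ ⟶ G := Over.homMk l (by
    rw [← cancel_epi q.left, ← Category.assoc, hl, Over.w, Over.w])
  have hj' : q ≫ j' = j := Over.OverMorphism.ext hl
  refine ⟨j', ?_, hj'⟩
  haveI : Flat (q ⊗ₘ q).left := MorphismProperty.pullback_map (P := @Flat) hfl hfl (Over.w q).symm (Over.w q).symm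
  haveI : Surjective (q ⊗ₘ q).left := MorphismProperty.pullback_map (P := @Surjective) hsj hsj (Over.w q).symm (Over.w q).symm
  haveI : Epi (q ⊗ₘ q).left := Flat.epi_of_flat_of_surjective _
  haveI : Epi (q ⊗ₘ q) := Over.epi_of_epi_left _
  refine ⟨?_, ?_⟩
  · rw [← IsMonHom.one_hom q, Category.assoc, hj']
    exact IsMonHom.one_hom j
  · rw [← cancel_epi (q ⊗ₘ q), ← IsMonHom.mul_hom_assoc q, hj', IsMonHom.mul_hom j, ← hj', ← tensorHom_comp_tensorHom,
      Category.assoc]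

end Factor

section Field

/-- A homomorphism of split groups over a field which is a monomorphism has surjective characters. -/
theorem exists_surjective_of_mono {K : Type u} [Field K] {G₁ G₂ : Over (Spec (CommRingCat.of K))} [GrpObj G₁]
    [GrpObj G₂] {M₁ M₂ : Type} [AddCommGroup M₁] [AddCommGroup M₂] [AddGroup.FG M₂] (D₁ : Chars M₁ G₁)
    (D₂ : Chars M₂ G₂) (v : G₁ ⟶ G₂) [IsMonHom v] [Mono v] : ∃ φ : M₂ →+ M₁, Function.Surjective φ := by
  obtain ⟨φ, rfl⟩ := exists_mapChS_field D₁ D₂ v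
  exact ⟨φ, surjective_of_mono_mapChS D₁ D₂ φ⟩

end Field

theorem clopen_top [ConnectedSpace ↥S] {U : S.Opens} (hU : IsClosed (U : Set S)) {s : S} (hs : s ∈ U) : U = ⊤ :=
  TopologicalSpace.Opens.ext ((IsClopen.eq_univ ⟨hU, U.2⟩ ⟨s, hs⟩))

theorem mapP_id_of_top {G H : Over S} (P : MorphismProperty Scheme.{u}) [P.IsStableUnderBaseChange] (u : G ⟶ H)
    (U : S.Opens) (hU : U = ⊤) (h : MapP P u U.ι) : MapP P u (𝟙 S) := by
  haveI : IsIso U.ι := by
    rw [isIso_iff_isOpenImmersion_and_surjective]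
    exact ⟨inferInstance, ⟨fun s => ⟨⟨s, hU ▸ trivial⟩, rfl⟩⟩⟩
  rw [← IsIso.inv_hom_id U.ι]
  exact mapP_comp P u h _

theorem left_prop_of_mapP_id {G H : Over S} (P : MorphismProperty Scheme.{u}) [P.RespectsIso] (u : G ⟶ H)
    (h : MapP P u (𝟙 S)) : P u.left :=
  (MorphismProperty.arrow_mk_iso_iff P
    (Arrow.isoMk (asIso (pullback.fst G.hom (𝟙 S))) (asIso (pullback.fst H.hom (𝟙 S)))
      (isPullback_map_left (𝟙 S) u).w)).1 h

/-- A monomorphism of split tori of the same rank is an isomorphism. -/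
theorem isIso_of_mono_chars {T T' : Over S} [GrpObj T] [GrpObj T'] {M : Type} [AddCommGroup M] [AddGroup.FG M]
    (C : Chars M T) (C' : Chars M T') (g : T ⟶ T') [IsMonHom g] [Mono g] : IsIso g := by
  obtain ⟨U, -, hU, hUP⟩ := exists_clopen_locus (MorphismProperty.isomorphisms Scheme.{u}) g charCrit_iso
    (isMT_of_chars C) (isMultTypeFT_of_chars C')
  have hall : U = ⊤ := _root_.eq_top_iff.2 fun s _ => by
    rw [hU]
    let k : Spec (CommRingCat.of (S.residueField s : Type u)) ⟶ S := S.fromSpecResidueField s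
    haveI := isMonHom_map g k
    haveI := isIso_of_mono_split_field (C.baseChange k T) (C'.baseChange k T') ((Over.pullback k).map g)
    exact ((Over.forget _).mapIso (asIso ((Over.pullback k).map g))).isIso_hom
  have h : IsIso g.left := left_prop_of_mapP_id _ g (mapP_id_of_top _ g U hall hUP)
  haveI : IsIso ((Over.forget S).map g) := h
  exact isIso_of_reflects_iso g (Over.forget S)

variable {G : Over S} [GrpObj G]

/-- The rank of a split subtorus is bounded. -/
theorem exists_rank_bound [Nonempty ↥S] (hG : SGA3x.IsMultTypeFT G) :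
    ∃ n : ℕ, ∀ (r : ℕ) (T : Over S) [GrpObj T] (j : T ⟶ G) [IsMonHom j] [Mono j],
      Red.IsSplitTorusWith (Fin r → ℤ) T → r ≤ n := by
  obtain ⟨K, _, k, M, _, hfg, -, ⟨D⟩⟩ := exists_split_point hG (Classical.arbitrary ↥S)
  haveI := hfg
  haveI : Module.Finite ℤ M := Module.Finite.iff_addGroup_fg.2 inferInstance
  refine ⟨Module.finrank ℤ M, fun r T _ j _ _ hT => ?_⟩
  obtain ⟨C⟩ := nonempty_chars hT
  haveI := isMonHom_map j k
  obtain ⟨φ, hφ⟩ := exists_surjective_of_mono (C.baseChange k T) D ((Over.pullback k).map j)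
  simpa using LinearMap.finrank_le_finrank_of_surjective (f := φ.toIntLinearMap) hφ

/-- Over a connected base the image of a homomorphism from a split group to a group of multiplicative type is a
split subgroup with torsion free characters. -/
theorem exists_image [ConnectedSpace ↥S] (hG : SGA3x.IsMultTypeFT G) (r : ℕ) {P : Over S} [GrpObj P]
    {M₁ : Type} [AddCommGroup M₁] [AddGroup.FG M₁] [IsAddTorsionFree M₁] (C₁ : Chars M₁ P) (j : P ⟶ G) [IsMonHom j] :
    ∃ (r' : ℕ) (T : Over S) (_ : GrpObj T) (q : P ⟶ T) (j' : T ⟶ G), IsMonHom q ∧ IsMonHom j' ∧ Mono j' ∧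
      Red.IsSplitTorusWith (Fin r' → ℤ) T ∧ q ≫ j' = j := by
  obtain ⟨K, _, k, M, _, hfg, -, ⟨D⟩⟩ := exists_split_point hG (Classical.arbitrary ↥S)
  haveI := hfg
  haveI := isMonHom_map j k
  obtain ⟨φ, hφ⟩ := exists_mapChS_field (C₁.baseChange k P) D ((Over.pullback k).map j)
  haveI : Module.Finite ℤ M₁ := Module.Finite.iff_addGroup_fg.2 inferInstance
  haveI : Module.IsTorsionFree ℤ M₁ := inferInstance
  let I : Submodule ℤ M₁ := LinearMap.range φ.toIntLinearMap
  haveI : Module.Finite ℤ I := inferInstance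
  haveI : Module.Free ℤ I := inferInstance
  let e : (Fin (Module.finrank ℤ I) → ℤ) ≃ₗ[ℤ] I := (Module.finBasis ℤ I).equivFun.symm
  let ψ : (Fin (Module.finrank ℤ I) → ℤ) →+ M₁ := (I.subtype ∘ₗ e.toLinearMap).toAddMonoidHom
  have hψ : Function.Injective ψ := Subtype.val_injective.comp e.injective
  have hψr : ψ.range = φ.range := by
    ext m
    constructor
    · rintro ⟨v, rfl⟩
      obtain ⟨x, hx⟩ := (e v).2
      exact ⟨x, hx⟩
    · rintro ⟨x, rfl⟩
      exact ⟨e.symm ⟨φ x, x, rfl⟩, by simp [ψ]⟩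
  let χ : M₁ →+ M₁ ⧸ φ.range := QuotientAddGroup.mk' φ.range
  let C₂ := charsDS S (Fin (Module.finrank ℤ I) → ℤ)
  let C₃ := charsDS S (M₁ ⧸ φ.range)
  haveI : AddGroup.FG (M₁ ⧸ φ.range) := inferInstance
  haveI hfg₂ : AddGroup.FG (Fin (Module.finrank ℤ I) → ℤ) := AddGroup.fg_iff_mul_fg.2 inferInstance
  haveI := isAffineHom_of_isMultTypeFT hG
  haveI := locallyOfFiniteType_of_isMultTypeFT hG
  haveI := isAffineHom_of_isMultTypeFT (isMultTypeFT_of_chars C₁)
  haveI := isAffineHom_of_isMultTypeFT (isMultTypeFT_of_chars C₂)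
  let κ := mapChS C₃ C₁ χ
  -- the complementary subgroup is killed
  have hκ : κ ≫ j = 1 := by
    obtain ⟨U, hUc, hU, hUt⟩ := exists_triv_locus (κ ≫ j) (isMultTypeFT_of_chars C₃) (.inr inferInstance)
    have hk : Triv (κ ≫ j) k := (triv_iff_pullback_map (κ ≫ j) k).2 (by
      rw [Functor.map_comp, hφ, pullback_map_mapChS, mapChS_comp, show χ.comp φ = 0 from
        AddMonoidHom.ext fun x => (QuotientAddGroup.eq_zero_iff _).2 ⟨x, rfl⟩, mapChS_zero])
    let x := IsLocalRing.closedPoint K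
    have hs : k x ∈ U := by
      rw [hU]
      haveI : Surjective (Spec.map (k.residueFieldMap x)) :=
        ⟨fun q => ⟨IsLocalRing.closedPoint _, Subsingleton.elim _ _⟩⟩
      haveI : Flat (Spec.map (k.residueFieldMap x)) :=
        (HasRingHomProperty.Spec_iff (P := @Flat)).2 (RingHom.Flat.of_isField (Field.toIsField _) _)
      refine triv_of_flat_cover _ (Spec.map (k.residueFieldMap x)) ?_
      rw [Scheme.Hom.SpecMap_residueFieldMap_fromSpecResidueField]
      exact triv_comp _ hk _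
    have hall := clopen_top hUc hs
    have h1 : Triv (κ ≫ j) (𝟙 S) := triv_of_cover _ _ fun z =>
      ⟨_, U.ι, inferInstance, ⟨⟨z, hall ▸ trivial⟩, rfl⟩, hUt⟩
    let i : Red.DS S (M₁ ⧸ φ.range) ≅ (Over.map (𝟙 S)).obj (Red.DS S (M₁ ⧸ φ.range)) :=
      Over.isoMk (Iso.refl _) (by simp)
    have h2 := h1 _ i.inv
    rwa [← cancel_epi i.inv, MonObj.comp_one]
  obtain ⟨j', hj'hom, hj'⟩ := exists_factor_mapChS C₁ C₂ C₃ ψ χ hψ (QuotientAddGroup.mk'_surjective _)
    (by rw [QuotientAddGroup.ker_mk', hψr]) j hκ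
  refine ⟨_, _, inferInstance, mapChS C₁ C₂ ψ, j', inferInstance, hj'hom, ?_, chars_split C₂, hj'⟩
  obtain ⟨U, hUc, hU, hUP⟩ := exists_clopen_locus (MorphismProperty.monomorphisms Scheme.{u}) j' charCrit_mono
    (isMT_of_chars C₂) hG
  have hkP : MapP (MorphismProperty.monomorphisms Scheme.{u}) j' k := by
    haveI := isMonHom_map j' k
    obtain ⟨θ, hθ⟩ := exists_mapChS_field (C₂.baseChange k _) D ((Over.pullback k).map j')
    have h := congrArg ((Over.pullback k).map) hj'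
    rw [Functor.map_comp, hφ, hθ, pullback_map_mapChS, mapChS_comp] at h
    have hcomp : ψ.comp θ = φ := by
      refine AddMonoidHom.ext fun m => ?_
      obtain ⟨x, hx⟩ := exists_chr (C₁.baseChange k P) (MonoidAlgebra.of K (Multiplicative M₁))
      have h2 := congrArg (fun v => chr D (x ≫ v) (Multiplicative.ofAdd m)) h
      simp only [mapChS_eq_mapChar, chr_mapChar, hx] at h2
      exact congrArg Multiplicative.toAdd (MonoidAlgebra.of_injective h2)
    have hsurj : Function.Surjective θ := fun v => by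
      obtain ⟨m, hm⟩ : ψ v ∈ φ.range := hψr ▸ ⟨v, rfl⟩
      exact ⟨m, hψ ((DFunLike.congr_fun hcomp m).trans hm)⟩
    haveI := mono_mapChS (C₂.baseChange k _) D hsurj
    show Mono _
    rw [hθ]
    infer_instance
  have hs : k (IsLocalRing.closedPoint K) ∈ U := (hU _).2 (mapP_residue_of_field _ j' k hkP)
  haveI : Mono j'.left := left_prop_of_mapP_id (MorphismProperty.monomorphisms Scheme.{u}) j'
    (mapP_id_of_top _ j' U (clopen_top hUc hs) hUP)
  exact Over.mono_of_mono_left j'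

theorem exists_maximal_split [Nonempty ↥S] (hG : SGA3x.IsMultTypeFT G) :
    ∃ (r : ℕ) (T : Over S) (_ : GrpObj T) (j : T ⟶ G) (_ : IsMonHom j) (_ : Mono j),
      Red.IsSplitTorusWith (Fin r → ℤ) T ∧ ∀ (r' : ℕ) (T' : Over S) [GrpObj T'] (j' : T' ⟶ G) [IsMonHom j'] [Mono j'],
        Red.IsSplitTorusWith (Fin r' → ℤ) T' → r' ≤ r := by
  obtain ⟨n, hn⟩ := exists_rank_bound hG
  let p : ℕ → Prop := fun r => ∃ (T : Over S) (_ : GrpObj T) (j : T ⟶ G) (_ : IsMonHom j) (_ : Mono j),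
    Red.IsSplitTorusWith (Fin r → ℤ) T
  have h0 : p 0 := by
    let C := charsDS S (Fin 0 → ℤ)
    haveI : IsMonHom (1 : Red.DS S (Fin 0 → ℤ) ⟶ G) :=
      TorsorSch25.isMonHom_of_points _ fun T a b => by simp [MonObj.comp_one]
    refine ⟨_, inferInstance, 1, inferInstance, ⟨fun a b _ => C.inj fun m => ?_⟩, chars_split C⟩
    rw [show m = 1 from congrArg Multiplicative.ofAdd (funext fun i => i.elim0), map_one, map_one]
  classical
  let r := Nat.findGreatest p n
  obtain ⟨T, iT, j, hj, hjm, hT⟩ : p r := Nat.findGreatest_spec (Nat.zero_le n) h0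
  exact ⟨r, T, iT, j, hj, hjm, hT, fun r' T' _ j' _ _ hT' =>
    Nat.le_findGreatest (hn r' T' j' hT') ⟨T', inferInstance, j', inferInstance, inferInstance, hT'⟩⟩

theorem exists_maximal_splitSubtorus (hG : SGA3x.IsMultTypeFT G) :
    ∃ (T : Over S) (_ : GrpObj T) (j : T ⟶ G) (r : ℕ), IsMonHom j ∧ Mono j ∧ Red.IsSplitTorusWith (Fin r → ℤ) T ∧
      ∀ (T' : Over S) [GrpObj T'] (j' : T' ⟶ G) [IsMonHom j'] [Mono j'] (r' : ℕ) (g : T ⟶ T'),
        Red.IsSplitTorusWith (Fin r' → ℤ) T' → g ≫ j' = j → IsIso g := by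
  rcases isEmpty_or_nonempty ↥S with hS | hS
  · let C := charsDS S (Fin 0 → ℤ)
    haveI : IsMonHom (1 : Red.DS S (Fin 0 → ℤ) ⟶ G) :=
      TorsorSch25.isMonHom_of_points _ fun T a b => by simp [MonObj.comp_one]
    refine ⟨_, inferInstance, 1, 0, inferInstance, ⟨fun a b _ => C.inj fun m => ?_⟩, chars_split C,
      fun T' _ j' _ _ r' g _ _ => ?_⟩
    · rw [show m = 1 from congrArg Multiplicative.ofAdd (funext fun i => i.elim0), map_one, map_one]
    · haveI : IsEmpty T'.left := Function.isEmpty T'.hom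
      haveI : IsIso ((Over.forget S).map g) := inferInstanceAs (IsIso g.left)
      exact isIso_of_reflects_iso g (Over.forget S)
  obtain ⟨r, T, iT, j, hj, hjm, hT, hmax⟩ := exists_maximal_split hG
  refine ⟨T, iT, j, r, hj, hjm, hT, fun T' _ j' _ _ r' g hT' hg => ?_⟩
  haveI : Mono (g ≫ j') := hg ▸ hjm
  haveI : Mono g := mono_of_mono g j'
  haveI : IsMonHom g := TorsorSch25.isMonHom_of_points g fun X a b => (cancel_mono j').1 (by
    rw [Category.assoc, hg, MonObj.mul_comp, MonObj.mul_comp, Category.assoc, Category.assoc, hg])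
  obtain ⟨C⟩ := nonempty_chars hT
  obtain ⟨C'⟩ := nonempty_chars hT'
  obtain ⟨s⟩ := hS
  let k : Spec (CommRingCat.of (S.residueField s : Type u)) ⟶ S := S.fromSpecResidueField s
  haveI := isMonHom_map g k
  haveI : AddGroup.FG (Fin r' → ℤ) := AddGroup.fg_iff_mul_fg.2 inferInstance
  obtain ⟨φ, hφ⟩ := exists_surjective_of_mono (C.baseChange k T) (C'.baseChange k T') ((Over.pullback k).map g)
  have hle : r ≤ r' := by
    simpa using LinearMap.finrank_le_finrank_of_surjective (f := φ.toIntLinearMap) hφ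
  obtain rfl := le_antisymm hle (hmax r' T' j' hT')
  exact isIso_of_mono_chars C C' g

theorem exists_greatest_splitSubtorus [ConnectedSpace ↥S] (hG : SGA3x.IsMultTypeFT G) :
    ∃ (T : Over S) (_ : GrpObj T) (j : T ⟶ G) (r : ℕ), IsMonHom j ∧ Mono j ∧ Red.IsSplitTorusWith (Fin r → ℤ) T ∧
      ∀ (T' : Over S) [GrpObj T'] (j' : T' ⟶ G) [IsMonHom j'] [Mono j'] (r' : ℕ),
        Red.IsSplitTorusWith (Fin r' → ℤ) T' → ∃ g : T' ⟶ T, g ≫ j = j' := by
  obtain ⟨r, T, iT, j, hj, hjm, hT, hmax⟩ := exists_maximal_split hG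
  refine ⟨T, iT, j, r, hj, hjm, hT, fun T' _ j' _ _ r' hT' => ?_⟩
  obtain ⟨C⟩ := nonempty_chars hT
  obtain ⟨C'⟩ := nonempty_chars hT'
  haveI : AddGroup.FG ((Fin r → ℤ) × (Fin r' → ℤ)) := AddGroup.fg_iff_mul_fg.2 inferInstance
  let D := charsDS S ((Fin r → ℤ) × (Fin r' → ℤ))
  let p₁ := mapChS D C (AddMonoidHom.inl _ _)
  let p₂ := mapChS D C' (AddMonoidHom.inr _ _)
  let J : Red.DS S ((Fin r → ℤ) × (Fin r' → ℤ)) ⟶ G := (p₁ ≫ j) * (p₂ ≫ j')
  haveI : IsMonHom J := TorsorSch25.isMonHom_of_points J fun X a b => by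
    have h := commute_of_isMultTypeFT hG (b ≫ p₁ ≫ j) (a ≫ p₂ ≫ j')
    simp only [J, MonObj.comp_mul, MonObj.mul_comp, ← Category.assoc] at h ⊢
    rw [_root_.mul_assoc, ← _root_.mul_assoc ((b ≫ p₁) ≫ j), h]
    simp only [_root_.mul_assoc]
  obtain ⟨r'', T'', iT'', q, J', hq, hJ', hJ'm, hT'', hqJ⟩ := exists_image hG r D J
  letI := iT''
  let i₁ := mapChS C D (AddMonoidHom.fst _ _)
  let i₂ := mapChS C' D (AddMonoidHom.snd _ _)
  have h₁ : (i₁ ≫ q) ≫ J' = j := by
    rw [Category.assoc, hqJ]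
    simp only [J, i₁, p₁, p₂, MonObj.comp_mul, ← Category.assoc, mapChS_comp]
    rw [show (AddMonoidHom.fst (Fin r → ℤ) (Fin r' → ℤ)).comp (AddMonoidHom.inl _ _) = AddMonoidHom.id _ from rfl,
      mapChS_id, Category.id_comp,
      show (AddMonoidHom.fst (Fin r → ℤ) (Fin r' → ℤ)).comp (AddMonoidHom.inr _ _) = 0 from rfl, mapChS_zero,
      MonObj.one_comp, _root_.mul_one]
  have h₂ : (i₂ ≫ q) ≫ J' = j' := by
    rw [Category.assoc, hqJ]
    simp only [J, i₂, p₁, p₂, MonObj.comp_mul, ← Category.assoc, mapChS_comp]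
    rw [show (AddMonoidHom.snd (Fin r → ℤ) (Fin r' → ℤ)).comp (AddMonoidHom.inl _ _) = 0 from rfl, mapChS_zero,
      MonObj.one_comp, _root_.one_mul,
      show (AddMonoidHom.snd (Fin r → ℤ) (Fin r' → ℤ)).comp (AddMonoidHom.inr _ _) = AddMonoidHom.id _ from rfl,
      mapChS_id, Category.id_comp]
  haveI : Mono ((i₁ ≫ q) ≫ J') := h₁.symm ▸ hjm
  haveI : Mono (i₁ ≫ q) := mono_of_mono (i₁ ≫ q) J'
  obtain ⟨C''⟩ := nonempty_chars hT''
  obtain ⟨s⟩ : Nonempty ↥S := inferInstance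
  let k : Spec (CommRingCat.of (S.residueField s : Type u)) ⟶ S := S.fromSpecResidueField s
  haveI := isMonHom_map (i₁ ≫ q) k
  haveI : AddGroup.FG (Fin r'' → ℤ) := AddGroup.fg_iff_mul_fg.2 inferInstance
  obtain ⟨φ, hφ⟩ := exists_surjective_of_mono (C.baseChange k T) (C''.baseChange k T'')
    ((Over.pullback k).map (i₁ ≫ q))
  have hle : r ≤ r'' := by
    simpa using LinearMap.finrank_le_finrank_of_surjective (f := φ.toIntLinearMap) hφ
  obtain rfl := le_antisymm hle (hmax r'' T'' J' hT'')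
  haveI := isIso_of_mono_chars C C'' (i₁ ≫ q)
  have h₃ : inv (i₁ ≫ q) ≫ j = J' := (IsIso.inv_comp_eq _).2 h₁.symm
  exact ⟨i₂ ≫ q ≫ inv (i₁ ≫ q), by rw [Category.assoc, Category.assoc, h₃, ← Category.assoc, h₂]⟩

end Groth.Agent.MTRigid29
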