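import Groth.Agent.Lib.SchDesc12.Effective
import Groth.Prelude.Def_DescFam
import Mathlib.CategoryTheory.Sites.SubcanonicalOver
import Mathlib.AlgebraicGeometry.Sites.Fpqc

/-!
# Descent of representing objects

A sheaf for the fpqc topology on `S`-schemes which is representable over the members of a covering
family is representable over `S`, when the descent data on the representing schemes are effective.
-/

set_option autoImplicit false
set_option backward.isDefEq.respectTransparency false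
set_option backward.isDefEq.respectTransparency.types false

universe u

open CategoryTheory Limits AlgebraicGeometry Opposite

noncomputable section

namespace Groth.Agent.MTRigid29

section RepDesc

variable {S : Scheme.{u}} {κ : Type u} {V : κ → Scheme.{u}} (f : ∀ i, V i ⟶ S)

/-- The sieve of maps to `T` whose source factors through a member of the family. -/
def liftSieve (T : Over S) : Sieve T where
  arrows U _ := ∃ i, Nonempty (U ⟶ Over.mk (f i))
  downward_closed {U U' _} h g := by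
    obtain ⟨i, ⟨x⟩⟩ := h
    exact ⟨i, ⟨g ≫ x⟩⟩

theorem liftSieve_mem (hf : Presieve.ofArrows V f ∈ Scheme.fpqcPrecoverage S) (T : Over S) :
    liftSieve f T ∈ (Scheme.fpqcTopology.over S) T := by
  rw [GrothendieckTopology.mem_over_iff]
  refine Scheme.fpqcTopology.superset_covering ?_
    (Scheme.fpqcTopology.pullback_stable T.hom (Precoverage.generate_mem_toGrothendieck hf))
  intro Z g hg
  obtain ⟨W, a, b, ⟨i⟩, hab⟩ := hg
  rw [Sieve.overEquiv_iff]
  exact ⟨i, ⟨Over.homMk a hab⟩⟩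

variable (F : (Over S)ᵒᵖ ⥤ Type u) {W : ∀ i, Over (V i)}
  (ξ : ∀ i, F.obj (op ((Over.map (f i)).obj (W i))))

theorem map_map_apply {A B C : Over S} (g : A ⟶ B) (h : B ⟶ C) (a : F.obj (op C)) :
    F.map g.op (F.map h.op a) = F.map (g ≫ h).op a := by
  rw [op_comp, Functor.map_comp]
  rfl

theorem map_id_apply' {A : Over S} (a : F.obj (op A)) : F.map (𝟙 A).op a = a := by
  rw [op_id, F.map_id]
  rfl

variable {F}

/-- The morphism to the pushed forward scheme given by a point over a point of the family. -/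
def ptMor {T : Over S} {i : κ} (x : T ⟶ Over.mk (f i)) (v : Desc.Lifts (W i) x.left) :
    T ⟶ (Over.map (f i)).obj (W i) :=
  Over.homMk v.1 (by
    show v.1 ≫ (W i).hom ≫ f i = T.hom
    rw [← Category.assoc, v.2]
    exact Over.w x)

/-- The section of `F` given by a point over a point of the family. -/
def evalPt {T : Over S} {i : κ} (x : T ⟶ Over.mk (f i)) (v : Desc.Lifts (W i) x.left) : F.obj (op T) :=
  F.map (ptMor f x v).op (ξ i)

theorem evalPt_nat {T T' : Over S} {i : κ} (a : T' ⟶ T) {x : T ⟶ Over.mk (f i)} {x' : T' ⟶ Over.mk (f i)}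
    (v : Desc.Lifts (W i) x.left) (v' : Desc.Lifts (W i) x'.left) (hv : v'.1 = a.left ≫ v.1) :
    evalPt f ξ x' v' = F.map a.op (evalPt f ξ x v) := by
  show F.map _ (ξ i) = F.map a.op (F.map _ (ξ i))
  rw [map_map_apply, show a ≫ ptMor f x v = ptMor f x' v' from Over.OverMorphism.ext hv.symm]

variable (hrep : ∀ (i : κ) (T : Over (V i)) (η : F.obj (op ((Over.map (f i)).obj T))),
  ∃! w : T ⟶ W i, F.map ((Over.map (f i)).map w).op (ξ i) = η)

include hrep

theorem evalPt_bijective {T : Over S} {i : κ} (x : T ⟶ Over.mk (f i)) :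
    Function.Bijective (evalPt f ξ (W := W) x) := by
  let T' : Over (V i) := Over.mk x.left
  let e : (Over.map (f i)).obj T' ≅ T := Over.isoMk (Iso.refl _) ((Category.id_comp _).trans (Over.w x).symm)
  let w : Desc.Lifts (W i) x.left → (T' ⟶ W i) := fun v => Over.homMk v.1 v.2
  have hw : ∀ v, evalPt f ξ x v = F.map e.inv.op (F.map ((Over.map (f i)).map (w v)).op (ξ i)) := by
    intro v
    rw [map_map_apply]
    exact congrArg (fun m => F.map m.op (ξ i)) (Over.OverMorphism.ext (Category.id_comp _).symm)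
  have hinv : ∀ η, F.map e.hom.op (F.map e.inv.op η) = η := fun η => by
    rw [map_map_apply, e.hom_inv_id, map_id_apply']
  have hinv' : ∀ η, F.map e.inv.op (F.map e.hom.op η) = η := fun η => by
    rw [map_map_apply, e.inv_hom_id, map_id_apply']
  refine ⟨fun v v' h => ?_, fun η => ?_⟩
  · rw [hw, hw] at h
    have h' := congrArg (F.map e.hom.op) h
    rw [hinv, hinv] at h'
    exact Subtype.ext (congrArg CommaMorphism.left ((hrep i T' _).unique h' rfl))
  · obtain ⟨m, hm, -⟩ := hrep i T' (F.map e.hom.op η)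
    refine ⟨⟨m.left, Over.w m⟩, ?_⟩
    rw [hw]
    exact (congrArg (F.map e.inv.op) hm).trans (hinv' η)

/-- The points over a point of the family are the sections of `F`. -/
def evalEquiv {T : Over S} {i : κ} (x : T ⟶ Over.mk (f i)) : Desc.Lifts (W i) x.left ≃ F.obj (op T) :=
  Equiv.ofBijective _ (evalPt_bijective f ξ hrep x)

/-- The descent datum on the representing schemes. -/
def repDD : Desc.SchDDFam f where
  obj := W
  φ T i j x₀ x₁ h :=
    (evalEquiv f ξ hrep (T := Over.mk (x₀ ≫ f i)) (Over.homMk x₀ : Over.mk (x₀ ≫ f i) ⟶ Over.mk (f i))).trans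
      (evalEquiv f ξ hrep (Over.homMk x₁ h.symm : Over.mk (x₀ ≫ f i) ⟶ Over.mk (f j))).symm
  φ_natural T T' g i j x₀ x₁ h y₀ y₁ hy₀ hy₁ h' v v' hv' := by
    let X₀ : Over.mk (x₀ ≫ f i) ⟶ Over.mk (f i) := Over.homMk x₀
    let X₁ : Over.mk (x₀ ≫ f i) ⟶ Over.mk (f j) := Over.homMk x₁ h.symm
    let Y₀ : Over.mk (y₀ ≫ f i) ⟶ Over.mk (f i) := Over.homMk y₀
    let Y₁ : Over.mk (y₀ ≫ f i) ⟶ Over.mk (f j) := Over.homMk y₁ h'.symm
    let A : Over.mk (y₀ ≫ f i) ⟶ Over.mk (x₀ ≫ f i) :=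
      Over.homMk g ((Category.assoc _ _ _).symm.trans (congrArg (fun q => q ≫ f i) hy₀))
    let z := (evalEquiv f ξ hrep X₁).symm (evalEquiv f ξ hrep X₀ v)
    let z' : Desc.Lifts (W j) Y₁.left := ⟨g ≫ z.1, by rw [Category.assoc, z.2]; exact hy₁⟩
    have h1 : evalEquiv f ξ hrep Y₁ z' = evalEquiv f ξ hrep Y₀ v' :=
      (evalPt_nat f ξ A z z' rfl).trans
        ((congrArg (F.map A.op) ((evalEquiv f ξ hrep X₁).apply_symm_apply _)).trans
          (evalPt_nat f ξ A (x := X₀) (x' := Y₀) v v' hv').symm)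
    exact congrArg Subtype.val ((Equiv.symm_apply_eq _).2 h1.symm)
  φ_self T i x v :=
    (evalEquiv f ξ hrep (Over.homMk x : Over.mk (x ≫ f i) ⟶ Over.mk (f i))).symm_apply_apply v
  φ_comp T i j k x₀ x₁ x₂ h₀₁ h₁₂ v := by
    let X₀ : Over.mk (x₀ ≫ f i) ⟶ Over.mk (f i) := Over.homMk x₀
    let X₁ : Over.mk (x₀ ≫ f i) ⟶ Over.mk (f j) := Over.homMk x₁ h₀₁.symm
    let X₂ : Over.mk (x₀ ≫ f i) ⟶ Over.mk (f k) := Over.homMk x₂ (h₁₂.symm.trans h₀₁.symm)
    let Y₁ : Over.mk (x₁ ≫ f j) ⟶ Over.mk (f j) := Over.homMk x₁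
    let Y₂ : Over.mk (x₁ ≫ f j) ⟶ Over.mk (f k) := Over.homMk x₂ h₁₂.symm
    let A : Over.mk (x₀ ≫ f i) ⟶ Over.mk (x₁ ≫ f j) :=
      Over.homMk (𝟙 T) ((Category.id_comp _).trans h₀₁.symm)
    let z := (evalEquiv f ξ hrep X₁).symm (evalEquiv f ξ hrep X₀ v)
    let z' := (evalEquiv f ξ hrep Y₂).symm (evalEquiv f ξ hrep Y₁ z)
    have h1 : evalEquiv f ξ hrep X₂ z' = evalEquiv f ξ hrep X₁ z :=
      (evalPt_nat f ξ A (x := Y₂) (x' := X₂) z' z' (Category.id_comp _).symm).trans
        ((congrArg (F.map A.op) ((evalEquiv f ξ hrep Y₂).apply_symm_apply _)).trans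
          (evalPt_nat f ξ A (x := Y₁) (x' := X₁) z z (Category.id_comp _).symm).symm)
    have h2 : evalEquiv f ξ hrep X₂ z' = evalEquiv f ξ hrep X₀ v :=
      h1.trans ((evalEquiv f ξ hrep X₁).apply_symm_apply _)
    exact ((Equiv.symm_apply_eq _).2 h2.symm).symm

theorem evalPt_φ {T : Over S} {i j : κ} (x₀ : T ⟶ Over.mk (f i)) (x₁ : T ⟶ Over.mk (f j))
    (h : x₀.left ≫ f i = x₁.left ≫ f j) (v : Desc.Lifts (W i) x₀.left) :
    evalPt f ξ x₁ ((repDD f ξ hrep).φ x₀.left x₁.left h v) = evalPt f ξ x₀ v := by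
  let X₀ : Over.mk (x₀.left ≫ f i) ⟶ Over.mk (f i) := Over.homMk x₀.left
  let X₁ : Over.mk (x₀.left ≫ f i) ⟶ Over.mk (f j) := Over.homMk x₁.left h.symm
  let A : T ⟶ Over.mk (x₀.left ≫ f i) := Over.homMk (𝟙 _) ((Category.id_comp _).trans (Over.w x₀))
  let z := (evalEquiv f ξ hrep X₁).symm (evalEquiv f ξ hrep X₀ v)
  exact (evalPt_nat f ξ A (x := X₁) (x' := x₁) z z (Category.id_comp _).symm).trans
    ((congrArg (F.map A.op) ((evalEquiv f ξ hrep X₁).apply_symm_apply _)).trans
      (evalPt_nat f ξ A (x := X₀) (x' := x₀) v v (Category.id_comp _).symm).symm)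

/-- A sheaf which is representable over the members of an fpqc family, with effective descent data on the
representing schemes, is representable. -/
theorem exists_rep_of_cover (hf : Presieve.ofArrows V f ∈ Scheme.fpqcPrecoverage S)
    (hF : Presieve.IsSheaf (Scheme.fpqcTopology.over S) F)
    (heff : ∀ D : Desc.SchDDFam f, (∀ i, D.obj i = W i) → D.IsEffective) :
    ∃ (A : Over S) (a : F.obj (op A)), ∀ (T : Over S) (η : F.obj (op T)), ∃! g : T ⟶ A, F.map g.op a = η := by
  obtain ⟨U, ⟨e⟩⟩ := heff (repDD f ξ hrep) fun _ => rfl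
  let toU : ∀ {T : Over S} {i : κ} (x : T ⟶ Over.mk (f i)) (y : T ⟶ U),
      Desc.Lifts ((Desc.canonicalDDFam f U).obj i) x.left := fun {T i} x y =>
    ⟨pullback.lift x.left y.left ((Over.w x).trans (Over.w y).symm), pullback.lift_fst _ _ _⟩
  let co : ∀ {T : Over S} {i : κ}, (T ⟶ Over.mk (f i)) → (T ⟶ U) → F.obj (op T) := fun {T i} x y =>
    evalPt f ξ x (e.hom.push (toU x y))
  have co_nat : ∀ {T T' : Over S} {i : κ} (a : T' ⟶ T) (x : T ⟶ Over.mk (f i)) (y : T ⟶ U),
      co (a ≫ x) (a ≫ y) = F.map a.op (co x y) := by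
    intro T T' i a x y
    refine evalPt_nat f ξ a _ _ ?_
    show (toU (a ≫ x) (a ≫ y)).1 ≫ (e.hom.hom i).left = a.left ≫ (toU x y).1 ≫ (e.hom.hom i).left
    rw [← Category.assoc, show (toU (a ≫ x) (a ≫ y)).1 = a.left ≫ (toU x y).1 from
      pullback.hom_ext (by simp [toU]) (by simp [toU])]
  have co_indep : ∀ {T : Over S} {i j : κ} (x : T ⟶ Over.mk (f i)) (x' : T ⟶ Over.mk (f j)) (y : T ⟶ U),
      co x y = co x' y := by
    intro T i j x x' y
    have hh : x.left ≫ f i = x'.left ≫ f j := (Over.w x).trans (Over.w x').symm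
    have hc := e.hom.comm x.left x'.left hh (toU x y) (e.hom.push (toU x y)) rfl
    have hcan : ((Desc.canonicalDDFam f U).φ x.left x'.left hh (toU x y)).1 = (toU x' y).1 :=
      pullback.hom_ext ((pullback.lift_fst _ _ _).trans (toU x' y).2.symm)
        ((pullback.lift_snd _ _ _).trans (by simp [toU]))
    have hval : e.hom.push (toU x' y) = (repDD f ξ hrep).φ x.left x'.left hh (e.hom.push (toU x y)) :=
      Subtype.ext (((congrArg (fun q => q ≫ (e.hom.hom j).left) hcan.symm)).trans hc.symm)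
    show evalPt f ξ x _ = evalPt f ξ x' _
    rw [hval, evalPt_φ]
  have co_bij : ∀ {T : Over S} {i : κ} (x : T ⟶ Over.mk (f i)), Function.Bijective (co x) := by
    intro T i x
    have hcomp : ∀ v : Desc.Lifts ((Desc.canonicalDDFam f U).obj i) x.left, e.inv.push (e.hom.push v) = v :=
      fun v => Subtype.ext (by
        show (v.1 ≫ (e.hom.hom i).left) ≫ (e.inv.hom i).left = v.1
        rw [Category.assoc, ← Over.comp_left, ← Desc.SchDDFam.comp_hom, e.hom_inv_id]
        exact Category.comp_id _)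
    refine ⟨fun y y' h => ?_, fun η => ?_⟩
    · have h1 : e.hom.push (toU x y) = e.hom.push (toU x y') := (evalPt_bijective f ξ hrep x).1 h
      have h2 := congrArg (fun v => e.inv.push v) h1
      rw [hcomp, hcomp] at h2
      refine Over.OverMorphism.ext ?_
      simpa [toU] using congrArg (fun v => v.1 ≫ pullback.snd (f i) U.hom) h2
    · obtain ⟨w, hw⟩ := (evalPt_bijective f ξ hrep x).2 η
      let v : Desc.Lifts ((Desc.canonicalDDFam f U).obj i) x.left := e.inv.push w
      let y₀ : T ⟶ U := Over.homMk (v.1 ≫ pullback.snd (f i) U.hom) (by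
        have e1 : v.1 ≫ pullback.fst (f i) U.hom = x.left := v.2
        rw [Category.assoc, ← pullback.condition, reassoc_of% e1]
        exact Over.w x)
      refine ⟨y₀, ?_⟩
      have hv : toU x y₀ = v :=
        Subtype.ext (pullback.hom_ext ((pullback.lift_fst _ _ _).trans v.2.symm) (pullback.lift_snd _ _ _))
      show evalPt f ξ x (e.hom.push (toU x _)) = η
      rw [hv, show e.hom.push (e.inv.push w) = w from Subtype.ext (by
        show (w.1 ≫ (e.inv.hom i).left) ≫ (e.hom.hom i).left = w.1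
        rw [Category.assoc, ← Over.comp_left, ← Desc.SchDDFam.comp_hom, e.inv_hom_id]
        exact Category.comp_id _), hw]
  have hUsheaf : Presieve.IsSheaf (Scheme.fpqcTopology.over S) (yoneda.obj U) :=
    GrothendieckTopology.Subcanonical.isSheaf_of_isRepresentable _
  have hFs : ∀ T : Over S, Presieve.IsSheafFor F (liftSieve f T).arrows := fun T =>
    hF _ (liftSieve_mem f hf T)
  have hUs : ∀ T : Over S, Presieve.IsSheafFor (yoneda.obj U) (liftSieve f T).arrows := fun T =>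
    hUsheaf _ (liftSieve_mem f hf T)
  have main : ∀ (T : Over S) (u : T ⟶ U), ∃! η : F.obj (op T),
      ∀ (T' : Over S) (p : T' ⟶ T) (i : κ) (x : T' ⟶ Over.mk (f i)), F.map p.op η = co x (p ≫ u) := by
    intro T u
    let fam : Presieve.FamilyOfElements F (liftSieve f T).arrows := fun {T'} p hp =>
      co hp.choose_spec.some (p ≫ u)
    have hcompat : fam.Compatible := by
      intro Y₁ Y₂ Z g₁ g₂ p₁ p₂ h₁ h₂ hgp
      show F.map g₁.op (co _ _) = F.map g₂.op (co _ _)
      rw [← co_nat, ← co_nat, reassoc_of% hgp]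
      exact co_indep _ _ _
    obtain ⟨η, hη, huniq⟩ := hFs T fam hcompat
    refine ⟨η, fun T' p i x => ?_, fun η' hη' => huniq η' fun T' p hp => hη' T' p _ _⟩
    exact (hη p ⟨i, ⟨x⟩⟩).trans (co_indep _ _ _)
  choose Φ hΦ hΦu using main
  have Φ_nat : ∀ {T T' : Over S} (g : T' ⟶ T) (u : T ⟶ U), Φ T' (g ≫ u) = F.map g.op (Φ T u) := by
    intro T T' g u
    refine (hΦu T' (g ≫ u) _ fun Z p i x => ?_).symm
    rw [map_map_apply, hΦ T u Z (p ≫ g) i x, Category.assoc]
  refine ⟨U, Φ U (𝟙 U), fun T η => ?_⟩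
  have hΦg : ∀ g : T ⟶ U, F.map g.op (Φ U (𝟙 U)) = Φ T g := fun g => by
    rw [← Φ_nat, Category.comp_id]
  let fam : Presieve.FamilyOfElements (yoneda.obj U) (liftSieve f T).arrows := fun {T'} p hp =>
    ((co_bij hp.choose_spec.some).2 (F.map p.op η)).choose
  have hfam : ∀ {T' : Over S} (p : T' ⟶ T) (hp : liftSieve f T p) {i : κ} (x : T' ⟶ Over.mk (f i)),
      co x (fam p hp) = F.map p.op η := fun {T'} p hp i x =>
    (co_indep x _ _).trans ((co_bij hp.choose_spec.some).2 (F.map p.op η)).choose_spec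
  have hcompat : fam.Compatible := by
    intro Y₁ Y₂ Z g₁ g₂ p₁ p₂ h₁ h₂ hgp
    obtain ⟨i, ⟨x⟩⟩ := h₁
    obtain ⟨j, ⟨x'⟩⟩ := h₂
    show g₁ ≫ fam p₁ _ = g₂ ≫ fam p₂ _
    refine (co_bij (g₁ ≫ x)).1 ?_
    rw [co_nat, hfam, co_indep (g₁ ≫ x) (g₂ ≫ x'), co_nat, hfam, map_map_apply, map_map_apply, hgp]
  obtain ⟨g, hg, guniq⟩ := hUs T fam hcompat
  have hsep := (hFs T).isSeparatedFor
  refine ⟨g, ?_, fun g' hg' => guniq g' fun T' p hp => ?_⟩
  · refine (hΦg g).trans (hsep.ext fun T' p hp => ?_)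
    obtain ⟨i, ⟨x⟩⟩ := hp
    rw [hΦ T g T' p i x, show p ≫ g = fam p ⟨i, ⟨x⟩⟩ from hg p ⟨i, ⟨x⟩⟩, hfam]
  · obtain ⟨i, ⟨x⟩⟩ := hp
    show p ≫ g' = fam p _
    refine (co_bij x).1 ?_
    rw [hfam, ← hΦ T g' T' p i x, ← hΦg, hg']

end RepDesc

end Groth.Agent.MTRigid29
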