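import Groth.Agent.Lib.MTRigid29.MonoFibres

/-!
# A homomorphism out of a group of multiplicative type injective on a fibre is injective nearby
-/

set_option autoImplicit false
set_option linter.style.haveILetI false
set_option backward.isDefEq.respectTransparency.types false
set_option maxSynthPendingDepth 3
set_option synthInstance.maxHeartbeats 200000
set_option maxHeartbeats 800000

universe u

open CategoryTheory Limits MonoidalCategory CartesianMonoidalCategory MonObj AlgebraicGeometry Opposite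
open scoped TensorProduct

noncomputable section

namespace Groth.Agent.MTRigid29

open DiagGL

section Indep

open Submodule in
/-- Group-like elements for any comultiplication map are linearly independent. -/
theorem linearIndepOn_diag {K C : Type u} [Field K] [CommRing C] [Algebra K C] (δ : C →ₗ[K] C ⊗[K] C) :
    LinearIndepOn K id {a : C | δ a = a ⊗ₜ[K] a ∧ a ≠ 0} := by
  classical
  rw [linearIndepOn_iff_linearIndepOn_finset]
  rintro s hs
  induction s using Finset.cons_induction with
  | empty => simp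
  | cons a s has ih =>
  simp only [Finset.cons_eq_insert, Finset.coe_insert, Set.subset_def, Set.mem_insert_iff,
    Finset.mem_coe, Set.mem_ofPred_eq, forall_eq_or_imp] at hs
  obtain ⟨ha, hs⟩ := hs
  specialize ih hs
  rw [Finset.coe_cons]
  refine ih.id_insert' ?_
  simp only [mem_span_finset, forall_exists_index, and_imp]
  rintro d c - hc
  replace ih := ih.tmul_of_isDomain ih
  simp_rw [← Finset.coe_product, linearIndepOn_finset_iffₛ, id] at ih
  have key := calc
        ∑ x ∈ s, ∑ y ∈ s, (if x = y then d * c x else 0) • x ⊗ₜ[K] y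
    _ = d • ∑ x ∈ s, c x • x ⊗ₜ[K] x := by simp [Finset.smul_sum, mul_smul]
    _ = d • δ (d • a) := by rw [← hc]; simp +contextual [(hs _ _).1]
    _ = (d • a) ⊗ₜ (d • a) := by simp [ha.1, TensorProduct.smul_tmul, TensorProduct.tmul_smul, -neg_smul]
    _ = ∑ x ∈ s, ∑ y ∈ s, (c x * c y) • x ⊗ₜ[K] y := by
      simp_rw [← hc, TensorProduct.sum_tmul, TensorProduct.smul_tmul, Finset.smul_sum, TensorProduct.tmul_sum,
        TensorProduct.tmul_smul, mul_smul]
  simp_rw [← Finset.sum_product'] at key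
  apply ih at key
  replace key x (hx : x ∈ s) : c x = 0 := by
    by_contra! hcx
    have hcy (y) (hys : y ∈ s) (hyx : y ≠ x) : c y = 0 := by
      simpa [*] using (key (y, x) (by simp [*])).symm
    rw [Finset.sum_eq_single x (by simp +contextual [hcy]) (by simp [hx])] at hc
    have hcxa : d = c x := mul_left_injective₀ hcx (by simpa using (key (x, x) (by simp [*])))
    obtain rfl : x = a := by rwa [hcxa, smul_right_inj hcx] at hc
    contradiction
  simp_all [ha.2, eq_comm]

/-- A linear relation among group-like values holds coset by coset. -/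
theorem mapDomain_eq_zero {D K C M Q : Type u} [CommRing D] [Field K] [Algebra D K] [CommRing C] [Algebra K C]
    [Algebra D C] [IsScalarTower D K C] (hinj : Function.Injective (algebraMap D K)) [Group M] [Group Q]
    (q : M →* Q) (V : MonoidAlgebra D M →ₐ[D] C) (ν : Q → C) (hν : Function.Injective ν)
    (hV : ∀ m, V (MonoidAlgebra.single m 1) = ν (q m)) (δ : C →ₗ[K] C ⊗[K] C)
    (hδ : ∀ x, δ (ν x) = ν x ⊗ₜ[K] ν x ∧ ν x ≠ 0) (y : MonoidAlgebra D M) (hy : V y = 0) :
    MonoidAlgebra.mapDomainAlgHom D D q y = 0 := by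
  classical
  let T : MonoidAlgebra D Q →ₗ[D] C :=
    (Finsupp.linearCombination D ν) ∘ₗ (MonoidAlgebra.coeffLinearEquiv D).toLinearMap
  have hT : ∀ y, T (MonoidAlgebra.mapDomainAlgHom D D q y) = V y := by
    intro y
    induction y using MonoidAlgebra.induction_linear with
    | zero => simp
    | add a b ha hb => simp only [map_add, ha, hb]
    | single m r =>
      rw [show MonoidAlgebra.single m r = r • MonoidAlgebra.single m (1 : D) by simp, map_smul, map_smul, map_smul, hV]
      simp [T]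
  have hli : LinearIndependent K ν :=
    (linearIndepOn_diag δ).comp (fun x => ⟨ν x, hδ x⟩) fun a b h => hν (congrArg Subtype.val h)
  have hD : LinearIndependent D ν :=
    hli.restrict_scalars fun a b h => hinj (by simpa [Algebra.smul_def] using h)
  have h0 : T (MonoidAlgebra.mapDomainAlgHom D D q y) = 0 := by rw [hT, hy]
  have h1 : (MonoidAlgebra.coeffLinearEquiv D) (MonoidAlgebra.mapDomainAlgHom D D q y) = 0 :=
    hD (h0.trans (map_zero _).symm)
  exact (LinearEquiv.map_eq_zero_iff _).1 h1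

end Indep

variable {R : Type u} [CommRing R] {A : Type u} [CommRing A] [HopfAlgebra R A]

/-- A split algebra is diagonalisable over some domain dominating two comparable primes. -/
theorem exists_domain_split (hA : IsSplit (R := R) A) (p q : Ideal R) [p.IsPrime] [q.IsPrime] (hpq : p ≤ q) :
    ∃ (D : Type u) (_ : CommRing D) (_ : IsDomain D) (_ : Algebra R D) (Q : Ideal D) (_ : Q.IsPrime),
      Q.comap (algebraMap R D) = q ∧ RingHom.ker (algebraMap R D) = p ∧ SGA3b.IsDiag D (D ⊗[R] A) := by
  classical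
  obtain ⟨κ, _, T, _, _, hff, hd⟩ := hA
  haveI := hff
  haveI := Fintype.ofFinite κ
  obtain ⟨Q', hQ'⟩ := PrimeSpectrum.comap_surjective_of_faithfullyFlat (A := R) (B := Π i, T i) ⟨q, inferInstance⟩
  haveI : Q'.asIdeal.LiesOver q := ⟨(congrArg PrimeSpectrum.asIdeal hQ').symm⟩
  obtain ⟨P', hP'le, hP', hP'p⟩ := Q'.asIdeal.exists_ideal_le_liesOver_of_le (p := p) (q := q) hpq
  haveI := hP'
  let D := (Π i, T i) ⧸ P'
  let π : (Π i, T i) →ₐ[R] D := Ideal.Quotient.mkₐ R P'
  obtain ⟨k, hk⟩ : ∃ k, π (Pi.single k 1) ≠ 0 := by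
    by_contra hcon
    push Not at hcon
    have : π (∑ k, Pi.single k 1) = 0 := by rw [map_sum]; exact Finset.sum_eq_zero fun k _ => hcon k
    rw [show (∑ k, Pi.single k (1 : T k)) = (1 : Π k, T k) from Finset.univ_sum_single (1 : Π k, T k), map_one] at this
    exact one_ne_zero this
  have hk1 : π (Pi.single k 1) = 1 := by
    have h2 : π (Pi.single k 1) * π (Pi.single k 1) = π (Pi.single k 1) := by
      rw [← map_mul, ← Pi.single_mul, _root_.mul_one]
    exact (mul_eq_left₀ hk).mp h2
  let φ : T k →+* D :=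
    { toFun := fun t => π (Pi.single k t)
      map_one' := hk1
      map_mul' := fun a b => by rw [← map_mul, ← Pi.single_mul]
      map_zero' := by simp
      map_add' := fun a b => by rw [Pi.single_add, map_add] }
  letI : Algebra (T k) D := φ.toAlgebra
  haveI : IsScalarTower R (T k) D := IsScalarTower.of_algebraMap_eq fun r => by
    show algebraMap R D r = π (Pi.single k (algebraMap R (T k) r))
    rw [show Pi.single k (algebraMap R (T k) r) = algebraMap R (Π i, T i) r * Pi.single k 1 from ?_,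
      map_mul, hk1, _root_.mul_one, AlgHom.commutes]
    funext i
    rcases eq_or_ne i k with h | h
    · subst h; simp
    · simp [h]
  refine ⟨D, inferInstance, inferInstance, inferInstance, Q'.asIdeal.map (Ideal.Quotient.mk P'),
    Ideal.map_isPrime_of_surjective Ideal.Quotient.mk_surjective (by rw [Ideal.mk_ker]; exact hP'le), ?_, ?_,
    MultTypeLib.isDiag_baseChange (T k) D (hd k)⟩
  · rw [IsScalarTower.algebraMap_eq R (Π i, T i) D, ← Ideal.comap_comap]
    show ((Q'.asIdeal.map (Ideal.Quotient.mk P')).comap (Ideal.Quotient.mk P')).comap _ = q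
    rw [Ideal.comap_map_of_surjective _ Ideal.Quotient.mk_surjective, ← RingHom.ker_eq_comap_bot, Ideal.mk_ker,
      sup_eq_left.2 hP'le]
    exact congrArg PrimeSpectrum.asIdeal hQ'
  · rw [IsScalarTower.algebraMap_eq R (Π i, T i) D, ← RingHom.comap_ker]
    show (RingHom.ker (Ideal.Quotient.mk P')).comap _ = p
    rw [Ideal.mk_ker]
    exact (hP'p.over).symm

variable {G : Over (Spec (CommRingCat.of R))} [GrpObj G] {w : Pts G A} (I : Ideal A)

set_option maxHeartbeats 1600000 in
/-- Triviality of the kernel at a specialisation gives it at the generisation. -/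
theorem fibre_trivial_of_specializes (hA : IsSplit (R := R) A)
    (hI : ∀ {B : Type u} [CommRing B] [Algebra R B] (f : A →ₐ[R] B), pmap f w = 1 ↔ ∀ x ∈ I, f x = 0)
    (hmul : ∀ {B : Type u} [CommRing B] [Algebra R B] (f g : A →ₐ[R] B), pmap f w = 1 → pmap g w = 1 →
      pmap ((Algebra.TensorProduct.lift f g fun _ _ => .all _ _).comp (Bialgebra.comulAlgHom R A)) w = 1)
    (p q : Ideal R) [p.IsPrime] [q.IsPrime] (hpq : p ≤ q)
    (hfib : ∀ (C : Type u) [CommRing C] [Algebra R C], (∀ r ∈ q, algebraMap R C r = 0) →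
      (∀ r ∉ q, IsUnit (algebraMap R C r)) → ∀ f : A →ₐ[R] C, pmap f w = 1 → f = triPt R A C)
    (C : Type u) [CommRing C] [Algebra R C] (h0 : ∀ r ∈ p, algebraMap R C r = 0)
    (h1 : ∀ r ∉ p, IsUnit (algebraMap R C r)) (f : A →ₐ[R] C) (hf : pmap f w = 1) : f = triPt R A C := by
  classical
  obtain ⟨D, _, _, _, Q, _, hQ, hker, M, _, ⟨E⟩⟩ := exists_domain_split hA p q hpq
  -- enlarge `C` to an algebra over the fraction field of `D`
  let Kp := p.ResidueField
  let K := FractionRing D
  have hK0 : p ≤ RingHom.ker (algebraMap R K) := fun r hr => by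
    rw [RingHom.mem_ker, IsScalarTower.algebraMap_apply R D K, RingHom.mem_ker.1 (hker.symm ▸ hr : r ∈ RingHom.ker _),
      map_zero]
  have hK1 : p.primeCompl ≤ (IsUnit.submonoid K).comap (algebraMap R K) := fun r hr => by
    refine Ne.isUnit fun h => hr ?_
    rw [IsScalarTower.algebraMap_apply R D K, ← map_zero (algebraMap D K)] at h
    exact hker ▸ RingHom.mem_ker.2 (IsFractionRing.injective D K h)
  letI : Algebra Kp C := (Ideal.ResidueField.lift p (algebraMap R C) h0 h1).toAlgebra
  letI : Algebra Kp K := (Ideal.ResidueField.lift p (algebraMap R K) hK0 hK1).toAlgebra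
  haveI : IsScalarTower R Kp C := IsScalarTower.of_algebraMap_eq fun r =>
    (Ideal.ResidueField.lift_algebraMap p (algebraMap R C) h0 h1 r).symm
  haveI : IsScalarTower R Kp K := IsScalarTower.of_algebraMap_eq fun r =>
    (Ideal.ResidueField.lift_algebraMap p (algebraMap R K) hK0 hK1 r).symm
  let C' := K ⊗[Kp] C
  let inC : C →ₐ[R] C' := (Algebra.TensorProduct.includeRight : C →ₐ[Kp] C').restrictScalars R
  have hinj : Function.Injective inC :=
    Algebra.TensorProduct.includeRight_injective (R := Kp) (algebraMap Kp K).injective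
  refine AlgHom.ext fun a => hinj ?_
  -- the universal point over `K`
  let J : Ideal (K ⊗[R] A) := I.map (Algebra.TensorProduct.includeRight : A →ₐ[R] K ⊗[R] A)
  let CK := (K ⊗[R] A) ⧸ J
  let π : A →ₐ[R] CK := (Ideal.Quotient.mkₐ R J).comp Algebra.TensorProduct.includeRight
  have hπ : pmap π w = 1 := (hI π).2 fun x hx => Ideal.Quotient.eq_zero_iff_mem.2 (Ideal.mem_map_of_mem _ hx)
  suffices huniv : π = triPt R A CK by
    let Φ : K ⊗[R] A →ₐ[K] C' := Algebra.TensorProduct.lift (Algebra.ofId K C') (inC.comp f) fun _ _ => .all _ _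
    have hΦ : ∀ x, Φ ((1 : K) ⊗ₜ[R] x) = inC (f x) := fun x =>
      (Algebra.TensorProduct.lift_tmul _ _ _ _ _).trans (by rw [map_one, _root_.one_mul]; rfl)
    have hJ : J ≤ RingHom.ker Φ.toRingHom := by
      refine Ideal.map_le_iff_le_comap.2 fun x hx => ?_
      show Φ ((1 : K) ⊗ₜ[R] x) = 0
      rw [hΦ, (hI f).1 hf x hx, map_zero]
    let Ψ : CK →ₐ[K] C' := Ideal.Quotient.liftₐ J Φ hJ
    have h2 := congrArg Ψ (DFunLike.congr_fun huniv a)
    refine ((hΦ a).symm.trans h2).trans ?_
    show (Ψ.restrictScalars R) (algebraMap R CK _) = inC (algebraMap R C _)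
    rw [AlgHom.commutes, AlgHom.commutes]
  -- the group-like elements of `D ⊗ A` in the universal point
  let πD : D ⊗[R] A →ₐ[D] CK := Algebra.TensorProduct.lift (Algebra.ofId D CK) π fun _ _ => .all _ _
  have hπD : ∀ x, πD ((1 : D) ⊗ₜ[R] x) = π x := fun x =>
    (Algebra.TensorProduct.lift_tmul _ _ _ _ _).trans (by rw [map_one, _root_.one_mul])
  let V : MonoidAlgebra D M →ₐ[D] CK := πD.comp (E.symm : MonoidAlgebra D M ≃ₐ[D] D ⊗[R] A).toAlgHom
  let v : M →* CK := (V : MonoidAlgebra D M →* CK).comp (MonoidAlgebra.of D M)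
  let cR₁ : CK →ₐ[R] CK ⊗[K] CK := (Algebra.TensorProduct.includeLeft (S := K)).restrictScalars R
  let cR₂ : CK →ₐ[R] CK ⊗[K] CK := (Algebra.TensorProduct.includeRight : CK →ₐ[K] CK ⊗[K] CK).restrictScalars R
  let pp : A →ₐ[R] CK ⊗[K] CK := (Algebra.TensorProduct.lift (cR₁.comp π) (cR₂.comp π)
    fun _ _ => Commute.all (S := CK ⊗[K] CK) _ _).comp (Bialgebra.comulAlgHom R A)
  have hpp : pmap pp w = 1 := hmul _ _ (by rw [← pmap_pmap, hπ, map_one]) (by rw [← pmap_pmap, hπ, map_one])
  let Φδ : K ⊗[R] A →ₐ[K] CK ⊗[K] CK := Algebra.TensorProduct.lift (Algebra.ofId K _) pp fun _ _ => .all _ _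
  have hΦδ : ∀ x, Φδ ((1 : K) ⊗ₜ[R] x) = pp x := fun x =>
    (Algebra.TensorProduct.lift_tmul _ _ _ _ _).trans (by rw [map_one, _root_.one_mul])
  have hJδ : J ≤ RingHom.ker Φδ.toRingHom := by
    refine Ideal.map_le_iff_le_comap.2 fun x hx => ?_
    show Φδ ((1 : K) ⊗ₜ[R] x) = 0
    rw [hΦδ, (hI pp).1 hpp x hx]
  let δ : CK →ₐ[K] CK ⊗[K] CK := Ideal.Quotient.liftₐ J Φδ hJδ
  let mm : (D ⊗[R] A) ⊗[D] (D ⊗[R] A) →ₐ[D] CK ⊗[K] CK := Algebra.TensorProduct.lift
    (((Algebra.TensorProduct.includeLeft (S := K) : CK →ₐ[K] CK ⊗[K] CK).restrictScalars D).comp πD)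
    (((Algebra.TensorProduct.includeRight : CK →ₐ[K] CK ⊗[K] CK).restrictScalars D).comp πD)
    fun _ _ => Commute.all (S := CK ⊗[K] CK) _ _
  have hδπ : ∀ z : D ⊗[R] A, δ (πD z) = mm (Coalgebra.comul (R := D) z) := by
    intro z
    induction z using TensorProduct.induction_on with
    | zero => simp
    | add x y hx hy => simp only [map_add, hx, hy]
    | tmul d x =>
      rw [show d ⊗ₜ[R] x = d • ((1 : D) ⊗ₜ[R] x) by rw [TensorProduct.smul_tmul', smul_eq_mul, _root_.mul_one]]
      simp only [map_smul]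
      refine (map_smul (δ.restrictScalars D) d _).trans (congrArg (d • ·) ?_)
      rw [hπD]
      refine (hΦδ x).trans ?_
      simp [pp, mm, hπD, cR₁, cR₂, ← (Coalgebra.Repr.arbitrary R x).eq, TensorProduct.tmul_sum]
  have hv : ∀ m, δ (v m) = v m ⊗ₜ[K] v m := by
    intro m
    let ι' := E.symm (MonoidAlgebra.single m (1 : D))
    have hg : Coalgebra.comul (R := D) ι' = ι' ⊗ₜ[D] ι' :=
      ((MonoidAlgebra.isGroupLikeElem_single_one (R := D) (A := D) m).map E.symm).comul_eq_tmul_self
    refine (hδπ ι').trans ?_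
    rw [hg]
    refine (Algebra.TensorProduct.lift_tmul _ _ _ _ _).trans ?_
    show (πD ι' ⊗ₜ[K] (1 : CK)) * ((1 : CK) ⊗ₜ[K] πD ι') = _
    rw [Algebra.TensorProduct.tmul_mul_tmul, _root_.mul_one, _root_.one_mul]
    rfl
  by_cases hCK : Nontrivial CK
  swap
  · rw [not_nontrivial_iff_subsingleton] at hCK
    exact AlgHom.ext fun _ => Subsingleton.elim _ _
  let N : Subgroup M := v.toHomUnits.ker
  let ν : M ⧸ N → CK := fun x => (QuotientGroup.kerLift v.toHomUnits x : CKˣ)
  have hνmk : ∀ m, ν (QuotientGroup.mk' N m) = v m := fun m => rfl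
  have hδν : ∀ x, δ.toLinearMap (ν x) = ν x ⊗ₜ[K] ν x ∧ ν x ≠ 0 := fun x => by
    obtain ⟨m, rfl⟩ := QuotientGroup.mk'_surjective N x
    exact ⟨by rw [hνmk]; exact hv m, Units.ne_zero _⟩
  have hzero : ∀ x ∈ I, MonoidAlgebra.mapDomainAlgHom D D (QuotientGroup.mk' N) (E ((1 : D) ⊗ₜ[R] x)) = 0 := by
    intro x hx
    refine mapDomain_eq_zero (K := K) (IsFractionRing.injective D K) (QuotientGroup.mk' N) V ν
      (Units.val_injective.comp (QuotientGroup.kerLift_injective _)) (fun m => (hνmk m).symm) δ.toLinearMap hδν _ ?_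
    show πD (E.symm (E ((1 : D) ⊗ₜ[R] x))) = 0
    rw [BialgEquiv.symm_apply_apply, hπD]
    exact Ideal.Quotient.eq_zero_iff_mem.2 (Ideal.mem_map_of_mem _ hx)
  -- reduce at `Q`: the subgroup cut out by `N` lies in a trivial kernel
  let k := Q.ResidueField
  let Ck := MonoidAlgebra k (M ⧸ N)
  let red : MonoidAlgebra D (M ⧸ N) →ₐ[D] Ck :=
    MonoidAlgebra.lift D Ck (M ⧸ N) (MonoidAlgebra.of k (M ⧸ N))
  let g : D ⊗[R] A →ₐ[D] Ck :=
    red.comp ((MonoidAlgebra.mapDomainAlgHom D D (QuotientGroup.mk' N)).comp (E : D ⊗[R] A ≃ₐ[D] MonoidAlgebra D M).toAlgHom)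
  let gA : A →ₐ[R] Ck := (g.restrictScalars R).comp Algebra.TensorProduct.includeRight
  have hgA : pmap gA w = 1 := (hI gA).2 fun x hx => by
    show red (MonoidAlgebra.mapDomainAlgHom D D (QuotientGroup.mk' N) (E ((1 : D) ⊗ₜ[R] x))) = 0
    rw [hzero x hx, map_zero]
  have htri := hfib Ck (fun r hr => by
      rw [IsScalarTower.algebraMap_apply R D Ck, IsScalarTower.algebraMap_apply D k Ck,
        Ideal.algebraMap_residueField_eq_zero.2 (by rw [← hQ] at hr; exact hr), map_zero])
    (fun r hr => by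
      rw [IsScalarTower.algebraMap_apply R D Ck, IsScalarTower.algebraMap_apply D k Ck]
      refine IsUnit.map _ (Ne.isUnit fun h => hr ?_)
      rw [← hQ]; exact (Ideal.algebraMap_residueField_eq_zero (I := Q)).1 h) gA hgA
  have hg : g = (Algebra.ofId D Ck).comp (Bialgebra.counitAlgHom D (D ⊗[R] A)) :=
    MultTypeLib.comul_algHom_ext (R := R) fun x => by
      refine (DFunLike.congr_fun htri x).trans ?_
      simp [triPt, Algebra.smul_def, ← IsScalarTower.algebraMap_apply]
  have hN : ∀ m, v m = 1 := by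
    intro m
    have h2 := DFunLike.congr_fun hg (E.symm (MonoidAlgebra.single m (1 : D)))
    have h3 : g (E.symm (MonoidAlgebra.single m (1 : D))) =
        MonoidAlgebra.single (QuotientGroup.mk' N m) (1 : k) := by
      show red (MonoidAlgebra.mapDomainAlgHom D D (QuotientGroup.mk' N) (E (E.symm _))) = _
      rw [BialgEquiv.apply_symm_apply]
      simp [red]
      rfl
    rw [h3, AlgHom.comp_apply, Bialgebra.counitAlgHom_apply,
      ((MonoidAlgebra.isGroupLikeElem_single_one (R := D) (A := D) m).map E.symm).counit_eq_one, map_one,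
      MonoidAlgebra.one_def] at h2
    have h4 : QuotientGroup.mk' N m = 1 := MonoidAlgebra.single_left_injective (one_ne_zero (α := k)) h2
    have h5 : m ∈ N := (QuotientGroup.eq_one_iff m).1 h4
    exact congrArg Units.val (MonoidHom.mem_ker.1 h5)
  have hV : V = (Algebra.ofId D CK).comp (Bialgebra.counitAlgHom D (MonoidAlgebra D M)) :=
    MonoidAlgebra.algHom_ext' (MonoidHom.ext fun m => by
      refine (hN m).trans ?_
      simp) (Subsingleton.elim _ _)
  refine AlgHom.ext fun x => ?_
  rw [← hπD x]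
  have h2 := DFunLike.congr_fun hV (E ((1 : D) ⊗ₜ[R] x))
  rw [AlgHom.comp_apply (Algebra.ofId D CK), Bialgebra.counitAlgHom_apply, CoalgHomClass.counit_comp_apply] at h2
  refine Eq.trans ?_ (h2.trans ?_)
  · show _ = πD (E.symm (E ((1 : D) ⊗ₜ[R] x)))
    rw [BialgEquiv.symm_apply_apply]
  · simp [triPt, Algebra.smul_def, ← IsScalarTower.algebraMap_apply]

/-- Injectivity on a fibre spreads to a basic neighbourhood. -/
theorem exists_mem_mono [Algebra.FiniteType R A] [IsSeparated G.hom] (hA : IsSplit (R := R) A)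
    (hw : pmap (Bialgebra.counitAlgHom R A) w = 1)
    (hmul : ∀ {B : Type u} [CommRing B] [Algebra R B] (f g : A →ₐ[R] B), pmap f w = 1 → pmap g w = 1 →
      pmap ((Algebra.TensorProduct.lift f g fun _ _ => .all _ _).comp (Bialgebra.comulAlgHom R A)) w = 1)
    (q : Ideal R) [q.IsPrime]
    (hfib : ∀ (C : Type u) [CommRing C] [Algebra R C], (∀ r ∈ q, algebraMap R C r = 0) →
      (∀ r ∉ q, IsUnit (algebraMap R C r)) → ∀ f : A →ₐ[R] C, pmap f w = 1 → f = triPt R A C) :
    ∃ e ∉ q, ∀ (C : Type u) [CommRing C] [Algebra R C], IsUnit (algebraMap R C e) →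
      ∀ f : A →ₐ[R] C, pmap f w = 1 → f = triPt R A C := by
  classical
  obtain ⟨I, -, hI⟩ := exists_kernel_ideal w
  let Sq := Algebra.algebraMapSubmonoid (A ⧸ I) q.primeCompl
  let B := Localization Sq
  let π : A →ₐ[R] B := (IsScalarTower.toAlgHom R (A ⧸ I) B).comp (Ideal.Quotient.mkₐ R I)
  have hπ : pmap π w = 1 := (hI π).2 fun x hx => by
    show algebraMap (A ⧸ I) B (Ideal.Quotient.mk I x) = 0
    rw [Ideal.Quotient.eq_zero_iff_mem.2 hx, map_zero]
  have htri : π = triPt R A B := by
    refine eq_triPt_of_fibres w hw (fun p _ hpB C _ _ h0 h1 f hf => ?_) π hπ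
    have hpq : p ≤ q := fun r hr => by
      by_contra hrq
      refine hpB r hr ?_
      rw [IsScalarTower.algebraMap_apply R (A ⧸ I) B]
      exact IsLocalization.map_units B (⟨_, r, hrq, rfl⟩ : Sq)
    exact fibre_trivial_of_specializes I hA hI hmul p q hpq hfib C h0 h1 f hf
  obtain ⟨g, hg⟩ := Algebra.FiniteType.out (R := R) (A := A)
  have hc : ∀ a : A, ∃ e ∉ q, algebraMap R A e * (a - algebraMap R A (Coalgebra.counit (R := R) a)) ∈ I := by
    intro a
    have h : algebraMap (A ⧸ I) B (Ideal.Quotient.mk I (a - algebraMap R A (Coalgebra.counit (R := R) a))) = 0 := by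
      rw [map_sub, map_sub, sub_eq_zero]
      refine (DFunLike.congr_fun htri a).trans ?_
      exact (IsScalarTower.algebraMap_apply R (A ⧸ I) B _)
    obtain ⟨⟨_, r, hr, rfl⟩, hm⟩ := (IsLocalization.map_eq_zero_iff Sq B _).1 h
    refine ⟨r, hr, Ideal.Quotient.eq_zero_iff_mem.1 ?_⟩
    rw [map_mul]
    exact hm
  choose e he heI using hc
  refine ⟨∏ a ∈ g, e a, ?_, fun C _ _ hu f hf => ?_⟩
  · show (∏ a ∈ g, e a) ∈ q.primeCompl
    exact Submonoid.prod_mem _ fun a _ => he a
  · refine AlgHom.ext_of_adjoin_eq_top hg fun a ha => ?_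
    rw [map_prod] at hu
    have hua : IsUnit (algebraMap R C (e a)) := (IsUnit.prod_iff.1 hu) a ha
    have h := (hI f).1 hf _ (heI a)
    rw [map_mul, AlgHom.commutes, hua.mul_right_eq_zero, map_sub, AlgHom.commutes, sub_eq_zero] at h
    exact h

section Global

variable {S : Scheme.{u}} {H G : Over S} [GrpObj H] [GrpObj G] (u : H ⟶ G) [IsMonHom u]
  {R : Type u} [CommRing R] (g : Spec (CommRingCat.of R) ⟶ S) {A : Type u} [CommRing A] [HopfAlgebra R A]
  (e : Grp.mk (CoactBr.sp R A) ≅ Grp.mk (Red.bc g H))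

omit [IsMonHom u] in
/-- Injectivity over an affine scheme can be tested on the model. -/
theorem monic_of_model (C : Type u) [CommRing C] [Algebra R C]
    (hC : ∀ (B : Type u) [CommRing B] [Algebra R B] (_ : C →ₐ[R] B) (f : A →ₐ[R] B),
      pmap f (e.hom.hom.hom ≫ (Over.pullback g).map u) = 1 → f = triPt R A B) :
    Monic u (Spec.map (CommRingCat.ofHom (algebraMap R C)) ≫ g) := by
  intro T h hh
  refine Over.OverMorphism.ext (T.left.affineCover.hom_ext _ _ fun k => ?_)
  let jk : T.left.affineCover.X k ⟶ T.left := T.left.affineCover.f k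
  haveI : IsAffine (T.left.affineCover.X k) := isAffine_Spec _
  let B := Γ(T.left.affineCover.X k, ⊤)
  let iso := (T.left.affineCover.X k).isoSpec
  let b : Spec (CommRingCat.of B) ⟶ Spec (CommRingCat.of C) := iso.inv ≫ jk ≫ T.hom
  letI : Algebra C B := (Spec.preimage b).hom.toAlgebra
  letI : Algebra R B := ((algebraMap C B).comp (algebraMap R C)).toAlgebra
  haveI : IsScalarTower R C B := IsScalarTower.of_algebraMap_eq' rfl
  have hb : Spec.map (CommRingCat.ofHom (algebraMap C B)) = b := Spec.map_preimage b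
  let incl : (Over.map g).obj (CoactBr.sp R B) ⟶ (Over.map (Spec.map (CommRingCat.ofHom (algebraMap R C)) ≫ g)).obj T :=
    Over.homMk (iso.inv ≫ jk) (by
      show (iso.inv ≫ jk) ≫ T.hom ≫ Spec.map (CommRingCat.ofHom (algebraMap R C)) ≫ g =
        Spec.map (CommRingCat.ofHom (algebraMap R B)) ≫ g
      rw [IsScalarTower.algebraMap_eq R C B, ← specMap_comp, hb]
      simp [b])
  suffices hloc : incl ≫ h = 1 by
    rw [← MonObj.comp_one incl] at hloc
    have := congrArg CommaMorphism.left hloc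
    exact (cancel_epi iso.inv).1 ((Category.assoc _ _ _).symm.trans (this.trans (Category.assoc _ _ _)))
  obtain ⟨y, hy⟩ := fl_surjective g H (incl ≫ h)
  haveI : IsMonHom e.inv.hom.hom := e.inv.hom.isMonHom_hom
  haveI : IsMonHom e.hom.hom.hom := e.hom.hom.isMonHom_hom
  obtain ⟨f, hf⟩ := exists_pt (y ≫ e.inv.hom.hom)
  have hfy : CoactBr.pt f ≫ e.hom.hom.hom = y := by
    rw [← hf, Category.assoc, ← Mon.comp_hom', ← Grp.comp', e.inv_hom_id]
    exact Category.comp_id y
  have hu' : y ≫ (Over.pullback g).map u = 1 :=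
    fl_injective g G (by rw [fl_comp_map, hy, Category.assoc, hh, MonObj.comp_one, fl_one])
  have hft := hC B (IsScalarTower.toAlgHom R C B) f (by rw [pmap_apply, ← Category.assoc, hfy, hu'])
  rw [← hy, ← hfy, hft, triPt, ← CoactBr.one_eq_pt, MonObj.one_comp, fl_one]

theorem isMonHom_pullback_map {S' : Scheme.{u}} (f : S' ⟶ S) : IsMonHom ((Over.pullback f).map u) :=
  TorsorSch25.isMonHom_of_points _ fun T a b => fl_injective f G (by
    rw [fl_comp_map, fl_mul, fl_mul, fl_comp_map, fl_comp_map, MonObj.mul_comp])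

/-- Injectivity on a fibre spreads to a neighbourhood. -/
theorem exists_nhd_monic (hH : SGA3x.IsMultTypeFT H) [IsSeparated G.hom] (s : S)
    (hs : Monic u (S.fromSpecResidueField s)) :
    ∃ U : S.Opens, s ∈ U ∧ Monic u U.ι := by
  obtain ⟨V, hV, hsV, -⟩ := exists_isAffineOpen_mem_and_subset (x := s) (U := ⊤) trivial
  obtain ⟨A, _, _, j, -, hA, hft, ⟨e⟩⟩ := exists_model_ft hH hV.fromSpec
  haveI := hft
  obtain ⟨q, hq⟩ : s ∈ Set.range hV.fromSpec := by rw [hV.range_fromSpec]; exact hsV
  let g := hV.fromSpec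
  let u' := (Over.pullback g).map u
  haveI : IsMonHom u' := isMonHom_pullback_map u g
  haveI : IsMonHom e.hom.hom.hom := e.hom.hom.isMonHom_hom
  haveI : IsSeparated (Red.bc g G).hom := MorphismProperty.pullback_snd G.hom g inferInstance
  let w : Pts (Red.bc g G) A := e.hom.hom.hom ≫ u'
  have hw : pmap (Bialgebra.counitAlgHom Γ(S, V) A) w = 1 := by
    rw [pmap_apply, show (Bialgebra.counitAlgHom Γ(S, V) A) = triPt Γ(S, V) A Γ(S, V) from
      AlgHom.ext fun a => rfl, triPt, ← CoactBr.one_eq_pt, MonObj.one_comp]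
  haveI := (q : PrimeSpectrum Γ(S, V)).isPrime
  obtain ⟨r, hr, hmono⟩ := exists_mem_mono hA hw (fun {B} _ _ f f' h h' => by
      rw [pmap_apply, ← CoactBr.pt_mul_pt, MonObj.mul_comp, ← pmap_apply, ← pmap_apply, h, h', _root_.one_mul])
    (q : PrimeSpectrum Γ(S, V)).asIdeal fun C _ _ h0 h1 f hf => by
      let K := (q : PrimeSpectrum Γ(S, V)).asIdeal.ResidueField
      let χ : K →+* C := Ideal.ResidueField.lift _ (algebraMap Γ(S, V) C) h0 h1
      have hχ : χ.comp (algebraMap Γ(S, V) K) = algebraMap Γ(S, V) C := RingHom.ext fun r =>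
        Ideal.ResidueField.lift_algebraMap _ (algebraMap Γ(S, V) C) h0 h1 r
      have hm : Monic u (Spec.map (CommRingCat.ofHom (algebraMap Γ(S, V) C)) ≫ g) := by
        rw [← hχ, ← specMap_comp, Category.assoc]
        refine monic_comp u ?_ _
        obtain ⟨⟨t, a⟩, hta⟩ := (Scheme.SpecToEquivOfField K S).symm.surjective
          (Spec.map (CommRingCat.ofHom (algebraMap Γ(S, V) K)) ≫ g)
        have ht : t = s := by
          refine ((congrArg Sigma.fst ((Equiv.eq_symm_apply _).1 hta.symm)).symm).trans ?_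
          show g (PrimeSpectrum.comap (algebraMap Γ(S, V) K) (IsLocalRing.closedPoint K)) = s
          refine Eq.trans (congrArg g ?_) hq
          refine PrimeSpectrum.ext (Ideal.ext fun x => ?_)
          show algebraMap Γ(S, V) K x ∈ (IsLocalRing.closedPoint K).asIdeal ↔ x ∈ (q : PrimeSpectrum Γ(S, V)).asIdeal
          simp [IsLocalRing.closedPoint, IsLocalRing.maximalIdeal_eq_bot, K]
        rw [← hta]
        subst ht
        exact monic_comp u hs _
      let z : CoactBr.sp Γ(S, V) C ⟶ Red.bc g H := CoactBr.pt f ≫ e.hom.hom.hom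
      let i : (Over.map (Spec.map (CommRingCat.ofHom (algebraMap Γ(S, V) C)) ≫ g)).obj (Over.mk (𝟙 _)) ≅
          (Over.map g).obj (CoactBr.sp Γ(S, V) C) :=
        Over.isoMk (Iso.refl _) ((Category.id_comp _).trans (Category.id_comp _).symm)
      have hz : fl g H z = 1 := by
        rw [← cancel_epi i.hom, MonObj.comp_one]
        refine hm _ _ ?_
        rw [Category.assoc, ← fl_comp_map, show z ≫ u' = 1 by rw [Category.assoc]; exact hf, fl_one, MonObj.comp_one]
      rw [← fl_one g] at hz
      have hz' : CoactBr.pt f ≫ e.hom.hom.hom = CoactBr.pt (triPt Γ(S, V) A C) ≫ e.hom.hom.hom := by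
        rw [show CoactBr.pt f ≫ e.hom.hom.hom = z from rfl, fl_injective g H hz, triPt, ← CoactBr.one_eq_pt,
          MonObj.one_comp]
      exact CoactBr.pt_injective ((cancel_mono e.hom.hom.hom).1 hz')
  let jr := Spec.map (CommRingCat.ofHom (algebraMap Γ(S, V) (Localization.Away r))) ≫ g
  haveI : IsOpenImmersion (Spec.map (CommRingCat.ofHom (algebraMap Γ(S, V) (Localization.Away r)))) :=
    IsOpenImmersion.of_isLocalization r
  refine ⟨jr.opensRange, ?_, ?_⟩
  · obtain ⟨z, hz⟩ : q ∈ Set.range (PrimeSpectrum.comap (algebraMap Γ(S, V) (Localization.Away r))) := by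
      rw [PrimeSpectrum.localization_away_comap_range (Localization.Away r) r]; exact hr
    exact ⟨z, by rw [← hq, ← hz]; rfl⟩
  · rw [← Scheme.Hom.isoOpensRange_inv_comp jr]
    refine monic_comp u (monic_of_model u g e _ fun B _ _ ψ f hf => hmono B ?_ f hf) _
    rw [← ψ.commutes]
    exact (IsLocalization.Away.algebraMap_isUnit r).map ψ

omit [IsMonHom u] in
theorem mono_pullback_of_monic [IsMonHom u] {S' : Scheme.{u}} (f : S' ⟶ S) (h : Monic u f) :
    Mono ((Over.pullback f).map u).left := by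
  haveI : Mono ((Over.pullback f).map u) := by
    refine ⟨fun {T} a b hab => fl_injective f H ?_⟩
    have h1 := congrArg (fl f G) hab
    rw [fl_comp_map, fl_comp_map] at h1
    exact mul_inv_eq_one.1 (h T (fl f H a * (fl f H b)⁻¹)
      (by rw [MonObj.mul_comp, GrpObj.inv_comp, h1, mul_inv_cancel]))
  exact Over.mono_left_of_mono _

end Global

end Groth.Agent.MTRigid29
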