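import Mathlib

/-!
# Points of an arbitrary scheme with values in a subring containing a nilpotent ideal
-/

universe u

open CategoryTheory Limits AlgebraicGeometry TopologicalSpace

set_option backward.isDefEq.respectTransparency false
set_option linter.style.haveILetI false

namespace Groth.Agent.MTRigid29

set_option maxHeartbeats 400000

variable {B C : Type u} [CommRing B] [CommRing C]

theorem injective_awayMap {φ : B →+* C} (hinj : Function.Injective φ) (b : B) :
    Function.Injective (IsLocalization.Away.map (Localization.Away b) (Localization.Away (φ b)) φ b) := by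
  have : IsLocalization ((Submonoid.powers b).map φ) (Localization.Away (φ b)) := by
    rw [Submonoid.map_powers]; infer_instance
  exact IsLocalization.map_injective_of_injective (Submonoid.powers b) (Localization.Away b)
    (Localization.Away (φ b)) hinj

theorem awayMap_algebraMap (φ : B →+* C) (b : B) :
    (IsLocalization.Away.map (Localization.Away b) (Localization.Away (φ b)) φ b).comp (algebraMap B _) =
      (algebraMap C (Localization.Away (φ b))).comp φ :=
  IsLocalization.map_comp _

theorem specMap_comp {P Q R : Type u} [CommRing P] [CommRing Q] [CommRing R] (f : P →+* Q) (g : Q →+* R) :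
    Spec.map (CommRingCat.ofHom g) ≫ Spec.map (CommRingCat.ofHom f) = Spec.map (CommRingCat.ofHom (g.comp f)) := by
  rw [← Spec.map_comp, ← CommRingCat.ofHom_comp]

theorem exists_fac {G : Scheme.{u}} {U : G.Opens} (hU : IsAffineOpen U) {R : Type u} [CommRing R]
    (f : Spec (CommRingCat.of R) ⟶ G) (h : ∀ z, f z ∈ U) :
    ∃ χ : Γ(G, U) →+* R, Spec.map (CommRingCat.ofHom χ) ≫ hU.fromSpec = f := by
  refine ⟨(Spec.preimage (IsOpenImmersion.lift hU.fromSpec f
    (by rw [hU.range_fromSpec]; rintro _ ⟨z, rfl⟩; exact h z))).hom, ?_⟩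
  rw [CommRingCat.ofHom_hom, Spec.map_preimage, IsOpenImmersion.lift_fac]

theorem fac_injective {G : Scheme.{u}} {U : G.Opens} (hU : IsAffineOpen U) {R : Type u} [CommRing R]
    {χ χ' : Γ(G, U) →+* R}
    (h : Spec.map (CommRingCat.ofHom χ) ≫ hU.fromSpec = Spec.map (CommRingCat.ofHom χ') ≫ hU.fromSpec) :
    χ = χ' :=
  congrArg CommRingCat.Hom.hom (Spec.map_injective ((cancel_mono hU.fromSpec).1 h))

theorem exists_awayLift {R S : Type u} [CommRing R] [CommRing S] (f : R →+* S) (r : R) (h : IsUnit (f r)) :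
    ∃ κ : Localization.Away r →+* S, κ.comp (algebraMap R _) = f :=
  ⟨IsLocalization.Away.lift r h, RingHom.ext fun a => IsLocalization.Away.lift_eq r h a⟩

theorem specMap_comp_apply {P Q : Type u} [CommRing P] [CommRing Q] {G : Scheme.{u}} (f : P →+* Q)
    (x : Spec (CommRingCat.of P) ⟶ G) (z : PrimeSpectrum Q) :
    (Spec.map (CommRingCat.ofHom f) ≫ x) z = x (PrimeSpectrum.comap f z) := rfl

theorem specMap_away_mem {R : Type u} [CommRing R] (b : R) (z : Spec (CommRingCat.of (Localization.Away b))) :
    (Spec.map (CommRingCat.ofHom (algebraMap R (Localization.Away b))) z : PrimeSpectrum R) ∈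
      SetLike.coe (PrimeSpectrum.basicOpen b) := by
  show PrimeSpectrum.comap (algebraMap R (Localization.Away b)) z ∈ _
  rw [← PrimeSpectrum.localization_away_comap_range (Localization.Away b) b]
  exact Set.mem_range_self _

theorem eq_of_comp_eq {φ : B →+* C} (hinj : Function.Injective φ)
    (hsurj : Function.Surjective (PrimeSpectrum.comap φ)) {G : Scheme.{u}}
    (f g : Spec (CommRingCat.of B) ⟶ G)
    (h : Spec.map (CommRingCat.ofHom φ) ≫ f = Spec.map (CommRingCat.ofHom φ) ≫ g) : f = g := by
  have hpt : ∀ q : Spec (CommRingCat.of B), f q = g q := fun q => by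
    obtain ⟨Q, rfl⟩ := hsurj q
    exact congrArg (fun k : Spec (CommRingCat.of C) ⟶ G => k Q) h
  have key : ∀ q : Spec (CommRingCat.of B), ∃ b : B, b ∉ q.asIdeal ∧
      Spec.map (CommRingCat.ofHom (algebraMap B (Localization.Away b))) ≫ f =
        Spec.map (CommRingCat.ofHom (algebraMap B (Localization.Away b))) ≫ g := by
    intro q
    obtain ⟨U, hU, hqU, -⟩ := exists_isAffineOpen_mem_and_subset (x := f q) (U := ⊤) trivial
    obtain ⟨_, ⟨b, rfl⟩, hqb, hb⟩ := PrimeSpectrum.isTopologicalBasis_basic_opens.exists_subset_of_mem_open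
      (show q ∈ SetLike.coe (f ⁻¹ᵁ U ⊓ g ⁻¹ᵁ U) from
        ⟨hqU, show g q ∈ U by rw [← hpt]; exact hqU⟩)
      (Opens.isOpen _)
    refine ⟨b, hqb, ?_⟩
    have hin : ∀ z : Spec (CommRingCat.of (Localization.Away b)),
        Spec.map (CommRingCat.ofHom (algebraMap B (Localization.Away b))) z ∈ f ⁻¹ᵁ U ⊓ g ⁻¹ᵁ U := fun z =>
      hb (specMap_away_mem b z)
    obtain ⟨χ, hχ⟩ := exists_fac hU (Spec.map (CommRingCat.ofHom (algebraMap B (Localization.Away b))) ≫ f)
      fun z => (hin z).1
    obtain ⟨χ', hχ'⟩ := exists_fac hU (Spec.map (CommRingCat.ofHom (algebraMap B (Localization.Away b))) ≫ g)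
      fun z => (hin z).2
    rw [← hχ, ← hχ']
    congr 2
    have he : (IsLocalization.Away.map (Localization.Away b) (Localization.Away (φ b)) φ b).comp χ =
        (IsLocalization.Away.map (Localization.Away b) (Localization.Away (φ b)) φ b).comp χ' := by
      refine fac_injective hU ?_
      simp only [← specMap_comp, Category.assoc, hχ, hχ']
      simp only [← Category.assoc, specMap_comp, awayMap_algebraMap]
      simp only [← specMap_comp, Category.assoc, h]
    exact congrArg CommRingCat.ofHom (RingHom.ext fun z => injective_awayMap hinj b (DFunLike.congr_fun he z))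
  choose b hb hfg using key
  have hspan : Ideal.span (Set.range b) = ⊤ := by
    by_contra hne
    obtain ⟨m, hm, hle⟩ := Ideal.exists_le_maximal _ hne
    exact hb ⟨m, hm.isPrime⟩ (hle (Ideal.subset_span ⟨⟨m, hm.isPrime⟩, rfl⟩))
  exact (Scheme.affineOpenCoverOfSpanRangeEqTop (R := CommRingCat.of B) b hspan).openCover.hom_ext _ _ fun q => hfg q

theorem surjective_comap_includeLeft {φ : B →+* C} (hsurj : Function.Surjective (PrimeSpectrum.comap φ))
    (D : Type u) [CommRing D] [Algebra B D] :
    letI := φ.toAlgebra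
    Function.Surjective (PrimeSpectrum.comap
      (Algebra.TensorProduct.includeLeftRingHom : D →+* TensorProduct B D C)) := by
  let _ : Algebra B C := φ.toAlgebra
  haveI : Surjective (Spec.map (CommRingCat.ofHom (algebraMap B C))) := ⟨hsurj⟩
  have h : Surjective ((pullbackSpecIso B D C).inv ≫ pullback.fst _ _) := inferInstance
  rw [pullbackSpecIso_inv_fst] at h
  exact h.surj

theorem eq_of_comp_eq_flat {φ : B →+* C} (hinj : Function.Injective φ)
    (hsurj : Function.Surjective (PrimeSpectrum.comap φ)) {G : Scheme.{u}}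
    (D : Type u) [CommRing D] [Algebra B D] [Module.Flat B D] (f g : Spec (CommRingCat.of D) ⟶ G)
    (h : letI := φ.toAlgebra
      Spec.map (CommRingCat.ofHom (Algebra.TensorProduct.includeLeftRingHom : D →+* TensorProduct B D C)) ≫ f =
        Spec.map (CommRingCat.ofHom (Algebra.TensorProduct.includeLeftRingHom : D →+* TensorProduct B D C)) ≫ g) :
    f = g := by
  let _ : Algebra B C := φ.toAlgebra
  refine eq_of_comp_eq ?_ (surjective_comap_includeLeft hsurj D) f g h
  exact Algebra.TensorProduct.includeLeft_injective (S := B) hinj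

/-- A point with values in `C` which modulo a nilpotent ideal `I ⊆ B` comes from `B` comes from `B`. -/
theorem exists_factor (φ : B →+* C) (hinj : Function.Injective φ) (I : Ideal C) (hI : IsNilpotent I)
    (hIB : ∀ i ∈ I, ∃ b, φ b = i) (hsurj : Function.Surjective (PrimeSpectrum.comap φ)) {G : Scheme.{u}}
    (x : Spec (CommRingCat.of C) ⟶ G) (y : Spec (CommRingCat.of (B ⧸ I.comap φ)) ⟶ G)
    (h : Spec.map (CommRingCat.ofHom (Ideal.Quotient.mk I)) ≫ x =
      Spec.map (CommRingCat.ofHom (Ideal.quotientMap I φ le_rfl)) ≫ y) :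
    ∃ z : Spec (CommRingCat.of B) ⟶ G, Spec.map (CommRingCat.ofHom φ) ≫ z = x := by
  obtain ⟨n, hn⟩ := hI
  have hmkC : ∀ Q : PrimeSpectrum C, ∃ Q' : PrimeSpectrum (C ⧸ I), PrimeSpectrum.comap (Ideal.Quotient.mk I) Q' = Q := by
    intro Q
    have hQ : Q ∈ Set.range (PrimeSpectrum.comap (Ideal.Quotient.mk I)) := by
      rw [range_comap_of_surjective _ _ Ideal.Quotient.mk_surjective, Ideal.mk_ker]
      exact fun i hi => Q.isPrime.mem_of_pow_mem n (by
        have := Ideal.pow_mem_pow hi n
        rw [hn] at this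
        rw [show i ^ n = 0 from this]
        exact Q.asIdeal.zero_mem)
    exact hQ
  have key : ∀ q : PrimeSpectrum B, ∃ b : B, b ∉ q.asIdeal ∧
      ∃ z : Spec (CommRingCat.of (Localization.Away b)) ⟶ G,
        Spec.map (CommRingCat.ofHom (IsLocalization.Away.map (Localization.Away b) (Localization.Away (φ b)) φ b)) ≫ z =
          Spec.map (CommRingCat.ofHom (algebraMap C (Localization.Away (φ b)))) ≫ x := by
    intro q
    obtain ⟨Q, hQ⟩ := hsurj q
    obtain ⟨Q', hQ'⟩ := hmkC Q
    let q' : Spec (CommRingCat.of (B ⧸ I.comap φ)) := PrimeSpectrum.comap (Ideal.quotientMap I φ le_rfl) Q'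
    obtain ⟨U, hU, hqU, -⟩ := exists_isAffineOpen_mem_and_subset (x := y q') (U := ⊤) trivial
    obtain ⟨_, ⟨bb, rfl⟩, hqb, hb⟩ := PrimeSpectrum.isTopologicalBasis_basic_opens.exists_subset_of_mem_open
      (show q' ∈ SetLike.coe (y ⁻¹ᵁ U) from hqU)
      (Opens.isOpen _)
    obtain ⟨b, rfl⟩ := Ideal.Quotient.mk_surjective bb
    refine ⟨b, ?_, ?_⟩
    · rw [← hQ, ← hQ', ← PrimeSpectrum.comap_comp_apply,
        ← Ideal.quotientMap_comp_mk (f := φ) (le_refl (I.comap φ))]
      exact hqb
    let B' := Localization.Away (Ideal.Quotient.mk (I.comap φ) b)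
    obtain ⟨χy, hχy⟩ := exists_fac hU (Spec.map (CommRingCat.ofHom (algebraMap (B ⧸ I.comap φ) B')) ≫ y) fun z =>
      hb (specMap_away_mem _ z)
    let Cb := Localization.Away (φ b)
    let Ib : Ideal Cb := I.map (algebraMap C Cb)
    let φb : Localization.Away b →+* Cb := IsLocalization.Away.map (Localization.Away b) Cb φ b
    let q₀ : C ⧸ I →+* Cb ⧸ Ib := Ideal.quotientMap Ib (algebraMap C Cb) Ideal.le_comap_map
    have hu : IsUnit (((q₀.comp (Ideal.quotientMap I φ le_rfl))) (Ideal.Quotient.mk (I.comap φ) b)) := by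
      rw [RingHom.comp_apply, Ideal.quotientMap_mk, Ideal.quotientMap_mk]
      exact (IsLocalization.Away.algebraMap_isUnit (φ b)).map (Ideal.Quotient.mk Ib)
    obtain ⟨κ, hκ⟩ : ∃ κ : B' →+* Cb ⧸ Ib, κ.comp (algebraMap _ B') = q₀.comp (Ideal.quotientMap I φ le_rfl) :=
      exists_awayLift _ _ hu
    have hq₀ : q₀.comp (Ideal.Quotient.mk I) = (Ideal.Quotient.mk Ib).comp (algebraMap C Cb) :=
      Ideal.quotientMap_comp_mk _
    have hκ' : ∀ a : B, κ (algebraMap _ B' (Ideal.Quotient.mk (I.comap φ) a)) =
        Ideal.Quotient.mk Ib (algebraMap C Cb (φ a)) := fun a => by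
      rw [← RingHom.comp_apply, hκ, RingHom.comp_apply, Ideal.quotientMap_mk, Ideal.quotientMap_mk]
    have hb' : ∀ a : B, φb (algebraMap B (Localization.Away b) a) = algebraMap C Cb (φ a) := fun a =>
      DFunLike.congr_fun (awayMap_algebraMap φ b) a
    obtain ⟨χ, hχ⟩ := exists_fac hU (Spec.map (CommRingCat.ofHom (algebraMap C Cb)) ≫ x) fun z => by
      obtain ⟨z', hz'⟩ := hmkC (PrimeSpectrum.comap (algebraMap C Cb) z)
      rw [specMap_comp_apply, ← hz', ← specMap_comp_apply (Ideal.Quotient.mk I) x, h, specMap_comp_apply]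
      refine hb ?_
      show Ideal.Quotient.mk (I.comap φ) b ∉ (PrimeSpectrum.comap (Ideal.quotientMap I φ le_rfl) z').asIdeal
      intro hmem
      rw [PrimeSpectrum.comap_asIdeal, Ideal.mem_comap, Ideal.quotientMap_mk] at hmem
      have hz : φ b ∈ (PrimeSpectrum.comap (Ideal.Quotient.mk I) z').asIdeal := hmem
      rw [hz', PrimeSpectrum.comap_asIdeal, Ideal.mem_comap] at hz
      exact z.isPrime.ne_top (Ideal.eq_top_of_isUnit_mem _ hz (IsLocalization.Away.algebraMap_isUnit (φ b)))
    have hmod : (Ideal.Quotient.mk Ib).comp χ = κ.comp χy := by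
      refine fac_injective hU ?_
      simp only [← specMap_comp, Category.assoc, hχ, hχy]
      simp only [← Category.assoc, specMap_comp, hκ, ← hq₀]
      simp only [← specMap_comp, Category.assoc, h]
    have hrange : ∀ w, χ w ∈ φb.range := by
      intro w
      obtain ⟨a, ⟨_, k, rfl⟩, ha⟩ := IsLocalization.exists_mk'_eq (Submonoid.powers (Ideal.Quotient.mk (I.comap φ) b)) (χy w)
      obtain ⟨a, rfl⟩ := Ideal.Quotient.mk_surjective a
      let w' : Localization.Away b := IsLocalization.mk' _ a (⟨b ^ k, k, rfl⟩ : Submonoid.powers b)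
      have hw' : χ w - φb w' ∈ Ib := by
        rw [← Ideal.Quotient.eq]
        have e1 : Ideal.Quotient.mk Ib (χ w) = κ (χy w) := DFunLike.congr_fun hmod w
        rw [e1, ← ha]
        apply ((IsLocalization.Away.algebraMap_isUnit (φ b)).map (Ideal.Quotient.mk Ib) |>.pow k).mul_left_cancel
        rw [← map_pow, ← map_pow, ← map_pow φ]
        conv_lhs => rw [← hκ' (b ^ k), ← map_mul, map_pow (Ideal.Quotient.mk (I.comap φ)), mul_comm, IsLocalization.mk'_spec, hκ']
        rw [← map_mul, ← hb' (b ^ k), ← map_mul, mul_comm, IsLocalization.mk'_spec, hb']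
      obtain ⟨⟨⟨i, hi⟩, ⟨_, m, rfl⟩⟩, him⟩ := (IsLocalization.mem_map_algebraMap_iff (Submonoid.powers (φ b)) Cb).1 hw'
      obtain ⟨i', hi'⟩ := hIB i hi
      refine ⟨w' + IsLocalization.mk' _ i' (⟨b ^ m, m, rfl⟩ : Submonoid.powers b), ?_⟩
      rw [map_add, ← eq_sub_iff_add_eq']
      apply ((IsLocalization.Away.algebraMap_isUnit (φ b)).pow m : IsUnit (algebraMap C Cb (φ b) ^ m)).mul_right_cancel
      rw [← map_pow, him]
      dsimp only
      rw [← map_pow φ, ← hb' (b ^ m), ← map_mul, IsLocalization.mk'_spec, hb', hi']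
    choose δ hδ using hrange
    have hbinj := injective_awayMap hinj b
    let δ' : Γ(G, U) →+* Localization.Away b :=
      { toFun := δ
        map_one' := hbinj (by rw [hδ, map_one, map_one])
        map_mul' := fun p p' => hbinj (by rw [hδ, map_mul, map_mul, hδ, hδ])
        map_zero' := hbinj (by rw [hδ, map_zero, map_zero])
        map_add' := fun p p' => hbinj (by rw [hδ, map_add, map_add, hδ, hδ]) }
    refine ⟨Spec.map (CommRingCat.ofHom δ') ≫ hU.fromSpec, ?_⟩
    rw [← Category.assoc, specMap_comp, show φb.comp δ' = χ from RingHom.ext hδ, hχ]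
  choose b hb z hz using key
  have hspan : Ideal.span (Set.range b) = ⊤ := by
    by_contra hne
    obtain ⟨m, hm, hle⟩ := Ideal.exists_le_maximal _ hne
    exact hb ⟨m, hm.isPrime⟩ (hle (Ideal.subset_span ⟨⟨m, hm.isPrime⟩, rfl⟩))
  let 𝒰 := (Scheme.affineOpenCoverOfSpanRangeEqTop (R := CommRingCat.of B) b hspan).openCover
  let _ : Algebra B C := φ.toAlgebra
  have hcompat : ∀ p p', pullback.fst (𝒰.f p) (𝒰.f p') ≫ z p = pullback.snd (𝒰.f p) (𝒰.f p') ≫ z p' := by
    intro p p'
    let e := pullbackSpecIso B (Localization.Away (b p)) (Localization.Away (b p'))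
    rw [← cancel_epi e.inv]
    show e.inv ≫ pullback.fst _ _ ≫ z p = e.inv ≫ pullback.snd _ _ ≫ z p'
    rw [pullbackSpecIso_inv_fst_assoc, pullbackSpecIso_inv_snd_assoc]
    refine eq_of_comp_eq_flat hinj hsurj _ _ _ ?_
    let D := TensorProduct B (Localization.Away (b p)) (Localization.Away (b p'))
    let ι₁ : D →+* TensorProduct B D C := Algebra.TensorProduct.includeLeftRingHom
    let j : C →+* TensorProduct B D C := (Algebra.TensorProduct.includeRight : C →ₐ[B] TensorProduct B D C).toRingHom
    have side : ∀ (r : PrimeSpectrum B) (ε : Localization.Away (b r) →+* D)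
        (_ : ε.comp (algebraMap B _) = algebraMap B D),
        Spec.map (CommRingCat.ofHom ι₁) ≫ Spec.map (CommRingCat.ofHom ε) ≫ z r =
          Spec.map (CommRingCat.ofHom (S := TensorProduct B D C) j) ≫ x := by
      intro r ε hε
      have hj : j.comp φ = (ι₁.comp ε).comp (algebraMap B _) := by
        rw [RingHom.comp_assoc, hε]
        exact ((Algebra.TensorProduct.includeRight : C →ₐ[B] TensorProduct B D C).comp_algebraMap).trans
          ((Algebra.TensorProduct.includeLeft : D →ₐ[B] TensorProduct B D C).comp_algebraMap).symm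
      have hu : IsUnit (j (φ (b r))) := by
        rw [← RingHom.comp_apply, hj, RingHom.comp_apply]
        exact (IsLocalization.Away.algebraMap_isUnit (b r)).map _
      obtain ⟨ν, hν⟩ := exists_awayLift (S := TensorProduct B D C) j (φ (b r)) hu
      have hνb : ν.comp (IsLocalization.Away.map (Localization.Away (b r)) (Localization.Away (φ (b r))) φ (b r)) =
          ι₁.comp ε := by
        refine IsLocalization.ringHom_ext (Submonoid.powers (b r)) ?_
        rw [RingHom.comp_assoc, awayMap_algebraMap, ← RingHom.comp_assoc, hν, hj]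
      rw [← Category.assoc, specMap_comp, ← hνb, ← specMap_comp, Category.assoc, hz r, ← Category.assoc,
        specMap_comp, hν]
    exact (side p _ (Algebra.TensorProduct.includeLeft : _ →ₐ[B] D).comp_algebraMap).trans
      (side p' _ (Algebra.TensorProduct.includeRight : _ →ₐ[B] D).comp_algebraMap).symm
  refine ⟨𝒰.glueMorphisms z hcompat, ?_⟩
  have hspanC : Ideal.span (Set.range fun q => φ (b q)) = ⊤ := by
    rw [show (Set.range fun q => φ (b q)) = φ '' Set.range b from Set.range_comp φ b, ← Ideal.map_span, hspan,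
      Ideal.map_top]
  refine (Scheme.affineOpenCoverOfSpanRangeEqTop (R := CommRingCat.of C) (fun q => φ (b q)) hspanC).openCover.hom_ext
    _ _ fun q => ?_
  show Spec.map (CommRingCat.ofHom (algebraMap C (Localization.Away (φ (b q))))) ≫ _ = _
  rw [← Category.assoc, specMap_comp, ← awayMap_algebraMap, ← specMap_comp, Category.assoc,
    show Spec.map (CommRingCat.ofHom (algebraMap B (Localization.Away (b q)))) ≫ 𝒰.glueMorphisms z hcompat = z q from
      𝒰.ι_glueMorphisms z hcompat q, hz q]
  rfl

end Groth.Agent.MTRigid29
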