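import Groth.Agent.Lib.MTRigid29.Model
import Groth.Agent.Lib.MTRigid29.PtExt
import Groth.Prelude.Def_AlgGrp

/-!
# Actions of groups of multiplicative type trivial modulo nilpotents are trivial
-/

set_option autoImplicit false
set_option linter.style.haveILetI false
set_option backward.isDefEq.respectTransparency.types false
set_option backward.isDefEq.respectTransparency false

universe u

open CategoryTheory Limits MonoidalCategory CartesianMonoidalCategory MonObj AlgebraicGeometry Opposite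
open scoped TensorProduct
open WithConv

noncomputable section

namespace Groth.Agent.MTRigid29

open DiagGL

theorem act_mul {S : Scheme.{u}} {G X : Over S} [GrpObj G] (a : AlgGrp.Action G X) {T : Over S} (g h : T ⟶ G)
    (x : T ⟶ X) : lift (g * h) x ≫ a.act = lift g (lift h x ≫ a.act) ≫ a.act := by
  rw [Hom.mul_def, ← lift_whiskerRight, Category.assoc, a.mul_act, lift_lift_associator_hom_assoc,
    lift_whiskerLeft_assoc]

/-- Coaction form: if `ρ b ≡ 1 ⊗ b` modulo a nilpotent ideal then `ρ b = 1 ⊗ b`. -/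
theorem coact_eq {R A B : Type u} [CommRing R] [CommRing A] [Bialgebra R A] [CommRing B] [Algebra R B]
    {j : A →ₗ[R] R} (hj : MultTypeLib.IsInt j) (ρ : B →ₗ[R] A ⊗[R] B)
    (hco : ∀ b, TensorProduct.assoc R A A B ((Coalgebra.comul (R := R)).rTensor B (ρ b)) = ρ.lTensor A (ρ b))
    {I : Ideal R} (hI : IsNilpotent I)
    (h : ∀ b, ρ b - (1 : A) ⊗ₜ[R] b ∈ MultTypeLib.KT I (A ⊗[R] B)) (b : B) : ρ b = (1 : A) ⊗ₜ[R] b := by
  let P₀ : A ⊗[R] B →ₗ[R] B := (TensorProduct.lid R B).toLinearMap ∘ₗ j.rTensor B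
  let P : A ⊗[R] (A ⊗[R] B) →ₗ[R] A ⊗[R] B := (TensorProduct.lid R (A ⊗[R] B)).toLinearMap ∘ₗ j.rTensor (A ⊗[R] B)
  have h1 : ∀ z, P (ρ.lTensor A z) = ρ (P₀ z) := by
    intro z
    induction z using TensorProduct.induction_on with
    | zero => simp
    | add x y hx hy => simp [hx, hy]
    | tmul a b => simp [P, P₀]
  have h2 : ∀ z, P (TensorProduct.assoc R A A B ((Coalgebra.comul (R := R)).rTensor B z)) =
      (1 : A) ⊗ₜ[R] P₀ z := by
    intro z
    induction z using TensorProduct.induction_on with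
    | zero => simp
    | add x y hx hy => simp [hx, hy, TensorProduct.tmul_add]
    | tmul a b =>
      have : ∀ w : A ⊗[R] A, P (TensorProduct.assoc R A A B (w ⊗ₜ[R] b)) =
          (TensorProduct.lid R A (j.rTensor A w)) ⊗ₜ[R] b := by
        intro w
        induction w using TensorProduct.induction_on with
        | zero => simp
        | add x y hx hy => simp [TensorProduct.add_tmul, hx, hy]
        | tmul p q => simp [P, TensorProduct.smul_tmul']
      rw [LinearMap.rTensor_tmul, this, hj.left]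
      simp [P₀, TensorProduct.smul_tmul']
  let δ : B →ₗ[R] A ⊗[R] B := ρ - TensorProduct.mk R A B 1
  have hδ : ∀ x, δ x = ρ x - (1 : A) ⊗ₜ[R] x := fun _ => rfl
  have hrec : ∀ x, δ x = - δ (P₀ (δ x)) := by
    intro x
    have hz : δ (P₀ (ρ x)) = 0 := by
      rw [hδ, sub_eq_zero, ← h1, ← hco, h2]
    have hx : P₀ (ρ x) = x + P₀ (δ x) := by
      rw [hδ, map_sub, show P₀ ((1 : A) ⊗ₜ[R] x) = x by simp [P₀, hj.one]]
      abel
    rw [hx, map_add] at hz
    exact eq_neg_of_add_eq_zero_left hz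
  have step : ∀ K : Ideal R, (∀ x, δ x ∈ MultTypeLib.KT K (A ⊗[R] B)) →
      ∀ x, δ x ∈ MultTypeLib.KT (K * K) (A ⊗[R] B) := by
    intro K hK x
    rw [hrec]
    refine neg_mem ?_
    have hm := MultTypeLib.map_mem_KT P₀ (hK x)
    generalize P₀ (δ x) = y at hm
    refine Submodule.smul_induction_on hm ?_ ?_
    · intro r hr n _
      rw [map_smul]
      show r • δ n ∈ (K * K) • (⊤ : Submodule R (A ⊗[R] B))
      rw [Submodule.mul_smul]
      exact Submodule.smul_mem_smul hr (hK n)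
    · intro p q hp hq
      rw [map_add]; exact add_mem hp hq
  obtain ⟨n, hn⟩ := hI
  have hk : ∀ k, ∀ x, δ x ∈ MultTypeLib.KT (I ^ 2 ^ k) (A ⊗[R] B) := by
    intro k
    induction k with
    | zero =>
      intro x
      rw [hδ]
      simpa using h x
    | succ k ih =>
      intro x
      rw [pow_succ, mul_two, pow_add]
      exact step _ ih x
  have h0 := MultTypeLib.KT_mono (Ideal.pow_le_pow_right (Nat.lt_two_pow_self (n := n)).le) (hk n b)
  rw [hn, Ideal.zero_eq_bot, MultTypeLib.KT_bot, Submodule.mem_bot, hδ, sub_eq_zero] at h0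
  exact h0

section Local

variable {S : Scheme.{u}} {R : Type u} [CommRing R] (g : Spec (CommRingCat.of R) ⟶ S)

/-- `Spec C` over `S`. -/
abbrev tg (C : Type u) [CommRing C] [Algebra R C] : Over S := (Over.map g).obj (CoactBr.sp R C)

/-- A map of algebras over `S`. -/
abbrev tm {C D : Type u} [CommRing C] [Algebra R C] [CommRing D] [Algebra R D] (φ : C →ₐ[R] D) : tg g D ⟶ tg g C :=
  (Over.map g).map (CoactBr.pt φ)

theorem tm_comp {C D E : Type u} [CommRing C] [Algebra R C] [CommRing D] [Algebra R D] [CommRing E] [Algebra R E]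
    (φ : C →ₐ[R] D) (ψ : D →ₐ[R] E) : tm g (ψ.comp φ) = tm g ψ ≫ tm g φ := by
  rw [tm, CoactBr.pt_comp, Functor.map_comp]

variable {G : Over S} [GrpObj G] {A : Type u} [CommRing A] [HopfAlgebra R A]
  (e : Grp.mk (CoactBr.sp R A) ≅ Grp.mk (Red.bc g G))

/-- The point of `G` attached to an algebra map. -/
def gpt {C : Type u} [CommRing C] [Algebra R C] (φ : A →ₐ[R] C) : tg g C ⟶ G :=
  fl g G (CoactBr.pt φ ≫ e.hom.hom.hom)

theorem gpt_comp {C D : Type u} [CommRing C] [Algebra R C] [CommRing D] [Algebra R D] (φ : A →ₐ[R] C)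
    (ψ : C →ₐ[R] D) : gpt g e (ψ.comp φ) = tm g ψ ≫ gpt g e φ := by
  rw [gpt, CoactBr.pt_comp, Category.assoc]
  exact fl_comp g G (CoactBr.pt ψ) (CoactBr.pt φ ≫ e.hom.hom.hom)

theorem gpt_mul {C : Type u} [CommRing C] [Algebra R C] (φ ψ : A →ₐ[R] C) :
    gpt g e φ * gpt g e ψ = gpt g e ((Algebra.TensorProduct.lift φ ψ fun _ _ => .all _ _).comp (Bialgebra.comulAlgHom R A)) := by
  haveI : IsMonHom e.hom.hom.hom := e.hom.hom.isMonHom_hom
  rw [gpt, gpt, gpt, ← CoactBr.pt_mul_pt, MonObj.mul_comp]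
  exact (fl_mul g G _ _).symm

theorem exists_gpt {C : Type u} [CommRing C] [Algebra R C] (h : tg g C ⟶ G) : ∃ φ : A →ₐ[R] C, gpt g e φ = h := by
  obtain ⟨x, hx⟩ := fl_surjective g G h
  obtain ⟨φ, hφ⟩ := exists_pt (x ≫ e.inv.hom.hom)
  refine ⟨φ, ?_⟩
  rw [gpt, ← hφ, Category.assoc, ← Mon.comp_hom', ← Grp.comp', e.inv_hom_id, ← hx]
  exact congrArg (fl g G) (Category.comp_id x)

variable {X : Over S} {B : Type u} [CommRing B] [Algebra R B] (xB : tg g B ⟶ X)

/-- The universal pair of points. -/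
def univPt : tg g (A ⊗[R] B) ⟶ G ⊗ X :=
  lift (gpt g e (Algebra.TensorProduct.includeLeft (S := R))) (tm g Algebra.TensorProduct.includeRight ≫ xB)

variable [IsOpenImmersion g] [IsOpenImmersion xB.left]

/-- Corestriction to an open affine piece. -/
theorem exists_algHom {C : Type u} [CommRing C] [Algebra R C] (f : tg g C ⟶ X)
    (hf : Set.range f.left ⊆ Set.range xB.left) : ∃ χ : B →ₐ[R] C, tm g χ ≫ xB = f := by
  let φ : Spec (CommRingCat.of C) ⟶ Spec (CommRingCat.of B) := IsOpenImmersion.lift xB.left f.left hf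
  have hφ : φ ≫ xB.left = f.left := IsOpenImmersion.lift_fac _ _ _
  have hw : φ ≫ Spec.map (CommRingCat.ofHom (algebraMap R B)) = Spec.map (CommRingCat.ofHom (algebraMap R C)) := by
    refine (cancel_mono g).1 ?_
    rw [Category.assoc]
    have h1 : xB.left ≫ X.hom = Spec.map (CommRingCat.ofHom (algebraMap R B)) ≫ g := Over.w xB
    have h2 : f.left ≫ X.hom = Spec.map (CommRingCat.ofHom (algebraMap R C)) ≫ g := Over.w f
    rw [← h1, ← Category.assoc, hφ, h2]
  obtain ⟨χ, hχ⟩ := exists_pt (R := R) (B := B) (C := C) (Over.homMk φ hw)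
  refine ⟨χ, Over.OverMorphism.ext ?_⟩
  show (CoactBr.pt χ).left ≫ xB.left = f.left
  rw [← hχ]
  exact hφ

theorem tm_xB_injective {C : Type u} [CommRing C] [Algebra R C] {χ χ' : B →ₐ[R] C}
    (h : tm g χ ≫ xB = tm g χ' ≫ xB) : χ = χ' :=
  CoactBr.pt_injective (Over.OverMorphism.ext ((cancel_mono xB.left).1 (congrArg CommaMorphism.left h)))

theorem range_subset_of_mod {C : Type u} [CommRing C] [Algebra R C] {I : Ideal R} (hI : IsNilpotent I) (f : tg g C ⟶ X)
    (hf : ∃ χ : B →ₐ[R] C ⧸ I.map (algebraMap R C), tm g (Ideal.Quotient.mkₐ R (I.map (algebraMap R C))) ≫ f = tm g χ ≫ xB) :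
    Set.range f.left ⊆ Set.range xB.left := by
  obtain ⟨χ, hχ⟩ := hf
  obtain ⟨n, hn⟩ := hI
  rintro _ ⟨z, rfl⟩
  obtain ⟨z', hz'⟩ : z ∈ Set.range (PrimeSpectrum.comap (Ideal.Quotient.mk (I.map (algebraMap R C)))) := by
    rw [range_comap_of_surjective _ _ Ideal.Quotient.mk_surjective, Ideal.mk_ker]
    exact fun i hi => z.isPrime.mem_of_pow_mem n (by
      have := Ideal.pow_mem_pow hi n
      rw [← Ideal.map_pow, hn, Ideal.zero_eq_bot, Ideal.map_bot, Ideal.mem_bot] at this
      rw [this]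
      exact z.asIdeal.zero_mem)
  refine ⟨PrimeSpectrum.comap (χ : B →+* _) z', ?_⟩
  rw [← hz']
  exact (congrArg (fun k : Spec (CommRingCat.of (C ⧸ I.map (algebraMap R C))) ⟶ X.left => k z') (congrArg CommaMorphism.left hχ)).symm

variable (a : AlgGrp.Action G X) {I : Ideal R} (hI : IsNilpotent I) {j : A →ₗ[R] R} (hj : MultTypeLib.IsInt j)
  (h0 : ∀ (C : Type u) [CommRing C] [Algebra R C], (∀ r ∈ I, algebraMap R C r = 0) →
    ∀ (h : tg g C ⟶ G) (x : tg g C ⟶ X), lift h x ≫ a.act = x)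

theorem coassoc_of_act (ρ : B →ₐ[R] A ⊗[R] B) (hρ : tm g ρ ≫ xB = univPt g e xB ≫ a.act) :
    ∀ b, TensorProduct.assoc R A A B ((Coalgebra.comul (R := R)).rTensor B (ρ b)) =
      ρ.toLinearMap.lTensor A (ρ b) := by
  let AB := A ⊗[R] B
  let D := A ⊗[R] AB
  let h₁ : A →ₐ[R] D := Algebra.TensorProduct.includeLeft (S := R)
  let inR : AB →ₐ[R] D := Algebra.TensorProduct.includeRight
  let iA : A →ₐ[R] AB := Algebra.TensorProduct.includeLeft (S := R)
  let iB : B →ₐ[R] AB := Algebra.TensorProduct.includeRight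
  let prod : A →ₐ[R] D := (Algebra.TensorProduct.lift h₁ (inR.comp iA) fun _ _ => .all _ _).comp (Bialgebra.comulAlgHom R A)
  let θ₁ : AB →ₐ[R] D := Algebra.TensorProduct.lift prod (inR.comp iB) fun _ _ => .all _ _
  let θ₂ : AB →ₐ[R] D := Algebra.TensorProduct.lift h₁ (inR.comp ρ) fun _ _ => .all _ _
  have hθ : ∀ (p : A →ₐ[R] D) (q : B →ₐ[R] D), lift (gpt g e p) (tm g q ≫ xB) =
      tm g (Algebra.TensorProduct.lift p q fun _ _ => .all _ _) ≫ univPt g e xB := fun p q => by
    rw [univPt, comp_lift, ← gpt_comp, ← Category.assoc, ← tm_comp, Algebra.TensorProduct.lift_comp_includeLeft,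
      Algebra.TensorProduct.lift_comp_includeRight']
  have hassoc : θ₁.comp ρ = θ₂.comp ρ := tm_xB_injective g xB (by
    rw [tm_comp, tm_comp, Category.assoc, Category.assoc, hρ, ← Category.assoc, ← Category.assoc, ← hθ, ← hθ,
      ← gpt_mul, act_mul]
    congr 2
    rw [tm_comp, tm_comp, Category.assoc, Category.assoc, hρ, univPt, comp_lift_assoc, ← gpt_comp])
  intro b
  have e1 : ∀ z : AB, θ₁ z = TensorProduct.assoc R A A B ((Coalgebra.comul (R := R)).rTensor B z) := by
    intro z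
    induction z using TensorProduct.induction_on with
    | zero => simp
    | add x y hx hy => simp [hx, hy]
    | tmul p q =>
      rw [LinearMap.rTensor_tmul]
      show prod p * inR (iB q) = _
      show Algebra.TensorProduct.lift h₁ (inR.comp iA) (fun x y => Commute.all (h₁ x) ((inR.comp iA) y)) (Coalgebra.comul (R := R) p) * inR (iB q) = _
      generalize Coalgebra.comul (R := R) p = w
      induction w using TensorProduct.induction_on with
      | zero => simp
      | add x y hx hy => rw [map_add, add_mul, hx, hy, TensorProduct.add_tmul, map_add]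
      | tmul x y =>
        rw [Algebra.TensorProduct.lift_tmul]
        show ((x ⊗ₜ[R] (1 : AB)) * ((1 : A) ⊗ₜ[R] (y ⊗ₜ[R] (1 : B)))) * ((1 : A) ⊗ₜ[R] ((1 : A) ⊗ₜ[R] q)) = _
        simp [AB]
  have e2 : ∀ z : AB, θ₂ z = ρ.toLinearMap.lTensor A z := by
    intro z
    induction z using TensorProduct.induction_on with
    | zero => simp
    | add x y hx hy => simp [hx, hy]
    | tmul p q =>
      refine (Algebra.TensorProduct.lift_tmul _ _ _ _ _).trans ?_
      show (p ⊗ₜ[R] (1 : AB)) * ((1 : A) ⊗ₜ[R] ρ q) = p ⊗ₜ[R] ρ q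
      rw [Algebra.TensorProduct.tmul_mul_tmul, _root_.mul_one, _root_.one_mul]
  rw [← e1, ← e2]
  exact DFunLike.congr_fun hassoc b

include hI hj h0 in
theorem univPt_act : univPt g e xB ≫ a.act = univPt g e xB ≫ snd G X := by
  rw [univPt, lift_snd]
  let AB := A ⊗[R] B
  let mkI : AB →ₐ[R] AB ⧸ I.map (algebraMap R AB) := Ideal.Quotient.mkₐ R _
  have hmod : tm g mkI ≫ univPt g e xB ≫ a.act =
      tm g (mkI.comp Algebra.TensorProduct.includeRight) ≫ xB := by
    rw [univPt, ← Category.assoc, comp_lift, h0 _ (fun r hr => by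
      rw [IsScalarTower.algebraMap_apply R AB (AB ⧸ I.map (algebraMap R AB))]
      exact Ideal.Quotient.eq_zero_iff_mem.2 (Ideal.mem_map_of_mem _ hr)) _ _, tm_comp, Category.assoc]
  obtain ⟨ρ, hρ⟩ := exists_algHom g xB (univPt g e xB ≫ a.act) (range_subset_of_mod g xB hI _ ⟨_, hmod⟩)
  have hρ0 : ∀ b, ρ b - (1 : A) ⊗ₜ[R] b ∈ MultTypeLib.KT I AB := fun b => by
    rw [MultTypeLib.mem_KT_iff_mem_map, ← Ideal.Quotient.eq]
    exact DFunLike.congr_fun (tm_xB_injective g xB (χ := mkI.comp ρ) (χ' := mkI.comp Algebra.TensorProduct.includeRight)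
      (by rw [tm_comp, Category.assoc, hρ, hmod])) b
  have hco := coassoc_of_act g e xB a ρ hρ
  have hfin : ρ = Algebra.TensorProduct.includeRight := AlgHom.ext fun b => coact_eq hj ρ.toLinearMap hco hI hρ0 b
  have hρ' := hρ
  rw [hfin, univPt] at hρ'
  exact hρ'.symm

include e hI hj h0 in
theorem act_eq_snd_local {C : Type u} [CommRing C] [Algebra R C] (w : tg g C ⟶ G ⊗ X)
    (hw : Set.range (w ≫ snd G X).left ⊆ Set.range xB.left) : w ≫ a.act = w ≫ snd G X := by
  obtain ⟨χ, hχ⟩ := exists_algHom g xB (w ≫ snd G X) hw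
  obtain ⟨φ, hφ⟩ := exists_gpt g e (w ≫ fst G X)
  have hw' : w = tm g (Algebra.TensorProduct.lift φ χ fun _ _ => .all _ _) ≫ univPt g e xB := by
    rw [univPt, comp_lift, ← gpt_comp, ← Category.assoc, ← tm_comp, Algebra.TensorProduct.lift_comp_includeLeft,
      Algebra.TensorProduct.lift_comp_includeRight', hφ, hχ]
    exact CartesianMonoidalCategory.hom_ext _ _ (by rw [lift_fst]) (by rw [lift_snd])
  rw [hw', Category.assoc, Category.assoc, univPt_act g e xB a hI hj h0]

end Local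

/-- An action trivial modulo a locally nilpotent ideal is trivial. -/
theorem action_trivial {S S₀ : Scheme.{u}} (i₀ : S₀ ⟶ S) [IsClosedImmersion i₀]
    (hnil : ∀ x : S, ∃ U : S.affineOpens, x ∈ (U : S.Opens) ∧ IsNilpotent (i₀.ker.ideal U))
    (G X : Over S) [GrpObj G] (hG : IsMT G) (a : AlgGrp.Action G X)
    (h0 : ∀ (Y : Over S) (_ : Y ⟶ Over.mk i₀) (g : Y ⟶ G) (x : Y ⟶ X), lift g x ≫ a.act = x) :
    a.act = snd G X := by
  refine Over.OverMorphism.ext ?_
  have key : ∀ z : (G ⊗ X).left, ∃ W : (G ⊗ X).left.Opens, z ∈ W ∧ W.ι ≫ a.act.left = W.ι ≫ (snd G X).left := by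
    intro z
    obtain ⟨⟨U, hU⟩, hzU, hnU⟩ := hnil (X.hom ((snd G X).left z))
    obtain ⟨V, hV, hzV, hVU⟩ := exists_isAffineOpen_mem_and_subset (x := (snd G X).left z) (U := X.hom ⁻¹ᵁ U) hzU
    obtain ⟨W, hW, hzW, hWV⟩ := exists_isAffineOpen_mem_and_subset (x := z) (U := (snd G X).left ⁻¹ᵁ V) hzV
    refine ⟨W, hzW, ?_⟩
    let g : Spec (CommRingCat.of Γ(S, U)) ⟶ S := hU.fromSpec
    letI : Algebra Γ(S, U) Γ(X.left, V) := (X.hom.appLE U V hVU).hom.toAlgebra
    have hWU : W ≤ (G ⊗ X).hom ⁻¹ᵁ U := fun p hp => by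
      have h1 : X.hom ((snd G X).left p) ∈ U := hVU (hWV hp)
      rwa [← Scheme.Hom.comp_apply, Over.w (snd G X)] at h1
    letI : Algebra Γ(S, U) Γ((G ⊗ X).left, W) := ((G ⊗ X).hom.appLE U W hWU).hom.toAlgebra
    let xB : tg g Γ(X.left, V) ⟶ X := Over.homMk hV.fromSpec (hU.SpecMap_appLE_fromSpec X.hom hV hVU).symm
    haveI : IsOpenImmersion xB.left := inferInstanceAs (IsOpenImmersion hV.fromSpec)
    let w : tg g Γ((G ⊗ X).left, W) ⟶ G ⊗ X :=
      Over.homMk hW.fromSpec (hU.SpecMap_appLE_fromSpec (G ⊗ X).hom hW hWU).symm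
    obtain ⟨A, _, _, j, hj, ⟨e⟩⟩ := exists_model hG g
    have h0' : ∀ (C : Type u) [CommRing C] [Algebra Γ(S, U) C], (∀ r ∈ i₀.ker.ideal ⟨U, hU⟩, algebraMap Γ(S, U) C r = 0) →
        ∀ (h : tg g C ⟶ G) (x : tg g C ⟶ X), lift h x ≫ a.act = x := by
      intro C _ _ hC
      have hU₀ : IsAffineOpen (i₀ ⁻¹ᵁ U) := hU.preimage i₀
      have hsurj : Function.Surjective (i₀.app U).hom := i₀.app_surjective U hU
      have hker : RingHom.ker (i₀.app U).hom ≤ RingHom.ker (algebraMap Γ(S, U) C) := fun r hr =>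
        hC r (by rw [i₀.ker_apply ⟨U, hU⟩]; exact hr)
      let χ : Γ(S₀, i₀ ⁻¹ᵁ U) →+* C := RingHom.liftOfRightInverse (i₀.app U).hom _
        (Function.rightInverse_surjInv hsurj) ⟨algebraMap Γ(S, U) C, hker⟩
      have hχ : χ.comp (i₀.app U).hom = algebraMap Γ(S, U) C :=
        RingHom.liftOfRightInverse_comp _ _ _ _
      refine h0 _ (Over.homMk (Spec.map (CommRingCat.ofHom χ) ≫ hU₀.fromSpec) ?_)
      show (Spec.map (CommRingCat.ofHom χ) ≫ hU₀.fromSpec) ≫ i₀ = Spec.map (CommRingCat.ofHom (algebraMap Γ(S, U) C)) ≫ g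
      rw [Category.assoc, ← hU.SpecMap_appLE_fromSpec i₀ hU₀ le_rfl, ← Category.assoc, ← Spec.map_comp,
        ← Scheme.Hom.app_eq_appLE, show i₀.app U ≫ CommRingCat.ofHom χ = CommRingCat.ofHom (algebraMap Γ(S, U) C) from
          CommRingCat.hom_ext hχ]
    have hloc := act_eq_snd_local g e xB a hnU hj h0' w (by
      rintro _ ⟨p, rfl⟩
      show (snd G X).left (hW.fromSpec p) ∈ Set.range hV.fromSpec
      rw [hV.range_fromSpec]
      exact hWV (hW.range_fromSpec.subset (Set.mem_range_self p)))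
    have h' : hW.fromSpec ≫ a.act.left = hW.fromSpec ≫ (snd G X).left := congrArg CommaMorphism.left hloc
    rw [← IsAffineOpen.isoSpec_hom_fromSpec hW, Category.assoc, Category.assoc, h']
  choose W hz hW using key
  exact Scheme.Cover.hom_ext (Scheme.openCoverOfIsOpenCover _ W
    (TopologicalSpace.IsOpenCover.mk (eq_top_iff.2 fun z _ => TopologicalSpace.Opens.mem_iSup.2 ⟨z, hz z⟩))) _ _ hW

end Groth.Agent.MTRigid29
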