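import Groth.Agent.Lib.MTRigid29.Action

/-!
# Actions of groups of multiplicative type trivial on fibres are trivial
-/

set_option autoImplicit false
set_option linter.style.haveILetI false
set_option backward.isDefEq.respectTransparency.types false
set_option backward.isDefEq.respectTransparency false

universe u

open CategoryTheory Limits MonoidalCategory CartesianMonoidalCategory MonObj AlgebraicGeometry Opposite
open scoped TensorProduct
open WithConv

noncomputable section

namespace Groth.Agent.MTRigid29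

open DiagGL

/-- A coaction on a finitely generated algebra which is trivial on fibres is trivial. -/
theorem coact_eq_fibres {R A B : Type u} [CommRing R] [CommRing A] [Bialgebra R A] [CommRing B] [Algebra R B]
    [Algebra.FiniteType R B]
    {j : A →ₗ[R] R} (hj : MultTypeLib.IsInt j) (ρ : B →ₐ[R] A ⊗[R] B)
    (hco : ∀ b, TensorProduct.assoc R A A B ((Coalgebra.comul (R := R)).rTensor B (ρ b)) = ρ.toLinearMap.lTensor A (ρ b))
    (h : ∀ (p : Ideal R) [p.IsPrime] (b : B),
      ∃ s ∉ p, s • (ρ b - (1 : A) ⊗ₜ[R] b) ∈ MultTypeLib.KT p (A ⊗[R] B)) (b : B) :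
    ρ b = (1 : A) ⊗ₜ[R] b := by
  classical
  let P₀ : A ⊗[R] B →ₗ[R] B := (TensorProduct.lid R B).toLinearMap ∘ₗ j.rTensor B
  let P : A ⊗[R] (A ⊗[R] B) →ₗ[R] A ⊗[R] B := (TensorProduct.lid R (A ⊗[R] B)).toLinearMap ∘ₗ j.rTensor (A ⊗[R] B)
  have h1 : ∀ z, P (ρ.toLinearMap.lTensor A z) = ρ (P₀ z) := by
    intro z
    induction z using TensorProduct.induction_on with
    | zero => simp
    | add x y hx hy => simp [hx, hy]
    | tmul a b => simp [P, P₀]
  have h2 : ∀ z, P (TensorProduct.assoc R A A B ((Coalgebra.comul (R := R)).rTensor B z)) =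
      (1 : A) ⊗ₜ[R] P₀ z := by
    intro z
    induction z using TensorProduct.induction_on with
    | zero => simp
    | add x y hx hy => simp [hx, hy, TensorProduct.tmul_add]
    | tmul a b =>
      have : ∀ w : A ⊗[R] A, P (TensorProduct.assoc R A A B (w ⊗ₜ[R] b)) =
          (TensorProduct.lid R A (j.rTensor A w)) ⊗ₜ[R] b := by
        intro w
        induction w using TensorProduct.induction_on with
        | zero => simp
        | add x y hx hy => simp [TensorProduct.add_tmul, hx, hy]
        | tmul p q => simp [P, TensorProduct.smul_tmul']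
      rw [LinearMap.rTensor_tmul, this, hj.left]
      simp [P₀, TensorProduct.smul_tmul']
  let δ : B →ₗ[R] A ⊗[R] B := ρ.toLinearMap - TensorProduct.mk R A B 1
  have hδ : ∀ x, δ x = ρ x - (1 : A) ⊗ₜ[R] x := fun _ => rfl
  have hrec : ∀ x, δ x = - δ (P₀ (δ x)) := by
    intro x
    have hz : δ (P₀ (ρ x)) = 0 := by
      rw [hδ, sub_eq_zero, ← h1, ← hco, h2]
    have hx : P₀ (ρ x) = x + P₀ (δ x) := by
      rw [hδ, map_sub, show P₀ ((1 : A) ⊗ₜ[R] x) = x by simp [P₀, hj.one]]
      abel
    rw [hx, map_add] at hz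
    exact eq_neg_of_add_eq_zero_left hz
  obtain ⟨G, hG⟩ := Algebra.FiniteType.out (R := R) (A := B)
  let J : Ideal (A ⊗[R] B) := Ideal.span (δ '' (G : Set B))
  have hJ : ∀ x, δ x ∈ J := fun x => by
    have hx : x ∈ Algebra.adjoin R (G : Set B) := by rw [hG]; exact Algebra.mem_top
    induction hx using Algebra.adjoin_induction with
    | mem z hz => exact Ideal.subset_span ⟨z, hz, rfl⟩
    | algebraMap r =>
      rw [hδ, AlgHom.commutes, show (1 : A) ⊗ₜ[R] algebraMap R B r = algebraMap R (A ⊗[R] B) r from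
        (Algebra.TensorProduct.includeRight : B →ₐ[R] A ⊗[R] B).commutes r, sub_self]
      exact J.zero_mem
    | add x y _ _ hx hy => rw [map_add]; exact J.add_mem hx hy
    | mul x y _ _ hx hy =>
      have : δ (x * y) = δ x * ρ y + ((1 : A) ⊗ₜ[R] x) * δ y := by
        rw [hδ, hδ, hδ, map_mul, show (1 : A) ⊗ₜ[R] (x * y) = ((1 : A) ⊗ₜ[R] x) * ((1 : A) ⊗ₜ[R] y) by
          rw [Algebra.TensorProduct.tmul_mul_tmul, _root_.one_mul]]
        ring
      rw [this]
      exact J.add_mem (J.mul_mem_right _ hx) (J.mul_mem_left _ hy)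
  have hJ0 : J = ⊥ := by
    refine ideal_eq_bot_of_localization J fun P hP => ?_
    suffices hbot : J.map (algebraMap (A ⊗[R] B) (Localization.AtPrime P)) = ⊥ by
      rw [eq_bot_iff]
      rintro _ ⟨r, hr, rfl⟩
      exact hbot.le (Ideal.mem_map_of_mem _ hr)
    haveI := hP
    let E := Localization.AtPrime P
    let p : Ideal R := P.comap (algebraMap R (A ⊗[R] B))
    let Jm := J.map (algebraMap (A ⊗[R] B) E)
    have hle : Jm ≤ IsLocalRing.maximalIdeal E • Jm := by
      refine Ideal.map_le_iff_le_comap.2 (Ideal.span_le.2 ?_)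
      rintro _ ⟨x, -, rfl⟩
      obtain ⟨s, hs, hsx⟩ := h p x
      rw [← hδ] at hsx
      have hkey : s • δ x ∈ (p.map (algebraMap R (A ⊗[R] B))) * J := by
        rw [hrec, ← map_neg, ← map_smul, smul_neg, map_neg, ← map_smul P₀]
        refine Ideal.neg_mem_iff _ |>.2 ?_
        have hm := MultTypeLib.map_mem_KT P₀ hsx
        generalize P₀ (s • δ x) = y at hm
        refine Submodule.smul_induction_on hm ?_ ?_
        · intro r hr n _
          rw [map_smul, Algebra.smul_def]
          exact Ideal.mul_mem_mul (Ideal.mem_map_of_mem _ hr) (hJ n)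
        · intro a b ha hb
          rw [map_add]; exact Ideal.add_mem _ ha hb
      have hu : IsUnit (algebraMap (A ⊗[R] B) E (algebraMap R (A ⊗[R] B) s)) :=
        IsLocalization.map_units E (⟨_, fun hmem => hs hmem⟩ : P.primeCompl)
      have h3 : algebraMap (A ⊗[R] B) E (s • δ x) ∈ IsLocalRing.maximalIdeal E • Jm := by
        have h4 := Ideal.mem_map_of_mem (algebraMap (A ⊗[R] B) E) hkey
        rw [Ideal.map_mul] at h4
        refine Ideal.mul_mono ?_ le_rfl h4
        rw [← IsLocalization.AtPrime.map_eq_maximalIdeal P E]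
        exact Ideal.map_mono (Ideal.map_comap_le)
      show algebraMap (A ⊗[R] B) E (δ x) ∈ IsLocalRing.maximalIdeal E • Jm
      rw [Algebra.smul_def, map_mul] at h3
      exact (Ideal.unit_mul_mem_iff_mem _ hu).1 h3
    have hfg : J.FG := ⟨G.image δ, by rw [Finset.coe_image]⟩
    exact Submodule.eq_bot_of_le_smul_of_le_jacobson_bot _ Jm
      (Ideal.FG.map hfg _) hle (IsLocalRing.maximalIdeal_le_jacobson _)
  have hb := hJ b
  rw [hJ0, Ideal.mem_bot, hδ, sub_eq_zero] at hb
  exact hb

section Local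

variable {S : Scheme.{u}} {R : Type u} [CommRing R] (g : Spec (CommRingCat.of R) ⟶ S)
variable {G : Over S} [GrpObj G] {A : Type u} [CommRing A] [HopfAlgebra R A]
  (e : Grp.mk (CoactBr.sp R A) ≅ Grp.mk (Red.bc g G))
variable {X : Over S} {B : Type u} [CommRing B] [Algebra R B] [Algebra.FiniteType R B] (xB : tg g B ⟶ X)
variable [IsOpenImmersion g] [IsOpenImmersion xB.left]
variable (a : AlgGrp.Action G X) {j : A →ₗ[R] R} (hj : MultTypeLib.IsInt j)
  (h0 : ∀ (p : Ideal R) [p.IsPrime] (C : Type u) [CommRing C] [Algebra R C],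
    (∀ r ∈ p, algebraMap R C r = 0) → (∀ r ∉ p, IsUnit (algebraMap R C r)) →
    ∀ (h : tg g C ⟶ G) (x : tg g C ⟶ X), lift h x ≫ a.act = x)

include hj h0 in
theorem univPt_act_fibres : univPt g e xB ≫ a.act = univPt g e xB ≫ snd G X := by
  rw [univPt, lift_snd]
  let AB := A ⊗[R] B
  let f := univPt g e xB ≫ a.act
  have hrange : Set.range f.left ⊆ Set.range xB.left := by
    rintro _ ⟨z, rfl⟩
    let z' : PrimeSpectrum AB := z
    let L := z'.asIdeal.ResidueField
    let q : AB →ₐ[R] L := IsScalarTower.toAlgHom R AB L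
    have hq : tm g q ≫ f = tm g (q.comp Algebra.TensorProduct.includeRight) ≫ xB := by
      show tm g q ≫ univPt g e xB ≫ a.act = _
      rw [univPt, ← Category.assoc, comp_lift, h0 (z'.asIdeal.comap (algebraMap R AB)) L (fun r hr => by
          rw [IsScalarTower.algebraMap_apply R AB L]
          exact Ideal.algebraMap_residueField_eq_zero.2 hr) (fun r hr => by
          rw [IsScalarTower.algebraMap_apply R AB L, isUnit_iff_ne_zero]
          exact fun h => hr ((Ideal.algebraMap_residueField_eq_zero (I := z'.asIdeal)).1 h :)) _ _, tm_comp, Category.assoc]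
    let c : PrimeSpectrum L := IsLocalRing.closedPoint L
    have hc : PrimeSpectrum.comap (algebraMap AB L) c = z' := by
      apply PrimeSpectrum.ext
      show Ideal.comap (algebraMap AB L) _ = _
      rw [Ideal.eq_bot_of_prime c.asIdeal, ← RingHom.ker_eq_comap_bot, Ideal.ker_algebraMap_residueField]
    refine ⟨PrimeSpectrum.comap (q.comp Algebra.TensorProduct.includeRight).toRingHom c, ?_⟩
    have := congrArg (fun k : Spec (CommRingCat.of L) ⟶ X.left => k c) (congrArg CommaMorphism.left hq)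
    rw [← show (tm g q).left c = z from hc]
    exact this.symm
  obtain ⟨ρ, hρ⟩ := exists_algHom g xB f hrange
  have hρ0 : ∀ (p : Ideal R) [p.IsPrime] (b : B),
      ∃ s ∉ p, s • (ρ b - (1 : A) ⊗ₜ[R] b) ∈ MultTypeLib.KT p AB := by
    intro p _ b
    let pE := p.map (algebraMap R AB)
    suffices key : ∀ (C : Type u) [CommRing C] [Algebra R C] [Algebra (AB ⧸ pE) C] [IsScalarTower R (AB ⧸ pE) C]
        [IsLocalization (Algebra.algebraMapSubmonoid (AB ⧸ pE) p.primeCompl) C],
        ∃ s ∉ p, s • (ρ b - (1 : A) ⊗ₜ[R] b) ∈ MultTypeLib.KT p AB from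
      key (Localization (Algebra.algebraMapSubmonoid (AB ⧸ pE) p.primeCompl))
    intro C _ _ _ _ _
    let q : AB →ₐ[R] C := (IsScalarTower.toAlgHom R (AB ⧸ pE) C).comp (Ideal.Quotient.mkₐ R pE)
    have hq : tm g (q.comp ρ) ≫ xB = tm g (q.comp Algebra.TensorProduct.includeRight) ≫ xB := by
      rw [tm_comp, Category.assoc, hρ]
      show tm g q ≫ univPt g e xB ≫ a.act = _
      rw [univPt, ← Category.assoc, comp_lift, h0 p C (fun r hr => by
          rw [IsScalarTower.algebraMap_apply R (AB ⧸ pE) C, IsScalarTower.algebraMap_apply R AB (AB ⧸ pE),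
            Ideal.Quotient.algebraMap_eq, Ideal.Quotient.eq_zero_iff_mem.2 (Ideal.mem_map_of_mem _ hr), map_zero])
        (fun r hr => by
          rw [IsScalarTower.algebraMap_apply R (AB ⧸ pE) C]
          exact IsLocalization.map_units C (⟨_, ⟨r, hr, rfl⟩⟩ : Algebra.algebraMapSubmonoid (AB ⧸ pE) p.primeCompl))
        _ _]
      simp only [q, tm_comp, Category.assoc]
    have h1 : algebraMap (AB ⧸ pE) C (Ideal.Quotient.mk pE (ρ b - (1 : A) ⊗ₜ[R] b)) = 0 := by
      rw [map_sub, map_sub, sub_eq_zero]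
      exact DFunLike.congr_fun (tm_xB_injective g xB hq) b
    obtain ⟨⟨_, s, hs, rfl⟩, hs0⟩ := (IsLocalization.map_eq_zero_iff
      (Algebra.algebraMapSubmonoid (AB ⧸ pE) p.primeCompl) C _).1 h1
    refine ⟨s, hs, ?_⟩
    rw [MultTypeLib.mem_KT_iff_mem_map, Algebra.smul_def, ← Ideal.Quotient.eq_zero_iff_mem, map_mul]
    exact hs0
  have hco := coassoc_of_act g e xB a ρ hρ
  have hfin : ρ = Algebra.TensorProduct.includeRight := AlgHom.ext fun b => coact_eq_fibres hj ρ hco hρ0 b
  have hρ' := hρ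
  rw [hfin] at hρ'
  exact hρ'.symm

include e hj h0 in
theorem act_eq_snd_local_fibres {C : Type u} [CommRing C] [Algebra R C] (w : tg g C ⟶ G ⊗ X)
    (hw : Set.range (w ≫ snd G X).left ⊆ Set.range xB.left) : w ≫ a.act = w ≫ snd G X := by
  obtain ⟨χ, hχ⟩ := exists_algHom g xB (w ≫ snd G X) hw
  obtain ⟨φ, hφ⟩ := exists_gpt g e (w ≫ fst G X)
  have hw' : w = tm g (Algebra.TensorProduct.lift φ χ fun _ _ => .all _ _) ≫ univPt g e xB := by
    rw [univPt, comp_lift, ← gpt_comp, ← Category.assoc, ← tm_comp, Algebra.TensorProduct.lift_comp_includeLeft,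
      Algebra.TensorProduct.lift_comp_includeRight', hφ, hχ]
    exact CartesianMonoidalCategory.hom_ext _ _ (by rw [lift_fst]) (by rw [lift_snd])
  rw [hw', Category.assoc, Category.assoc, univPt_act_fibres g e xB a hj h0]

end Local

/-- An action on a scheme locally of finite type which is trivial on every fibre is trivial. -/
theorem action_trivial_fibres {S : Scheme.{u}} (G X : Over S) [GrpObj G] [LocallyOfFiniteType X.hom] (hG : IsMT G)
    (a : AlgGrp.Action G X)
    (h0 : ∀ (s : S) (Y : Over S) (_ : Y ⟶ Over.mk (S.fromSpecResidueField s)) (g : Y ⟶ G) (x : Y ⟶ X),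
      lift g x ≫ a.act = x) :
    a.act = snd G X := by
  refine Over.OverMorphism.ext ?_
  have key : ∀ z : (G ⊗ X).left, ∃ W : (G ⊗ X).left.Opens, z ∈ W ∧ W.ι ≫ a.act.left = W.ι ≫ (snd G X).left := by
    intro z
    obtain ⟨U, hU, hzU, -⟩ := exists_isAffineOpen_mem_and_subset (X := S) (x := X.hom ((snd G X).left z))
      (U := ⊤) trivial
    obtain ⟨V, hV, hzV, hVU⟩ := exists_isAffineOpen_mem_and_subset (x := (snd G X).left z) (U := X.hom ⁻¹ᵁ U) hzU
    obtain ⟨W, hW, hzW, hWV⟩ := exists_isAffineOpen_mem_and_subset (x := z) (U := (snd G X).left ⁻¹ᵁ V) hzV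
    refine ⟨W, hzW, ?_⟩
    let g : Spec (CommRingCat.of Γ(S, U)) ⟶ S := hU.fromSpec
    letI : Algebra Γ(S, U) Γ(X.left, V) := (X.hom.appLE U V hVU).hom.toAlgebra
    haveI : Algebra.FiniteType Γ(S, U) Γ(X.left, V) := X.hom.finiteType_appLE hU hV hVU
    have hWU : W ≤ (G ⊗ X).hom ⁻¹ᵁ U := fun p hp => by
      have h1 : X.hom ((snd G X).left p) ∈ U := hVU (hWV hp)
      rwa [← Scheme.Hom.comp_apply, Over.w (snd G X)] at h1
    letI : Algebra Γ(S, U) Γ((G ⊗ X).left, W) := ((G ⊗ X).hom.appLE U W hWU).hom.toAlgebra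
    let xB : tg g Γ(X.left, V) ⟶ X := Over.homMk hV.fromSpec (hU.SpecMap_appLE_fromSpec X.hom hV hVU).symm
    haveI : IsOpenImmersion xB.left := inferInstanceAs (IsOpenImmersion hV.fromSpec)
    let w : tg g Γ((G ⊗ X).left, W) ⟶ G ⊗ X :=
      Over.homMk hW.fromSpec (hU.SpecMap_appLE_fromSpec (G ⊗ X).hom hW hWU).symm
    obtain ⟨A, _, _, j, hj, ⟨e⟩⟩ := exists_model hG g
    have h0' : ∀ (p : Ideal Γ(S, U)) [p.IsPrime] (C : Type u) [CommRing C] [Algebra Γ(S, U) C],
        (∀ r ∈ p, algebraMap Γ(S, U) C r = 0) → (∀ r ∉ p, IsUnit (algebraMap Γ(S, U) C r)) →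
        ∀ (h : tg g C ⟶ G) (x : tg g C ⟶ X), lift h x ≫ a.act = x := by
      intro p _ C _ _ hC hC'
      let θ : p.ResidueField →+* C := Ideal.ResidueField.lift p (algebraMap Γ(S, U) C)
        (fun r hr => hC r hr) (fun r hr => hC' r hr)
      let K := p.ResidueField
      let y : Spec (CommRingCat.of K) ⟶ S := Spec.map (CommRingCat.ofHom (algebraMap Γ(S, U) K)) ≫ g
      obtain ⟨s, φ, hφ⟩ : ∃ (s : S) (φ : S.residueField s ⟶ CommRingCat.of K), Spec.map φ ≫ S.fromSpecResidueField s = y :=
        ⟨_, _, Scheme.descResidueField_stalkClosedPointTo_fromSpecResidueField K S y⟩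
      refine h0 s _ (Over.homMk (Spec.map (CommRingCat.ofHom θ) ≫ Spec.map φ) ?_)
      show (Spec.map (CommRingCat.ofHom θ) ≫ Spec.map φ) ≫ S.fromSpecResidueField s =
        Spec.map (CommRingCat.ofHom (algebraMap Γ(S, U) C)) ≫ g
      rw [Category.assoc, hφ, ← Category.assoc, ← Spec.map_comp, ← CommRingCat.ofHom_comp]
      congr 3
      exact RingHom.ext fun r => Ideal.ResidueField.lift_algebraMap (I := p) (algebraMap Γ(S, U) C) (fun r hr => hC r hr) (fun r hr => hC' r hr) r
    have hloc := act_eq_snd_local_fibres g e xB a hj h0' w (by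
      rintro _ ⟨p, rfl⟩
      show (snd G X).left (hW.fromSpec p) ∈ Set.range hV.fromSpec
      rw [hV.range_fromSpec]
      exact hWV (hW.range_fromSpec.subset (Set.mem_range_self p)))
    have h' : hW.fromSpec ≫ a.act.left = hW.fromSpec ≫ (snd G X).left := congrArg CommaMorphism.left hloc
    rw [← IsAffineOpen.isoSpec_hom_fromSpec hW, Category.assoc, Category.assoc, h']
  choose W hz hW using key
  exact Scheme.Cover.hom_ext (Scheme.openCoverOfIsOpenCover _ W
    (TopologicalSpace.IsOpenCover.mk (eq_top_iff.2 fun z _ => TopologicalSpace.Opens.mem_iSup.2 ⟨z, hz z⟩))) _ _ hW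

end Groth.Agent.MTRigid29
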