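import Groth.Agent.Lib.MTRigid29.BaseChange
import Groth.Agent.Lib.RigidGIT19.Basic

/-!
# Descent of central homomorphisms along coverings with geometrically connected fibres
-/

set_option autoImplicit false
set_option linter.style.haveILetI false
set_option backward.isDefEq.respectTransparency.types false
set_option maxSynthPendingDepth 3

universe u

open CategoryTheory Limits MonoidalCategory CartesianMonoidalCategory MonObj AlgebraicGeometry Opposite

noncomputable section

namespace Groth.Agent.MTRigid29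

open DiagGL

variable {S S' : Scheme.{u}} {H G : Over S} [GrpObj H] [GrpObj G] (π : S' ⟶ S) (u' : Red.bc π H ⟶ Red.bc π G)

section Ev

/-- An object with a map to `S'`, seen in two ways. -/
def mapMkIso (T : Over S) (t : T.left ⟶ S') (w : t ≫ π = T.hom) : (Over.map π).obj (Over.mk t) ≅ T :=
  Over.isoMk (Iso.refl _) (by simp [w])

/-- The value of `u'` on a point of `H` with a chosen lift of the base. -/
def ev (T : Over S) (t : T.left ⟶ S') (w : t ≫ π = T.hom) (x : T ⟶ H) : T ⟶ G :=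
  (mapMkIso π T t w).inv ≫
    fl π G (((Over.mapPullbackAdj π).homEquiv _ _ ((mapMkIso π T t w).hom ≫ x)) ≫ u')

theorem ev_congr (T : Over S) {t t' : T.left ⟶ S'} (h : t = t') (w : t ≫ π = T.hom) (w' : t' ≫ π = T.hom)
    (x : T ⟶ H) : ev π u' T t w x = ev π u' T t' w' x := by
  subst h; rfl

theorem fl_homEquiv {T : Over S'} (x : (Over.map π).obj T ⟶ H) :
    fl π H ((Over.mapPullbackAdj π).homEquiv _ _ x) = x := Equiv.symm_apply_apply _ _

theorem ev_nat {T T' : Over S} (f : T' ⟶ T) (t : T.left ⟶ S') (w : t ≫ π = T.hom)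
    (w' : (f.left ≫ t) ≫ π = T'.hom) (x : T ⟶ H) :
    ev π u' T' (f.left ≫ t) w' (f ≫ x) = f ≫ ev π u' T t w x := by
  let g : Over.mk (f.left ≫ t) ⟶ Over.mk t := Over.homMk f.left rfl
  have hg : (mapMkIso π T' (f.left ≫ t) w').hom ≫ f = (Over.map π).map g ≫ (mapMkIso π T t w).hom := by
    ext
    exact (Category.id_comp _).trans (Category.comp_id _).symm
  have h1 : (Over.mapPullbackAdj π).homEquiv _ _ ((mapMkIso π T' (f.left ≫ t) w').hom ≫ f ≫ x) =
      g ≫ (Over.mapPullbackAdj π).homEquiv _ _ ((mapMkIso π T t w).hom ≫ x) := by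
    rw [← Category.assoc, hg, Category.assoc, Adjunction.homEquiv_naturality_left]
  rw [ev, ev, h1, Category.assoc g, fl_comp, Iso.inv_comp_eq, ← Category.assoc (mapMkIso π T' _ w').hom, hg,
    Category.assoc, Iso.hom_inv_id_assoc]

theorem ev_mul [IsMonHom u'] (T : Over S) (t : T.left ⟶ S') (w : t ≫ π = T.hom) (x y : T ⟶ H) :
    ev π u' T t w (x * y) = ev π u' T t w x * ev π u' T t w y := by
  have h1 : (Over.mapPullbackAdj π).homEquiv _ _ ((mapMkIso π T t w).hom ≫ (x * y)) =
      (Over.mapPullbackAdj π).homEquiv _ _ ((mapMkIso π T t w).hom ≫ x) *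
        (Over.mapPullbackAdj π).homEquiv _ _ ((mapMkIso π T t w).hom ≫ y) :=
    fl_injective π H (by rw [fl_mul, fl_homEquiv, fl_homEquiv, fl_homEquiv, MonObj.comp_mul])
  rw [ev, ev, ev, h1, MonObj.mul_comp, fl_mul, MonObj.comp_mul]

theorem ev_comm (hc : ∀ (X : Over S') (g : X ⟶ Red.bc π G) (h : X ⟶ Red.bc π H), g * (h ≫ u') = (h ≫ u') * g)
    (T : Over S) (t : T.left ⟶ S') (w : t ≫ π = T.hom) (x : T ⟶ H) (g : T ⟶ G) :
    g * ev π u' T t w x = ev π u' T t w x * g := by
  obtain ⟨g', hg'⟩ := fl_surjective π G ((mapMkIso π T t w).hom ≫ g)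
  have := congrArg (fun z => (mapMkIso π T t w).inv ≫ fl π G z)
    (hc _ g' ((Over.mapPullbackAdj π).homEquiv _ _ ((mapMkIso π T t w).hom ≫ x)))
  simp only [fl_mul, hg', MonObj.comp_mul, Iso.inv_hom_id_assoc] at this
  exact this

theorem ev_of_map (u : H ⟶ G) (hu : (Over.pullback π).map u = u') (T : Over S) (t : T.left ⟶ S')
    (w : t ≫ π = T.hom) (x : T ⟶ H) : ev π u' T t w x = x ≫ u := by
  rw [ev, ← hu, fl_comp_map, fl_homEquiv, Category.assoc, Iso.inv_hom_id_assoc]

theorem fl_comp_eq_ev {T : Over S'} (z : T ⟶ Red.bc π H) :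
    fl π G (z ≫ u') = ev π u' ((Over.map π).obj T) T.hom rfl (fl π H z) := by
  have h : mapMkIso π ((Over.map π).obj T) T.hom rfl = Iso.refl _ := by
    ext
    rfl
  rw [ev, h]
  simp only [Iso.refl_hom, Iso.refl_inv, Category.id_comp]
  have hz : (Over.mapPullbackAdj π).homEquiv _ _ (fl π H z) = z := Equiv.apply_symm_apply _ _
  exact congrArg (fun a => fl π G (a ≫ u')) hz.symm |>.trans (Category.id_comp _).symm

end Ev

variable [IsMonHom u'] [IsSeparated G.hom] [LocallyOfFiniteType G.hom] [Flat π] [Surjective π]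
  (hH : SGA3x.IsMultTypeFT H)
  (hconn : ∀ s : S, ConnectedSpace ↥(Limits.pullback π (Red.geomPt s)))
  (hc : ∀ (X : Over S') (g : X ⟶ Red.bc π G) (h : X ⟶ Red.bc π H), g * (h ≫ u') = (h ≫ u') * g)

include hH hconn hc in
omit [Flat π] [Surjective π] in
/-- The value of `u'` does not depend on the lift of the base. -/
theorem ev_indep (T : Over S) (t₁ t₂ : T.left ⟶ S') (w₁ : t₁ ≫ π = T.hom) (w₂ : t₂ ≫ π = T.hom) (x : T ⟶ H) :
    ev π u' T t₁ w₁ x = ev π u' T t₂ w₂ x := by
  let S'' := pullback π π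
  let p₁ : S'' ⟶ S' := pullback.fst π π
  let p₂ : S'' ⟶ S' := pullback.snd π π
  let q : S'' ⟶ S := p₁ ≫ π
  let d : ∀ (Y : Over S'') (_ : (Over.map q).obj Y ⟶ H), (Over.map q).obj Y ⟶ G := fun Y z =>
    ev π u' ((Over.map q).obj Y) (Y.hom ≫ p₁) (Category.assoc _ _ _) z *
      (ev π u' ((Over.map q).obj Y) (Y.hom ≫ p₂)
        ((Category.assoc _ _ _).trans (congrArg (Y.hom ≫ ·) pullback.condition.symm)) z)⁻¹
  let ud : Red.bc q H ⟶ Red.bc q G := (Over.mapPullbackAdj q).homEquiv _ _ (d _ (fl q H (𝟙 _)))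
  have hud : ∀ (Y : Over S'') (y : Y ⟶ Red.bc q H), fl q G (y ≫ ud) = d Y (fl q H y) := by
    intro Y y
    have h1 : fl q H y = (Over.map q).map y ≫ fl q H (𝟙 _) := by rw [← fl_comp, Category.comp_id]
    rw [fl_comp, show fl q G ud = d _ (fl q H (𝟙 _)) from Equiv.symm_apply_apply _ _, h1]
    simp only [d, MonObj.comp_mul, GrpObj.comp_inv]
    have hy : ((Over.map q).map y).left ≫ (Red.bc q H).hom = Y.hom := Over.w y
    congr 1
    · rw [← ev_nat π u' ((Over.map q).map y) _ _ (by rw [← Category.assoc, hy, Category.assoc]; rfl)]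
      exact ev_congr π u' _ (by rw [← Category.assoc, hy]) _ _ _
    · rw [← ev_nat π u' ((Over.map q).map y) _ _ (by
        rw [← Category.assoc, hy, Category.assoc, ← pullback.condition]; rfl)]
      exact congrArg (·⁻¹) (ev_congr π u' _ (by rw [← Category.assoc, hy]) _ _ _)
  haveI : IsMonHom ud := TorsorSch25.isMonHom_of_points ud fun Y a b => fl_injective q G (by
    rw [fl_mul, hud, hud, hud, fl_mul]
    simp only [d, ev_mul, mul_inv_rev]
    have := ev_comm π u' hc ((Over.map q).obj Y) (Y.hom ≫ p₂)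
      ((Category.assoc _ _ _).trans (congrArg (Y.hom ≫ ·) pullback.condition.symm)) (fl q H b)
    have h2 := ev_comm π u' hc ((Over.map q).obj Y) (Y.hom ≫ p₁) (Category.assoc _ _ _) (fl q H b)
    generalize ev π u' ((Over.map q).obj Y) (Y.hom ≫ p₁) _ (fl q H a) = A₁ at *
    generalize ev π u' ((Over.map q).obj Y) (Y.hom ≫ p₁) _ (fl q H b) = B₁ at *
    generalize ev π u' ((Over.map q).obj Y) (Y.hom ≫ p₂) _ (fl q H a) = A₂ at *
    generalize ev π u' ((Over.map q).obj Y) (Y.hom ≫ p₂) _ (fl q H b) = B₂ at *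
    have hB : ∀ g, g * (B₁ * B₂⁻¹) = (B₁ * B₂⁻¹) * g := fun g => by
      rw [← _root_.mul_assoc, h2, _root_.mul_assoc, (Commute.inv_right (show Commute g B₂ from this g)).eq,
        ← _root_.mul_assoc]
    calc A₁ * B₁ * (B₂⁻¹ * A₂⁻¹) = A₁ * ((B₁ * B₂⁻¹) * A₂⁻¹) := by group
      _ = A₁ * (A₂⁻¹ * (B₁ * B₂⁻¹)) := by rw [hB]
      _ = A₁ * A₂⁻¹ * (B₁ * B₂⁻¹) := by group)
  haveI : IsSeparated (Red.bc q G).hom := MorphismProperty.pullback_snd G.hom q inferInstance
  obtain ⟨U, hUc, hU, hUt⟩ := exists_triv_locus ud (isMultTypeFT_bc hH q)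
    (.inr (MorphismProperty.pullback_snd G.hom q inferInstance))
  -- the diagonal lies in `U`
  let Δ : S' ⟶ S'' := pullback.diagonal π
  have hΔt : Triv ud Δ := by
    intro Y y
    refine fl_injective q G ?_
    rw [hud, fl_one]
    simp only [d]
    rw [mul_inv_eq_one]
    refine ev_congr π u' _ ?_ _ _ _
    show (Y.hom ≫ Δ) ≫ p₁ = (Y.hom ≫ Δ) ≫ p₂
    simp [Δ, p₁, p₂]
  have hΔ : ∀ x : S', Δ x ∈ U := by
    intro x
    rw [hU]
    haveI : IsIso (Δ.residueFieldMap x) := by
      refine (ConcreteCategory.isIso_iff_bijective (Δ.residueFieldMap x)).2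
        ⟨(Δ.residueFieldMap x).hom.injective, ?_⟩
      have h1 : Function.Surjective (Δ.stalkMap x ≫ S'.residue x) := by
        simp only [CommRingCat.hom_comp, RingHom.coe_comp]
        exact (Scheme.residue_surjective _ _).comp (Δ.stalkMap_surjective x)
      rw [← Scheme.residue_residueFieldMap] at h1
      exact Function.Surjective.of_comp (g := ⇑(S''.residue (Δ x)).hom) h1
    have h2 := triv_comp ud hΔt (S'.fromSpecResidueField x)
    rw [← Scheme.Hom.SpecMap_residueFieldMap_fromSpecResidueField] at h2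
    have h3 := triv_comp ud h2 (inv (Spec.map (Δ.residueFieldMap x)))
    rwa [IsIso.inv_hom_id_assoc] at h3
  haveI : GeometricallyConnected π := RigidGIT19.geometricallyConnected_of_geomFibre π hconn
  have htop : ∀ z : S'', z ∈ U := by
    intro z
    have hcn := (p₁.isConnected_preimage_singleton (p₁ z)).isPreconnected
    have hclopen : IsClopen (U : Set S'') := ⟨hUc, U.2⟩
    refine hcn.subset_isClopen hclopen ⟨Δ (p₁ z), ?_, hΔ _⟩ rfl
    show p₁ (Δ (p₁ z)) = p₁ z
    rw [← Scheme.Hom.comp_apply]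
    simp [Δ, p₁]
  have hall : Triv ud (𝟙 S'') := triv_of_cover ud (𝟙 S'') fun z =>
    ⟨_, U.ι, inferInstance, ⟨⟨z, htop z⟩, rfl⟩, hUt⟩
  -- apply to the given point
  let m : T.left ⟶ S'' := pullback.lift t₁ t₂ (w₁.trans w₂.symm)
  let i : (Over.map q).obj (Over.mk m) ≅ T := Over.isoMk (Iso.refl _) (by
    show 𝟙 _ ≫ T.hom = m ≫ p₁ ≫ π
    refine (Category.id_comp _).trans (w₁.symm.trans ?_)
    exact (congrArg (· ≫ π) (pullback.lift_fst t₁ t₂ _)).symm.trans (Category.assoc _ _ _))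
  obtain ⟨y, hy⟩ := fl_surjective q H (i.hom ≫ x)
  let i' : Over.mk m ≅ (Over.map (𝟙 S'')).obj (Over.mk m) := Over.isoMk (Iso.refl _) (by simp)
  have h1 : y ≫ ud = 1 := by
    have := congrArg (i'.hom ≫ ·) (hall (Over.mk m) (i'.inv ≫ y))
    simpa [MonObj.comp_one] using this
  have h2 := hud _ y
  rw [h1, fl_one, hy] at h2
  have h3 := mul_inv_eq_one.1 h2.symm
  have n1 := ev_nat π u' i.hom t₁ w₁ (by
    show (𝟙 _ ≫ t₁) ≫ π = m ≫ p₁ ≫ π
    refine (congrArg (· ≫ π) (Category.id_comp t₁)).trans ?_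
    exact (congrArg (· ≫ π) (pullback.lift_fst t₁ t₂ _)).symm.trans (Category.assoc _ _ _)) x
  have n2 := ev_nat π u' i.hom t₂ w₂ (by
    show (𝟙 _ ≫ t₂) ≫ π = m ≫ p₁ ≫ π
    refine (congrArg (· ≫ π) (Category.id_comp t₂)).trans (w₂.trans (w₁.symm.trans ?_))
    exact (congrArg (· ≫ π) (pullback.lift_fst t₁ t₂ _)).symm.trans (Category.assoc _ _ _)) x
  rw [← cancel_epi i.hom, ← n1, ← n2]
  refine (ev_congr π u' _ ?_ _ _ _).trans (h3.trans (ev_congr π u' _ ?_ _ _ _))
  · show 𝟙 _ ≫ t₁ = m ≫ p₁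
    exact (Category.id_comp t₁).trans (pullback.lift_fst t₁ t₂ _).symm
  · show m ≫ p₂ = 𝟙 _ ≫ t₂
    exact (pullback.lift_snd t₁ t₂ _).trans (Category.id_comp t₂).symm

include hH hconn hc in
/-- Central homomorphisms descend along fpqc coverings with geometrically connected fibres. -/
theorem existsUnique_descent
    (hcov : ∀ V : S.Opens, IsAffineOpen V → ∃ W : S'.Opens, IsCompact (W : Set S') ∧ π.base '' (W : Set S') = (V : Set S)) :
    ∃! u : H ⟶ G, IsMonHom u ∧ (Over.pullback π).map u = u' := by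
  haveI : Flat (pullback.fst H.hom π) := MorphismProperty.pullback_fst _ _ ‹_›
  haveI : Surjective (pullback.fst H.hom π) := MorphismProperty.pullback_fst _ _ ‹_›
  let f : pullback H.hom π ⟶ H.left := pullback.fst H.hom π
  haveI : EffectiveEpi f := effectiveEpi_of_cover _ (cover_pullback π H.hom hcov)
  let HP : Over S := Over.mk (f ≫ H.hom)
  let x₀ : HP ⟶ H := Over.homMk f rfl
  let y : HP ⟶ G := ev π u' HP (pullback.snd H.hom π) pullback.condition.symm x₀
  let φ : pullback H.hom π ⟶ G.left := y.left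
  have hφ : ∀ {Z : Scheme.{u}} (a b : Z ⟶ pullback H.hom π), a ≫ f = b ≫ f → a ≫ φ = b ≫ φ := by
    intro Z a b hab
    let a' : Over.mk (a ≫ HP.hom) ⟶ HP := Over.homMk a rfl
    let b' : Over.mk (a ≫ HP.hom) ⟶ HP := Over.homMk b (by
      show b ≫ f ≫ H.hom = a ≫ f ≫ H.hom
      rw [← Category.assoc, ← hab, Category.assoc])
    have hx : a' ≫ x₀ = b' ≫ x₀ := Over.OverMorphism.ext hab
    have wa : (a'.left ≫ pullback.snd H.hom π) ≫ π = (Over.mk (a ≫ HP.hom)).hom := by
      rw [Category.assoc, ← pullback.condition]; exact Over.w a'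
    have wb : (b'.left ≫ pullback.snd H.hom π) ≫ π = (Over.mk (a ≫ HP.hom)).hom := by
      rw [Category.assoc, ← pullback.condition]; exact Over.w b'
    have h1 : a' ≫ y = b' ≫ y := by
      rw [← ev_nat π u' a' _ _ wa, ← ev_nat π u' b' _ _ wb, hx]
      exact ev_indep π u' hH hconn hc _ _ _ _ _ _
    exact congrArg CommaMorphism.left h1
  let ψ : H.left ⟶ G.left := EffectiveEpi.desc f φ fun a b hab => hφ a b hab
  have hψ : f ≫ ψ = φ := EffectiveEpi.fac f φ fun a b hab => hφ a b hab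
  let u : H ⟶ G := Over.homMk ψ (by
    rw [← cancel_epi f, ← Category.assoc, hψ]
    exact Over.w y)
  have hev : ∀ (T : Over S) (t : T.left ⟶ S') (w : t ≫ π = T.hom) (x : T ⟶ H), ev π u' T t w x = x ≫ u := by
    intro T t w x
    let l : T ⟶ HP := Over.homMk (pullback.lift x.left t ((Over.w x).trans w.symm)) (by
      show pullback.lift x.left t _ ≫ f ≫ H.hom = T.hom
      rw [← Category.assoc, pullback.lift_fst]; exact Over.w x)
    have hl : l ≫ x₀ = x := Over.OverMorphism.ext (pullback.lift_fst _ _ _)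
    have hlt : l.left ≫ pullback.snd H.hom π = t := pullback.lift_snd _ _ _
    have h1 : l ≫ y = x ≫ u := by
      refine Eq.trans ?_ (congrArg (· ≫ u) hl)
      rw [Category.assoc]
      exact congrArg (l ≫ ·) (Over.OverMorphism.ext hψ.symm)
    rw [← h1, ← ev_nat π u' l _ _ (by rw [hlt]; exact w), hl]
    exact ev_congr π u' T hlt.symm _ _ _
  haveI hu : IsMonHom u := by
    refine TorsorSch25.isMonHom_of_points u fun T a b => ?_
    haveI : Flat (pullback.fst T.hom π) := MorphismProperty.pullback_fst _ _ ‹_›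
    haveI : Surjective (pullback.fst T.hom π) := MorphismProperty.pullback_fst _ _ ‹_›
    haveI : EffectiveEpi (pullback.fst T.hom π) := effectiveEpi_of_cover _ (cover_pullback π T.hom hcov)
    let c : Over.mk (pullback.fst T.hom π ≫ T.hom) ⟶ T := Over.homMk (pullback.fst T.hom π) rfl
    haveI : Epi c.left := inferInstanceAs (Epi (pullback.fst T.hom π))
    haveI : Epi c := Over.epi_of_epi_left c
    rw [← cancel_epi c, MonObj.comp_mul, ← Category.assoc, MonObj.comp_mul, ← Category.assoc, ← Category.assoc,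
      ← hev _ (pullback.snd T.hom π) pullback.condition.symm, ev_mul, hev, hev]
  refine ⟨u, ⟨hu, ?_⟩, fun v hv => ?_⟩
  · refine ((Over.mapPullbackAdj π).homEquiv _ _).symm.injective ?_
    show fl π G ((Over.pullback π).map u) = fl π G u'
    rw [← Category.id_comp ((Over.pullback π).map u), fl_comp_map, ← Category.id_comp u', fl_comp_eq_ev, hev]
  · refine Over.OverMorphism.ext ((cancel_epi f).1 ?_)
    have h1 := (ev_of_map π u' v hv.2 HP _ pullback.condition.symm x₀).symm.trans (hev HP _ _ x₀)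
    exact congrArg CommaMorphism.left h1

end Groth.Agent.MTRigid29
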