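import Groth.Agent.Lib.MTRigid29.PtExt
import Groth.Agent.Lib.MTRigid29.Model
import Groth.Agent.Lib.MultType.Rigidity

/-!
# Infinitesimally close homomorphisms from a group of multiplicative type into any group are conjugate
-/

set_option autoImplicit false
set_option linter.style.haveILetI false
set_option backward.isDefEq.respectTransparency.types false

universe u

open CategoryTheory Limits MonoidalCategory CartesianMonoidalCategory MonObj AlgebraicGeometry Opposite
open scoped TensorProduct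
open WithConv

noncomputable section

namespace Groth.Agent.MTRigid29

open MultTypeLib (KT avg IsInt)

variable {R : Type u} [CommRing R]

/-- The group of points with values in an algebra. -/
abbrev Pts (G : Over (Spec (CommRingCat.of R))) (C : Type u) [CommRing C] [Algebra R C] :=
  CoactBr.sp R C ⟶ G

variable {G : Over (Spec (CommRingCat.of R))} [GrpObj G]

/-- Functoriality of points. -/
def pmap {C D : Type u} [CommRing C] [Algebra R C] [CommRing D] [Algebra R D] (φ : C →ₐ[R] D) :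
    Pts G C →* Pts G D where
  toFun x := CoactBr.pt φ ≫ x
  map_one' := MonObj.comp_one _
  map_mul' x y := MonObj.comp_mul _ _ _

theorem pmap_apply {C D : Type u} [CommRing C] [Algebra R C] [CommRing D] [Algebra R D] (φ : C →ₐ[R] D)
    (x : Pts G C) : pmap φ x = CoactBr.pt φ ≫ x := rfl

theorem pmap_pmap {C D E : Type u} [CommRing C] [Algebra R C] [CommRing D] [Algebra R D] [CommRing E]
    [Algebra R E] (ψ : D →ₐ[R] E) (φ : C →ₐ[R] D) (x : Pts G C) :
    pmap ψ (pmap φ x) = pmap (ψ.comp φ) x := by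
  rw [pmap_apply, pmap_apply, pmap_apply, CoactBr.pt_comp, Category.assoc]

theorem pmap_id {C : Type u} [CommRing C] [Algebra R C] (x : Pts G C) : pmap (AlgHom.id R C) x = x := by
  rw [pmap_apply, CoactBr.pt_id, Category.id_comp]

section Sub

variable {C : Type u} [CommRing C] [Algebra R C] (B : Subalgebra R C)

theorem pmap_val_injective (hsurj : Function.Surjective (PrimeSpectrum.comap (B.val : B →+* C))) :
    Function.Injective (pmap (G := G) B.val) := fun _ _ h =>
  Over.OverMorphism.ext (eq_of_comp_eq (φ := (B.val : B →+* C)) Subtype.val_injective hsurj _ _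
    (congrArg CommaMorphism.left h))

theorem exists_pmap_val (I : Ideal C) (hI : IsNilpotent I) (hIB : ∀ i ∈ I, i ∈ B)
    (hsurj : Function.Surjective (PrimeSpectrum.comap (B.val : B →+* C))) (d : Pts G C)
    (hd : pmap (Ideal.Quotient.mkₐ R I) d = 1) : ∃ z : Pts G B, pmap B.val z = d := by
  let I' : Ideal B := I.comap (B.val : B →+* C)
  let qm : B ⧸ I' →ₐ[R] C ⧸ I := Ideal.quotientMapₐ I B.val le_rfl
  have h1 : pmap (Ideal.Quotient.mkₐ R I) d = pmap qm (1 : Pts G (B ⧸ I')) := by rw [hd, map_one]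
  obtain ⟨z, hz⟩ := exists_factor (B.val : B →+* C) Subtype.val_injective I hI (fun i hi => ⟨⟨i, hIB i hi⟩, rfl⟩)
    hsurj d.left (1 : Pts G (B ⧸ I')).left (congrArg CommaMorphism.left h1)
  refine ⟨Over.homMk z (eq_of_comp_eq (φ := (B.val : B →+* C)) Subtype.val_injective hsurj _ _ ?_),
    Over.OverMorphism.ext hz⟩
  exact (Category.assoc _ _ _).symm.trans ((congrArg (· ≫ G.hom) hz).trans
    ((Over.w d).trans (Over.w (CoactBr.pt B.val)).symm))

end Sub

theorem surjective_comap_of_retract {B C A : Type u} [CommRing B] [CommRing C] [CommRing A] (φ : B →+* C)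
    (s : A →+* B) (r : C →+* A) (h : ∀ b, IsNilpotent (b - s (r (φ b)))) :
    Function.Surjective (PrimeSpectrum.comap φ) := fun q => by
  refine ⟨PrimeSpectrum.comap r (PrimeSpectrum.comap s q), PrimeSpectrum.ext (Ideal.ext fun b => ?_)⟩
  obtain ⟨n, hn⟩ := h b
  have hm : b - s (r (φ b)) ∈ q.asIdeal := q.isPrime.mem_of_pow_mem n (hn ▸ q.asIdeal.zero_mem)
  show s (r (φ b)) ∈ q.asIdeal ↔ b ∈ q.asIdeal
  exact ⟨fun hb => by simpa using q.asIdeal.add_mem hm hb, fun hb => by simpa using q.asIdeal.sub_mem hb hm⟩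

/-- Elements congruent to the image of an algebra map modulo an ideal. -/
def congrAlg {A C : Type u} [CommRing A] [Algebra R A] [CommRing C] [Algebra R C] (f : A →ₐ[R] C) (I : Ideal C) :
    Subalgebra R C where
  carrier := {c | ∃ a, c - f a ∈ I}
  mul_mem' := by
    rintro c c' ⟨a, ha⟩ ⟨a', ha'⟩
    refine ⟨a * a', ?_⟩
    rw [map_mul, show c * c' - f a * f a' = c * (c' - f a') + f a' * (c - f a) by ring]
    exact I.add_mem (I.mul_mem_left _ ha') (I.mul_mem_left _ ha)
  add_mem' := by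
    rintro c c' ⟨a, ha⟩ ⟨a', ha'⟩
    exact ⟨a + a', by rw [map_add, add_sub_add_comm]; exact I.add_mem ha ha'⟩
  algebraMap_mem' r := ⟨algebraMap R A r, by simp⟩

theorem map_mem_congrAlg {A C : Type u} [CommRing A] [Algebra R A] [CommRing C] [Algebra R C]
    (f : A →ₐ[R] C) (I : Ideal C) (a : A) : f a ∈ congrAlg f I := ⟨a, by simp⟩

theorem mem_congrAlg_of_mem {A C : Type u} [CommRing A] [Algebra R A] [CommRing C] [Algebra R C]
    (f : A →ₐ[R] C) (I : Ideal C) {c : C} (hc : c ∈ I) : c ∈ congrAlg f I := ⟨0, by simpa using hc⟩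

theorem surjective_comap_congrAlg {A C : Type u} [CommRing A] [Algebra R A] [CommRing C] [Algebra R C]
    (f : A →ₐ[R] C) (r : C →ₐ[R] A) (hrf : ∀ a, r (f a) = a) (I : Ideal C) (hI : IsNilpotent I)
    (hIr : ∀ i ∈ I, f (r i) ∈ I) :
    Function.Surjective (PrimeSpectrum.comap ((congrAlg f I).val : congrAlg f I →+* C)) := by
  refine surjective_comap_of_retract _ ((f.codRestrict _ (map_mem_congrAlg f I)) : A →+* congrAlg f I)
    (r : C →+* A) fun b => ?_
  obtain ⟨a, ha⟩ := b.2
  obtain ⟨n, hn⟩ := hI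
  have hmem : (b : C) - f (r b) ∈ I := by
    have h := hIr _ ha
    rw [map_sub, hrf, map_sub] at h
    simpa using I.sub_mem ha h
  refine ⟨n, Subtype.ext ?_⟩
  have := Ideal.pow_mem_pow hmem n
  rw [hn] at this
  show ((b : C) - f (r b)) ^ n = 0
  exact this

/-- `f` maps congruent elements to congruent ones. -/
theorem mapsTo_congrAlg {A C A' C' : Type u} [CommRing A] [Algebra R A] [CommRing C] [Algebra R C] [CommRing A']
    [Algebra R A'] [CommRing C'] [Algebra R C'] (f : A →ₐ[R] C) (I : Ideal C) (f' : A' →ₐ[R] C') (I' : Ideal C')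
    (g : C →ₐ[R] C') (g₀ : A →ₐ[R] A') (hg : ∀ a, g (f a) = f' (g₀ a)) (hI : ∀ i ∈ I, g i ∈ I')
    {c : C} (hc : c ∈ congrAlg f I) : g c ∈ congrAlg f' I' := by
  obtain ⟨a, ha⟩ := hc
  exact ⟨g₀ a, by rw [← hg, ← map_sub]; exact hI _ ha⟩

variable (A : Type u) [CommRing A] [HopfAlgebra R A]

/-- `(R/L) ⊗ A`. -/
abbrev AA (L : Ideal R) : Type u := (R ⧸ L) ⊗[R] A

/-- `(R/L) ⊗ (A ⊗ A)`. -/
abbrev CC (L : Ideal R) : Type u := (R ⧸ L) ⊗[R] (A ⊗[R] A)

variable {A} (L : Ideal R)

/-- Left inclusion. -/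
def i₁ : AA A L →ₐ[R] CC A L :=
  Algebra.TensorProduct.map (AlgHom.id R (R ⧸ L)) (Algebra.TensorProduct.includeLeft (S := R))

/-- Right inclusion. -/
def i₂ : AA A L →ₐ[R] CC A L :=
  Algebra.TensorProduct.map (AlgHom.id R (R ⧸ L)) Algebra.TensorProduct.includeRight

/-- Comultiplication. -/
def iΔ : AA A L →ₐ[R] CC A L :=
  Algebra.TensorProduct.map (AlgHom.id R (R ⧸ L)) (Bialgebra.comulAlgHom R A)

/-- Constants. -/
def cst : (R ⧸ L) →ₐ[R] AA A L := Algebra.TensorProduct.includeLeft (S := R)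

/-- The generic point. -/
def gen : A →ₐ[R] AA A L := Algebra.TensorProduct.includeRight

/-- The counit. -/
def εT : AA A L →ₐ[R] (R ⧸ L) :=
  Algebra.TensorProduct.lift (AlgHom.id R (R ⧸ L)) ((Algebra.ofId R _).comp (Bialgebra.counitAlgHom R A))
    fun _ _ => .all _ _

theorem εT_cst (t : R ⧸ L) : εT (A := A) L (cst L t) = t := by
  simp [εT, cst]

/-- Retraction of the left inclusion. -/
def r₁ : CC A L →ₐ[R] AA A L :=
  Algebra.TensorProduct.map (AlgHom.id R (R ⧸ L))
    (Algebra.TensorProduct.lift (AlgHom.id R A) ((Algebra.ofId R A).comp (Bialgebra.counitAlgHom R A))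
      fun _ _ => .all _ _)

theorem r₁_i₁ (a : AA A L) : r₁ L (i₁ L a) = a := by
  induction a using TensorProduct.induction_on with
  | zero => simp
  | tmul t a => simp [r₁, i₁]
  | add x y hx hy => simp [hx, hy]

/-- The ideal generated by `K`. -/
abbrev KI (K : Ideal R) (X : Type u) [CommRing X] [Algebra R X] : Ideal X := Ideal.map (algebraMap R X) K

theorem map_mem_KI {K : Ideal R} {X Y : Type u} [CommRing X] [Algebra R X] [CommRing Y] [Algebra R Y]
    (f : X →ₗ[R] Y) {x : X} (hx : x ∈ KI K X) : f x ∈ KI K Y :=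
  MultTypeLib.mem_KT_iff_mem_map.1 (MultTypeLib.map_mem_KT f (MultTypeLib.mem_KT_iff_mem_map.2 hx))

theorem mul_eq_zero_of_mem {K L : Ideal R} (hKL : K * K ≤ L) {X : Type u} [CommRing X] [Algebra R X]
    (hX : ∀ r ∈ L, algebraMap R X r = 0) {x y : X} (hx : x ∈ KI K X) (hy : y ∈ KI K X) : x * y = 0 := by
  have h := Ideal.mul_mem_mul hx hy
  rw [← Ideal.map_mul] at h
  have h2 : Ideal.map (algebraMap R X) (K * K) ≤ ⊥ :=
    Ideal.map_le_iff_le_comap.2 fun r hr => (Ideal.mem_bot).2 (hX r (hKL hr))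
  exact (Ideal.mem_bot).1 (h2 h)

theorem isNilpotent_KI {K L : Ideal R} (hKL : K * K ≤ L) {X : Type u} [CommRing X] [Algebra R X]
    (hX : ∀ r ∈ L, algebraMap R X r = 0) : IsNilpotent (KI K X) := by
  refine ⟨2, le_antisymm ?_ bot_le⟩
  rw [pow_two]
  exact Ideal.mul_le.2 fun x hx y hy => (Ideal.mem_bot).2 (mul_eq_zero_of_mem hKL hX hx hy)

theorem algebraMap_quot_eq_zero {r : R} (hr : r ∈ L) : algebraMap R (R ⧸ L) r = 0 :=
  Ideal.Quotient.eq_zero_iff_mem.2 hr

theorem algebraMap_tensor_eq_zero (X : Type u) [CommRing X] [Algebra R X] {r : R} (hr : r ∈ L) :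
    algebraMap R ((R ⧸ L) ⊗[R] X) r = 0 := by
  rw [Algebra.TensorProduct.algebraMap_apply, algebraMap_quot_eq_zero L hr, TensorProduct.zero_tmul]

variable {j : A →ₗ[R] R} (hj : IsInt j)

/-- Averaging the last factor. -/
def avgT (j : A →ₗ[R] R) : CC A L →ₗ[R] AA A L := (avg j A).lTensor (R ⧸ L)

/-- The integral with values in `R/L`. -/
def intT (j : A →ₗ[R] R) : AA A L →ₗ[R] (R ⧸ L) := avg j (R ⧸ L)

include hj in
theorem avgT_iΔ (a : AA A L) : avgT L j (iΔ L a) = cst L (intT L j a) := by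
  induction a using TensorProduct.induction_on with
  | zero => simp
  | tmul t a =>
    show (avg j A).lTensor (R ⧸ L) (t ⊗ₜ[R] Coalgebra.comul (R := R) a) = _
    rw [LinearMap.lTensor_tmul, MultTypeLib.avg_comul hj]
    simp [cst, intT, MultTypeLib.avg_tmul, TensorProduct.smul_tmul']
  | add x y hx hy => simp [hx, hy]

include hj in
theorem avgT_i₁ (a : AA A L) : avgT L j (i₁ L a) = a := by
  induction a using TensorProduct.induction_on with
  | zero => simp
  | tmul t a => simp [avgT, i₁, MultTypeLib.avg_tmul, hj.one]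
  | add x y hx hy => simp [hx, hy]

theorem avgT_i₂ (a : AA A L) : avgT L j (i₂ L a) = cst L (intT L j a) := by
  induction a using TensorProduct.induction_on with
  | zero => simp
  | tmul t a => simp [avgT, i₂, intT, cst, MultTypeLib.avg_tmul, TensorProduct.smul_tmul']
  | add x y hx hy => simp [hx, hy]

theorem avgT_i₁_mul (a : AA A L) (c : CC A L) : avgT L j (i₁ L a * c) = a * avgT L j c := by
  induction a using TensorProduct.induction_on with
  | zero => simp
  | add x y hx hy => simp [add_mul, hx, hy]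
  | tmul t a =>
    induction c using TensorProduct.induction_on with
    | zero => simp
    | add x y hx hy => simp [mul_add, hx, hy]
    | tmul t' w =>
      induction w using TensorProduct.induction_on with
      | zero => simp
      | add x y hx hy => simp [TensorProduct.tmul_add, mul_add, hx, hy]
      | tmul a' b => simp [avgT, i₁, MultTypeLib.avg_tmul, mul_smul_comm]

theorem intT_cst_mul (t : R ⧸ L) (a : AA A L) : intT L j (cst L t * a) = t * intT L j a := by
  induction a using TensorProduct.induction_on with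
  | zero => simp
  | add x y hx hy => simp [mul_add, hx, hy]
  | tmul t' a => simp [intT, cst, MultTypeLib.avg_tmul]

include hj in
theorem intT_cst (t : R ⧸ L) : intT L j (cst L t) = t := by
  simp [intT, cst, MultTypeLib.avg_tmul, hj.one]

variable {K : Ideal R} (hKL : K * K ≤ L)

/-- Elements congruent to constants. -/
abbrev BB0 (K : Ideal R) : Subalgebra R (AA A L) := congrAlg (cst L) (KI K (AA A L))

/-- Elements congruent to the left factor. -/
abbrev BB (K : Ideal R) : Subalgebra R (CC A L) := congrAlg (i₁ L) (KI K (CC A L))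

/-- The integral is multiplicative on elements congruent to constants. -/
def intHom : BB0 (A := A) L K →ₐ[R] (R ⧸ L) :=
  AlgHom.ofLinearMap ((intT L j).comp (BB0 L K).val.toLinearMap)
    (by
      show intT L j 1 = 1
      rw [← map_one (cst (A := A) L), intT_cst L hj])
    (by
      rintro ⟨x, a, hx⟩ ⟨y, b, hy⟩
      show intT L j (x * y) = intT L j x * intT L j y
      obtain ⟨m, hm, rfl⟩ : ∃ m ∈ KI K (AA A L), x = cst L a + m := ⟨_, hx, by ring⟩
      obtain ⟨n, hn, rfl⟩ : ∃ n ∈ KI K (AA A L), y = cst L b + n := ⟨_, hy, by ring⟩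
      rw [add_mul, mul_add, mul_add, mul_eq_zero_of_mem hKL (fun r hr => algebraMap_tensor_eq_zero L A hr) hm hn,
        _root_.add_zero, mul_comm m (cst L b), map_add, map_add, intT_cst_mul, intT_cst_mul, intT_cst_mul,
        map_add, map_add, intT_cst L hj, intT_cst L hj]
      linear_combination -(mul_eq_zero_of_mem hKL (fun r hr => algebraMap_quot_eq_zero L hr)
        (map_mem_KI (intT L j) hm) (map_mem_KI (intT L j) hn)))

/-- Averaging is multiplicative on elements congruent to the left factor. -/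
def avgHom : BB (A := A) L K →ₐ[R] AA A L :=
  AlgHom.ofLinearMap ((avgT L j).comp (BB L K).val.toLinearMap)
    (by
      show avgT L j 1 = 1
      rw [← map_one (i₁ (A := A) L), avgT_i₁ L hj])
    (by
      rintro ⟨x, a, hx⟩ ⟨y, b, hy⟩
      show avgT L j (x * y) = avgT L j x * avgT L j y
      obtain ⟨m, hm, rfl⟩ : ∃ m ∈ KI K (CC A L), x = i₁ L a + m := ⟨_, hx, by ring⟩
      obtain ⟨n, hn, rfl⟩ : ∃ n ∈ KI K (CC A L), y = i₁ L b + n := ⟨_, hy, by ring⟩
      rw [add_mul, mul_add, mul_add, mul_eq_zero_of_mem hKL (fun r hr => algebraMap_tensor_eq_zero L _ hr) hm hn,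
        _root_.add_zero, mul_comm m (i₁ L b), map_add, map_add, avgT_i₁_mul, avgT_i₁_mul, avgT_i₁_mul,
        map_add, map_add, avgT_i₁ L hj, avgT_i₁ L hj]
      linear_combination -(mul_eq_zero_of_mem hKL (fun r hr => algebraMap_tensor_eq_zero L A hr)
        (map_mem_KI (avgT L j) hm) (map_mem_KI (avgT L j) hn)))

/-- A point of `G` with values in `A` which is a homomorphism. -/
def IsHom (x : Pts G (AA A L)) : Prop := pmap (iΔ L) x = pmap (i₁ L) x * pmap (i₂ L) x

theorem IsHom.conj {x : Pts G (AA A L)} (h : IsHom L x) (g : Pts G (R ⧸ L)) :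
    IsHom L (pmap (cst L) g * x * (pmap (cst L) g)⁻¹) := by
  have e : ∀ f : AA A L →ₐ[R] CC A L, f.comp (cst L) = (cst (A := A ⊗[R] A) L : (R ⧸ L) →ₐ[R] CC A L) →
      pmap f (pmap (G := G) (cst L) g) = pmap (cst (A := A ⊗[R] A) L : (R ⧸ L) →ₐ[R] CC A L) g :=
    fun f hf => by rw [pmap_pmap, hf]
  unfold IsHom at h ⊢
  simp only [map_mul, map_inv]
  rw [e (iΔ L) (Ideal.Quotient.algHom_ext _ (Subsingleton.elim _ _)),
    e (i₁ L) (Ideal.Quotient.algHom_ext _ (Subsingleton.elim _ _)),
    e (i₂ L) (Ideal.Quotient.algHom_ext _ (Subsingleton.elim _ _)), h]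
  group

include hj hKL in
/-- One infinitesimal step. -/
theorem exists_conj_step (hLK : L ≤ K) {x y : Pts G (AA A L)} (hx : IsHom L x) (hy : IsHom L y)
    (hxy : pmap (Ideal.Quotient.mkₐ R (KI K (AA A L))) x = pmap (Ideal.Quotient.mkₐ R (KI K (AA A L))) y) :
    ∃ t : Pts G (R ⧸ L), pmap (Ideal.Quotient.factorₐ R hLK) t = 1 ∧
      x = pmap (cst L) t * y * (pmap (cst L) t)⁻¹ := by
  set d := x * y⁻¹ with hd_def
  have hA := fun r hr => algebraMap_tensor_eq_zero (R := R) L A (r := r) hr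
  have hC := fun r hr => algebraMap_tensor_eq_zero (R := R) L (A ⊗[R] A) (r := r) hr
  have hs0 : Function.Surjective (PrimeSpectrum.comap ((BB0 (A := A) L K).val : BB0 (A := A) L K →+* AA A L)) :=
    surjective_comap_congrAlg (cst L) (εT L) (εT_cst L) _ (isNilpotent_KI hKL hA) fun i hi =>
      map_mem_KI ((cst L).toLinearMap.comp (εT L).toLinearMap) hi
  have hs : Function.Surjective (PrimeSpectrum.comap ((BB (A := A) L K).val : BB (A := A) L K →+* CC A L)) :=
    surjective_comap_congrAlg (i₁ L) (r₁ L) (r₁_i₁ L) _ (isNilpotent_KI hKL hC) fun i hi =>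
      map_mem_KI ((i₁ L).toLinearMap.comp (r₁ L).toLinearMap) hi
  have hd1 : pmap (Ideal.Quotient.mkₐ R (KI K (AA A L))) d = 1 := by
    rw [hd_def, map_mul, map_inv, hxy, mul_inv_cancel]
  obtain ⟨d₀, hd₀⟩ := exists_pmap_val (BB0 L K) (KI K (AA A L)) (isNilpotent_KI hKL hA)
    (fun i hi => mem_congrAlg_of_mem _ _ hi) hs0 d hd1
  let c : BB0 (A := A) L K →ₐ[R] (R ⧸ L) := intHom L hj hKL
  refine ⟨pmap c d₀, ?_, ?_⟩
  · let q' : AA A L ⧸ KI K (AA A L) →ₐ[R] R ⧸ K := Ideal.Quotient.liftₐ _ ((Ideal.Quotient.factorₐ R hLK).comp (εT L))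
      fun a ha => by
        have h := map_mem_KI ((Ideal.Quotient.factorₐ R hLK).comp (εT (A := A) L)).toLinearMap ha
        rw [show KI K (R ⧸ K) = ⊥ from eq_bot_iff.2 (Ideal.map_le_iff_le_comap.2 fun r hr =>
          (Ideal.mem_bot).2 (Ideal.Quotient.eq_zero_iff_mem.2 hr))] at h
        exact h
    have e : (Ideal.Quotient.factorₐ R hLK).comp c =
        (q'.comp (Ideal.Quotient.mkₐ R (KI K (AA A L)))).comp (BB0 L K).val := by
      refine AlgHom.ext fun b => ?_
      obtain ⟨v, a, hb⟩ := b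
      show Ideal.Quotient.factorₐ R hLK (intT L j v) = Ideal.Quotient.factorₐ R hLK (εT L v)
      obtain ⟨m, hm, rfl⟩ : ∃ m ∈ KI K (AA A L), v = cst L a + m := ⟨_, hb, by ring⟩
      have hz : ∀ f : AA A L →ₗ[R] (R ⧸ L), Ideal.Quotient.factorₐ R hLK (f m) = 0 := fun f => by
        have h := map_mem_KI ((Ideal.Quotient.factorₐ R hLK).toLinearMap.comp f) hm
        rw [show KI K (R ⧸ K) = ⊥ from eq_bot_iff.2 (Ideal.map_le_iff_le_comap.2 fun r hr =>
          (Ideal.mem_bot).2 (Ideal.Quotient.eq_zero_iff_mem.2 hr))] at h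
        exact h
      simp only [map_add]
      rw [intT_cst L hj, εT_cst, hz (intT L j),
        show Ideal.Quotient.factorₐ R hLK (εT L m) = 0 from hz (εT L).toLinearMap]
    rw [pmap_pmap, e, ← pmap_pmap, hd₀, ← pmap_pmap, hd1, map_one]
  -- the cocycle identity, inside the elements congruent to the left factor
  have hcomm : ∀ (f : AA A L →ₐ[R] CC A L) (g₀ : (R ⧸ L) →ₐ[R] AA A L), (∀ t, f (cst L t) = i₁ L (g₀ t)) →
      ∀ b : BB0 (A := A) L K, f (b : AA A L) ∈ BB (A := A) L K := fun f g₀ hf b =>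
    mapsTo_congrAlg _ _ _ _ f g₀ hf (fun i hi => map_mem_KI f.toLinearMap hi) b.2
  have hcst : ∀ t, iΔ (A := A) L (cst L t) = i₁ L (cst L t) := fun t =>
    DFunLike.congr_fun (Ideal.Quotient.algHom_ext R (f := (iΔ (A := A) L).comp (cst L))
      (g := (i₁ L).comp (cst L)) (Subsingleton.elim _ _)) t
  have hcst2 : ∀ t, i₂ (A := A) L (cst L t) = i₁ L (cst L t) := fun t =>
    DFunLike.congr_fun (Ideal.Quotient.algHom_ext R (f := (i₂ (A := A) L).comp (cst L))
      (g := (i₁ L).comp (cst L)) (Subsingleton.elim _ _)) t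
  let fΔ : BB0 (A := A) L K →ₐ[R] BB (A := A) L K := ((iΔ L).comp (BB0 L K).val).codRestrict _ (hcomm _ _ hcst)
  let f₂ : BB0 (A := A) L K →ₐ[R] BB (A := A) L K := ((i₂ L).comp (BB0 L K).val).codRestrict _ (hcomm _ _ hcst2)
  let f₁ : AA A L →ₐ[R] BB (A := A) L K := (i₁ L).codRestrict _ (map_mem_congrAlg _ _)
  have key : pmap (D := BB (A := A) L K) fΔ d₀ = pmap (D := BB (A := A) L K) f₁ d * pmap (D := BB (A := A) L K) f₁ y *
      pmap (D := BB (A := A) L K) f₂ d₀ * (pmap (D := BB (A := A) L K) f₁ y)⁻¹ := by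
    refine pmap_val_injective (BB L K) hs ?_
    simp only [map_mul, map_inv, pmap_pmap]
    rw [show (BB L K).val.comp fΔ = (iΔ L).comp (BB0 L K).val from rfl,
      show (BB L K).val.comp f₁ = i₁ L from rfl,
      show (BB L K).val.comp f₂ = (i₂ L).comp (BB0 L K).val from rfl, ← pmap_pmap, ← pmap_pmap, hd₀, hd_def]
    simp only [map_mul, map_inv]
    rw [show pmap (iΔ L) x = _ from hx, show pmap (iΔ L) y = _ from hy]
    group
  have havg := congrArg (pmap (avgHom L hj hKL)) key
  simp only [map_mul, map_inv, pmap_pmap] at havg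
  rw [show (avgHom L hj hKL).comp fΔ = (cst L).comp c from AlgHom.ext fun b => avgT_iΔ L hj _,
    show (avgHom L hj hKL).comp f₂ = (cst L).comp c from AlgHom.ext fun b => avgT_i₂ L _,
    show (avgHom L hj hKL).comp f₁ = AlgHom.id R _ from AlgHom.ext fun b => avgT_i₁ L hj _,
    pmap_id, pmap_id, ← pmap_pmap] at havg
  have e2 : pmap (cst L) (pmap c d₀) * y * (pmap (cst L) (pmap c d₀))⁻¹ = d * y := by
    nth_rw 1 [havg]
    group
  rw [e2, hd_def, inv_mul_cancel_right]

/-- A homomorphism out of the affine group gives a homomorphism point. -/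
theorem isHom_gen {H : Over (Spec (CommRingCat.of R))} [GrpObj H] (e : Grp.mk (CoactBr.sp R A) ≅ Grp.mk H)
    (u : H ⟶ G) [IsMonHom u] : IsHom (A := A) L (CoactBr.pt (gen L) ≫ e.hom.hom.hom ≫ u) := by
  haveI : IsMonHom e.hom.hom.hom := e.hom.hom.isMonHom_hom
  have h1 : CoactBr.pt ((iΔ L).comp (gen L)) =
      CoactBr.pt ((i₁ (A := A) L).comp (gen L)) * CoactBr.pt ((i₂ L).comp (gen L)) := by
    rw [CoactBr.pt_mul_pt]
    refine congrArg _ (AlgHom.ext fun a => ?_)
    show iΔ L (gen L a) = Algebra.TensorProduct.lift ((i₁ (A := A) L).comp (gen L)) ((i₂ L).comp (gen L))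
      (fun x y => Commute.all ((i₁ L).comp (gen L) x) ((i₂ L).comp (gen L) y)) (Coalgebra.comul (R := R) a)
    have hl : ∀ z : A ⊗[R] A, (1 : R ⧸ L) ⊗ₜ[R] z = Algebra.TensorProduct.lift ((i₁ (A := A) L).comp (gen L))
        ((i₂ L).comp (gen L)) (fun x y => Commute.all ((i₁ L).comp (gen L) x) ((i₂ L).comp (gen L) y)) z := by
      intro z
      induction z using TensorProduct.induction_on with
      | zero => simp
      | add x y hx hy => rw [TensorProduct.tmul_add, map_add, hx, hy]
      | tmul p q => simp [i₁, i₂, gen]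
    rw [← hl]
    simp [iΔ, gen]
  unfold IsHom
  simp only [pmap_apply, ← Category.assoc, ← CoactBr.pt_comp]
  rw [h1, MonObj.mul_comp, MonObj.mul_comp]

end Groth.Agent.MTRigid29
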