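import Groth.Agent.Lib.MTRigid29.BaseChange

/-!
# The locus where two subgroups coincide: formalism and descent
-/

set_option autoImplicit false
set_option linter.style.haveILetI false
set_option backward.isDefEq.respectTransparency.types false
set_option maxSynthPendingDepth 3

universe u

open CategoryTheory Limits AlgebraicGeometry Opposite MonoidalCategory CartesianMonoidalCategory MonObj

noncomputable section

namespace Groth.Agent.MTRigid29

section Factor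

variable {X Z W : Scheme.{u}} (a : X ⟶ Z) (i : W ⟶ Z) [Mono i]

theorem factor_of_cover
    (h : ∀ x : X, ∃ (P : Scheme.{u}) (j : P ⟶ X), IsOpenImmersion j ∧ x ∈ Set.range j ∧ ∃ l, l ≫ i = j ≫ a) :
    ∃ l : X ⟶ W, l ≫ i = a := by
  choose P j hj hx l hl using h
  let 𝒰 : X.OpenCover := X.openCoverOfIsOpenCover (fun x => @Scheme.Hom.opensRange _ _ (j x) (hj x)) (by
    rw [TopologicalSpace.IsOpenCover, _root_.eq_top_iff]
    intro y _
    exact TopologicalSpace.Opens.mem_iSup.2 ⟨y, hx y⟩)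
  have hm : ∀ x, ∃ m : 𝒰.X x ⟶ W, m ≫ i = 𝒰.f x ≫ a := fun x => by
    haveI := hj x
    refine ⟨IsOpenImmersion.lift (j x) (Scheme.Opens.ι _) (Scheme.Opens.range_ι _).subset ≫ l x, ?_⟩
    rw [Category.assoc, hl, IsOpenImmersion.lift_fac_assoc]
    rfl
  choose m hm using hm
  refine ⟨𝒰.glueMorphisms m fun x y => ?_, 𝒰.hom_ext _ _ fun x => ?_⟩
  · rw [← cancel_mono i, Category.assoc, Category.assoc, hm, hm, ← Category.assoc, pullback.condition, Category.assoc]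
  · rw [← Category.assoc, Scheme.Cover.ι_glueMorphisms, hm]

theorem factor_of_effectiveEpi {X' : Scheme.{u}} (c : X' ⟶ X) [EffectiveEpi c] (l' : X' ⟶ W)
    (hl : l' ≫ i = c ≫ a) : ∃ l : X ⟶ W, l ≫ i = a := by
  refine ⟨EffectiveEpi.desc c l' fun g₁ g₂ h => ?_, ?_⟩
  · rw [← cancel_mono i, Category.assoc, Category.assoc, hl, ← Category.assoc, h, Category.assoc]
  · rw [← cancel_epi c, ← Category.assoc, EffectiveEpi.fac, hl]

end Factor

variable {S : Scheme.{u}} {G H₁ H₂ : Over S} (i₁ : H₁ ⟶ G) (i₂ : H₂ ⟶ G)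

/-- Over `f` every point of `H₁` is one of `H₂`. -/
def Fac {T : Scheme.{u}} (f : T ⟶ S) : Prop :=
  ∀ (X : Scheme.{u}) (t : X ⟶ T) (h : X ⟶ H₁.left), h ≫ H₁.hom = t ≫ f →
    ∃ l : X ⟶ H₂.left, l ≫ i₂.left = h ≫ i₁.left

theorem fac_comp {T T' : Scheme.{u}} {f : T ⟶ S} (h : Fac i₁ i₂ f) (g : T' ⟶ T) : Fac i₁ i₂ (g ≫ f) :=
  fun X t x hx => h X (t ≫ g) x (hx.trans (Category.assoc _ _ _).symm)

theorem fac_of_cover [Mono i₂.left] {T : Scheme.{u}} (f : T ⟶ S)
    (h : ∀ x : T, ∃ (W : Scheme.{u}) (j : W ⟶ T), IsOpenImmersion j ∧ x ∈ Set.range j ∧ Fac i₁ i₂ (j ≫ f)) :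
    Fac i₁ i₂ f := by
  intro X t x hx
  refine factor_of_cover _ _ fun z => ?_
  obtain ⟨W, j, hj, ⟨w, hw⟩, hf⟩ := h (t z)
  haveI := hj
  refine ⟨pullback t j, pullback.fst t j, inferInstance, ?_, ?_⟩
  · obtain ⟨p, hp, -⟩ := Scheme.Pullback.exists_preimage_pullback z w hw.symm
    exact ⟨p, hp⟩
  · obtain ⟨l, hl⟩ := hf _ (pullback.snd t j) (pullback.fst t j ≫ x) (by
      rw [Category.assoc, hx, ← Category.assoc, pullback.condition, Category.assoc])
    exact ⟨l, hl.trans (Category.assoc _ _ _)⟩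

theorem fac_of_flat_cover [Mono i₂.left] {T T' : Scheme.{u}} (q : T' ⟶ T) [Flat q] [Surjective q] [QuasiCompact q]
    {f : T ⟶ S} (h : Fac i₁ i₂ (q ≫ f)) : Fac i₁ i₂ f := by
  intro X t x hx
  haveI : Flat (pullback.fst t q) := MorphismProperty.pullback_fst _ _ ‹_›
  haveI : Surjective (pullback.fst t q) := MorphismProperty.pullback_fst _ _ ‹_›
  haveI : EffectiveEpi (pullback.fst t q) := effectiveEpi_of_cover _ fun V hV =>
    ⟨pullback.fst t q ⁻¹ᵁ V, (pullback.fst t q).isCompact_preimage hV.isCompact,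
      Set.image_preimage_eq _ (pullback.fst t q).surjective⟩
  obtain ⟨l, hl⟩ := h _ (pullback.snd t q) (pullback.fst t q ≫ x) (by
    rw [Category.assoc, hx, ← Category.assoc, pullback.condition, Category.assoc])
  exact factor_of_effectiveEpi _ _ (pullback.fst t q) l (hl.trans (Category.assoc _ _ _))

theorem map_left_fst {S' : Scheme.{u}} (g : S' ⟶ S) {A B : Over S} (i : A ⟶ B) :
    ((Over.pullback g).map i).left ≫ pullback.fst B.hom g = pullback.fst A.hom g ≫ i.left :=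
  pullback.lift_fst _ _ _

theorem mono_map_left {S' : Scheme.{u}} (g : S' ⟶ S) {A B : Over S} (i : A ⟶ B) [Mono i.left] :
    Mono ((Over.pullback g).map i).left := by
  refine ⟨fun a b h => ?_⟩
  have h1 := congrArg (· ≫ pullback.fst B.hom g) h
  simp only [Category.assoc] at h1
  rw [map_left_fst] at h1
  have h2 := congrArg (· ≫ ((Over.pullback g).obj B).hom) h
  simp only [Category.assoc] at h2
  rw [Over.w] at h2
  exact pullback.hom_ext ((cancel_mono i.left).1 (by simpa only [Category.assoc] using h1)) h2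

theorem fac_bc_iff {S' T : Scheme.{u}} (g : S' ⟶ S) (f : T ⟶ S') :
    Fac ((Over.pullback g).map i₁) ((Over.pullback g).map i₂) f ↔ Fac i₁ i₂ (f ≫ g) := by
  constructor
  · intro h X t x hx
    obtain ⟨l, hl⟩ := h X t (pullback.lift x (t ≫ f) (by rw [hx, Category.assoc])) (pullback.lift_snd _ _ _)
    refine ⟨l ≫ pullback.fst H₂.hom g, ?_⟩
    have h1 := congrArg (· ≫ pullback.fst G.hom g) hl
    simp only [Category.assoc, map_left_fst] at h1
    refine (Category.assoc _ _ _).trans (h1.trans ?_)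
    exact (Category.assoc _ _ _).symm.trans (congrArg (· ≫ i₁.left) (pullback.lift_fst _ _ _))
  · intro h X t x hx
    have hx' : x ≫ pullback.snd H₁.hom g = t ≫ f := hx
    obtain ⟨l, hl⟩ := h X t (x ≫ pullback.fst H₁.hom g) (by
      rw [Category.assoc, pullback.condition, ← Category.assoc, hx', Category.assoc])
    have hl2 : l ≫ H₂.hom = (t ≫ f) ≫ g := by
      rw [← Over.w i₂, ← Category.assoc, hl, Category.assoc, Over.w, Category.assoc, pullback.condition,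
        ← Category.assoc, hx']
    refine ⟨pullback.lift l (t ≫ f) hl2, pullback.hom_ext ?_ ?_⟩
    · refine (Category.assoc _ _ _).trans ((congrArg (_ ≫ ·) (map_left_fst g i₂)).trans ?_)
      refine (Category.assoc _ _ _).symm.trans ((congrArg (· ≫ i₂.left) (pullback.lift_fst _ _ _)).trans ?_)
      refine hl.trans ?_
      exact (Category.assoc _ _ _).trans ((congrArg (x ≫ ·) (map_left_fst g i₁).symm).trans (Category.assoc _ _ _).symm)
    · refine (Category.assoc _ _ _).trans ((congrArg (_ ≫ ·) (Over.w ((Over.pullback g).map i₂))).trans ?_)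
      refine (pullback.lift_snd _ _ _).trans (hx'.symm.trans ?_)
      exact (congrArg (x ≫ ·) (Over.w ((Over.pullback g).map i₁)).symm).trans (Category.assoc _ _ _).symm

/-- The subgroups coincide over `f`. -/
def Eqv {T : Scheme.{u}} (f : T ⟶ S) : Prop := Fac i₁ i₂ f ∧ Fac i₂ i₁ f

theorem eqv_comp {T T' : Scheme.{u}} {f : T ⟶ S} (h : Eqv i₁ i₂ f) (g : T' ⟶ T) : Eqv i₁ i₂ (g ≫ f) :=
  ⟨fac_comp i₁ i₂ h.1 g, fac_comp i₂ i₁ h.2 g⟩

theorem eqv_bc_iff {S' T : Scheme.{u}} (g : S' ⟶ S) (f : T ⟶ S') :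
    Eqv ((Over.pullback g).map i₁) ((Over.pullback g).map i₂) f ↔ Eqv i₁ i₂ (f ≫ g) :=
  and_congr (fac_bc_iff i₁ i₂ g f) (fac_bc_iff i₂ i₁ g f)

/-- The coincidence locus over `f` is clopen and the subgroups coincide on it. -/
def Good {T : Scheme.{u}} (f : T ⟶ S) : Prop :=
  ∃ V : T.Opens, IsClosed (V : Set T) ∧ (∀ t : T, t ∈ V ↔ Eqv i₁ i₂ (T.fromSpecResidueField t ≫ f)) ∧
    Eqv i₁ i₂ (V.ι ≫ f)

theorem good_bc_iff {S' T : Scheme.{u}} (g : S' ⟶ S) (f : T ⟶ S') :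
    Good ((Over.pullback g).map i₁) ((Over.pullback g).map i₂) f ↔ Good i₁ i₂ (f ≫ g) := by
  simp only [Good, eqv_bc_iff, Category.assoc]

variable [Mono i₁.left] [Mono i₂.left]

theorem eqv_of_cover {T : Scheme.{u}} (f : T ⟶ S)
    (h : ∀ x : T, ∃ (W : Scheme.{u}) (j : W ⟶ T), IsOpenImmersion j ∧ x ∈ Set.range j ∧ Eqv i₁ i₂ (j ≫ f)) :
    Eqv i₁ i₂ f := by
  choose W j hj hx hE using h
  exact ⟨fac_of_cover i₁ i₂ f fun x => ⟨_, j x, hj x, hx x, (hE x).1⟩,
    fac_of_cover i₂ i₁ f fun x => ⟨_, j x, hj x, hx x, (hE x).2⟩⟩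

theorem eqv_of_flat_cover {T T' : Scheme.{u}} (q : T' ⟶ T) [Flat q] [Surjective q] [QuasiCompact q]
    {f : T ⟶ S} (h : Eqv i₁ i₂ (q ≫ f)) : Eqv i₁ i₂ f :=
  ⟨fac_of_flat_cover i₁ i₂ q h.1, fac_of_flat_cover i₂ i₁ q h.2⟩

theorem eqv_residue {T T' : Scheme.{u}} (q : T' ⟶ T) (t : T') (f : T ⟶ S) :
    Eqv i₁ i₂ (T.fromSpecResidueField (q t) ≫ f) ↔ Eqv i₁ i₂ (T'.fromSpecResidueField t ≫ q ≫ f) := by
  have key : T'.fromSpecResidueField t ≫ q ≫ f =
      Spec.map (q.residueFieldMap t) ≫ T.fromSpecResidueField (q t) ≫ f := by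
    rw [← Category.assoc, ← Category.assoc, Scheme.Hom.SpecMap_residueFieldMap_fromSpecResidueField]
  haveI : Surjective (Spec.map (q.residueFieldMap t)) :=
    ⟨fun p => ⟨IsLocalRing.closedPoint (T'.residueField t), Subsingleton.elim _ _⟩⟩
  haveI : Flat (Spec.map (q.residueFieldMap t)) :=
    (HasRingHomProperty.Spec_iff (P := @Flat)).2 (RingHom.Flat.of_isField (Field.toIsField _) _)
  rw [key]
  exact ⟨fun h => eqv_comp i₁ i₂ h (Spec.map (q.residueFieldMap t)),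
    fun h => eqv_of_flat_cover i₁ i₂ (Spec.map (q.residueFieldMap t)) h⟩

/-- Goodness descends along a flat quasi-compact covering and is local on the source. -/
theorem good_descend {T T' : Scheme.{u}} (q : T' ⟶ T) [Flat q] [Surjective q] [QuasiCompact q] (f : T ⟶ S)
    (h : ∀ x : T', ∃ (W : Scheme.{u}) (j : W ⟶ T'), IsOpenImmersion j ∧ x ∈ Set.range j ∧ Good i₁ i₂ (j ≫ q ≫ f)) :
    Good i₁ i₂ f := by
  choose W j hj hx V hVc hV hVe using h
  let U₀ : Set T := {t | Eqv i₁ i₂ (T.fromSpecResidueField t ≫ f)}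
  let V₀ : Set T' := {t | Eqv i₁ i₂ (T'.fromSpecResidueField t ≫ q ≫ f)}
  have hpre : q ⁻¹' U₀ = V₀ := Set.ext fun t => eqv_residue i₁ i₂ q t f
  have hloc : ∀ x, j x ⁻¹' V₀ = (V x : Set (W x)) := fun x => Set.ext fun w =>
    (eqv_residue i₁ i₂ (j x) w (q ≫ f)).trans (hV x w).symm
  have hopen : IsOpen V₀ := isOpen_iff_forall_mem_open.2 fun x hxV => by
    haveI := hj x
    obtain ⟨w, hw⟩ := hx x
    exact ⟨j x '' (j x ⁻¹' V₀), Set.image_preimage_subset _ _,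
      (j x).isOpenEmbedding.isOpenMap _ (hloc x ▸ (V x).2), w, show j x w ∈ V₀ by rw [hw]; exact hxV, hw⟩
  have hclosed : IsClosed V₀ := isOpen_compl_iff.1 (isOpen_iff_forall_mem_open.2 fun x hxV => by
    haveI := hj x
    obtain ⟨w, hw⟩ := hx x
    refine ⟨j x '' (j x ⁻¹' V₀)ᶜ, ?_, (j x).isOpenEmbedding.isOpenMap _ ?_, w, show j x w ∉ V₀ by rw [hw]; exact hxV, hw⟩
    · rintro _ ⟨z, hz, rfl⟩; exact hz
    · rw [hloc]; exact (hVc x).isOpen_compl)
  have hq := Flat.isQuotientMap_of_surjective q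
  have hU : IsOpen U₀ := hq.isOpen_preimage.1 (hpre ▸ hopen)
  let U : T.Opens := ⟨U₀, hU⟩
  refine ⟨U, hq.isClosed_preimage.1 (show IsClosed (q ⁻¹' U₀) from hpre ▸ hclosed), fun t => Iff.rfl, ?_⟩
  haveI : Flat (q ∣_ U) := IsZariskiLocalAtTarget.restrict ‹_› U
  haveI : Surjective (q ∣_ U) := IsZariskiLocalAtTarget.restrict ‹_› U
  haveI : QuasiCompact (q ∣_ U) := IsZariskiLocalAtTarget.restrict ‹_› U
  refine eqv_of_flat_cover i₁ i₂ (q ∣_ U) ?_
  rw [← Category.assoc, morphismRestrict_ι, Category.assoc]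
  refine eqv_of_cover i₁ i₂ _ fun z => ?_
  let x : T' := (q ⁻¹ᵁ U).ι z
  haveI := hj x
  obtain ⟨w, hw⟩ := hx x
  have hsub : Set.range ((V x).ι ≫ j x) ⊆ Set.range (q ⁻¹ᵁ U).ι := by
    rw [Scheme.Opens.range_ι]
    rintro _ ⟨y, rfl⟩
    show j x ((V x).ι y) ∈ q ⁻¹' U₀
    rw [hpre]
    exact (hloc x).symm.subset y.2
  let k : (V x : Scheme.{u}) ⟶ (q ⁻¹ᵁ U : Scheme.{u}) := IsOpenImmersion.lift (q ⁻¹ᵁ U).ι ((V x).ι ≫ j x) hsub
  have hk : k ≫ (q ⁻¹ᵁ U).ι = (V x).ι ≫ j x := IsOpenImmersion.lift_fac _ _ _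
  haveI : IsOpenImmersion k := by
    haveI : IsOpenImmersion (k ≫ (q ⁻¹ᵁ U).ι) := by rw [hk]; infer_instance
    exact IsOpenImmersion.of_comp k (q ⁻¹ᵁ U).ι
  have hwV : w ∈ (V x : Set (W x)) := by
    rw [← hloc x]
    show j x w ∈ V₀
    rw [hw, ← hpre]
    exact z.2
  refine ⟨_, k, inferInstance, ⟨⟨w, hwV⟩, (q ⁻¹ᵁ U).ι.isOpenEmbedding.injective ?_⟩, ?_⟩
  · rw [← Scheme.Hom.comp_apply, hk]
    exact hw
  · rw [← Category.assoc, hk, Category.assoc]
    exact hVe x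

section Iso

variable [GrpObj G] [GrpObj H₁] [GrpObj H₂]

omit [GrpObj G] [GrpObj H₁] [GrpObj H₂] in
/-- Coincidence gives an isomorphism of the base changes compatible with the inclusions. -/
theorem eqv_iff_exists_iso {T : Scheme.{u}} (f : T ⟶ S) :
    Eqv i₁ i₂ f ↔ ∃ ψ : Red.bc f H₁ ≅ Red.bc f H₂,
      ψ.hom ≫ (Over.pullback f).map i₂ = (Over.pullback f).map i₁ := by
  haveI := mono_map_left f i₁
  haveI := mono_map_left f i₂
  have hbc : Eqv i₁ i₂ f ↔ Eqv ((Over.pullback f).map i₁) ((Over.pullback f).map i₂) (𝟙 T) := by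
    rw [eqv_bc_iff, Category.id_comp]
  rw [hbc]
  constructor
  · intro h
    obtain ⟨l, hl⟩ := h.1 _ (Red.bc f H₁).hom (𝟙 _) (by simp)
    obtain ⟨l', hl'⟩ := h.2 _ (Red.bc f H₂).hom (𝟙 _) (by simp)
    have hw : l ≫ (Red.bc f H₂).hom = (Red.bc f H₁).hom := by
      rw [← Over.w ((Over.pullback f).map i₂), ← Category.assoc, hl, Category.id_comp]; exact Over.w ((Over.pullback f).map i₁)
    have hw' : l' ≫ (Red.bc f H₁).hom = (Red.bc f H₂).hom := by
      rw [← Over.w ((Over.pullback f).map i₁), ← Category.assoc, hl', Category.id_comp]; exact Over.w ((Over.pullback f).map i₂)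
    refine ⟨⟨Over.homMk l hw, Over.homMk l' hw', Over.OverMorphism.ext ?_, Over.OverMorphism.ext ?_⟩,
      Over.OverMorphism.ext (hl.trans (Category.id_comp _))⟩
    · refine (cancel_mono ((Over.pullback f).map i₁).left).1 ?_
      show (l ≫ l') ≫ _ = 𝟙 _ ≫ _
      rw [Category.assoc, hl', Category.id_comp, hl]
    · refine (cancel_mono ((Over.pullback f).map i₂).left).1 ?_
      show (l' ≫ l) ≫ _ = 𝟙 _ ≫ _
      rw [Category.assoc, hl, Category.id_comp, hl']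
  · rintro ⟨ψ, hψ⟩
    refine ⟨fun X t x hx => ⟨x ≫ ψ.hom.left, ?_⟩, fun X t x hx => ⟨x ≫ ψ.inv.left, ?_⟩⟩
    · rw [Category.assoc, ← hψ]; rfl
    · rw [Category.assoc, ← (Iso.inv_comp_eq ψ).2 hψ.symm]; rfl

end Iso

end Groth.Agent.MTRigid29
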