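import Groth.Agent.Lib.MTRigid29.TrivGlobal
import Groth.Agent.Lib.MTRigid29.SubgrpEqv
import Mathlib.AlgebraicGeometry.IdealSheaf.Subscheme

/-!
# The locus over which a closed subscheme contains everything

For an affine morphism `p : Y ⟶ T` whose algebras have finitely generated contents (finite projective algebras, or
algebras of groups of multiplicative type) and a closed subscheme `i : W ⟶ Y` of finite presentation, the functor of
`T' ⟶ T` with `W ×_T T' = Y ×_T T'` is represented by a closed subscheme of finite presentation.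
-/

set_option autoImplicit false
set_option linter.style.haveILetI false
set_option backward.isDefEq.respectTransparency.types false
set_option maxSynthPendingDepth 3

universe u

open CategoryTheory Limits AlgebraicGeometry Opposite
open scoped TensorProduct

noncomputable section

namespace Groth.Agent.MTRigid29

open MultTypeLib (IsInt KT)

section Alg

variable (R : Type u) [CommRing R] (A : Type u) [CommRing A] [Algebra R A]

/-- Every element vanishes exactly where finitely many scalars do. -/
def HasContent : Prop :=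
  ∀ z : A, ∃ c : Ideal R, c.FG ∧
    ∀ (C : Type u) [CommRing C] [Algebra R C], (1 : C) ⊗ₜ[R] z = 0 ↔ ∀ r ∈ c, algebraMap R C r = 0

/-- Contents of several elements. -/
theorem HasContent.ideal {R A : Type u} [CommRing R] [CommRing A] [Algebra R A] (h : HasContent R A) {I : Ideal A}
    (hI : I.FG) :
    ∃ c : Ideal R, c.FG ∧
      ∀ (C : Type u) [CommRing C] [Algebra R C],
        (∀ z ∈ I, (1 : C) ⊗ₜ[R] z = 0) ↔ ∀ r ∈ c, algebraMap R C r = 0 := by
  classical
  obtain ⟨S, hS⟩ := hI
  choose c hc hcC using h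
  refine ⟨S.sup c, Submodule.fg_finset_sup S c fun z _ => hc z, fun C _ _ => ⟨fun h => ?_, fun h => ?_⟩⟩
  · suffices S.sup c ≤ RingHom.ker (algebraMap R C) from fun r hr => this hr
    exact Finset.sup_le fun z hz r hr => (hcC z C).1 (h z (hS ▸ Submodule.subset_span hz)) r hr
  · suffices I ≤ RingHom.ker (Algebra.TensorProduct.includeRight : A →ₐ[R] C ⊗[R] A) from fun z hz => this hz
    rw [← hS]
    exact Submodule.span_le.2 fun z hz => (hcC z C).2 fun r hr => h r (Finset.le_sup (f := c) hz hr)

variable {R A}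

theorem hasContent_of_split {A : Type u} [CommRing A] [HopfAlgebra R A] (hA : IsSplit (R := R) A) {j : A →ₗ[R] R}
    (hj : IsInt j) : HasContent R A := by
  classical
  intro z
  obtain ⟨t, ht⟩ := exists_finset_pairing hA hj z
  refine ⟨Ideal.span ((fun a => j (z * a)) '' (t : Set A)), ⟨t.image fun a => j (z * a), by simp⟩,
    fun C _ _ => ⟨fun h => ?_, fun h => ?_⟩⟩
  · suffices Ideal.span ((fun a => j (z * a)) '' (t : Set A)) ≤ RingHom.ker (algebraMap R C) from fun r hr => this hr
    rw [Ideal.span_le]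
    rintro _ ⟨a, -, rfl⟩
    have h1 : (1 : C) ⊗ₜ[R] (z * a) = 0 := by
      rw [show (1 : C) ⊗ₜ[R] (z * a) = ((1 : C) ⊗ₜ[R] z) * ((1 : C) ⊗ₜ[R] a) by
        rw [Algebra.TensorProduct.tmul_mul_tmul, _root_.one_mul], h, MulZeroClass.zero_mul]
    have h2 := congrArg (MultTypeLib.avg j C) h1
    rw [MultTypeLib.avg_tmul, map_zero, Algebra.smul_def, _root_.mul_one] at h2
    exact h2
  · set c := Ideal.span ((fun a => j (z * a)) '' (t : Set A)) with hc
    let q : (R ⧸ c) →ₐ[R] C := Ideal.Quotient.liftₐ c (Algebra.ofId R C) h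
    have := congrArg (Algebra.TensorProduct.map q (AlgHom.id R A)) (MultTypeLib.mem_KT_iff_one_tmul_eq_zero.1 ht)
    rwa [map_zero, Algebra.TensorProduct.map_tmul, map_one] at this

theorem hasContent_of_projective [Module.Finite R A] [Module.Projective R A] : HasContent R A := by
  classical
  obtain ⟨n, f, hf⟩ := Module.Finite.exists_fin' R A
  obtain ⟨s, hs⟩ := Module.projective_lifting_property f LinearMap.id hf
  intro z
  refine ⟨Ideal.span (Set.range (s z)), ⟨Finset.univ.image (s z), by simp⟩, fun C _ _ => ⟨fun h => ?_, fun h => ?_⟩⟩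
  · suffices Ideal.span (Set.range (s z)) ≤ RingHom.ker (algebraMap R C) from fun r hr => this hr
    rw [Ideal.span_le]
    rintro _ ⟨k, rfl⟩
    have h1 := congrArg ((TensorProduct.rid R C).toLinearMap ∘ₗ ((LinearMap.proj k).comp s).lTensor C) h
    simpa [Algebra.smul_def] using h1
  · have hz : z = ∑ k, s z k • f (Pi.single k 1) := by
      have h1 : z = f (s z) := (LinearMap.congr_fun hs z).symm
      conv_lhs => rw [h1, show s z = ∑ k, s z k • (Pi.single k 1 : Fin n → R) from pi_eq_sum_univ' (s z)]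
      simp only [map_sum, map_smul]
    rw [hz, TensorProduct.tmul_sum]
    refine Finset.sum_eq_zero fun k _ => ?_
    rw [TensorProduct.tmul_smul, TensorProduct.smul_tmul', Algebra.smul_def,
      h (s z k) (Ideal.subset_span ⟨k, rfl⟩), MulZeroClass.zero_mul, TensorProduct.zero_tmul]

end Alg

section Locus

variable {T Y W : Scheme.{u}} (p : Y ⟶ T) (i : W ⟶ Y)

/-- The algebras of `p` have contents. -/
def HasContentLoc : Prop :=
  ∀ (R : Type u) [CommRing R] (g : Spec (CommRingCat.of R) ⟶ T) [IsOpenImmersion g],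
    ∃ (A : Type u) (_ : CommRing A) (_ : Algebra R A) (q : Spec (CommRingCat.of A) ⟶ Y),
      IsPullback q (Spec.map (CommRingCat.ofHom (algebraMap R A))) p g ∧ HasContent R A

/-- All of `Y` over `f` lies in `W`. -/
def Contains {T' : Scheme.{u}} (f : T' ⟶ T) : Prop :=
  ∀ (X : Scheme.{u}) (y : X ⟶ Y) (t : X ⟶ T'), y ≫ p = t ≫ f → ∃ l : X ⟶ W, l ≫ i = y

theorem contains_comp {T' T'' : Scheme.{u}} {f : T' ⟶ T} (h : Contains p i f) (g : T'' ⟶ T') :
    Contains p i (g ≫ f) :=
  fun X y t ht => h X y (t ≫ g) (ht.trans (Category.assoc _ _ _).symm)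

theorem contains_of_cover [Mono i] {T' : Scheme.{u}} (f : T' ⟶ T)
    (h : ∀ x : T', ∃ (V : Scheme.{u}) (j : V ⟶ T'), IsOpenImmersion j ∧ x ∈ Set.range j ∧ Contains p i (j ≫ f)) :
    Contains p i f := by
  intro X y t ht
  refine factor_of_cover _ _ fun z => ?_
  obtain ⟨V, j, hj, ⟨w, hw⟩, hf⟩ := h (t z)
  haveI := hj
  refine ⟨pullback t j, pullback.fst t j, inferInstance, ?_,
    hf _ (pullback.fst t j ≫ y) (pullback.snd t j) (by
      rw [Category.assoc, ht, ← Category.assoc, pullback.condition, Category.assoc])⟩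
  obtain ⟨q, hq, -⟩ := Scheme.Pullback.exists_preimage_pullback z w hw.symm
  exact ⟨q, hq⟩

variable (hp : HasContentLoc p) [IsClosedImmersion i] [LocallyOfFinitePresentation i]

include hp in
/-- Over an affine piece the condition is given by a finitely generated ideal. -/
theorem exists_content_chart (R : Type u) [CommRing R] (g : Spec (CommRingCat.of R) ⟶ T) [IsOpenImmersion g] :
    ∃ c : Ideal R, c.FG ∧ ∀ (C : Type u) [CommRing C] [Algebra R C],
      Contains p i (Spec.map (CommRingCat.ofHom (algebraMap R C)) ≫ g) ↔ ∀ r ∈ c, algebraMap R C r = 0 := by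
  obtain ⟨A, _, _, q, hq, hcon⟩ := hp R g
  haveI : IsClosedImmersion (pullback.fst q i) := MorphismProperty.pullback_fst _ _ ‹_›
  obtain ⟨I, φ, hφ⟩ := (IsClosedImmersion.Spec_iff (f := pullback.fst q i)).1 inferInstance
  have hIfg : I.FG := by
    haveI : LocallyOfFinitePresentation (pullback.fst q i) := MorphismProperty.pullback_fst _ _ ‹_›
    have h2 : LocallyOfFinitePresentation (Spec.map (CommRingCat.ofHom (Ideal.Quotient.mk I))) := by
      rw [show Spec.map (CommRingCat.ofHom (Ideal.Quotient.mk I)) = φ.inv ≫ pullback.fst q i by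
        rw [hφ, Iso.inv_hom_id_assoc]]
      infer_instance
    have h3 := (HasRingHomProperty.Spec_iff (P := @LocallyOfFinitePresentation)).1 h2
    haveI : Algebra.FinitePresentation A (A ⧸ I) := h3
    simpa [Ideal.mk_ker] using Algebra.FinitePresentation.ker_fG_of_surjective
      (Ideal.Quotient.mkₐ A I) (Ideal.Quotient.mkₐ_surjective A I)
  obtain ⟨c, hc, hcC⟩ := hcon.ideal hIfg
  refine ⟨c, hc, fun C _ _ => Iff.trans ?_ (hcC C)⟩
  let inR : A →ₐ[R] C ⊗[R] A := Algebra.TensorProduct.includeRight
  let inL : C →ₐ[R] C ⊗[R] A := Algebra.TensorProduct.includeLeft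
  constructor
  · intro h z hz
    obtain ⟨l, hl⟩ := h (Spec (CommRingCat.of (C ⊗[R] A))) (Spec.map (CommRingCat.ofHom inR.toRingHom) ≫ q)
      (Spec.map (CommRingCat.ofHom inL.toRingHom)) (by
        rw [Category.assoc, hq.w, ← Category.assoc, ← Category.assoc, specMap_comp, specMap_comp,
          show inR.toRingHom.comp (algebraMap R A) = algebraMap R _ from inR.comp_algebraMap,
          show inL.toRingHom.comp (algebraMap R C) = algebraMap R _ from inL.comp_algebraMap])
    let m : Spec (CommRingCat.of (C ⊗[R] A)) ⟶ pullback q i := pullback.lift _ l hl.symm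
    have hm : Spec.map (CommRingCat.ofHom inR.toRingHom) =
        (m ≫ φ.hom) ≫ Spec.map (CommRingCat.ofHom (Ideal.Quotient.mk I)) := by
      rw [Category.assoc, ← hφ]; exact (pullback.lift_fst _ _ _).symm
    have h2 := Spec.map_injective (hm.trans (by rw [Spec.map_comp, Spec.map_preimage]) :
      Spec.map (CommRingCat.ofHom inR.toRingHom) =
        Spec.map (CommRingCat.ofHom (Ideal.Quotient.mk I) ≫ Spec.preimage (m ≫ φ.hom)))
    show inR.toRingHom z = 0
    rw [show inR.toRingHom = (Spec.preimage (m ≫ φ.hom)).hom.comp (Ideal.Quotient.mk I) from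
      congrArg CommRingCat.Hom.hom h2, RingHom.comp_apply, Ideal.Quotient.eq_zero_iff_mem.2 hz, map_zero]
  · intro h X y t ht
    let a : X ⟶ Spec (CommRingCat.of A) :=
      hq.lift y (t ≫ Spec.map (CommRingCat.ofHom (algebraMap R C))) (ht.trans (Category.assoc _ _ _).symm)
    let m : X ⟶ Spec (CommRingCat.of (C ⊗[R] A)) := pullback.lift t a (hq.lift_snd _ _ _).symm ≫
      (pullbackSpecIso R C A).hom
    have hm : m ≫ Spec.map (CommRingCat.ofHom inR.toRingHom) = a := by
      show (_ ≫ (pullbackSpecIso R C A).hom) ≫ _ = a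
      rw [Category.assoc]
      exact (congrArg (_ ≫ ·) (pullbackSpecIso_hom_snd R C A)).trans (pullback.lift_snd _ _ _)
    let k : A ⧸ I →+* C ⊗[R] A := Ideal.Quotient.lift I inR.toRingHom h
    refine ⟨m ≫ Spec.map (CommRingCat.ofHom k) ≫ φ.inv ≫ pullback.snd q i, ?_⟩
    simp only [Category.assoc]
    rw [← pullback.condition, hφ]
    simp only [Category.assoc, Iso.inv_hom_id_assoc]
    rw [← Category.assoc (Spec.map _),
      specMap_comp, show k.comp (Ideal.Quotient.mk I) = inR.toRingHom from RingHom.ext fun _ => rfl, ← Category.assoc,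
      hm]
    exact hq.lift_fst _ _ _

include hp in
/-- The locus over which `W` contains everything is a closed subscheme of finite presentation. -/
theorem exists_contains_locus :
    ∃ (C : Scheme.{u}) (c : C ⟶ T), IsClosedImmersion c ∧ LocallyOfFinitePresentation c ∧
      ∀ {T' : Scheme.{u}} (f : T' ⟶ T), (∃ z, z ≫ c = f) ↔ Contains p i f := by
  choose cI hcfg hcC using fun U : T.affineOpens => exists_content_chart p i hp Γ(T, U) U.2.fromSpec
  let 𝓘 : T.IdealSheafData :=
    { ideal := cI
      map_ideal_basicOpen := fun U f => by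
        let D := T.affineBasicOpen f
        let res : Γ(T, U) ⟶ Γ(T, D) := T.presheaf.map (homOfLE <| T.basicOpen_le f).op
        letI : Algebra Γ(T, U) Γ(T, D) := res.hom.toAlgebra
        have hres : Spec.map res ≫ U.2.fromSpec = D.2.fromSpec := IsAffineOpen.map_fromSpec _ D.2 _
        have key : ∀ (J : Ideal Γ(T, D)), (cI U).map res.hom ≤ J ↔ cI D ≤ J := fun J => by
          letI : Algebra Γ(T, U) (Γ(T, D) ⧸ J) := ((Ideal.Quotient.mk J).comp res.hom).toAlgebra
          have h1 := hcC U (Γ(T, D) ⧸ J)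
          have h2 := hcC D (Γ(T, D) ⧸ J)
          have e : Spec.map (CommRingCat.ofHom (algebraMap Γ(T, U) (Γ(T, D) ⧸ J))) ≫ U.2.fromSpec =
              Spec.map (CommRingCat.ofHom (algebraMap Γ(T, D) (Γ(T, D) ⧸ J))) ≫ D.2.fromSpec := by
            rw [← hres, ← Category.assoc, ← Spec.map_comp]
            rfl
          rw [e, h2] at h1
          rw [Ideal.map_le_iff_le_comap]
          refine ⟨fun h r hr => Ideal.Quotient.eq_zero_iff_mem.1 (h1.2 (fun s hs => ?_) r hr),
            fun h r hr => Ideal.mem_comap.2 (Ideal.Quotient.eq_zero_iff_mem.1 (h1.1 (fun s hs => ?_) r hr))⟩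
          · exact Ideal.Quotient.eq_zero_iff_mem.2 (h hs)
          · exact Ideal.Quotient.eq_zero_iff_mem.2 (h hs)
        exact le_antisymm ((key _).2 le_rfl) ((key _).1 le_rfl) }
  let cov : ∀ U : T.affineOpens, Spec (CommRingCat.of (Γ(T, U) ⧸ cI U)) ⟶ 𝓘.subscheme :=
    fun U => 𝓘.subschemeCover.f U
  haveI hcovOI : ∀ U, IsOpenImmersion (cov U) := fun U => 𝓘.subschemeCover.map_prop U
  have hι : ∀ U : T.affineOpens, cov U ≫ 𝓘.subschemeι =
      Spec.map (CommRingCat.ofHom (Ideal.Quotient.mk (cI U))) ≫ U.2.fromSpec := fun U => by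
    refine (𝓘.subschemeCover_map_subschemeι U).trans ?_
    rw [Scheme.IdealSheafData.glueDataObjι, Category.assoc, IsAffineOpen.isoSpec_inv_ι]
    rfl
  have hrange : ∀ U : T.affineOpens, Set.range (cov U) = 𝓘.subschemeι ⁻¹' (U : T.Opens) := fun U =>
    congrArg SetLike.coe (𝓘.opensRange_subschemeCover_map U)
  refine ⟨𝓘.subscheme, 𝓘.subschemeι, inferInstance, ?_, fun {T'} f => ?_⟩
  · refine (IsZariskiLocalAtSource.iff_of_openCover (P := @LocallyOfFinitePresentation)
      𝓘.subschemeCover.openCover).2 fun U => ?_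
    show LocallyOfFinitePresentation (cov U ≫ 𝓘.subschemeι)
    rw [hι U]
    haveI : LocallyOfFinitePresentation (Spec.map (CommRingCat.ofHom (Ideal.Quotient.mk (cI U)))) :=
      (HasRingHomProperty.Spec_iff (P := @LocallyOfFinitePresentation)).2
        (RingHom.FinitePresentation.of_surjective _ Ideal.Quotient.mk_surjective
          (by simpa [Ideal.mk_ker] using hcfg U))
    infer_instance
  -- the statement for an affine scheme mapping into an affine piece
  have hloc : ∀ (U : T.affineOpens) (C : CommRingCat.{u}) (k : Γ(T, U) ⟶ C),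
      (∃ z, z ≫ 𝓘.subschemeι = Spec.map k ≫ U.2.fromSpec) ↔ Contains p i (Spec.map k ≫ U.2.fromSpec) := by
    intro U C k
    letI : Algebra Γ(T, U) C := k.hom.toAlgebra
    refine Iff.trans ⟨?_, ?_⟩ (hcC U C).symm
    · rintro ⟨z, hz⟩
      have hsub : Set.range z ⊆ Set.range (cov U) := by
        rw [hrange U]
        rintro _ ⟨x, rfl⟩
        show 𝓘.subschemeι (z x) ∈ (U : T.Opens)
        rw [← Scheme.Hom.comp_apply, hz, Scheme.Hom.comp_apply]
        exact U.2.range_fromSpec.subset (Set.mem_range_self _)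
      let z' := IsOpenImmersion.lift (cov U) z hsub
      have hz' : z' ≫ Spec.map (CommRingCat.ofHom (Ideal.Quotient.mk (cI U))) = Spec.map k := by
        rw [← cancel_mono U.2.fromSpec, Category.assoc, ← hι, ← Category.assoc, IsOpenImmersion.lift_fac, hz]
      intro r hr
      have h2 := Spec.map_injective (hz'.symm.trans (by rw [Spec.map_comp, Spec.map_preimage]) :
        Spec.map k = Spec.map (CommRingCat.ofHom (Ideal.Quotient.mk (cI U)) ≫ Spec.preimage z'))
      show k.hom r = 0
      rw [h2, CommRingCat.hom_comp, RingHom.comp_apply]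
      show (Spec.preimage z').hom (Ideal.Quotient.mk (cI U) r) = 0
      rw [Ideal.Quotient.eq_zero_iff_mem.2 hr, map_zero]
    · intro h
      refine ⟨Spec.map (CommRingCat.ofHom (Ideal.Quotient.lift (cI U) k.hom h)) ≫ cov U, ?_⟩
      rw [Category.assoc, hι, ← Category.assoc, ← Spec.map_comp]
      rfl
  -- reduction to that case
  have hcov : ∀ x : T', ∃ (U : T.affineOpens) (C : CommRingCat.{u}) (j : Spec C ⟶ T') (k : Γ(T, U) ⟶ C),
      IsOpenImmersion j ∧ x ∈ Set.range j ∧ j ≫ f = Spec.map k ≫ U.2.fromSpec := fun x => by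
    obtain ⟨U, hU, hxU, -⟩ := exists_isAffineOpen_mem_and_subset (x := f x) (U := ⊤) trivial
    obtain ⟨V, hV, hxV, hVle⟩ := exists_isAffineOpen_mem_and_subset (x := x) (U := f ⁻¹ᵁ U) hxU
    have hle : Set.range (hV.fromSpec ≫ f) ⊆ Set.range hU.fromSpec := by
      rintro _ ⟨z, rfl⟩
      rw [hU.range_fromSpec]
      exact hVle (hV.range_fromSpec.subset (Set.mem_range_self z))
    refine ⟨⟨U, hU⟩, _, hV.fromSpec, Spec.preimage (IsOpenImmersion.lift hU.fromSpec (hV.fromSpec ≫ f) hle),
      inferInstance, by rw [hV.range_fromSpec]; exact hxV, ?_⟩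
    rw [Spec.map_preimage]
    exact (IsOpenImmersion.lift_fac _ _ _).symm
  choose U C j k hj hxj hjk using hcov
  constructor
  · rintro ⟨z, hz⟩
    refine contains_of_cover p i f fun x => ⟨_, j x, hj x, hxj x, ?_⟩
    rw [hjk]
    exact (hloc _ _ _).1 ⟨j x ≫ z, by rw [Category.assoc, hz, hjk]⟩
  · intro h
    refine factor_of_cover _ _ fun x => ⟨_, j x, hj x, hxj x, ?_⟩
    rw [hjk]
    refine (hloc _ _ _).2 ?_
    rw [← hjk]
    exact contains_comp p i h _

end Locus

end Groth.Agent.MTRigid29
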