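import Mathlib.RingTheory.Bialgebra.TensorProduct
import Mathlib.RingTheory.HopfAlgebra.MonoidAlgebra
import Mathlib.RingTheory.Localization.Away.Basic
import Mathlib.RingTheory.Localization.AtPrime.Basic
import Mathlib.RingTheory.Flat.Stability

/-!
# Rosenlicht's argument over a local ring with principal maximal ideal
-/

set_option autoImplicit false

universe u

open TensorProduct

noncomputable section

namespace Groth.Agent.MTRigid29.Extend

theorem pow_cancel {C : Type*} [CommRing C] {π : C} (hnzd : ∀ c, π * c = 0 → c = 0) (k : ℕ) {x y : C}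
    (h : π ^ k * x = π ^ k * y) : x = y := by
  induction k with
  | zero => simpa using h
  | succ k ih =>
    refine ih (sub_eq_zero.1 (hnzd _ ?_))
    rw [mul_sub, ← mul_assoc, ← mul_assoc, ← pow_succ']
    exact sub_eq_zero.2 h

/-- Factors of a power of a prime element. -/
theorem eq_pow_mul_of_mul_eq {C : Type*} [CommRing C] {π : C} (hπ : (Ideal.span {π}).IsPrime)
    (hnzd : ∀ c, π * c = 0 → c = 0) : ∀ (m : ℕ) (x y : C), x * y = π ^ m → ∃ i v, IsUnit v ∧ x = π ^ i * v := by
  intro m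
  induction m with
  | zero =>
    intro x y h
    exact ⟨0, x, IsUnit.of_mul_eq_one y (by simpa using h), by simp⟩
  | succ m ih =>
    intro x y h
    have hmem : x * y ∈ Ideal.span {π} := by
      rw [h, pow_succ']
      exact Ideal.mul_mem_right _ _ (Ideal.mem_span_singleton_self π)
    rcases hπ.mem_or_mem hmem with hx | hy
    · obtain ⟨x', rfl⟩ := Ideal.mem_span_singleton.1 hx
      obtain ⟨i, v, hv, rfl⟩ := ih x' y (pow_cancel hnzd 1 (by rw [pow_one, ← mul_assoc, h, pow_succ']))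
      exact ⟨i + 1, v, hv, by rw [pow_succ', mul_assoc]⟩
    · obtain ⟨y', rfl⟩ := Ideal.mem_span_singleton.1 hy
      exact ih x y' (pow_cancel hnzd 1 (by rw [pow_one, mul_left_comm, h, pow_succ']))

/-- Divisibility by powers descends along maps injective modulo the element. -/
theorem pow_dvd_of_map {B C : Type*} [CommRing B] [CommRing C] (ρ : B →+* C) {π : B}
    (hnzd : ∀ c, ρ π * c = 0 → c = 0) (hinj : ∀ b, ρ π ∣ ρ b → π ∣ b) :
    ∀ (k : ℕ) (b : B), ρ π ^ k ∣ ρ b → π ^ k ∣ b := by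
  intro k
  induction k with
  | zero => simp
  | succ k ih =>
    intro b hb
    obtain ⟨b₁, rfl⟩ := hinj b (dvd_trans (dvd_pow_self _ k.succ_ne_zero) hb)
    rw [pow_succ']
    refine mul_dvd_mul_left π (ih b₁ ?_)
    obtain ⟨c, hc⟩ := hb
    rw [map_mul, pow_succ', mul_assoc] at hc
    exact ⟨c, pow_cancel hnzd 1 (by simpa using hc)⟩

/-- A unit away from a prime element which is a unit along a section is a unit. -/
theorem exists_isUnit_of_section {R C CL RL : Type*} [CommRing R] [CommRing C] [CommRing CL] [CommRing RL]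
    {π : C} [Algebra C CL] [IsLocalization.Away π CL] [Algebra R RL] (hπ : (Ideal.span {π}).IsPrime)
    (hnzd : ∀ c, π * c = 0 → c = 0) (ε : C →+* R) (hε : ∀ c, ε π * c = 0 → c = 0) (hεu : ¬ IsUnit (ε π))
    (εL : CL →+* RL) (hεL : ∀ c, εL (algebraMap C CL c) = algebraMap R RL (ε c))
    (hR : Function.Injective (algebraMap R RL)) (g : CL) (hg : IsUnit g) (hg1 : εL g = 1) :
    ∃ c, IsUnit c ∧ algebraMap C CL c = g := by
  have hC : Function.Injective (algebraMap C CL) := by
    intro x y h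
    obtain ⟨⟨_, k, rfl⟩, hk⟩ := (IsLocalization.eq_iff_exists (Submonoid.powers π) CL).1 h
    exact pow_cancel hnzd k hk
  obtain ⟨k, x, hx⟩ := IsLocalization.Away.surj π g
  obtain ⟨l, y, hy⟩ := IsLocalization.Away.surj π (↑hg.unit⁻¹ : CL)
  have hxy : x * y = π ^ (k + l) := hC (by
    rw [map_mul, map_pow, pow_add, ← hx, ← hy, mul_mul_mul_comm, hg.mul_val_inv, one_mul])
  obtain ⟨i, v, hv, rfl⟩ := eq_pow_mul_of_mul_eq hπ hnzd _ _ _ hxy
  have h1 : ε π ^ i * ε v = ε π ^ k := hR (by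
    rw [← map_pow ε π k, ← hεL (π ^ k), ← map_pow ε, ← map_mul ε, ← hεL, ← hx, map_mul, hg1, one_mul]
    simp only [map_pow])
  have hik : i = k := by
    rcases lt_trichotomy i k with h | h | h
    · exfalso
      obtain ⟨d, rfl⟩ := Nat.exists_eq_add_of_lt h
      rw [show i + d + 1 = i + (d + 1) from add_assoc _ _ _, pow_add] at h1
      refine hεu (isUnit_of_dvd_unit ?_ (hv.map ε))
      rw [pow_cancel hε i h1]
      exact dvd_pow_self _ d.succ_ne_zero
    · exact h
    · exfalso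
      obtain ⟨d, rfl⟩ := Nat.exists_eq_add_of_lt h
      rw [show k + d + 1 = k + (d + 1) from add_assoc _ _ _, pow_add, mul_assoc] at h1
      refine hεu (IsUnit.of_mul_eq_one (ε π ^ d * ε v) ?_)
      rw [← mul_assoc, ← pow_succ']
      exact pow_cancel hε k (h1.trans (mul_one _).symm)
  subst hik
  refine ⟨v, hv, ((IsLocalization.Away.algebraMap_isUnit π).pow i).mul_left_cancel ?_⟩
  rw [mul_comm _ g, hx, map_mul, map_pow]

variable (R : Type u) [CommRing R] [IsDomain R]

/-- The generic localisation of an algebra over a domain. -/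
abbrev Gen (B : Type u) [CommRing B] [Algebra R B] : Type u :=
  Localization (Algebra.algebraMapSubmonoid B (nonZeroDivisors R))

variable {R}

theorem exists_num {B : Type u} [CommRing B] [Algebra R B] (x : Gen R B) :
    ∃ (r : R) (b : B), r ≠ 0 ∧ r • x = algebraMap B (Gen R B) b := by
  obtain ⟨⟨b, ⟨_, r, hr, rfl⟩⟩, h⟩ := IsLocalization.surj (Algebra.algebraMapSubmonoid B (nonZeroDivisors R)) x
  refine ⟨r, b, nonZeroDivisors.ne_zero hr, ?_⟩
  rw [Algebra.smul_def, IsScalarTower.algebraMap_apply R B (Gen R B), mul_comm]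
  exact h

variable {R' : Type u} [CommRing R'] [Algebra R R'] {π : R'}

/-- Away from the uniformiser, over the local extension. -/
abbrev Aw (π : R') (B : Type u) [CommRing B] [Algebra R B] : Type u :=
  Localization.Away (algebraMap R' (R' ⊗[R] B) π)

theorem exists_toAw (hπ : ∀ r : R, r ≠ 0 → ∃ n, π ^ n ∈ Ideal.span {algebraMap R R' r})
    (B : Type u) [CommRing B] [Algebra R B] :
    ∃ f : Gen R B →ₐ[R] Aw (R := R) π B,
      ∀ b, f (algebraMap B (Gen R B) b) = algebraMap (R' ⊗[R] B) (Aw (R := R) π B) (1 ⊗ₜ b) := by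
  let g : B →ₐ[R] Aw (R := R) π B :=
    (IsScalarTower.toAlgHom R (R' ⊗[R] B) (Aw (R := R) π B)).comp Algebra.TensorProduct.includeRight
  have hg : ∀ y : Algebra.algebraMapSubmonoid B (nonZeroDivisors R), IsUnit (g y) := by
    rintro ⟨_, r, hr, rfl⟩
    rw [show (⟨algebraMap R B r, _⟩ : Algebra.algebraMapSubmonoid B (nonZeroDivisors R)).1 = algebraMap R B r from rfl,
      AlgHom.commutes, IsScalarTower.algebraMap_apply R (R' ⊗[R] B) (Aw (R := R) π B),
      IsScalarTower.algebraMap_apply R R' (R' ⊗[R] B)]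
    obtain ⟨n, hn⟩ := hπ r (nonZeroDivisors.ne_zero hr)
    obtain ⟨c, hc⟩ := Ideal.mem_span_singleton.1 hn
    refine isUnit_of_mul_isUnit_left (y := algebraMap _ (Aw (R := R) π B) (algebraMap R' (R' ⊗[R] B) c)) ?_
    rw [← map_mul, ← map_mul, ← hc, map_pow, map_pow]
    exact (IsLocalization.Away.algebraMap_isUnit _).pow n
  exact ⟨IsLocalization.liftAlgHom hg, fun b => IsLocalization.lift_eq _ _⟩

variable {A : Type u} [CommRing A] [HopfAlgebra R A]

set_option maxHeartbeats 1600000 in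
/-- Divisibility of the values of a pointed generic morphism into a diagonalisable group. -/
theorem dvd_of_local (hπ : ∀ r : R, r ≠ 0 → ∃ n, π ^ n ∈ Ideal.span {algebraMap R R' r})
    (hnzd : ∀ c : R', π * c = 0 → c = 0) (hnu : ¬ IsUnit π)
    (hdiag : ∃ (M : Type u) (_ : CommGroup M), Nonempty (R' ⊗[R] A ≃ₐc[R'] MonoidAlgebra R' M))
    {B B₀ B₂ : Type u} [CommRing B] [Algebra R B] [CommRing B₀] [Algebra R B₀] [CommRing B₂] [Algebra R B₂]
    [Module.Flat R B] [Module.Flat R B₀] [Module.Flat R B₂] (ρ : B →ₐ[R] B₂) (ρ₀ : B₀ →ₐ[R] B₂)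
    (φ : A →ₐ[R] Gen R B) (φ₀ : A →ₐ[R] Gen R B₀) (φ₂ : A →ₐ[R] Gen R B₂)
    (hρ : ∀ (a : A) (r : R) (b : B), r ≠ 0 → r • φ a = algebraMap B (Gen R B) b → r • φ₂ a = algebraMap B₂ _ (ρ b))
    (hρ₀ : ∀ (a : A) (r : R) (b : B₀), r ≠ 0 → r • φ₀ a = algebraMap B₀ (Gen R B₀) b → r • φ₂ a = algebraMap B₂ _ (ρ₀ b))
    (ε : B₀ →ₐ[R] R') (hε : ∀ (a : A) (r : R) (b : B₀), r ≠ 0 → r • φ₀ a = algebraMap B₀ (Gen R B₀) b →
      ε b = algebraMap R R' (r * Coalgebra.counit a))
    (hprime : (Ideal.span {algebraMap R' (R' ⊗[R] B₀) π}).IsPrime)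
    (hinj : ∀ b : R' ⊗[R] B,
      algebraMap R' _ π ∣ Algebra.TensorProduct.map (AlgHom.id R' R') ρ b → algebraMap R' _ π ∣ b)
    (a : A) (r : R) (b : B) (hr : r ≠ 0) (hb : r • φ a = algebraMap B (Gen R B) b) :
    algebraMap R' (R' ⊗[R] B) (algebraMap R R' r) ∣ (1 : R') ⊗ₜ[R] b := by
  obtain ⟨M, _, ⟨e⟩⟩ := hdiag
  have nzd : ∀ (X : Type u) [CommRing X] [Algebra R X] [Module.Flat R X] (c : R' ⊗[R] X),
      algebraMap R' _ π * c = 0 → c = 0 := by
    intro X _ _ _ c hc
    have hinj : Function.Injective (LinearMap.mulLeft R' π) := (injective_iff_map_eq_zero _).2 fun y hy => hnzd y hy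
    have h2 := Module.Flat.rTensor_preserves_injective_linearMap (M := X)
      ((LinearMap.mulLeft R' π).restrictScalars R) hinj
    refine h2 (Eq.trans ?_ (map_zero _).symm)
    refine Eq.trans ?_ hc
    clear hc h2
    induction c using TensorProduct.induction_on with
    | zero => simp
    | tmul x y => simp [Algebra.TensorProduct.algebraMap_apply]
    | add x y hx hy => rw [map_add, hx, hy, mul_add]
  choose τ hτ using fun (X : Type u) (iX : CommRing X) (jX : @Algebra R X _ _) =>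
    @exists_toAw R _ _ R' _ _ π hπ X iX jX
  let ψ : ∀ (X : Type u) [CommRing X] [Algebra R X] (f : A →ₐ[R] Gen R X),
      R' ⊗[R] A →ₐ[R'] Aw (R := R) π X := fun X _ _ f =>
    Algebra.TensorProduct.lift (Algebra.ofId R' _) ((τ X _ _).comp f) fun _ _ => .all _ _
  have hψ : ∀ (X : Type u) [CommRing X] [Algebra R X] (f : A →ₐ[R] Gen R X) (x : A) (s : R) (c : X),
      s • f x = algebraMap X (Gen R X) c →
      algebraMap R _ s * ψ X f (1 ⊗ₜ x) = algebraMap (R' ⊗[R] X) (Aw (R := R) π X) (1 ⊗ₜ c) := by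
    intro X _ _ f x s c hc
    rw [← hτ X _ _ c, ← hc, map_smul, Algebra.smul_def]
    congr 1
    show algebraMap R' (Aw (R := R) π X) 1 * _ = _
    rw [map_one, one_mul]
    rfl
  have unitR : ∀ (X : Type u) [CommRing X] [Algebra R X] (s : R), s ≠ 0 →
      IsUnit (algebraMap R (Aw (R := R) π X) s) := by
    intro X _ _ s hs
    have h := (IsLocalization.map_units (Gen R X)
      (⟨algebraMap R X s, s, mem_nonZeroDivisors_of_ne_zero hs, rfl⟩ :
        Algebra.algebraMapSubmonoid X (nonZeroDivisors R))).map (τ X _ _)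
    rwa [← IsScalarTower.algebraMap_apply, AlgHom.commutes] at h
  let res : ∀ {X Y : Type u} [CommRing X] [Algebra R X] [CommRing Y] [Algebra R Y] (f : X →ₐ[R] Y),
      Aw (R := R) π X →ₐ[R'] Aw (R := R) π Y := fun {X Y} _ _ _ _ f =>
    IsLocalization.liftAlgHom (M := Submonoid.powers (algebraMap R' (R' ⊗[R] X) π))
      (f := (IsScalarTower.toAlgHom R' (R' ⊗[R] Y) (Aw (R := R) π Y)).comp
        (Algebra.TensorProduct.map (AlgHom.id R' R') f)) (by
      rintro ⟨_, n, rfl⟩
      simp only [map_pow, AlgHom.commutes]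
      rw [IsScalarTower.algebraMap_apply R' (R' ⊗[R] Y) (Aw (R := R) π Y)]
      exact (IsLocalization.Away.algebraMap_isUnit _).pow n)
  have hres : ∀ {X Y : Type u} [CommRing X] [Algebra R X] [CommRing Y] [Algebra R Y] (f : X →ₐ[R] Y)
      (c : R' ⊗[R] X), res f (algebraMap _ _ c) =
        algebraMap (R' ⊗[R] Y) (Aw (R := R) π Y) (Algebra.TensorProduct.map (AlgHom.id R' R') f c) :=
    fun f c => IsLocalization.lift_eq _ _
  have hcomp : ∀ {X Y : Type u} [CommRing X] [Algebra R X] [CommRing Y] [Algebra R Y] (f : X →ₐ[R] Y)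
      (g : A →ₐ[R] Gen R X) (g' : A →ₐ[R] Gen R Y),
      (∀ (x : A) (s : R) (c : X), s ≠ 0 → s • g x = algebraMap X (Gen R X) c → s • g' x = algebraMap Y _ (f c)) →
      (res f).comp (ψ X g) = ψ Y g' := by
    intro X Y _ _ _ _ f g g' h
    refine Algebra.TensorProduct.ext (Subsingleton.elim _ _) (AlgHom.ext fun x => ?_)
    obtain ⟨s, c, hs, hc⟩ := exists_num (g x)
    show res f (ψ X g (1 ⊗ₜ x)) = ψ Y g' (1 ⊗ₜ x)
    refine (unitR Y s hs).mul_left_cancel ?_
    rw [hψ Y g' x s _ (h x s c hs hc), ← ((res f).restrictScalars R).commutes s, AlgHom.restrictScalars_apply,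
      ← map_mul, hψ X g x s c hc, hres]
    simp
  -- the values on characters are units upstairs
  let g₀ : M → Aw (R := R) π B₀ := fun m => ψ B₀ φ₀ (e.symm (MonoidAlgebra.single m 1))
  have hg₀ : ∀ m, ∃ c, IsUnit c ∧ algebraMap (R' ⊗[R] B₀) (Aw (R := R) π B₀) c = g₀ m := by
    intro m
    let εC : R' ⊗[R] B₀ →ₐ[R'] R' := Algebra.TensorProduct.lift (AlgHom.id R' R') ε fun _ _ => .all _ _
    let RL := Localization.Away π
    let εL : Aw (R := R) π B₀ →ₐ[R'] RL :=
      IsLocalization.liftAlgHom (M := Submonoid.powers (algebraMap R' (R' ⊗[R] B₀) π))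
        (f := (Algebra.ofId R' RL).comp εC) (by
        rintro ⟨_, n, rfl⟩
        simp only [map_pow, AlgHom.commutes]
        exact (IsLocalization.Away.algebraMap_isUnit π).pow n)
    have hεL : ∀ c, εL (algebraMap _ _ c) = algebraMap R' RL (εC c) := fun c => IsLocalization.lift_eq _ _
    have hRL : Function.Injective (algebraMap R' RL) := by
      intro x y h
      obtain ⟨⟨_, k, rfl⟩, hk⟩ := (IsLocalization.eq_iff_exists (Submonoid.powers π) RL).1 h
      exact pow_cancel hnzd k hk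
    have hpt : εL.comp (ψ B₀ φ₀) = (Algebra.ofId R' RL).comp (Bialgebra.counitAlgHom R' (R' ⊗[R] A)) := by
      refine Algebra.TensorProduct.ext (Subsingleton.elim _ _) (AlgHom.ext fun x => ?_)
      obtain ⟨s, c, hs, hc⟩ := exists_num (φ₀ x)
      show εL (ψ B₀ φ₀ (1 ⊗ₜ x)) = algebraMap R' RL (Coalgebra.counit ((1 : R') ⊗ₜ[R] x))
      refine ((unitR B₀ s hs).map (εL.restrictScalars R)).mul_left_cancel ?_
      show εL _ * εL _ = εL _ * _
      rw [← map_mul, hψ B₀ φ₀ x s c hc, hεL,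
        show εL (algebraMap R (Aw (R := R) π B₀) s) = algebraMap R RL s from (εL.restrictScalars R).commutes s,
        show εC (1 ⊗ₜ[R] c) = ε c by simp [εC], hε x s c hs hc, IsScalarTower.algebraMap_apply R R' RL,
        ← map_mul]
      congr 1
      simp [Algebra.smul_def]
    have hεπ : εC.toRingHom (algebraMap R' (R' ⊗[R] B₀) π) = π := εC.commutes π
    refine exists_isUnit_of_section (R := R') (RL := RL) hprime (nzd B₀) εC.toRingHom
      (fun c hc => hnzd c (by rwa [hεπ] at hc)) (by rwa [hεπ]) εL.toRingHom hεL hRL _ ?_ ?_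
    · exact (((Group.isUnit m).map (MonoidAlgebra.of R' M)).map e.symm).map (ψ B₀ φ₀)
    · refine (DFunLike.congr_fun hpt _).trans ?_
      show algebraMap R' RL (Coalgebra.counit (e.symm (MonoidAlgebra.single m 1))) = 1
      rw [CoalgHomClass.counit_comp_apply]
      simp
  have hgB : ∀ m, ∃ c, algebraMap (R' ⊗[R] B) (Aw (R := R) π B) c = ψ B φ (e.symm (MonoidAlgebra.single m 1)) := by
    intro m
    obtain ⟨c₀, -, hc₀⟩ := hg₀ m
    obtain ⟨k, x, hx⟩ := IsLocalization.Away.surj (algebraMap R' (R' ⊗[R] B) π)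
      (ψ B φ (e.symm (MonoidAlgebra.single m 1)))
    have h2 : Algebra.TensorProduct.map (AlgHom.id R' R') ρ x =
        algebraMap R' _ π ^ k * Algebra.TensorProduct.map (AlgHom.id R' R') ρ₀ c₀ := by
      have inj2 : Function.Injective (algebraMap (R' ⊗[R] B₂) (Aw (R := R) π B₂)) := by
        intro p q h
        obtain ⟨⟨_, n, rfl⟩, hn⟩ := (IsLocalization.eq_iff_exists (Submonoid.powers (algebraMap R' (R' ⊗[R] B₂) π)) (Aw (R := R) π B₂)).1 h
        exact pow_cancel (nzd B₂) n hn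
      apply inj2
      rw [← hres ρ, ← hx, map_mul, map_mul, map_pow, map_pow, ← hres ρ₀, hc₀, hres,
        AlgHom.commutes, mul_comm]
      congr 1
      exact (DFunLike.congr_fun (hcomp ρ φ φ₂ hρ) _).trans (DFunLike.congr_fun (hcomp ρ₀ φ₀ φ₂ hρ₀) _).symm
    obtain ⟨y, rfl⟩ := pow_dvd_of_map (Algebra.TensorProduct.map (AlgHom.id R' R') ρ).toRingHom
      (π := algebraMap R' (R' ⊗[R] B) π) (by simpa using nzd B₂) (by simpa using hinj) k x
      (by simpa using Dvd.intro _ h2.symm)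
    refine ⟨y, ((IsLocalization.Away.algebraMap_isUnit (algebraMap R' (R' ⊗[R] B) π)).pow k).mul_left_cancel ?_⟩
    rw [mul_comm _ (ψ B φ _), hx, map_mul, map_pow]
  have hall : ∀ z, ∃ c, algebraMap (R' ⊗[R] B) (Aw (R := R) π B) c = ψ B φ (e.symm z) := by
    intro z
    induction z using MonoidAlgebra.induction_linear with
    | zero => exact ⟨0, by simp⟩
    | add p q hp hq =>
      obtain ⟨c, hc⟩ := hp
      obtain ⟨d, hd⟩ := hq
      exact ⟨c + d, by simp only [map_add, hc, hd]⟩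
    | single m t =>
      obtain ⟨c, hc⟩ := hgB m
      refine ⟨algebraMap R' _ t * c, ?_⟩
      rw [show MonoidAlgebra.single m t = t • MonoidAlgebra.single m (1 : R') by simp, map_smul, map_smul,
        map_mul, hc, Algebra.smul_def, ← IsScalarTower.algebraMap_apply]
  obtain ⟨c, hc⟩ := hall (e ((1 : R') ⊗ₜ a))
  rw [BialgEquiv.symm_apply_apply] at hc
  refine ⟨c, ?_⟩
  have injB : Function.Injective (algebraMap (R' ⊗[R] B) (Aw (R := R) π B)) := by
    intro p q h
    obtain ⟨⟨_, n, rfl⟩, hn⟩ := (IsLocalization.eq_iff_exists (Submonoid.powers (algebraMap R' (R' ⊗[R] B) π)) (Aw (R := R) π B)).1 h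
    exact pow_cancel (nzd B) n hn
  refine injB ?_
  rw [map_mul, hc, ← hψ B φ a r b hb, IsScalarTower.algebraMap_apply R (R' ⊗[R] B) (Aw (R := R) π B),
    IsScalarTower.algebraMap_apply R R' (R' ⊗[R] B)]

end Groth.Agent.MTRigid29.Extend
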