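import Groth.Agent.Lib.MTRigid29.ExtendAlg
import Groth.Agent.Lib.MultType.QuasiIso
import Groth.Agent.Lib.EtaleLocal.Ring
import Groth.Agent.S14359
import Mathlib.RingTheory.DiscreteValuationRing.TFAE
import Mathlib.RingTheory.Unramified.LocalRing
import Mathlib.RingTheory.KrullDimension.Basic

/-!
# Integrality of pointed generic morphisms into groups of multiplicative type over a normal base
-/

set_option autoImplicit false
set_option linter.style.haveILetI false

universe u

open TensorProduct IsLocalRing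

noncomputable section

namespace Groth.Agent.MTRigid29.Extend

variable {R : Type u} [CommRing R] [IsDomain R]

omit [IsDomain R] in
theorem isField_quotient_of_maximalIdeal {R' : Type u} [CommRing R'] [IsLocalRing R'] {π : R'}
    (h : maximalIdeal R' = Ideal.span {π}) : (Ideal.span {π}).IsMaximal :=
  h ▸ maximalIdeal.isMaximal R'

/-- Height one primes of a noetherian normal domain. -/
theorem isDiscreteValuationRing_localization [IsNoetherianRing R] [IsIntegrallyClosed R] (p : Ideal R) [p.IsPrime]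
    (hp : p.height = 1) : IsDiscreteValuationRing (Localization.AtPrime p) := by
  let L := Localization.AtPrime p
  haveI : IsDomain L := IsLocalization.isDomain_localization p.primeCompl_le_nonZeroDivisors
  haveI : IsIntegrallyClosed L := isIntegrallyClosed_of_isLocalization L p.primeCompl p.primeCompl_le_nonZeroDivisors
  haveI : IsNoetherianRing L := IsLocalization.isNoetherianRing p.primeCompl L inferInstance
  have hdim : ringKrullDim L = 1 := by
    rw [IsLocalization.AtPrime.ringKrullDim_eq_height p L, hp]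
    rfl
  haveI : Ring.KrullDimLE 1 L := Ring.krullDimLE_iff.2 hdim.le
  haveI : IsDedekindDomain L :=
    haveI : Ring.DimensionLEOne L := ⟨fun {q} hq0 hq => hq.isMaximal_of_ne_bot hq0⟩
    {}
  refine ((IsDiscreteValuationRing.TFAE L fun hf => ?_).out 0 2).2 ‹_›
  rw [ringKrullDim_eq_zero_of_isField hf] at hdim
  exact zero_ne_one hdim

variable {A : Type u} [CommRing A] [HopfAlgebra R A]

/-- A local extension, principal maximal ideal, splitting a group of multiplicative type at a height one prime. -/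
theorem exists_local_ext [IsNoetherianRing R] [IsIntegrallyClosed R] (hft : Algebra.FiniteType R A)
    (h : SGA3b.IsMultType R A) (p : Ideal R) [p.IsPrime] (hp : p.height = 1) :
    ∃ (R' : Type u) (_ : CommRing R') (_ : Algebra R R') (_ : IsLocalRing R') (π : R'),
      (∀ r : R, r ≠ 0 → ∃ n, π ^ n ∈ Ideal.span {algebraMap R R' r}) ∧
      (∀ c : R', π * c = 0 → c = 0) ∧ ¬ IsUnit π ∧ maximalIdeal R' = Ideal.span {π} ∧
      (maximalIdeal R').comap (algebraMap R R') = p ∧
      (∀ x r : R, algebraMap R R' r ∣ algebraMap R R' x → ∃ s ∉ p, r ∣ s * x) ∧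
      (∃ (M : Type u) (_ : CommGroup M), Nonempty (R' ⊗[R] A ≃ₐc[R'] MonoidAlgebra R' M)) := by
  obtain ⟨E, _, _, _, q, _, hq, hdiag⟩ := MultTypeLib.exists_etale_isDiag hft h p
  haveI : q.LiesOver p := ⟨hq.symm⟩
  let Lp := Localization.AtPrime p
  let R' := Localization.AtPrime q
  haveI := isDiscreteValuationRing_localization p hp
  letI : Algebra Lp R' := (Localization.localRingHom p q (algebraMap R E) hq.symm).toAlgebra
  haveI : IsScalarTower R Lp R' := IsScalarTower.of_algebraMap_eq fun x => by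
    show _ = Localization.localRingHom p q (algebraMap R E) hq.symm (algebraMap R Lp x)
    rw [Localization.localRingHom_to_map, ← IsScalarTower.algebraMap_apply]
  haveI := EtaleLocal.isLocalHom_algebraMap p q
  haveI := EtaleLocal.faithfullyFlat p q
  haveI := EtaleLocal.essFiniteType p q
  haveI := EtaleLocal.formallyUnramified p q
  obtain ⟨ϖ, hϖ⟩ := IsDiscreteValuationRing.exists_irreducible Lp
  let π : R' := algebraMap Lp R' ϖ
  have hmax : maximalIdeal R' = Ideal.span {π} := by
    rw [← Algebra.FormallyUnramified.map_maximalIdeal (R := Lp) (S := R'), hϖ.maximalIdeal_eq, Ideal.map_span,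
      Set.image_singleton]
  refine ⟨R', inferInstance, inferInstance, inferInstance, π, fun r hr => ?_, fun c hc => ?_, ?_, hmax, ?_, ?_, ?_⟩
  · have hr' : algebraMap R Lp r ≠ 0 := fun h0 =>
      hr (IsLocalization.injective Lp p.primeCompl_le_nonZeroDivisors (h0.trans (map_zero _).symm))
    obtain ⟨n, v, hv⟩ := IsDiscreteValuationRing.eq_unit_mul_pow_irreducible hr' hϖ
    refine ⟨n, Ideal.mem_span_singleton.2 ⟨algebraMap Lp R' ((v⁻¹ : Lpˣ) : Lp), ?_⟩⟩
    rw [IsScalarTower.algebraMap_apply R Lp R', hv, ← map_mul, mul_right_comm, Units.mul_inv, one_mul, map_pow]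
  · have hinj : Function.Injective (LinearMap.mulLeft Lp ϖ) := fun x y hxy => mul_left_cancel₀ hϖ.ne_zero hxy
    have h2 := Module.Flat.rTensor_preserves_injective_linearMap (M := R') (LinearMap.mulLeft Lp ϖ) hinj
    have h3 : (LinearMap.mulLeft Lp ϖ).rTensor R' ((1 : Lp) ⊗ₜ c) = 0 := by
      rw [LinearMap.rTensor_tmul]
      show (ϖ * 1) ⊗ₜ[Lp] c = 0
      rw [mul_one, show ϖ = ϖ • (1 : Lp) by simp, TensorProduct.smul_tmul, Algebra.smul_def,
        show algebraMap Lp R' ϖ = π from rfl, hc, TensorProduct.tmul_zero]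
    have h4 := h2 (h3.trans (map_zero _).symm)
    have h5 := congrArg (TensorProduct.lid Lp R') h4
    simpa using h5
  · rw [← mem_nonunits_iff, ← mem_maximalIdeal, hmax]
    exact Ideal.mem_span_singleton_self π
  · rw [← IsLocalization.AtPrime.under_maximalIdeal Lp p, IsScalarTower.algebraMap_eq R Lp R', ← Ideal.comap_comap,
      IsLocalRing.maximalIdeal_comap (algebraMap Lp R')]
  · intro x r hdvd
    have h1 : algebraMap R Lp x ∈ ((Ideal.span {algebraMap R Lp r}).map (algebraMap Lp R')).comap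
        (algebraMap Lp R') := by
      rw [Ideal.mem_comap, Ideal.map_span, Set.image_singleton, Ideal.mem_span_singleton,
        ← IsScalarTower.algebraMap_apply, ← IsScalarTower.algebraMap_apply]
      exact hdvd
    rw [Ideal.comap_map_eq_self_of_faithfullyFlat, Ideal.mem_span_singleton] at h1
    obtain ⟨c, hc⟩ := h1
    obtain ⟨⟨y, s⟩, hy⟩ := IsLocalization.surj p.primeCompl c
    refine ⟨s, s.2, y, IsLocalization.injective Lp p.primeCompl_le_nonZeroDivisors ?_⟩
    rw [map_mul, map_mul, hc, ← hy]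
    ring
  · obtain ⟨M, iM, ⟨e⟩⟩ := MultTypeLib.isDiag_baseChange E R' hdiag
    exact ⟨M, iM, ⟨e⟩⟩

omit [IsDomain R] in
theorem exists_split_field {R' : Type u} [CommRing R'] [Algebra R R'] {π : R'} [(Ideal.span {π}).IsMaximal]
    {B₀ : Type u} [CommRing B₀] [Algebra R B₀] [IsDomain ((R' ⧸ Ideal.span {π}) ⊗[R] B₀)] :
    (Ideal.span {algebraMap R' (R' ⊗[R] B₀) π}).IsPrime := by
  let q := Algebra.TensorProduct.map (Ideal.Quotient.mkₐ R (Ideal.span {π})) (AlgHom.id R B₀)
  have hk : RingHom.ker q = Ideal.span {algebraMap R' (R' ⊗[R] B₀) π} := by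
    show RingHom.ker (Algebra.TensorProduct.map (Ideal.Quotient.mkₐ R (Ideal.span {π})) (AlgHom.id R B₀)) = _
    rw [Algebra.TensorProduct.rTensor_ker _ Ideal.Quotient.mk_surjective, AlgHom.ker_coe, Ideal.Quotient.mkₐ_ker, Ideal.map_span,
      Set.image_singleton]
    rfl
  rw [← hk]
  exact RingHom.ker_isPrime q

omit [IsDomain R] in
theorem dvd_of_map_dvd {R' : Type u} [CommRing R'] [Algebra R R'] {π : R'}
    {B B₂ : Type u} [CommRing B] [Algebra R B] [CommRing B₂] [Algebra R B₂] (ρ : B →ₐ[R] B₂)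
    (hinj : Function.Injective (Algebra.TensorProduct.map (AlgHom.id R (R' ⧸ Ideal.span {π})) ρ))
    (b : R' ⊗[R] B) (hb : algebraMap R' _ π ∣ Algebra.TensorProduct.map (AlgHom.id R' R') ρ b) :
    algebraMap R' _ π ∣ b := by
  let q := Algebra.TensorProduct.map (Ideal.Quotient.mkₐ R (Ideal.span {π})) (AlgHom.id R B)
  let q₂ := Algebra.TensorProduct.map (Ideal.Quotient.mkₐ R (Ideal.span {π})) (AlgHom.id R B₂)
  have hq : ∀ (X : Type u) [CommRing X] [Algebra R X] (x : R' ⊗[R] X),
      Algebra.TensorProduct.map (Ideal.Quotient.mkₐ R (Ideal.span {π})) (AlgHom.id R X) x = 0 ↔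
        algebraMap R' _ π ∣ x := by
    intro X _ _ x
    rw [← RingHom.mem_ker, Algebra.TensorProduct.rTensor_ker _ Ideal.Quotient.mk_surjective,
      AlgHom.ker_coe, Ideal.Quotient.mkₐ_ker, Ideal.map_span, Set.image_singleton, Ideal.mem_span_singleton]
    rfl
  rw [← hq]
  apply hinj
  rw [map_zero]
  refine Eq.trans ?_ ((hq B₂ _).2 hb)
  clear hb
  induction b using TensorProduct.induction_on with
  | zero => simp
  | tmul x y => simp
  | add x y hx hy => simp only [map_add, hx, hy]

/-- Divisibility in a flat algebra over a noetherian domain is local at associated primes. -/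
theorem dvd_of_forall_associated [IsNoetherianRing R] {B : Type u} [CommRing B] [Algebra R B] [Module.Flat R B]
    (r : R) (b : B)
    (h : ∀ p ∈ associatedPrimes R (R ⧸ Ideal.span {r}), ∃ (R' : Type u) (_ : CommRing R') (_ : Algebra R R'),
      (∀ x : R, algebraMap R R' r ∣ algebraMap R R' x → ∃ s ∉ p, r ∣ s * x) ∧
        algebraMap R' (R' ⊗[R] B) (algebraMap R R' r) ∣ (1 : R') ⊗ₜ[R] b) :
    algebraMap R B r ∣ b := by
  classical
  choose R' iC iA hs hd using fun p : associatedPrimes R (R ⧸ Ideal.span {r}) => h p.1 p.2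
  haveI : Finite (associatedPrimes R (R ⧸ Ideal.span {r})) := (associatedPrimes.finite R _).to_subtype
  haveI := Fintype.ofFinite (associatedPrimes R (R ⧸ Ideal.span {r}))
  letI := iC
  letI := iA
  let I := Ideal.span {r}
  let J : ∀ p, Ideal (R' p) := fun p => Ideal.span {algebraMap R (R' p) r}
  let f : R ⧸ I →ₗ[R] ((p : associatedPrimes R (R ⧸ Ideal.span {r})) → R' p ⧸ J p) :=
    Submodule.liftQ I (LinearMap.pi fun p => ((Ideal.Quotient.mkₐ R (J p)).comp (Algebra.ofId R (R' p))).toLinearMap)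
      (fun x hx => by
        obtain ⟨y, rfl⟩ := Ideal.mem_span_singleton.1 hx
        refine funext fun p => Ideal.Quotient.eq_zero_iff_mem.2 ?_
        show algebraMap R (R' p) (r * y) ∈ J p
        rw [map_mul]
        exact Ideal.mul_mem_right _ _ (Ideal.mem_span_singleton_self _))
  have hf : Function.Injective f := by
    refine (injective_iff_map_eq_zero f).2 fun z hz => ?_
    by_contra hne
    obtain ⟨P, hP, hle⟩ := exists_le_isAssociatedPrime_of_isNoetherianRing R z hne
    obtain ⟨x, rfl⟩ := Ideal.Quotient.mk_surjective z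
    have hx : algebraMap R (R' ⟨P, hP⟩) r ∣ algebraMap R (R' ⟨P, hP⟩) x :=
      Ideal.mem_span_singleton.1 (Ideal.Quotient.eq_zero_iff_mem.1 (congrFun hz ⟨P, hP⟩))
    obtain ⟨s, hsP, hsx⟩ := hs ⟨P, hP⟩ x hx
    refine hsP (hle ?_)
    rw [Submodule.mem_colon_singleton, Submodule.mem_bot]
    exact Ideal.Quotient.eq_zero_iff_mem.2 (Ideal.mem_span_singleton.2 hsx)
  have hinj := Module.Flat.rTensor_preserves_injective_linearMap (M := B) f hf
  have hz : f.rTensor B ((1 : R ⧸ I) ⊗ₜ b) = 0 := by
    rw [LinearMap.rTensor_tmul]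
    apply (TensorProduct.piLeft (R := R) (M := fun p => R' p ⧸ J p) (N := B)).injective
    rw [map_zero]
    refine funext fun p => ?_
    simp only [TensorProduct.piLeft, LinearEquiv.trans_apply, TensorProduct.comm_tmul, TensorProduct.piRight_apply, TensorProduct.piRightHom_tmul, LinearEquiv.piCongrRight_apply, Pi.zero_apply]
    obtain ⟨c, hc⟩ := hd p
    have h1 := congrArg (Algebra.TensorProduct.map (Ideal.Quotient.mkₐ R (J p)) (AlgHom.id R B)) hc
    rw [map_mul, Algebra.TensorProduct.algebraMap_apply, Algebra.TensorProduct.map_tmul,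
      Algebra.TensorProduct.map_tmul, Algebra.algebraMap_self_apply,
      show Ideal.Quotient.mkₐ R (J p) (algebraMap R (R' p) r) = 0 from
        Ideal.Quotient.eq_zero_iff_mem.2 (Ideal.mem_span_singleton_self _), TensorProduct.zero_tmul, zero_mul] at h1
    refine Eq.trans ?_ h1
    congr 1
    show (Ideal.Quotient.mkₐ R (J p)) (algebraMap R (R' p) 1) = _
    rw [map_one]
  have h0 := hinj (hz.trans (map_zero _).symm)
  have h1 := congrArg (Algebra.TensorProduct.map (AlgHom.id R (R ⧸ I)) (AlgHom.id R B)) h0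
  let g : (R ⧸ I) ⊗[R] B →ₐ[R] B ⧸ I.map (algebraMap R B) :=
    Algebra.TensorProduct.lift (Ideal.quotientMapₐ _ (Algebra.ofId R B) Ideal.le_comap_map)
      (Ideal.Quotient.mkₐ R _) fun _ _ => .all _ _
  have h2 := congrArg g h0
  rw [map_zero, Algebra.TensorProduct.lift_tmul, map_one, one_mul] at h2
  have h3 := Ideal.Quotient.eq_zero_iff_mem.1 h2
  rwa [Ideal.map_span, Set.image_singleton, Ideal.mem_span_singleton] at h3

/-- Data at a height one prime: a chart around the unit section and a chart meeting both. -/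
def HeightOneData {B : Type u} [CommRing B] [Algebra R B] (φ : A →ₐ[R] Gen R B) (p : Ideal R) [p.IsPrime] : Prop :=
  ∃ (B₀ : Type u) (_ : CommRing B₀) (_ : Algebra R B₀) (_ : Module.Flat R B₀) (φ₀ : A →ₐ[R] Gen R B₀)
    (ε : B₀ →ₐ[R] Localization.AtPrime p),
    (∀ (a : A) (r : R) (b : B₀), r ≠ 0 → r • φ₀ a = algebraMap B₀ (Gen R B₀) b →
      ε b = algebraMap R (Localization.AtPrime p) (r * Coalgebra.counit a)) ∧
    ∀ (L : Type u) [Field L] [Algebra R L], RingHom.ker (algebraMap R L) = p →
      IsDomain (L ⊗[R] B₀) ∧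
      ∃ (B₂ : Type u) (_ : CommRing B₂) (_ : Algebra R B₂) (_ : Module.Flat R B₂) (ρ : B →ₐ[R] B₂)
        (ρ₀ : B₀ →ₐ[R] B₂) (φ₂ : A →ₐ[R] Gen R B₂),
        (∀ (a : A) (r : R) (b : B), r ≠ 0 → r • φ a = algebraMap B (Gen R B) b →
          r • φ₂ a = algebraMap B₂ _ (ρ b)) ∧
        (∀ (a : A) (r : R) (b : B₀), r ≠ 0 → r • φ₀ a = algebraMap B₀ (Gen R B₀) b →
          r • φ₂ a = algebraMap B₂ _ (ρ₀ b)) ∧
        Function.Injective (Algebra.TensorProduct.map (AlgHom.id R L) ρ)

/-- The values of a pointed generic morphism to a group of multiplicative type are integral. -/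
theorem exists_eq_algebraMap [IsNoetherianRing R] [IsIntegrallyClosed R] (hft : Algebra.FiniteType R A)
    (h : SGA3b.IsMultType R A) {B : Type u} [CommRing B] [Algebra R B]
    [Module.Flat R B] (φ : A →ₐ[R] Gen R B)
    (hdata : ∀ (p : Ideal R) [p.IsPrime], p.height = 1 → HeightOneData φ p)
    (a : A) : ∃ b : B, φ a = algebraMap B (Gen R B) b := by
  obtain ⟨r, b, hr, hb⟩ := exists_num (φ a)
  have key : algebraMap R B r ∣ b := by
    refine dvd_of_forall_associated r b fun p hp => ?_
    haveI : p.IsPrime := hp.isPrime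
    have hp1 : p.height = 1 := S14359.result R r hr p hp
    obtain ⟨R', _, _, _, π, hπ, hnzd, hnu, hmax, hcomap, hdesc, hdiag⟩ := exists_local_ext hft h p hp1
    refine ⟨R', inferInstance, inferInstance, fun x => hdesc x r, ?_⟩
    haveI hmx : (Ideal.span {π}).IsMaximal := isField_quotient_of_maximalIdeal hmax
    letI : Field (R' ⧸ Ideal.span {π}) := Ideal.Quotient.field _
    have hker : RingHom.ker (algebraMap R (R' ⧸ Ideal.span {π})) = p := by
      rw [show algebraMap R (R' ⧸ Ideal.span {π}) = (Ideal.Quotient.mk _).comp (algebraMap R R') from rfl,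
        ← RingHom.comap_ker, Ideal.mk_ker, ← hmax, hcomap]
    obtain ⟨B₀, _, _, _, φ₀, ε, hε, hL⟩ := hdata p hp1
    obtain ⟨hdom, B₂, _, _, _, ρ, ρ₀, φ₂, hρ, hρ₀, hinj⟩ := hL (R' ⧸ Ideal.span {π}) hker
    haveI := hdom
    let θ : Localization.AtPrime p →ₐ[R] R' :=
      IsLocalization.liftAlgHom (M := p.primeCompl) (f := Algebra.ofId R R') fun s => by
        by_contra hs
        have hm : algebraMap R R' s ∈ maximalIdeal R' := (mem_maximalIdeal _).2 hs
        rw [← Ideal.mem_comap, hcomap] at hm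
        exact s.2 hm
    refine dvd_of_local hπ hnzd hnu hdiag ρ ρ₀ φ φ₀ φ₂ hρ hρ₀ (θ.comp ε) ?_
      exists_split_field (dvd_of_map_dvd ρ hinj) a r b hr hb
    intro a' r' b' hr' hb'
    show θ (ε b') = _
    rw [hε a' r' b' hr' hb', θ.commutes]
  obtain ⟨c, rfl⟩ := key
  refine ⟨c, (IsLocalization.map_units (Gen R B)
    (⟨algebraMap R B r, r, mem_nonZeroDivisors_of_ne_zero hr, rfl⟩ :
      Algebra.algebraMapSubmonoid B (nonZeroDivisors R))).mul_left_cancel ?_⟩
  rw [← map_mul]
  refine Eq.trans ?_ hb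
  rw [Algebra.smul_def, IsScalarTower.algebraMap_apply R B (Gen R B)]

end Groth.Agent.MTRigid29.Extend
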