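import Groth.Agent.Lib.MTRigid29.TrivGlobal
import Groth.Agent.Lib.SchBasic.Basic

/-!
# Finite generation of the equations for two points of two subgroups to agree
-/

set_option autoImplicit false
set_option linter.style.haveILetI false
set_option backward.isDefEq.respectTransparency.types false
set_option maxSynthPendingDepth 3

universe u

open CategoryTheory Limits MonoidalCategory CartesianMonoidalCategory MonObj AlgebraicGeometry Opposite

noncomputable section

namespace Groth.Agent.MTRigid29

variable {S : Scheme.{u}} {G H₁ H₂ : Over S}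

theorem locallyOfFiniteType_of_isMultTypeFT {H : Over S} [GrpObj H] (hH : SGA3x.IsMultTypeFT H) :
    LocallyOfFiniteType H.hom := by
  refine (IsZariskiLocalAtTarget.iff_of_openCover (P := @LocallyOfFiniteType) S.affineOpenCover.openCover).2 fun i => ?_
  let V : Type u := S.affineOpenCover.X i
  let g : Spec (CommRingCat.of V) ⟶ S := S.affineOpenCover.f i
  haveI : IsOpenImmersion g := S.affineOpenCover.map_prop i
  obtain ⟨A, _, _, j, -, -, hft, ⟨e⟩⟩ := exists_model_ft hH g
  haveI : LocallyOfFiniteType (CoactBr.sp V A).hom :=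
    (HasRingHomProperty.Spec_iff (P := @LocallyOfFiniteType)).2 (RingHom.finiteType_algebraMap.2 hft)
  let F : Red.bc g H ≅ CoactBr.sp V A :=
    ⟨e.inv.hom.hom, e.hom.hom.hom, by rw [← Mon.comp_hom', ← Grp.comp', e.inv_hom_id]; rfl,
      by rw [← Mon.comp_hom', ← Grp.comp', e.hom_inv_id]; rfl⟩
  show LocallyOfFiniteType (pullback.snd H.hom g)
  rw [show pullback.snd H.hom g = F.hom.left ≫ (CoactBr.sp V A).hom from (Over.w F.hom).symm]
  haveI : IsIso F.hom.left := inferInstanceAs (IsIso ((Over.forget _).map F.hom))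
  infer_instance

/-- Agreement of two points is cut out by finitely many equations. -/
def PairFG (i₁ : H₁ ⟶ G) (i₂ : H₂ ⟶ G) : Prop :=
  ∀ (B : CommRingCat.{u}) (b : Spec B ⟶ S) (x : Over.mk b ⟶ H₁) (y : Over.mk b ⟶ H₂),
    ∃ I : Ideal B, I.FG ∧ ∀ (C : CommRingCat.{u}) (f : B ⟶ C),
      (Spec.map f ≫ (x ≫ i₁).left = Spec.map f ≫ (y ≫ i₂).left) ↔ ∀ z ∈ I, f.hom z = 0

/-- Both points over the base agree in `G` exactly on a closed subscheme of finite presentation. -/
theorem pairFG_of_base [IsSeparated G.hom] (i₁ : H₁ ⟶ G) (i₂ : H₂ ⟶ G)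
    (hfin : (IsLocallyNoetherian S ∧ LocallyOfFiniteType H₁.hom ∧ LocallyOfFiniteType H₂.hom) ∨
      LocallyOfFiniteType G.hom) : PairFG i₁ i₂ := by
  let j : pullback H₁.hom H₂.hom ⟶ pullback G.hom G.hom :=
    pullback.lift (pullback.fst _ _ ≫ i₁.left) (pullback.snd _ _ ≫ i₂.left) (by
      rw [Category.assoc, Category.assoc, Over.w, Over.w, pullback.condition])
  let d₀ := pullback.fst j (pullback.diagonal G.hom)
  haveI : IsClosedImmersion d₀ := MorphismProperty.pullback_fst _ _ (inferInstanceAs (IsClosedImmersion (pullback.diagonal G.hom)))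
  haveI hd₀ : LocallyOfFinitePresentation d₀ := by
    rcases hfin with ⟨h0, h1, h2⟩ | h
    · haveI := h0; haveI := h1; haveI := h2
      haveI : IsLocallyNoetherian (pullback H₁.hom H₂.hom) :=
        LocallyOfFiniteType.isLocallyNoetherian (pullback.fst H₁.hom H₂.hom ≫ H₁.hom)
      infer_instance
    · haveI := h
      haveI : LocallyOfFinitePresentation (pullback.diagonal G.hom) := by
        haveI : LocallyOfFinitePresentation (pullback.diagonal G.hom ≫ pullback.fst G.hom G.hom) := by
          rw [pullback.diagonal_fst]; infer_instance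
        exact SchBasic.locallyOfFinitePresentation_of_comp _ (pullback.fst G.hom G.hom)
      exact MorphismProperty.pullback_fst _ _ ‹_›
  intro B b x y
  let xy : Spec B ⟶ pullback H₁.hom H₂.hom :=
    pullback.lift x.left y.left ((Over.w x).trans (Over.w y).symm)
  haveI : IsClosedImmersion (pullback.fst xy d₀) := MorphismProperty.pullback_fst _ _ ‹_›
  obtain ⟨I, φ, hφ⟩ := (IsClosedImmersion.Spec_iff (f := pullback.fst xy d₀)).1 inferInstance
  have hIfg : I.FG := by
    haveI : LocallyOfFinitePresentation (pullback.fst xy d₀) := MorphismProperty.pullback_fst _ _ hd₀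
    have h2 : LocallyOfFinitePresentation (Spec.map (CommRingCat.ofHom (Ideal.Quotient.mk I))) := by
      rw [show Spec.map (CommRingCat.ofHom (Ideal.Quotient.mk I)) = φ.inv ≫ pullback.fst xy d₀ by
        rw [hφ, Iso.inv_hom_id_assoc]]
      infer_instance
    have h3 := (HasRingHomProperty.Spec_iff (P := @LocallyOfFinitePresentation)).1 h2
    haveI : Algebra.FinitePresentation B (B ⧸ I) := h3
    simpa [Ideal.mk_ker] using Algebra.FinitePresentation.ker_fG_of_surjective
      (Ideal.Quotient.mkₐ B I) (Ideal.Quotient.mkₐ_surjective B I)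
  refine ⟨I, hIfg, fun C f => ?_⟩
  have hj1 : xy ≫ j ≫ pullback.fst _ _ = (x ≫ i₁).left :=
    (congrArg (xy ≫ ·) (pullback.lift_fst _ _ _)).trans
      ((Category.assoc _ _ _).symm.trans (congrArg (· ≫ i₁.left) (pullback.lift_fst _ _ _)))
  have hj2 : xy ≫ j ≫ pullback.snd _ _ = (y ≫ i₂).left :=
    (congrArg (xy ≫ ·) (pullback.lift_snd _ _ _)).trans
      ((Category.assoc _ _ _).symm.trans (congrArg (· ≫ i₂.left) (pullback.lift_snd _ _ _)))
  constructor
  · intro h
    let l₀ : Spec C ⟶ pullback j (pullback.diagonal G.hom) :=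
      pullback.lift (Spec.map f ≫ xy) (Spec.map f ≫ (x ≫ i₁).left) (pullback.hom_ext
        (by simp only [Category.assoc, pullback.diagonal_fst, Category.comp_id, hj1])
        (by simp only [Category.assoc, pullback.diagonal_snd, Category.comp_id, hj2]; exact h.symm))
    let l : Spec C ⟶ pullback xy d₀ := pullback.lift (Spec.map f) l₀ (pullback.lift_fst _ _ _).symm
    have hl : Spec.map f = (l ≫ φ.hom) ≫ Spec.map (CommRingCat.ofHom (Ideal.Quotient.mk I)) := by
      rw [Category.assoc, ← hφ]; exact (pullback.lift_fst _ _ _).symm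
    have h2 := Spec.map_injective (hl.trans (by rw [Spec.map_comp, Spec.map_preimage]) :
      Spec.map f = Spec.map (CommRingCat.ofHom (Ideal.Quotient.mk I) ≫ Spec.preimage (l ≫ φ.hom)))
    intro z hz
    rw [h2, CommRingCat.hom_comp, RingHom.comp_apply]
    show (Spec.preimage (l ≫ φ.hom)).hom (Ideal.Quotient.mk I z) = 0
    rw [Ideal.Quotient.eq_zero_iff_mem.2 hz, map_zero]
  · intro h
    let l : Spec C ⟶ pullback xy d₀ := Spec.map (CommRingCat.ofHom (Ideal.Quotient.lift I f.hom h)) ≫ φ.inv
    have hl : l ≫ pullback.fst xy d₀ = Spec.map f := by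
      rw [hφ, Category.assoc, Iso.inv_hom_id_assoc, ← Spec.map_comp]
      exact congrArg Spec.map (CommRingCat.hom_ext (RingHom.ext fun _ => rfl))
    rw [← hj1, ← hj2, ← hl]
    have hd : d₀ ≫ j ≫ pullback.fst G.hom G.hom = d₀ ≫ j ≫ pullback.snd G.hom G.hom := by
      simp only [d₀, pullback.condition_assoc, pullback.diagonal_fst, pullback.diagonal_snd]
    simp only [Category.assoc, pullback.condition_assoc]
    rw [hd]

/-- Stability under base change. -/
theorem PairFG.bc {S' : Scheme.{u}} (g : S' ⟶ S) {i₁ : H₁ ⟶ G} {i₂ : H₂ ⟶ G} (h : PairFG i₁ i₂) :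
    PairFG ((Over.pullback g).map i₁) ((Over.pullback g).map i₂) := by
  intro B b x y
  let x' : Over.mk (b ≫ g) ⟶ H₁ := Over.homMk (x.left ≫ pullback.fst H₁.hom g) (by
    show (x.left ≫ pullback.fst H₁.hom g) ≫ H₁.hom = b ≫ g
    rw [Category.assoc, pullback.condition, ← Category.assoc]
    exact congrArg (· ≫ g) (Over.w x))
  let y' : Over.mk (b ≫ g) ⟶ H₂ := Over.homMk (y.left ≫ pullback.fst H₂.hom g) (by
    show (y.left ≫ pullback.fst H₂.hom g) ≫ H₂.hom = b ≫ g
    rw [Category.assoc, pullback.condition, ← Category.assoc]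
    exact congrArg (· ≫ g) (Over.w y))
  obtain ⟨I, hI, hf⟩ := h B (b ≫ g) x' y'
  refine ⟨I, hI, fun C f => Iff.trans ?_ (hf C f)⟩
  have e1 : (x ≫ (Over.pullback g).map i₁).left ≫ pullback.fst G.hom g = (x' ≫ i₁).left :=
    (Category.assoc _ _ _).trans ((congrArg (x.left ≫ ·) (pullback.lift_fst _ _ _)).trans (Category.assoc _ _ _).symm)
  have e2 : (y ≫ (Over.pullback g).map i₂).left ≫ pullback.fst G.hom g = (y' ≫ i₂).left :=
    (Category.assoc _ _ _).trans ((congrArg (y.left ≫ ·) (pullback.lift_fst _ _ _)).trans (Category.assoc _ _ _).symm)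
  constructor
  · intro he
    rw [← e1, ← e2]
    exact (Category.assoc _ _ _).symm.trans ((congrArg (· ≫ pullback.fst G.hom g) he).trans (Category.assoc _ _ _))
  · intro he
    refine pullback.hom_ext ?_ ?_
    · exact (Category.assoc _ _ _).trans (((congrArg (Spec.map f ≫ ·) e1).trans
        (he.trans (congrArg (Spec.map f ≫ ·) e2.symm))).trans (Category.assoc _ _ _).symm)
    · exact (Category.assoc _ _ _).trans ((congrArg (Spec.map f ≫ ·) ((Over.w (x ≫ (Over.pullback g).map i₁)).trans
        (Over.w (y ≫ (Over.pullback g).map i₂)).symm)).trans (Category.assoc _ _ _).symm)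

end Groth.Agent.MTRigid29
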