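import Groth.Agent.Lib.MTRigid29.SubgrpConj
import Groth.Agent.Lib.MTRigid29.PairKernel
import Groth.Agent.Lib.MultType.Dense
import Groth.Agent.Lib.AbRigid.Maximal

/-!
# Homomorphisms out of a diagonalisable group over a local base, equal and central on the closed fibre
-/

set_option autoImplicit false
set_option linter.style.haveILetI false
set_option backward.isDefEq.respectTransparency.types false
set_option maxSynthPendingDepth 3

universe u

open CategoryTheory Limits MonoidalCategory CartesianMonoidalCategory MonObj AlgebraicGeometry Opposite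
open IsLocalRing
open scoped TensorProduct

noncomputable section

namespace Groth.Agent.MTRigid29.FibreEqual

open DiagGL

variable {R : Type u} [CommRing R] {G : Over (Spec (CommRingCat.of R))} [GrpObj G]

/-- Points with values in a product are determined by their components. -/
theorem prod_ext {B C : Type u} [CommRing B] [Algebra R B] [CommRing C] [Algebra R C] {x y : Pts G (B × C)}
    (h₁ : pmap (AlgHom.fst R B C) x = pmap (AlgHom.fst R B C) y)
    (h₂ : pmap (AlgHom.snd R B C) x = pmap (AlgHom.snd R B C) y) : x = y := by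
  refine Over.OverMorphism.ext ((cancel_epi (coprodSpec B C)).1 (coprod.hom_ext ?_ ?_))
  · rw [coprodSpec_inl_assoc, coprodSpec_inl_assoc]
    exact congrArg CommaMorphism.left h₁
  · rw [coprodSpec_inr_assoc, coprodSpec_inr_assoc]
    exact congrArg CommaMorphism.left h₂

/-- A pair of points gives a point with values in the product. -/
theorem exists_pair {B C : Type u} [CommRing B] [Algebra R B] [CommRing C] [Algebra R C] (x : Pts G B) (y : Pts G C) :
    ∃ z : Pts G (B × C), pmap (AlgHom.fst R B C) z = x ∧ pmap (AlgHom.snd R B C) z = y := by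
  let z : Spec (CommRingCat.of (B × C)) ⟶ G.left := inv (coprodSpec B C) ≫ coprod.desc x.left y.left
  refine ⟨Over.homMk z ((cancel_epi (coprodSpec B C)).1 (coprod.hom_ext ?_ ?_)), ?_, ?_⟩
  · show coprod.inl ≫ coprodSpec B C ≫ (inv (coprodSpec B C) ≫
      coprod.desc (x.left : Spec (CommRingCat.of B) ⟶ G.left) (y.left : Spec (CommRingCat.of C) ⟶ G.left)) ≫ G.hom = _
    refine (congrArg (coprod.inl ≫ ·) (((congrArg (coprodSpec B C ≫ ·) (Category.assoc _ _ _))).trans
      (IsIso.hom_inv_id_assoc _ _))).trans ?_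
    refine (coprod.inl_desc_assoc _ _ _).trans ?_
    exact (Over.w x).trans ((Over.w (CoactBr.pt (AlgHom.fst R B C))).symm.trans (coprodSpec_inl_assoc B C _).symm)
  · show coprod.inr ≫ coprodSpec B C ≫ (inv (coprodSpec B C) ≫
      coprod.desc (x.left : Spec (CommRingCat.of B) ⟶ G.left) (y.left : Spec (CommRingCat.of C) ⟶ G.left)) ≫ G.hom = _
    refine (congrArg (coprod.inr ≫ ·) (((congrArg (coprodSpec B C ≫ ·) (Category.assoc _ _ _))).trans
      (IsIso.hom_inv_id_assoc _ _))).trans ?_
    refine (coprod.inr_desc_assoc _ _ _).trans ?_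
    exact (Over.w y).trans ((Over.w (CoactBr.pt (AlgHom.snd R B C))).symm.trans (coprodSpec_inr_assoc B C _).symm)
  · refine Over.OverMorphism.ext ?_
    show Spec.map (CommRingCat.ofHom (RingHom.fst B C)) ≫ inv (coprodSpec B C) ≫ coprod.desc x.left y.left = x.left
    rw [← coprodSpec_inl B C, Category.assoc, IsIso.hom_inv_id_assoc, coprod.inl_desc]
  · refine Over.OverMorphism.ext ?_
    show Spec.map (CommRingCat.ofHom (RingHom.snd B C)) ≫ inv (coprodSpec B C) ≫ coprod.desc x.left y.left = y.left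
    rw [← coprodSpec_inr B C, Category.assoc, IsIso.hom_inv_id_assoc, coprod.inr_desc]

variable [IsLocalRing R]

/-- A point infinitesimally close to the unit commutes with a point commuting with everything on the closed fibre. -/
theorem commute_of_infinitesimal {a b : Ideal R} (hab : maximalIdeal R * a ≤ b) (ha : a ≤ maximalIdeal R)
    {B : Type u} [CommRing B] [Algebra R B] (hB : ∀ r ∈ b, algebraMap R B r = 0) (t y : Pts G B)
    (ht : pmap (Ideal.Quotient.mkₐ R (KI a B)) t = 1)
    (hc : ∀ (C : Type u) [CommRing C] [Algebra R C], (∀ r ∈ maximalIdeal R, algebraMap R C r = 0) →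
      ∀ (g : Pts G C) (f : B →ₐ[R] C), g * pmap f y = pmap f y * g) :
    t * y = y * t := by
  let diag : B →ₐ[R] B × B := (AlgHom.id R B).prod (AlgHom.id R B)
  let I : Ideal (B × B) := KI a (B × B)
  let B' : Subalgebra R (B × B) := congrAlg diag I
  have hBB : ∀ r ∈ b, algebraMap R (B × B) r = 0 := fun r hr => Prod.ext (hB r hr) (hB r hr)
  have hKL : a * a ≤ b := (Ideal.mul_mono_left ha).trans hab
  have hI : IsNilpotent I := isNilpotent_KI hKL hBB
  have hsurj := surjective_comap_congrAlg diag (AlgHom.fst R B B) (fun _ => rfl) I hI fun i hi =>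
    map_mem_KI (diag.toLinearMap.comp (AlgHom.fst R B B).toLinearMap) hi
  obtain ⟨d, hd1, hd2⟩ := exists_pair (1 : Pts G B) t
  have hd : pmap (Ideal.Quotient.mkₐ R I) d = 1 := by
    let ψ : (B × B) ⧸ I →ₐ[R] (B ⧸ KI a B) × (B ⧸ KI a B) :=
      ((Ideal.Quotient.liftₐ I ((Ideal.Quotient.mkₐ R (KI a B)).comp (AlgHom.fst R B B)) fun i hi =>
          Ideal.Quotient.eq_zero_iff_mem.2 (map_mem_KI (AlgHom.fst R B B).toLinearMap hi)).prod
        (Ideal.Quotient.liftₐ I ((Ideal.Quotient.mkₐ R (KI a B)).comp (AlgHom.snd R B B)) fun i hi =>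
          Ideal.Quotient.eq_zero_iff_mem.2 (map_mem_KI (AlgHom.snd R B B).toLinearMap hi)))
    have hψ : Function.Injective ψ := by
      refine (injective_iff_map_eq_zero ψ).2 fun x hx => ?_
      obtain ⟨x, rfl⟩ := Ideal.Quotient.mk_surjective x
      have hx1 : x.1 ∈ KI a B := Ideal.Quotient.eq_zero_iff_mem.1 (congrArg Prod.fst hx)
      have hx2 : x.2 ∈ KI a B := Ideal.Quotient.eq_zero_iff_mem.1 (congrArg Prod.snd hx)
      refine Ideal.Quotient.eq_zero_iff_mem.2 ?_
      have e1 := map_mem_KI (LinearMap.inl R B B) hx1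
      have e2 := map_mem_KI (LinearMap.inr R B B) hx2
      have := I.add_mem e1 e2
      simpa using this
    have hs : Function.Surjective ψ := fun z => by
      obtain ⟨z₁, hz₁⟩ := Ideal.Quotient.mk_surjective z.1
      obtain ⟨z₂, hz₂⟩ := Ideal.Quotient.mk_surjective z.2
      exact ⟨Ideal.Quotient.mk I (z₁, z₂), Prod.ext hz₁ hz₂⟩
    let e := AlgEquiv.ofBijective ψ ⟨hψ, hs⟩
    have h1 : pmap ψ (pmap (Ideal.Quotient.mkₐ R I) d) = 1 := by
      refine prod_ext ?_ ?_
      · rw [map_one, pmap_pmap, pmap_pmap]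
        refine (show _ = pmap ((Ideal.Quotient.mkₐ R (KI a B)).comp (AlgHom.fst R B B)) d from rfl).trans ?_
        rw [← pmap_pmap, hd1, map_one]
      · rw [map_one, pmap_pmap, pmap_pmap]
        refine (show _ = pmap ((Ideal.Quotient.mkₐ R (KI a B)).comp (AlgHom.snd R B B)) d from rfl).trans ?_
        rw [← pmap_pmap, hd2, ht]
    have h2 := congrArg (pmap e.symm.toAlgHom) h1
    rw [map_one, pmap_pmap, show e.symm.toAlgHom.comp ψ = AlgHom.id R _ from
      AlgHom.ext fun z => e.symm_apply_apply z, pmap_id] at h2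
    exact h2
  obtain ⟨τ, hτ⟩ := exists_pmap_val B' I hI (fun i hi => mem_congrAlg_of_mem _ _ hi) hsurj d hd
  let y' : Pts G B' := pmap (diag.codRestrict B' (map_mem_congrAlg diag I)) y
  let p₁ : B' →ₐ[R] B := (AlgHom.fst R B B).comp B'.val
  let p₂ : B' →ₐ[R] B := (AlgHom.snd R B B).comp B'.val
  have hy1 : pmap p₁ y' = y := by
    rw [pmap_pmap]; exact pmap_id y
  have hy2 : pmap p₂ y' = y := by
    rw [pmap_pmap]; exact pmap_id y
  have hτ1 : pmap p₁ τ = 1 := by rw [← pmap_pmap, hτ, hd1]
  have hτ2 : pmap p₂ τ = t := by rw [← pmap_pmap, hτ, hd2]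
  let n : Ideal B' := KI (maximalIdeal R) B'
  let φ : B' →ₐ[R] B × (B' ⧸ n) := p₁.prod (Ideal.Quotient.mkₐ R n)
  have hinj : Function.Injective φ := by
    refine (injective_iff_map_eq_zero φ).2 fun z hz => ?_
    have h1 : (z : B × B).1 = 0 := congrArg Prod.fst hz
    have h2 : z ∈ n := Ideal.Quotient.eq_zero_iff_mem.1 (congrArg Prod.snd hz)
    let δ : B' →ₗ[R] B := p₂.toLinearMap - p₁.toLinearMap
    have hδ : ∀ w : B', δ w ∈ KI a B := fun w => by
      obtain ⟨c, hw⟩ := w.2
      have := map_mem_KI ((AlgHom.snd R B B).toLinearMap - (AlgHom.fst R B B).toLinearMap) hw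
      simpa [δ, p₁, p₂, diag] using this
    have h3 : δ z = 0 := by
      have hz' : z ∈ (maximalIdeal R • ⊤ : Submodule R B') := by
        rw [Ideal.smul_top_eq_map]; exact h2
      refine Submodule.smul_induction_on hz' (fun r hr w _ => ?_) fun x y hx hy => by rw [map_add, hx, hy, add_zero]
      rw [map_smul, Algebra.smul_def]
      have hm : algebraMap R B r * δ w ∈ KI (maximalIdeal R * a) B := by
        show _ ∈ Ideal.map _ _
        rw [Ideal.map_mul]
        exact Ideal.mul_mem_mul (Ideal.mem_map_of_mem _ hr) (hδ w)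
      have h0 : KI (maximalIdeal R * a) B ≤ ⊥ :=
        (Ideal.map_mono hab).trans (Ideal.map_le_iff_le_comap.2 fun r hr => (Ideal.mem_bot).2 (hB r hr))
      exact (Ideal.mem_bot).1 (h0 hm)
    refine Subtype.ext (Prod.ext h1 ?_)
    have h4 : (z : B × B).2 - (z : B × B).1 = 0 := h3
    rw [h1, sub_zero] at h4
    exact h4
  have hφs : Function.Surjective (PrimeSpectrum.comap (φ : B' →+* B × (B' ⧸ n))) := fun q => by
    obtain ⟨Q, hQ⟩ := hsurj q
    obtain ⟨q₀, hq₀⟩ : ∃ q₀, PrimeSpectrum.comap (p₁ : B' →+* B) q₀ = q := by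
      refine surjective_comap_of_retract (p₁ : B' →+* B) ((diag.codRestrict B' (map_mem_congrAlg diag I)) : B →+* B')
        (RingHom.id B) (fun z => ?_) q
      obtain ⟨c, hc⟩ := z.2
      obtain ⟨k, hk⟩ := hI
      refine ⟨k, Subtype.ext ?_⟩
      have hmem : (z : B × B) - diag (z : B × B).1 ∈ I := by
        have h := map_mem_KI (diag.toLinearMap.comp (AlgHom.fst R B B).toLinearMap) hc
        rw [show (z : B × B) - diag (z : B × B).1 =
          ((z : B × B) - diag c) - diag (((z : B × B) - diag c).1) from Prod.ext (by simp [diag]) (by simp [diag])]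
        exact I.sub_mem hc h
      have := Ideal.pow_mem_pow hmem k
      rw [hk] at this
      exact this
    exact ⟨PrimeSpectrum.comap (RingHom.fst B (B' ⧸ n)) q₀, hq₀⟩
  have hcomm : τ * y' = y' * τ := by
    refine Over.OverMorphism.ext (eq_of_comp_eq (φ := (φ : B' →+* B × (B' ⧸ n))) hinj hφs _ _
      (congrArg CommaMorphism.left (show pmap φ (τ * y') = pmap φ (y' * τ) from prod_ext ?_ ?_)))
    · rw [pmap_pmap, pmap_pmap, show (AlgHom.fst R B (B' ⧸ n)).comp φ = p₁ from rfl, map_mul, map_mul, hτ1, hy1,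
        _root_.one_mul, _root_.mul_one]
    · rw [pmap_pmap, pmap_pmap, show (AlgHom.snd R B (B' ⧸ n)).comp φ = Ideal.Quotient.mkₐ R n from rfl, map_mul,
        map_mul, pmap_pmap]
      refine hc _ (fun r hr => ?_) _ _
      rw [IsScalarTower.algebraMap_apply R B' (B' ⧸ n)]
      exact Ideal.Quotient.eq_zero_iff_mem.2 (Ideal.mem_map_of_mem _ hr)
  have := congrArg (pmap p₂) hcomm
  rwa [map_mul, map_mul, hτ2, hy2] at this

/-- One infinitesimal step: equality modulo `a` gives equality modulo `b ⊇ 𝔪 a`. -/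
theorem hgen_eq_of_step {A : Type u} [CommRing A] [HopfAlgebra R A] {j : A →ₗ[R] R} (hj : MultTypeLib.IsInt j)
    {a b : Ideal R} (hba : b ≤ a) (hab : maximalIdeal R * a ≤ b) (ha : a ≤ maximalIdeal R)
    (u v : CoactBr.sp R A ⟶ G) [IsMonHom u] [IsMonHom v]
    (hc : ∀ (C : Type u) [CommRing C] [Algebra R C], (∀ r ∈ maximalIdeal R, algebraMap R C r = 0) →
      ∀ (g : Pts G C) (x : Pts (CoactBr.sp R A) C), g * (x ≫ u) = (x ≫ u) * g)
    (h : CoactBr.pt (gen (A := A) a) ≫ v = CoactBr.pt (gen (A := A) a) ≫ u) :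
    CoactBr.pt (gen (A := A) b) ≫ v = CoactBr.pt (gen (A := A) b) ≫ u := by
  let e : Grp.mk (CoactBr.sp R A) ≅ Grp.mk (CoactBr.sp R A) := Iso.refl _
  have hgen_eq : ∀ (L : Ideal R) (w : CoactBr.sp R A ⟶ G), hgen e L ≫ w = CoactBr.pt (gen (A := A) L) ≫ w := by
    intro L w
    simp [hgen, e]
  have h' : hgen e a ≫ v = hgen e a ≫ u := by rw [hgen_eq, hgen_eq, h]
  rw [← hgen_eq, ← hgen_eq]
  have hKL : a * a ≤ b := (Ideal.mul_mono_left ha).trans hab
  obtain ⟨ψ, hψ⟩ := exists_factor_red (A := A) hba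
  have hxy : pmap (Ideal.Quotient.mkₐ R (KI a (AA A b))) (hgen e b ≫ v) =
      pmap (Ideal.Quotient.mkₐ R (KI a (AA A b))) (hgen e b ≫ u) := by
    rw [← hψ, ← pmap_pmap, ← pmap_pmap, pmap_red_hgen, pmap_red_hgen, h']
  obtain ⟨t, ht, ht2⟩ := exists_conj_step b hj hKL hba (isHom_hgen e b v) (isHom_hgen e b u) hxy
  rw [ht2, commute_of_infinitesimal (B := AA A b) hab ha (fun r hr => algebraMap_tensor_eq_zero b A hr)
    (pmap (cst b) t) (hgen e b ≫ u) ?_ ?_,
    mul_inv_cancel_right]
  · let c' : (R ⧸ a) →ₐ[R] AA A b ⧸ KI a (AA A b) :=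
      Ideal.Quotient.liftₐ _ (Algebra.ofId R _) fun r hr => by
        show algebraMap R (AA A b ⧸ KI a (AA A b)) r = 0
        rw [IsScalarTower.algebraMap_apply R (AA A b) (AA A b ⧸ KI a (AA A b))]
        exact Ideal.Quotient.eq_zero_iff_mem.2 (Ideal.mem_map_of_mem _ hr)
    rw [pmap_pmap, show (Ideal.Quotient.mkₐ R (KI a (AA A b))).comp (cst b) = c'.comp (Ideal.Quotient.factorₐ R hba)
      from Ideal.Quotient.algHom_ext _ (Subsingleton.elim _ _), ← pmap_pmap, ht, map_one]
  · intro C _ _ hC g f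
    rw [pmap_apply, ← Category.assoc]
    exact hc C hC g _

/-- The equaliser of two homomorphisms. -/
abbrev eqIncl {H : Over (Spec (CommRingCat.of R))} (u v : H ⟶ G) :=
  pullback.fst (pullback.lift u.left v.left ((Over.w u).trans (Over.w v).symm)) (pullback.diagonal G.hom)

omit [IsLocalRing R] [GrpObj G] in
theorem exists_fac_iff {H : Over (Spec (CommRingCat.of R))} (u v : H ⟶ G) {X : Scheme.{u}} (z : X ⟶ H.left) :
    (∃ l, l ≫ eqIncl u v = z) ↔ z ≫ u.left = z ≫ v.left := by
  constructor
  · rintro ⟨l, rfl⟩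
    have h := pullback.condition (f := pullback.lift u.left v.left ((Over.w u).trans (Over.w v).symm))
      (g := pullback.diagonal G.hom)
    have h1 := congrArg (· ≫ pullback.fst G.hom G.hom) h
    have h2 := congrArg (· ≫ pullback.snd G.hom G.hom) h
    simp only [Category.assoc, pullback.lift_fst, pullback.lift_snd, pullback.diagonal_fst, pullback.diagonal_snd,
      Category.comp_id] at h1 h2
    rw [Category.assoc, Category.assoc, h1, h2]
  · intro h
    refine ⟨pullback.lift z (z ≫ u.left) (pullback.hom_ext ?_ ?_), pullback.lift_fst _ _ _⟩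
    · simp only [Category.assoc, pullback.lift_fst, pullback.diagonal_fst, Category.comp_id]
    · simp only [Category.assoc, pullback.lift_snd, pullback.diagonal_snd, Category.comp_id, h]

omit [IsLocalRing R] [GrpObj G] in
/-- A closed subscheme of an affine scheme containing a jointly injective family is everything. -/
theorem isIso_of_family {P : Type u} [CommRing P] {E : Scheme.{u}} (i : E ⟶ Spec (CommRingCat.of P))
    [IsClosedImmersion i] {Idx : Type*} (Q : Idx → Type u) [∀ n, CommRing (Q n)] (π : ∀ n, P →+* Q n)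
    (hinj : ∀ z, (∀ n, π n z = 0) → z = 0) (h : ∀ n, ∃ l, l ≫ i = Spec.map (CommRingCat.ofHom (π n))) :
    IsIso i := by
  obtain ⟨I, φ, hφ⟩ := (IsClosedImmersion.Spec_iff (f := i)).1 inferInstance
  have hI : I = ⊥ := by
    refine eq_bot_iff.2 fun z hz => (Ideal.mem_bot).2 (hinj z fun n => ?_)
    obtain ⟨l, hl⟩ := h n
    have h2 : CommRingCat.ofHom (π n) = CommRingCat.ofHom (Ideal.Quotient.mk I) ≫ Spec.preimage (l ≫ φ.hom) :=
      Spec.map_injective (by rw [Spec.map_comp, Spec.map_preimage, Category.assoc, ← hφ, hl])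
    show (CommRingCat.ofHom (π n)).hom z = 0
    rw [h2, CommRingCat.hom_comp, RingHom.comp_apply]
    show (Spec.preimage (l ≫ φ.hom)).hom (Ideal.Quotient.mk I z) = 0
    rw [Ideal.Quotient.eq_zero_iff_mem.2 hz, map_zero]
  haveI : IsIso (CommRingCat.ofHom (Ideal.Quotient.mk I) : CommRingCat.of P ⟶ CommRingCat.of (P ⧸ I)) :=
    (ConcreteCategory.isIso_iff_bijective _).2
      ⟨(injective_iff_map_eq_zero _).2 fun z hz => by
        have h1 : z ∈ I := Ideal.Quotient.eq_zero_iff_mem.1 hz
        rwa [hI, Ideal.mem_bot] at h1, Ideal.Quotient.mk_surjective⟩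
  rw [hφ]
  infer_instance

/-- A finite-index quotient separating a finite set of group elements. -/
theorem exists_sep (M : Type) [CommGroup M] [Group.FG M] (F : Finset M) :
    ∃ n : ℕ, 0 < n ∧ Set.InjOn (QuotientGroup.mk' (powMonoidHom n : M →* M).range) F := by
  classical
  have h1 : ∀ x : M, x ≠ 1 → ∃ n : ℕ, 0 < n ∧ x ∉ (powMonoidHom n : M →* M).range := by
    intro x hx
    by_contra! h
    obtain ⟨l, hl⟩ := MultTypeLib.exists_pow_mul_eq_zero (T := ℤ) (1 : MonoidAlgebra ℤ M)
      (MonoidAlgebra.single x 1 - 1) fun n hn => ⟨0, by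
        have : QuotientGroup.mk' (powMonoidHom n : M →* M).range x = 1 := (QuotientGroup.eq_one_iff _).2 (h n hn)
        simp only [pow_zero, _root_.one_mul, map_sub, map_one, sub_eq_zero]
        simp only [MonoidAlgebra.mapDomainRingHom_apply, MonoidAlgebra.mapDomain_single, this, MonoidAlgebra.one_def]⟩
    rw [one_pow, _root_.one_mul, sub_eq_zero] at hl
    exact hx (MonoidAlgebra.single_left_injective one_ne_zero hl)
  choose! N hN hNx using h1
  let D := (F ×ˢ F).filter fun p => p.1 ≠ p.2
  refine ⟨∏ p ∈ D, N (p.1⁻¹ * p.2), Finset.prod_pos fun p hp => hN _ fun h =>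
    (Finset.mem_filter.1 hp).2 (inv_mul_eq_one.1 h), fun x hx y hy hxy => by_contra fun hne => ?_⟩
  have hmem := QuotientGroup.eq.1 hxy
  have hp : (x, y) ∈ D := Finset.mem_filter.2 ⟨Finset.mem_product.2 ⟨hx, hy⟩, hne⟩
  obtain ⟨z, hz⟩ := hmem
  refine hNx (x⁻¹ * y) (fun h => hne (inv_mul_eq_one.1 h))
    ⟨z ^ ∏ p ∈ D.erase (x, y), N (p.1⁻¹ * p.2), ?_⟩
  rw [powMonoidHom_apply, ← pow_mul, mul_comm, Finset.mul_prod_erase D (fun p => N (p.1⁻¹ * p.2)) hp]
  exact hz

variable (R) in
/-- Restriction to the torsion subgroup. -/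
def torPt (M : Type) [CommGroup M] (n : ℕ) :
    MonoidAlgebra R M →ₐc[R] MonoidAlgebra R (M ⧸ (powMonoidHom n : M →* M).range) :=
  MonoidAlgebra.mapDomainBialgHom R (QuotientGroup.mk' _)

theorem torPt_jointly_injective (K : Type u) [CommRing K] (M : Type) [CommGroup M] [Group.FG M] (z : MonoidAlgebra K M)
    (h : ∀ n : {n : ℕ // 0 < n}, torPt K M n z = 0) : z = 0 := by
  classical
  obtain ⟨n, hn, hinj⟩ := exists_sep M z.coeff.support
  have h1 := h ⟨n, hn⟩
  refine MonoidAlgebra.ext (Finsupp.ext fun m => ?_)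
  by_cases hm : m ∈ z.coeff.support
  · have h2 : (torPt K M n z).coeff (QuotientGroup.mk' _ m) = z.coeff m := by
      show (MonoidAlgebra.mapDomain _ z).coeff _ = _
      rw [MonoidAlgebra.coeff_mapDomain]
      exact Finsupp.mapDomain_apply' _ z.coeff (subset_refl _) hinj hm
    rw [← h2, h1]
    simp
  · simpa using hm

variable {M : Type} [CommGroup M] [Group.FG M]

set_option maxHeartbeats 1000000 in
/-- On a torsion subgroup equality holds as soon as it holds on the closed fibre. -/
theorem eq_on_torsion (u v : CoactBr.sp R (MonoidAlgebra R M) ⟶ G) [IsMonHom u] [IsMonHom v]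
    [LocallyOfFinitePresentation (eqIncl u v)] [IsImmersion (eqIncl u v)]
    (hc : ∀ (C : Type u) [CommRing C] [Algebra R C], (∀ r ∈ maximalIdeal R, algebraMap R C r = 0) →
      ∀ (g : Pts G C) (x : Pts (CoactBr.sp R (MonoidAlgebra R M)) C), g * (x ≫ u) = (x ≫ u) * g)
    (hs : ∀ (C : Type u) [CommRing C] [Algebra R C], (∀ r ∈ maximalIdeal R, algebraMap R C r = 0) →
      ∀ x : Pts (CoactBr.sp R (MonoidAlgebra R M)) C, x ≫ u = x ≫ v)
    (n : ℕ) (hn : 0 < n) :
    CoactBr.pt (torPt R M n : MonoidAlgebra R M →ₐ[R] MonoidAlgebra R (M ⧸ (powMonoidHom (n : ℕ) : M →* M).range)) ≫ u =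
      CoactBr.pt (torPt R M n : MonoidAlgebra R M →ₐ[R] MonoidAlgebra R (M ⧸ (powMonoidHom (n : ℕ) : M →* M).range)) ≫ v := by
  classical
  let Q := M ⧸ (powMonoidHom n : M →* M).range
  haveI : Finite Q := CommGroup.finite_of_fg_torsion _ fun g => by
    obtain ⟨g, rfl⟩ := QuotientGroup.mk_surjective g
    exact isOfFinOrder_iff_pow_eq_one.2 ⟨n, hn, (QuotientGroup.eq_one_iff _).2 ⟨g, rfl⟩⟩
  let P := MonoidAlgebra R Q
  haveI : Module.Finite R P := Module.Finite.equiv (MonoidAlgebra.coeffLinearEquiv R).symm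
  let inc : CoactBr.sp R P ⟶ CoactBr.sp R (MonoidAlgebra R M) := CoactBr.pt (torPt R M n : MonoidAlgebra R M →ₐ[R] P)
  haveI : IsMonHom inc := by
    have := MTRigid29.isMonHom_ofBialg (Iso.refl (Grp.mk (CoactBr.sp R P))) (Iso.refl (Grp.mk (CoactBr.sp R (MonoidAlgebra R M)))) (torPt R M n)
    simpa [MTRigid29.ofBialg] using this
  let e₀ : pullback (pullback.lift u.left v.left ((Over.w u).trans (Over.w v).symm)) (pullback.diagonal G.hom) ⟶
      Spec (CommRingCat.of (MonoidAlgebra R M)) := eqIncl u v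
  haveI : IsImmersion e₀ := ‹IsImmersion (eqIncl u v)›
  haveI : LocallyOfFinitePresentation e₀ := ‹LocallyOfFinitePresentation (eqIncl u v)›
  let incS : Spec (CommRingCat.of P) ⟶ Spec (CommRingCat.of (MonoidAlgebra R M)) :=
    Spec.map (CommRingCat.ofHom (torPt R M n : MonoidAlgebra R M →ₐ[R] P).toRingHom)
  let E := pullback incS e₀
  let i : E ⟶ Spec (CommRingCat.of P) := pullback.fst incS e₀
  haveI : IsImmersion i := MorphismProperty.pullback_fst (P := @IsImmersion) _ _ inferInstance
  haveI : LocallyOfFinitePresentation i := MorphismProperty.pullback_fst (P := @LocallyOfFinitePresentation) _ _ inferInstance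
  have hfac : ∀ {C : Type u} [CommRing C] [Algebra R C] (f : P →ₐ[R] C),
      (∃ l, l ≫ i = Spec.map (CommRingCat.ofHom f.toRingHom)) ↔ CoactBr.pt f ≫ inc ≫ u = CoactBr.pt f ≫ inc ≫ v := by
    intro C _ _ f
    constructor
    · rintro ⟨l, hl⟩
      have h := (exists_fac_iff u v (Spec.map (CommRingCat.ofHom f.toRingHom) ≫ incS)).1
        ⟨l ≫ pullback.snd incS e₀, (Category.assoc _ _ _).trans ((congrArg (l ≫ ·) pullback.condition.symm).trans
          ((Category.assoc _ _ _).symm.trans (congrArg (· ≫ incS) hl)))⟩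
      exact Over.OverMorphism.ext ((Category.assoc _ _ _).symm.trans (h.trans (Category.assoc _ _ _)))
    · intro h
      have h' := congrArg CommaMorphism.left h
      obtain ⟨l, hl⟩ := (exists_fac_iff u v (Spec.map (CommRingCat.ofHom f.toRingHom) ≫ incS)).2
        ((Category.assoc _ _ _).trans (h'.trans (Category.assoc _ _ _).symm))
      exact ⟨pullback.lift _ l hl.symm, pullback.lift_fst _ _ _⟩
  have hclosedfib : ∀ (C : Type u) [CommRing C] [Algebra R C], (∀ r ∈ maximalIdeal R, algebraMap R C r = 0) →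
      ∀ f : P →ₐ[R] C, ∃ l, l ≫ i = Spec.map (CommRingCat.ofHom f.toRingHom) := fun C _ _ hC f =>
    (hfac f).2 (by rw [← Category.assoc, ← Category.assoc, hs C hC])
  haveI : Algebra.IsIntegral R P := Algebra.IsIntegral.of_finite R P
  haveI : IsClosedImmersion i := by
    refine IsClosedImmersion.of_isPreimmersion i ?_
    have huniv : coborder (Set.range i) = Set.univ := by
      refine Set.eq_univ_of_forall fun z => ?_
      obtain ⟨zm, hzm, hsp⟩ : ∃ zm : PrimeSpectrum P, zm.asIdeal.IsMaximal ∧ (z : PrimeSpectrum P) ⤳ zm := by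
        obtain ⟨mm, hmm, hle⟩ := Ideal.exists_le_maximal _ (z : PrimeSpectrum P).isPrime.ne_top
        exact ⟨⟨mm, hmm.isPrime⟩, hmm, (PrimeSpectrum.le_iff_specializes _ _).1 hle⟩
      haveI := hzm
      refine hsp.mem_open i.isLocallyClosed_range.isOpen_coborder (subset_coborder ?_)
      obtain ⟨l, hl⟩ := hclosedfib (P ⧸ zm.asIdeal) (fun r hr => by
        rw [IsScalarTower.algebraMap_apply R P (P ⧸ zm.asIdeal)]
        refine Ideal.Quotient.eq_zero_iff_mem.2 ?_
        show r ∈ zm.asIdeal.comap (algebraMap R P)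
        rw [IsLocalRing.eq_maximalIdeal (Ideal.isMaximal_comap_of_isIntegral_of_isMaximal zm.asIdeal)]
        exact hr) (Ideal.Quotient.mkₐ R zm.asIdeal)
      letI := Ideal.Quotient.field zm.asIdeal
      refine ⟨l (IsLocalRing.closedPoint (P ⧸ zm.asIdeal)), ?_⟩
      rw [← Scheme.Hom.comp_apply, hl]
      refine PrimeSpectrum.ext ?_
      show Ideal.comap (Ideal.Quotient.mk zm.asIdeal) (IsLocalRing.maximalIdeal (P ⧸ zm.asIdeal)) = zm.asIdeal
      rw [IsLocalRing.maximalIdeal_eq_bot]
      exact Ideal.mk_ker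
    have h := isClosed_preimage_val_coborder (s := Set.range i)
    rw [huniv] at h
    simpa using isClosed_univ.isClosedMap_subtype_val _ h
  obtain ⟨I, φ, hφ⟩ := (IsClosedImmersion.Spec_iff (f := i)).1 inferInstance
  have hIfg : I.FG := by
    have h2 : LocallyOfFinitePresentation (Spec.map (CommRingCat.ofHom (Ideal.Quotient.mk I))) := by
      rw [show Spec.map (CommRingCat.ofHom (Ideal.Quotient.mk I)) = φ.inv ≫ i by rw [hφ, Iso.inv_hom_id_assoc]]
      infer_instance
    have h3 := (HasRingHomProperty.Spec_iff (P := @LocallyOfFinitePresentation)).1 h2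
    haveI : Algebra.FinitePresentation P (P ⧸ I) := h3
    simpa [Ideal.mk_ker] using Algebra.FinitePresentation.ker_fG_of_surjective
      (Ideal.Quotient.mkₐ P I) (Ideal.Quotient.mkₐ_surjective P I)
  have hI : ∀ {C : Type u} [CommRing C] [Algebra R C] (f : P →ₐ[R] C),
      CoactBr.pt f ≫ inc ≫ u = CoactBr.pt f ≫ inc ≫ v ↔ ∀ z ∈ I, f z = 0 := by
    intro C _ _ f
    rw [← hfac f]
    constructor
    · rintro ⟨l, hl⟩ z hz
      have h2 : CommRingCat.ofHom f.toRingHom = CommRingCat.ofHom (Ideal.Quotient.mk I) ≫ Spec.preimage (l ≫ φ.hom) :=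
        Spec.map_injective (by rw [Spec.map_comp, Spec.map_preimage, Category.assoc, ← hφ, hl])
      show (CommRingCat.ofHom f.toRingHom).hom z = 0
      rw [h2, CommRingCat.hom_comp, RingHom.comp_apply]
      show (Spec.preimage (l ≫ φ.hom)).hom (Ideal.Quotient.mk I z) = 0
      rw [Ideal.Quotient.eq_zero_iff_mem.2 hz, map_zero]
    · intro h
      refine ⟨Spec.map (CommRingCat.ofHom (Ideal.Quotient.lift I f.toRingHom h)) ≫ φ.inv, ?_⟩
      rw [hφ, Category.assoc, Iso.inv_hom_id_assoc, ← Spec.map_comp]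
      exact congrArg Spec.map (CommRingCat.hom_ext (RingHom.ext fun _ => rfl))
  obtain ⟨S, hS⟩ := hIfg
  let a : Ideal R := Ideal.span ↑(S.biUnion fun z => z.coeff.support.image z.coeff)
  have hgen : ∀ L : Ideal R, (∀ z ∈ I, gen (A := P) L z = 0) ↔ a ≤ L := by
    intro L
    have hcoef : ∀ z : P, gen (A := P) L z = 0 ↔ ∀ q, z.coeff q ∈ L := by
      intro z
      let θ : AA P L ≃ₐ[R ⧸ L] MonoidAlgebra (R ⧸ L) Q := MonoidAlgebra.scalarTensorEquiv R (R ⧸ L)
      have hθ : ∀ q, (θ (gen (A := P) L z)).coeff q = Ideal.Quotient.mk L (z.coeff q) := by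
        intro q
        induction z using MonoidAlgebra.induction_linear with
        | zero => simp
        | add x y hx hy => simp only [map_add, MonoidAlgebra.coeff_add, Finsupp.add_apply, hx, hy]
        | single m r =>
          have e1 : θ (gen (A := P) L (MonoidAlgebra.single m r)) =
              MonoidAlgebra.single m (Ideal.Quotient.mk L r) := by
            show MonoidAlgebra.scalarTensorEquiv R (R ⧸ L) ((1 : R ⧸ L) ⊗ₜ[R] MonoidAlgebra.single m r) = _
            refine (MonoidAlgebra.scalarTensorEquiv_tmul _ _).trans ?_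
            rw [one_smul]
            exact MonoidAlgebra.mapAlgHom_single _ _ _
          rw [e1, MonoidAlgebra.coeff_single, MonoidAlgebra.coeff_single, Finsupp.single_apply, Finsupp.single_apply]
          split_ifs
          · rfl
          · exact (map_zero _).symm
      constructor
      · intro h q
        have := hθ q
        rw [h, map_zero] at this
        exact Ideal.Quotient.eq_zero_iff_mem.1 this.symm
      · intro h
        refine θ.injective (MonoidAlgebra.ext (Finsupp.ext fun q => ?_))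
        rw [hθ q, Ideal.Quotient.eq_zero_iff_mem.2 (h q), map_zero]
        rfl
    constructor
    · intro h
      refine Ideal.span_le.2 fun r hr => ?_
      obtain ⟨z, hz, hr⟩ := Finset.mem_biUnion.1 (Finset.mem_coe.1 hr)
      obtain ⟨q, -, rfl⟩ := Finset.mem_image.1 hr
      exact (hcoef z).1 (h z (hS ▸ Submodule.subset_span hz)) q
    · intro h
      suffices I ≤ RingHom.ker (gen (A := P) L) from fun z hz => this hz
      rw [← hS]
      refine Submodule.span_le.2 fun z hz => (hcoef z).2 fun q => ?_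
      by_cases hq : q ∈ z.coeff.support
      · exact h (Ideal.subset_span (Finset.mem_coe.2 (Finset.mem_biUnion.2 ⟨z, hz, Finset.mem_image.2 ⟨q, hq, rfl⟩⟩)))
      · rw [Finsupp.notMem_support_iff.1 hq]; exact L.zero_mem
  have ha : a ≤ maximalIdeal R := (hgen _).1 ((hI _).1 (by
    rw [← Category.assoc, ← Category.assoc]
    exact hs _ (fun r hr => algebraMap_tensor_eq_zero (maximalIdeal R) P hr) _))
  have hstep := hgen_eq_of_step (MultTypeLib.isInt_coeffOne R Q) (Ideal.mul_le_right : maximalIdeal R * a ≤ a) le_rfl ha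
    (inc ≫ u) (inc ≫ v) (fun C _ _ hC g x => by rw [← Category.assoc]; exact hc C hC g _)
    ((hI _).2 ((hgen a).2 le_rfl)).symm
  have h2 : a ≤ maximalIdeal R * a := (hgen _).1 ((hI _).1 hstep.symm)
  have h3 : a = ⊥ := Submodule.eq_bot_of_le_smul_of_le_jacobson_bot (maximalIdeal R) a ⟨_, rfl⟩
    (by rw [smul_eq_mul]; exact h2) (IsLocalRing.maximalIdeal_le_jacobson _)
  have h4 := (hI (AlgHom.id R P)).2 (fun z hz => by
    have h5 := (hgen ⊥).2 h3.le z hz
    obtain ⟨σ, l, hl, -⟩ := exists_collapse (A := P) (L := (⊥ : Ideal R)) rfl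
    have h6 := congrArg l h5
    rw [map_zero] at h6
    rwa [← AlgHom.comp_apply, hl] at h6)
  rwa [CoactBr.pt_id, Category.id_comp, Category.id_comp] at h4

set_option maxHeartbeats 1000000 in
/-- Two homomorphisms out of `D(M)` over a local ring, equal on the closed fibre where the first is central, are equal. -/
theorem eq_of_closed_fibre (u v : CoactBr.sp R (MonoidAlgebra R M) ⟶ G) [IsMonHom u] [IsMonHom v]
    [LocallyOfFinitePresentation (eqIncl u v)] [IsImmersion (eqIncl u v)]
    (hc : ∀ (C : Type u) [CommRing C] [Algebra R C], (∀ r ∈ maximalIdeal R, algebraMap R C r = 0) →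
      ∀ (g : Pts G C) (x : Pts (CoactBr.sp R (MonoidAlgebra R M)) C), g * (x ≫ u) = (x ≫ u) * g)
    (hs : ∀ (C : Type u) [CommRing C] [Algebra R C], (∀ r ∈ maximalIdeal R, algebraMap R C r = 0) →
      ∀ x : Pts (CoactBr.sp R (MonoidAlgebra R M)) C, x ≫ u = x ≫ v) : u = v := by
  have htor := fun n hn => eq_on_torsion u v hc hs n hn
  let e : pullback (pullback.lift u.left v.left ((Over.w u).trans (Over.w v).symm)) (pullback.diagonal G.hom) ⟶
      Spec (CommRingCat.of (MonoidAlgebra R M)) := eqIncl u v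
  have hfacn : ∀ n : {n : ℕ // 0 < n}, ∃ l, l ≫ e = Spec.map (CommRingCat.ofHom (torPt R M n : MonoidAlgebra R M →ₐ[R] MonoidAlgebra R (M ⧸ (powMonoidHom (n : ℕ) : M →* M).range)).toRingHom) :=
    fun n => (exists_fac_iff u v _).2 (congrArg CommaMorphism.left (htor n.1 n.2))
  -- every point lies on the equaliser
  have hpts : ∀ (z : Spec (CommRingCat.of (MonoidAlgebra R M))), z ∈ Set.range e := by
    intro z
    let Kz := (z : PrimeSpectrum (MonoidAlgebra R M)).asIdeal.ResidueField
    let p : Ideal R := (z : PrimeSpectrum (MonoidAlgebra R M)).asIdeal.comap (algebraMap R (MonoidAlgebra R M))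
    let K := p.ResidueField
    let AK := MonoidAlgebra K M
    let g : MonoidAlgebra R M →ₐ[R] AK := MonoidAlgebra.mapAlgHom M (Algebra.ofId R K)
    let s : Spec (CommRingCat.of K) ⟶ Spec (CommRingCat.of R) := Spec.map (CommRingCat.ofHom (algebraMap R K))
    haveI : IsSeparated (Red.bc s G).hom := AbRigid.isSeparated_of_grpObj (Red.bc s G)
    haveI : IsSeparated (pullback.snd G.hom s) := ‹IsSeparated (Red.bc s G).hom›
    let tK : Spec (CommRingCat.of AK) ⟶ Spec (CommRingCat.of K) := Spec.map (CommRingCat.ofHom (algebraMap K AK))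
    let gs : Spec (CommRingCat.of AK) ⟶ Spec (CommRingCat.of (MonoidAlgebra R M)) := Spec.map (CommRingCat.ofHom g.toRingHom)
    have hw : ∀ w : CoactBr.sp R (MonoidAlgebra R M) ⟶ G, (gs ≫ w.left) ≫ G.hom = tK ≫ s := fun w => by
      refine (Category.assoc _ _ _).trans ((congrArg (gs ≫ ·) (Over.w w)).trans ?_)
      show gs ≫ Spec.map (CommRingCat.ofHom (algebraMap R (MonoidAlgebra R M))) = _
      rw [← Spec.map_comp, ← Spec.map_comp, ← CommRingCat.ofHom_comp, ← CommRingCat.ofHom_comp]
      congr 2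
      exact g.comp_algebraMap.trans (IsScalarTower.algebraMap_eq R K AK)
    let α := pullback.lift (gs ≫ u.left) tK (hw u)
    let β := pullback.lift (gs ≫ v.left) tK (hw v)
    let d := pullback.diagonal (pullback.snd G.hom s)
    let i := pullback.fst (pullback.lift α β ((pullback.lift_snd _ _ _).trans (pullback.lift_snd _ _ _).symm)) d
    haveI : IsClosedImmersion i := MorphismProperty.pullback_fst _ _
      (inferInstanceAs (IsClosedImmersion (pullback.diagonal (pullback.snd G.hom s))))
    haveI : IsIso i := by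
      refine isIso_of_family i (fun n : {n : ℕ // 0 < n} => MonoidAlgebra K (M ⧸ (powMonoidHom n.1 : M →* M).range))
        (fun n => (torPt K M n : AK →ₐ[K] MonoidAlgebra K (M ⧸ (powMonoidHom (n : ℕ) : M →* M).range)).toRingHom) (torPt_jointly_injective K M) fun n => ?_
      let π := Spec.map (CommRingCat.ofHom (torPt K M n : AK →ₐ[K] MonoidAlgebra K (M ⧸ (powMonoidHom (n : ℕ) : M →* M).range)).toRingHom)
      have hnat : (torPt K M n : AK →ₐ[K] MonoidAlgebra K (M ⧸ (powMonoidHom (n : ℕ) : M →* M).range)).toRingHom.comp g.toRingHom =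
          (MonoidAlgebra.mapAlgHom _ (Algebra.ofId R K)).toRingHom.comp (torPt R M n : MonoidAlgebra R M →ₐ[R] MonoidAlgebra R (M ⧸ (powMonoidHom (n : ℕ) : M →* M).range)).toRingHom := by
        refine RingHom.ext fun y => ?_
        induction y using MonoidAlgebra.induction_linear with
        | zero => simp
        | add x y hx hy => simp only [map_add, hx, hy]
        | single m r =>
          simp [g, torPt, MonoidAlgebra.mapAlgHom_single]
          rw [MonoidAlgebra.mapAlgHom_single]
          exact MonoidAlgebra.mapDomain_single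
      have heq : π ≫ α = π ≫ β := by
        refine pullback.hom_ext ?_ ?_
        · simp only [π, α, β, gs, Category.assoc, pullback.lift_fst]
          rw [← Category.assoc, ← Category.assoc, ← Spec.map_comp, ← CommRingCat.ofHom_comp, hnat,
            CommRingCat.ofHom_comp, Spec.map_comp, Category.assoc, Category.assoc]
          exact congrArg (Spec.map _ ≫ ·) (congrArg CommaMorphism.left (htor n.1 n.2))
        · simp only [π, α, β, Category.assoc, pullback.lift_snd]
      exact ⟨pullback.lift π (π ≫ α) (pullback.hom_ext (by simp only [d, Category.assoc, pullback.lift_fst, pullback.diagonal_fst, Category.comp_id]) (by simp only [d, Category.assoc, pullback.lift_snd, pullback.diagonal_snd, Category.comp_id, heq])), pullback.lift_fst _ _ _⟩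
    have hαβ : α = β := by
      rw [← cancel_epi i]
      have h := pullback.condition (f := pullback.lift α β ((pullback.lift_snd _ _ _).trans (pullback.lift_snd _ _ _).symm)) (g := d)
      have h1 := congrArg (· ≫ pullback.fst _ _) h
      have h2 := congrArg (· ≫ pullback.snd _ _) h
      simp only [d, Category.assoc, pullback.lift_fst, pullback.lift_snd, pullback.diagonal_fst, pullback.diagonal_snd,
        Category.comp_id] at h1 h2
      exact h1.trans h2.symm
    have hgs : gs ≫ u.left = gs ≫ v.left := by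
      exact ((pullback.lift_fst _ _ _).symm.trans (congrArg (· ≫ pullback.fst G.hom s) hαβ)).trans (pullback.lift_fst _ _ _)
    obtain ⟨l, hl⟩ := (exists_fac_iff u v gs).2 hgs
    -- `z` comes from `Spec K[M]`
    letI : Algebra K Kz := (Ideal.ResidueField.map p (z : PrimeSpectrum (MonoidAlgebra R M)).asIdeal
      (algebraMap R (MonoidAlgebra R M)) rfl).toAlgebra
    haveI : IsScalarTower R K Kz := IsScalarTower.of_algebraMap_eq fun r => by
      rw [RingHom.algebraMap_toAlgebra]
      exact (Ideal.ResidueField.map_algebraMap _ _ _ _ _).symm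
    let f : AK →ₐ[K] Kz := MonoidAlgebra.lift K Kz M
      ((algebraMap (MonoidAlgebra R M) Kz : _ →* _).comp (MonoidAlgebra.of R M))
    have hf : (f.restrictScalars R).comp g = IsScalarTower.toAlgHom R (MonoidAlgebra R M) Kz := by
      refine (MonoidAlgebra.lift R Kz M).symm.injective (MonoidHom.ext fun m => ?_)
      show f (g (MonoidAlgebra.single m 1)) = algebraMap (MonoidAlgebra R M) Kz (MonoidAlgebra.single m 1)
      rw [MonoidAlgebra.mapAlgHom_single, map_one, MonoidAlgebra.lift_single, one_smul]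
      rfl
    refine ⟨l (PrimeSpectrum.comap f.toRingHom (IsLocalRing.closedPoint Kz)), ?_⟩
    refine (congrArg (fun k : Spec (CommRingCat.of AK) ⟶ Spec (CommRingCat.of (MonoidAlgebra R M)) =>
      k (PrimeSpectrum.comap f.toRingHom (IsLocalRing.closedPoint Kz))) hl).trans ?_
    refine PrimeSpectrum.ext ?_
    show Ideal.comap g.toRingHom (Ideal.comap f.toRingHom (IsLocalRing.maximalIdeal Kz)) = _
    rw [IsLocalRing.maximalIdeal_eq_bot, Ideal.comap_comap, show f.toRingHom.comp g.toRingHom =
      algebraMap (MonoidAlgebra R M) Kz from congrArg AlgHom.toRingHom hf]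
    exact Ideal.ker_algebraMap_residueField _
  haveI : IsImmersion e := ‹IsImmersion (eqIncl u v)›
  haveI : IsClosedImmersion e := by
    refine IsClosedImmersion.of_isPreimmersion e ?_
    rw [Set.eq_univ_of_forall hpts]
    exact isClosed_univ
  haveI : IsIso e := isIso_of_family e _ (fun n : {n : ℕ // 0 < n} => (torPt R M n : MonoidAlgebra R M →ₐ[R] MonoidAlgebra R (M ⧸ (powMonoidHom (n : ℕ) : M →* M).range)).toRingHom)
    (torPt_jointly_injective R M) hfacn
  have hid : (𝟙 (Spec (CommRingCat.of (MonoidAlgebra R M)))) ≫ u.left = 𝟙 (Spec (CommRingCat.of (MonoidAlgebra R M))) ≫ v.left :=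
    (exists_fac_iff u v (𝟙 (Spec (CommRingCat.of (MonoidAlgebra R M))))).1 ⟨inv e, IsIso.inv_hom_id e⟩
  exact Over.OverMorphism.ext ((Category.id_comp _).symm.trans (hid.trans (Category.id_comp _)))

end Groth.Agent.MTRigid29.FibreEqual
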