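import Groth.Agent.Lib.MTRigid29.FibreEqual
import Groth.Agent.Lib.MTRigid29.SubgrpEqvGlobal
import Groth.Agent.Lib.MTRigid29.MapChS
import Groth.Agent.Lib.MTRigid29.MonoClosedGlobal
import Groth.Agent.Lib.MTRigid29.MonoNhd
import Groth.Agent.Lib.NagataCurve13.Basic

/-!
# Subgroups of multiplicative type equal on a fibre where the first is central are equal nearby
-/

set_option autoImplicit false
set_option linter.style.haveILetI false
set_option backward.isDefEq.respectTransparency.types false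
set_option maxSynthPendingDepth 3

universe u

open CategoryTheory Limits MonoidalCategory CartesianMonoidalCategory MonObj AlgebraicGeometry Opposite
open IsLocalRing

noncomputable section

namespace Groth.Agent.MTRigid29.FibreEqual

open DiagGL

variable {S : Scheme.{u}} {G H₁ H₂ : Over S} [GrpObj G] [GrpObj H₁] [GrpObj H₂] (i₁ : H₁ ⟶ G) (i₂ : H₂ ⟶ G)

omit [GrpObj G] in
/-- The equaliser of two homomorphisms pushed from the subgroups is of finite presentation. -/
theorem lfp_eqIncl {R : Type u} [CommRing R] (g : Spec (CommRingCat.of R) ⟶ S) {H : Over (Spec (CommRingCat.of R))}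
    (w w' : H ⟶ Red.bc g G) (a : (Over.map g).obj H ⟶ H₁) (b : (Over.map g).obj H ⟶ H₂)
    (hw : fl g G w = a ≫ i₁) (hw' : fl g G w' = b ≫ i₂)
    (hfin : (IsLocallyNoetherian S ∧ LocallyOfFiniteType H₁.hom ∧ LocallyOfFiniteType H₂.hom) ∨
      LocallyOfFiniteType G.hom) : LocallyOfFinitePresentation (eqIncl w w') := by
  rcases hfin with ⟨h0, h1, h2⟩ | h
  · haveI := h0; haveI := h1; haveI := h2
    let j : pullback H₁.hom H₂.hom ⟶ pullback G.hom G.hom :=
      pullback.lift (pullback.fst _ _ ≫ i₁.left) (pullback.snd _ _ ≫ i₂.left) (by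
        rw [Category.assoc, Category.assoc, Over.w, Over.w, pullback.condition])
    let d₀ := pullback.fst j (pullback.diagonal G.hom)
    haveI : IsImmersion d₀ := MorphismProperty.pullback_fst (P := @IsImmersion) _ _ inferInstance
    haveI : IsLocallyNoetherian (pullback H₁.hom H₂.hom) :=
      LocallyOfFiniteType.isLocallyNoetherian (pullback.fst H₁.hom H₂.hom ≫ H₁.hom)
    haveI : LocallyOfFinitePresentation d₀ := NagataCurve13.lfp_of_noetherian d₀
    let xy : H.left ⟶ pullback H₁.hom H₂.hom := pullback.lift a.left b.left ((Over.w a).trans (Over.w b).symm)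
    let q := pullback.fst xy d₀
    haveI : LocallyOfFinitePresentation q :=
      MorphismProperty.pullback_fst (P := @LocallyOfFinitePresentation) _ _ inferInstance
    haveI : IsImmersion q := MorphismProperty.pullback_fst (P := @IsImmersion) _ _ inferInstance
    let e := eqIncl w w'
    haveI : IsImmersion e := MorphismProperty.pullback_fst (P := @IsImmersion) _ _ inferInstance
    have key : ∀ z : H ⟶ Red.bc g G, (fl g G z).left = z.left ≫ pullback.fst G.hom g := fun z => by
      simp [fl, Over.mapPullbackAdj]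
    have hweq : ∀ {X : Scheme.{u}} (z : X ⟶ H.left), z ≫ w.left = z ≫ w'.left ↔
        z ≫ a.left ≫ i₁.left = z ≫ b.left ≫ i₂.left := by
      intro X z
      have e1 : w.left ≫ pullback.fst G.hom g = a.left ≫ i₁.left := (key w).symm.trans (congrArg CommaMorphism.left hw)
      have e2 : w'.left ≫ pullback.fst G.hom g = b.left ≫ i₂.left := (key w').symm.trans (congrArg CommaMorphism.left hw')
      constructor
      · intro hz
        rw [← e1, ← e2, ← Category.assoc, hz, Category.assoc]
      · intro hz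
        refine pullback.hom_ext ?_ ?_
        · exact (Category.assoc _ _ _).trans ((congrArg (z ≫ ·) e1).trans (hz.trans
            ((congrArg (z ≫ ·) e2.symm).trans (Category.assoc _ _ _).symm)))
        · exact (Category.assoc _ _ _).trans ((congrArg (z ≫ ·) ((Over.w w).trans (Over.w w').symm)).trans
            (Category.assoc _ _ _).symm)
    have hq : ∀ {X : Scheme.{u}} (z : X ⟶ H.left), (∃ l, l ≫ q = z) ↔ z ≫ a.left ≫ i₁.left = z ≫ b.left ≫ i₂.left := by
      intro X z
      have hj1 : xy ≫ j ≫ pullback.fst _ _ = a.left ≫ i₁.left :=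
        (congrArg (xy ≫ ·) (pullback.lift_fst _ _ _)).trans
          ((Category.assoc _ _ _).symm.trans (congrArg (· ≫ i₁.left) (pullback.lift_fst _ _ _)))
      have hj2 : xy ≫ j ≫ pullback.snd _ _ = b.left ≫ i₂.left :=
        (congrArg (xy ≫ ·) (pullback.lift_snd _ _ _)).trans
          ((Category.assoc _ _ _).symm.trans (congrArg (· ≫ i₂.left) (pullback.lift_snd _ _ _)))
      constructor
      · rintro ⟨l, rfl⟩
        have hd : d₀ ≫ j ≫ pullback.fst G.hom G.hom = d₀ ≫ j ≫ pullback.snd G.hom G.hom := by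
          simp only [d₀, pullback.condition_assoc, pullback.diagonal_fst, pullback.diagonal_snd]
        rw [← hj1, ← hj2]
        simp only [q, Category.assoc, pullback.condition_assoc]
        rw [hd]
      · intro hz
        let l₀ : X ⟶ pullback j (pullback.diagonal G.hom) :=
          pullback.lift (z ≫ xy) (z ≫ a.left ≫ i₁.left) (pullback.hom_ext
            (by simp only [Category.assoc, pullback.diagonal_fst, Category.comp_id, hj1])
            (by simp only [Category.assoc, pullback.diagonal_snd, Category.comp_id, hj2]; exact hz.symm))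
        exact ⟨pullback.lift z l₀ (pullback.lift_fst _ _ _).symm, pullback.lift_fst _ _ _⟩
    obtain ⟨l, hl⟩ := (hq e).2 ((hweq e).1 ((exists_fac_iff w w' e).1 ⟨𝟙 _, Category.id_comp _⟩))
    obtain ⟨l', hl'⟩ := (exists_fac_iff w w' q).2 ((hweq q).2 ((hq q).1 ⟨𝟙 _, Category.id_comp _⟩))
    haveI : IsIso l := ⟨l', by rw [← cancel_mono e, Category.assoc, hl', hl, Category.id_comp],
      by rw [← cancel_mono q, Category.assoc, hl, hl', Category.id_comp]⟩
    show LocallyOfFinitePresentation e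
    rw [← hl]
    infer_instance
  · haveI := h
    haveI : LocallyOfFiniteType (Red.bc g G).hom :=
      MorphismProperty.pullback_snd (P := @LocallyOfFiniteType) G.hom g inferInstance
    haveI : LocallyOfFinitePresentation (pullback.diagonal (Red.bc g G).hom) := by
      haveI : LocallyOfFinitePresentation (pullback.diagonal (Red.bc g G).hom ≫
          pullback.fst (Red.bc g G).hom (Red.bc g G).hom) := by
        rw [pullback.diagonal_fst]; infer_instance
      exact SchBasic.locallyOfFinitePresentation_of_comp _ (pullback.fst (Red.bc g G).hom (Red.bc g G).hom)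
    exact MorphismProperty.pullback_fst (P := @LocallyOfFinitePresentation) _ _ inferInstance

section Local

variable {R : Type u} [CommRing R] [IsLocalRing R] {G H₁ H₂ : Over (Spec (CommRingCat.of R))}
  [GrpObj G] [GrpObj H₁] [GrpObj H₂] (i₁ : H₁ ⟶ G) (i₂ : H₂ ⟶ G) [IsMonHom i₁] [IsMonHom i₂] [Mono i₁] [Mono i₂]
  {M₁ M₂ : Type} [AddCommGroup M₁] [AddCommGroup M₂] [AddGroup.FG M₁]

/-- Two split subgroups over a local ring, coinciding on the closed fibre where the first is central, coincide. -/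
theorem eqv_of_local (C₁ : Chars M₁ H₁) (C₂ : Chars M₂ H₂)
    (hlfp : ∀ {H : Over (Spec (CommRingCat.of R))} (a : H ⟶ H₁) (b : H ⟶ H₂),
      LocallyOfFinitePresentation (eqIncl (a ≫ i₁) (b ≫ i₂)))
    (hk : Eqv i₁ i₂ (Spec.map (CommRingCat.ofHom (algebraMap R (ResidueField R)))))
    (hc : ∀ (C : Type u) [CommRing C] [Algebra R C], (∀ r ∈ maximalIdeal R, algebraMap R C r = 0) →
      ∀ (g : Pts G C) (x : Pts H₁ C), g * (x ≫ i₁) = (x ≫ i₁) * g) :
    Eqv i₁ i₂ (𝟙 _) := by
  obtain ⟨φ, hφ⟩ := exists_equiv_of_eqv C₁ C₂ i₁ i₂ (K := ResidueField R) hk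
  obtain ⟨e⟩ := nonempty_grpIso_of_chars (charsDiag R M₁) C₁
  haveI : Group.FG (Multiplicative M₁) := AddGroup.fg_iff_mul_fg.1 inferInstance
  let P := MonoidAlgebra R (Multiplicative M₁)
  let je : CoactBr.sp R P ⟶ H₁ := e.hom.hom.hom
  haveI : IsMonHom je := e.hom.hom.isMonHom_hom
  haveI : IsIso je := (inferInstance : IsIso ((Grp.forget _).map e.hom))
  let b := je ≫ mapChar C₁ C₂ φ.toAddMonoidHom
  haveI := hlfp je b
  haveI : IsImmersion (eqIncl (je ≫ i₁) (b ≫ i₂)) :=
    MorphismProperty.pullback_fst (P := @IsImmersion) _ _ inferInstance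
  have heq : je ≫ i₁ = b ≫ i₂ := by
    refine eq_of_closed_fibre (je ≫ i₁) (b ≫ i₂) ?_ ?_
    · intro C _ _ hC g x
      rw [← Category.assoc]
      exact hc C hC g _
    · intro C _ _ hC x
      letI : Algebra (ResidueField R) C := (Ideal.Quotient.lift _ (algebraMap R C) hC).toAlgebra
      haveI : IsScalarTower R (ResidueField R) C := IsScalarTower.of_algebraMap_eq fun r =>
        (Ideal.Quotient.lift_mk _ _ _).symm
      have h := (diffHom_trivial_iff C₁ C₂ i₁ i₂ φ.toAddMonoidHom (x ≫ je)).1 (hφ C (x ≫ je))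
      simpa [b] using h
  have h1 : mapChar C₁ C₂ φ.toAddMonoidHom ≫ i₂ = i₁ :=
    ((cancel_epi je).1 (by simpa [b] using heq)).symm
  have h2 : mapChar C₂ C₁ φ.symm.toAddMonoidHom ≫ i₁ = i₂ := by
    rw [← h1, ← Category.assoc, mapChar_comp C₁ C₂ _ _ fun m => φ.symm_apply_apply m, Category.id_comp]
  exact ⟨fun X t x _ => ⟨x ≫ (mapChar C₁ C₂ φ.toAddMonoidHom).left,
      (Category.assoc _ _ _).trans (congrArg (x ≫ ·) (congrArg CommaMorphism.left h1))⟩,
    fun X t x _ => ⟨x ≫ (mapChar C₂ C₁ φ.symm.toAddMonoidHom).left,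
      (Category.assoc _ _ _).trans (congrArg (x ≫ ·) (congrArg CommaMorphism.left h2))⟩⟩

end Local

section Spread

omit [GrpObj G] [GrpObj H₁] [GrpObj H₂] in
set_option maxHeartbeats 1000000 in
/-- Factorisation over the local ring at a point spreads to a neighbourhood. -/
theorem exists_nhd_fac [IsAffineHom H₁.hom] [Mono i₂.left]
    [LocallyOfFinitePresentation (pullback.fst i₁.left i₂.left)] [IsImmersion (pullback.fst i₁.left i₂.left)]
    {R : Type u} [CommRing R] (g : Spec (CommRingCat.of R) ⟶ S) (p : Ideal R) [p.IsPrime]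
    (h : Fac i₁ i₂ (Spec.map (CommRingCat.ofHom (algebraMap R (Localization.AtPrime p))) ≫ g)) :
    ∃ r : R, r ∉ p ∧ Fac i₁ i₂ (Spec.map (CommRingCat.ofHom (algebraMap R (Localization.Away r))) ≫ g) := by
  classical
  let X := pullback H₁.hom g
  haveI : IsAffineHom (pullback.snd H₁.hom g) := MorphismProperty.pullback_snd (P := @IsAffineHom) _ _ inferInstance
  haveI : IsAffine X := isAffine_of_isAffineHom (pullback.snd H₁.hom g)
  let A := Γ(X, ⊤)
  let st : CommRingCat.of R ⟶ A := Spec.preimage (X.isoSpec.inv ≫ pullback.snd H₁.hom g)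
  letI : Algebra R A := st.hom.toAlgebra
  let α : Spec A ⟶ H₁.left := X.isoSpec.inv ≫ pullback.fst H₁.hom g
  have hα : α ≫ H₁.hom = Spec.map (CommRingCat.ofHom (algebraMap R A)) ≫ g := by
    rw [show CommRingCat.ofHom (algebraMap R A) = st from rfl, Spec.map_preimage]
    simp only [α, Category.assoc, pullback.condition]
  let p₁ := pullback.fst i₁.left i₂.left
  let e := pullback.fst α p₁
  haveI : IsImmersion e := MorphismProperty.pullback_fst (P := @IsImmersion) _ _ inferInstance
  haveI : LocallyOfFinitePresentation e :=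
    MorphismProperty.pullback_fst (P := @LocallyOfFinitePresentation) _ _ inferInstance
  let Ap := Localization (Algebra.algebraMapSubmonoid A p.primeCompl)
  let πp : Spec (CommRingCat.of Ap) ⟶ Spec A := Spec.map (CommRingCat.ofHom (algebraMap A Ap))
  have hu : ∀ y : p.primeCompl, IsUnit ((algebraMap A Ap).comp (algebraMap R A) y) := fun y =>
    IsLocalization.map_units Ap (⟨algebraMap R A y, y, y.2, rfl⟩ : Algebra.algebraMapSubmonoid A p.primeCompl)
  let χ : Localization.AtPrime p →+* Ap := IsLocalization.lift hu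
  obtain ⟨lp, hlp⟩ : ∃ lp, lp ≫ e = πp := by
    obtain ⟨l, hl⟩ := h _ (Spec.map (CommRingCat.ofHom χ)) (πp ≫ α) (by
      rw [Category.assoc, hα, ← Category.assoc, ← Category.assoc, ← Spec.map_comp, ← Spec.map_comp,
        ← CommRingCat.ofHom_comp, ← CommRingCat.ofHom_comp, IsLocalization.lift_comp])
    exact ⟨pullback.lift πp (pullback.lift (πp ≫ α) l hl.symm) (pullback.lift_fst _ _ _).symm, pullback.lift_fst _ _ _⟩
  -- the range is closed over a basic open
  let Z := (coborder (Set.range e))ᶜ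
  have hZc : IsClosed Z := e.isLocallyClosed_range.isOpen_coborder.isClosed_compl
  obtain ⟨J, hJ⟩ := (PrimeSpectrum.isClosed_iff_zeroLocus_ideal (R := A) Z).1 hZc
  obtain ⟨r, hrp, hrJ⟩ : ∃ r : R, r ∉ p ∧ algebraMap R A r ∈ J := by
    by_contra! hall
    have hdisj : Disjoint (Algebra.algebraMapSubmonoid A p.primeCompl : Set A) (J : Set A) :=
      Set.disjoint_left.2 fun a ha haJ => by
        obtain ⟨r, hr, rfl⟩ := ha
        exact hall r hr haJ
    obtain ⟨Q, hQ, hJQ, hQd⟩ := Ideal.exists_le_prime_disjoint J _ hdisj.symm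
    obtain ⟨Q', hQ'⟩ : (⟨Q, hQ⟩ : PrimeSpectrum A) ∈ Set.range (PrimeSpectrum.comap (algebraMap A Ap)) := by
      rw [PrimeSpectrum.localization_comap_range Ap (Algebra.algebraMapSubmonoid A p.primeCompl)]
      exact hQd.symm
    have h1 : (⟨Q, hQ⟩ : PrimeSpectrum A) ∈ Z := hJ ▸ hJQ
    refine h1 (subset_coborder ⟨lp Q', ?_⟩)
    exact (congrArg (fun k : Spec (CommRingCat.of Ap) ⟶ Spec A => k Q') hlp).trans hQ'
  let Ar := Localization.Away (algebraMap R A r)
  let πr : Spec (CommRingCat.of Ar) ⟶ Spec A := Spec.map (CommRingCat.ofHom (algebraMap A Ar))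
  let er := pullback.fst πr e
  haveI : LocallyOfFinitePresentation er :=
    MorphismProperty.pullback_fst (P := @LocallyOfFinitePresentation) _ _ inferInstance
  haveI : IsImmersion er := MorphismProperty.pullback_fst (P := @IsImmersion) _ _ inferInstance
  haveI : IsClosedImmersion er := by
    refine IsClosedImmersion.of_isPreimmersion er ?_
    have hUr : Set.range πr ⊆ coborder (Set.range e) := by
      rintro _ ⟨z, rfl⟩
      by_contra hz
      have h1 : πr z ∈ PrimeSpectrum.zeroLocus (J : Set A) := hJ ▸ hz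
      have h2 : (πr z : PrimeSpectrum A) ∈ Set.range (PrimeSpectrum.comap (algebraMap A Ar)) := ⟨z, rfl⟩
      rw [PrimeSpectrum.localization_away_comap_range Ar (algebraMap R A r)] at h2
      exact h2 (h1 hrJ)
    have hr : Set.range er = πr ⁻¹' closure (Set.range e) := by
      rw [Scheme.Pullback.range_fst]
      refine Set.Subset.antisymm (Set.preimage_mono subset_closure) fun z hz => ?_
      show πr z ∈ Set.range e
      rw [← closure_inter_coborder (s := Set.range e) ]
      exact ⟨hz, hUr ⟨z, rfl⟩⟩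
    rw [hr]
    exact isClosed_closure.preimage πr.continuous
  obtain ⟨I, φ, hφ⟩ := (IsClosedImmersion.Spec_iff (f := er)).1 inferInstance
  have hIfg : I.FG := by
    have h2 : LocallyOfFinitePresentation (Spec.map (CommRingCat.ofHom (Ideal.Quotient.mk I))) := by
      rw [show Spec.map (CommRingCat.ofHom (Ideal.Quotient.mk I)) = φ.inv ≫ er by rw [hφ, Iso.inv_hom_id_assoc]]
      infer_instance
    have h3 := (HasRingHomProperty.Spec_iff (P := @LocallyOfFinitePresentation)).1 h2
    haveI : Algebra.FinitePresentation Ar (Ar ⧸ I) := h3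
    simpa [Ideal.mk_ker] using Algebra.FinitePresentation.ker_fG_of_surjective
      (Ideal.Quotient.mkₐ Ar I) (Ideal.Quotient.mkₐ_surjective Ar I)
  let ρ : Ar →+* Ap := IsLocalization.Away.lift (algebraMap R A r) (g := algebraMap A Ap) (hu ⟨r, hrp⟩)
  have hI0 : ∀ z ∈ I, ρ z = 0 := fun z hz => by
    let l : Spec (CommRingCat.of Ap) ⟶ pullback πr e := pullback.lift (Spec.map (CommRingCat.ofHom ρ)) lp (by
      rw [hlp, ← Spec.map_comp, ← CommRingCat.ofHom_comp, IsLocalization.Away.lift_comp])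
    have h2 : CommRingCat.ofHom ρ = CommRingCat.ofHom (Ideal.Quotient.mk I) ≫ Spec.preimage (l ≫ φ.hom) :=
      Spec.map_injective (by rw [Spec.map_comp, Spec.map_preimage, Category.assoc, ← hφ]; exact (pullback.lift_fst _ _ _).symm)
    show (CommRingCat.ofHom ρ).hom z = 0
    rw [h2, CommRingCat.hom_comp, RingHom.comp_apply]
    show (Spec.preimage (l ≫ φ.hom)).hom (Ideal.Quotient.mk I z) = 0
    rw [Ideal.Quotient.eq_zero_iff_mem.2 hz, map_zero]
  obtain ⟨Fs, hFs⟩ := hIfg
  have hkill : ∀ z ∈ Fs, ∃ s : R, s ∉ p ∧ algebraMap A Ar (algebraMap R A s) * z = 0 := fun z hz => by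
    obtain ⟨a, n, ha⟩ : ∃ (a : A) (n : ℕ), z * algebraMap A Ar (algebraMap R A r) ^ n = algebraMap A Ar a := by
      obtain ⟨⟨a, ⟨_, n, rfl⟩⟩, ha⟩ := IsLocalization.surj (Submonoid.powers (algebraMap R A r)) z
      exact ⟨a, n, by rw [← map_pow]; exact ha⟩
    have h1 : algebraMap A Ap a = 0 := by
      have := congrArg ρ ha
      rw [map_mul, hI0 z (hFs ▸ Ideal.subset_span hz), zero_mul, IsLocalization.Away.lift_eq] at this
      exact this.symm
    obtain ⟨⟨_, s, hs, rfl⟩, hsa⟩ := (IsLocalization.map_eq_zero_iff (Algebra.algebraMapSubmonoid A p.primeCompl) Ap a).1 h1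
    refine ⟨s, hs, ?_⟩
    have h2 : algebraMap A Ar (algebraMap R A s) * (z * algebraMap A Ar (algebraMap R A r) ^ n) = 0 := by
      rw [ha, ← map_mul, hsa, map_zero]
    rw [← _root_.mul_assoc] at h2
    exact ((IsLocalization.Away.algebraMap_isUnit (S := Ar) (algebraMap R A r)).pow n).mul_left_eq_zero.1 h2
  choose! sF hsF hsz using hkill
  let s' := r * ∏ z ∈ Fs, sF z
  have hs' : s' ∉ p := fun hm => ((Ideal.IsPrime.mem_or_mem inferInstance hm).elim hrp fun hm' => by
    obtain ⟨z, hz, hzp⟩ := Ideal.IsPrime.prod_mem_iff.1 hm'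
    exact hsF z hz hzp)
  refine ⟨s', hs', fun Y t x hx => ?_⟩
  -- lift `x` to `Spec A`
  let xX : Y ⟶ X := pullback.lift x (t ≫ Spec.map (CommRingCat.ofHom (algebraMap R (Localization.Away s')))) (by
    rw [hx, Category.assoc])
  let xA : Y ⟶ Spec A := xX ≫ X.isoSpec.hom
  have hxA : xA ≫ α = x := by
    simp only [xA, α, xX, Category.assoc, Iso.hom_inv_id_assoc, pullback.lift_fst]
  let As := Localization.Away (algebraMap R A s')
  let πs : Spec (CommRingCat.of As) ⟶ Spec A := Spec.map (CommRingCat.ofHom (algebraMap A As))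
  haveI : IsOpenImmersion πs := IsOpenImmersion.of_isLocalization (algebraMap R A s')
  have hrange : Set.range xA ⊆ Set.range πs := by
    rintro _ ⟨y, rfl⟩
    show (xA y : PrimeSpectrum A) ∈ Set.range (PrimeSpectrum.comap (algebraMap A As))
    rw [PrimeSpectrum.localization_away_comap_range As (algebraMap R A s')]
    have h1 : xA ≫ Spec.map (CommRingCat.ofHom (algebraMap R A)) =
        t ≫ Spec.map (CommRingCat.ofHom (algebraMap R (Localization.Away s'))) := by
      rw [show CommRingCat.ofHom (algebraMap R A) = st from rfl, Spec.map_preimage]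
      simp only [xA, xX, Category.assoc, Iso.hom_inv_id_assoc, pullback.lift_snd]
    have h2 : (PrimeSpectrum.comap (algebraMap R A) (xA y)) ∈
        Set.range (PrimeSpectrum.comap (algebraMap R (Localization.Away s'))) :=
      ⟨t y, ((congrArg (fun k : Y ⟶ Spec (CommRingCat.of R) => k y) h1)).symm⟩
    rw [PrimeSpectrum.localization_away_comap_range (Localization.Away s') s'] at h2
    exact h2
  let xs := IsOpenImmersion.lift πs xA hrange
  have hru : IsUnit (algebraMap A As (algebraMap R A r)) := by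
    refine isUnit_of_mul_isUnit_left (y := algebraMap A As (algebraMap R A (∏ z ∈ Fs, sF z))) ?_
    rw [← map_mul, ← map_mul]
    exact IsLocalization.Away.algebraMap_isUnit (S := As) _
  let σ : Ar →+* As := IsLocalization.Away.lift (algebraMap R A r) (g := algebraMap A As) hru
  have hσ : ∀ z ∈ I, σ z = 0 := by
    suffices I ≤ RingHom.ker σ from fun z hz => this hz
    rw [← hFs]
    refine Submodule.span_le.2 fun z hz => ?_
    have h1 := congrArg σ (hsz z hz)
    rw [map_mul, map_zero, IsLocalization.Away.lift_eq] at h1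
    refine (IsUnit.mul_right_eq_zero ?_).1 h1
    refine isUnit_of_mul_isUnit_left (y := algebraMap A As (algebraMap R A (r * ∏ z' ∈ Fs.erase z, sF z'))) ?_
    rw [← map_mul, ← map_mul, _root_.mul_left_comm, Finset.mul_prod_erase Fs sF hz]
    exact IsLocalization.Away.algebraMap_isUnit (S := As) _
  let ls : Spec (CommRingCat.of As) ⟶ pullback πr e :=
    Spec.map (CommRingCat.ofHom (Ideal.Quotient.lift I σ hσ)) ≫ φ.inv
  have hls : ls ≫ er ≫ πr = πs := by
    simp only [ls, hφ, Category.assoc, Iso.inv_hom_id_assoc, πr, πs, ← Spec.map_comp, ← CommRingCat.ofHom_comp]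
    congr 2
    refine RingHom.ext fun a => ?_
    simp only [RingHom.comp_apply, Ideal.Quotient.lift_mk]
    exact IsLocalization.Away.lift_eq _ _ a
  let w := xs ≫ ls ≫ pullback.snd πr e ≫ pullback.snd α p₁
  refine ⟨w ≫ pullback.snd i₁.left i₂.left, ?_⟩
  have hw : w ≫ p₁ = x := by
    simp only [w, Category.assoc]
    rw [← pullback.condition (f := α) (g := p₁), ← pullback.condition_assoc (f := πr) (g := e)]
    rw [← Category.assoc er, ← Category.assoc ls, hls, ← Category.assoc, IsOpenImmersion.lift_fac, hxA]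
  rw [Category.assoc, ← pullback.condition, ← Category.assoc, hw]

end Spread

variable [IsMonHom i₁] [IsMonHom i₂] [IsImmersion i₁.left] [IsImmersion i₂.left]

set_option maxHeartbeats 1000000 in
/-- Over a local base splitting both, equality and centrality on a fibre give equality. -/
theorem eqv_of_split {R' : Type u} [CommRing R'] [IsLocalRing R'] (f' : Spec (CommRingCat.of R') ⟶ S)
    {M₁ M₂ : Type} [AddCommGroup M₁] [AddCommGroup M₂] [AddGroup.FG M₁]
    (D₁ : Chars M₁ (Red.bc f' H₁)) (D₂ : Chars M₂ (Red.bc f' H₂))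
    (hfin : (IsLocallyNoetherian S ∧ LocallyOfFiniteType H₁.hom ∧ LocallyOfFiniteType H₂.hom) ∨
      LocallyOfFiniteType G.hom)
    (s : S) (a₀ : S.residueField s ⟶ CommRingCat.of (ResidueField R'))
    (ha₀ : Spec.map a₀ ≫ S.fromSpecResidueField s =
      Spec.map (CommRingCat.ofHom (algebraMap R' (ResidueField R'))) ≫ f')
    (hEs : Eqv i₁ i₂ (S.fromSpecResidueField s))
    (hc : ∀ (X : Over (Spec (S.residueField s))) (g : X ⟶ Red.bc (S.fromSpecResidueField s) G)
      (h : X ⟶ Red.bc (S.fromSpecResidueField s) H₁),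
      g * (h ≫ (Over.pullback (S.fromSpecResidueField s)).map i₁) = (h ≫ (Over.pullback (S.fromSpecResidueField s)).map i₁) * g) :
    Eqv i₁ i₂ f' := by
  haveI := isMonHom_pullback_map i₁ f'
  haveI := isMonHom_pullback_map i₂ f'
  haveI := mono_map_left f' i₁
  haveI := mono_map_left f' i₂
  haveI : Mono ((Over.pullback f').map i₁) := Over.mono_of_mono_left _
  haveI : Mono ((Over.pullback f').map i₂) := Over.mono_of_mono_left _
  rw [← Category.id_comp f', ← eqv_bc_iff]
  refine eqv_of_local _ _ D₁ D₂ (fun {H} a b => lfp_eqIncl i₁ i₂ f' _ _ (fl f' H₁ a) (fl f' H₂ b)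
    (fl_comp_map f' a i₁) (fl_comp_map f' b i₂) hfin) ?_ ?_
  · rw [eqv_bc_iff, ← ha₀]
    exact eqv_comp i₁ i₂ hEs _
  · intro C _ _ hC g' x
    refine fl_injective f' G ?_
    rw [fl_mul, fl_mul, fl_comp_map]
    let χ : ResidueField R' →+* C := Ideal.Quotient.lift _ (algebraMap R' C) hC
    let sX : Spec (CommRingCat.of C) ⟶ Spec (S.residueField s) := Spec.map (CommRingCat.ofHom χ) ≫ Spec.map a₀
    have hsX : sX ≫ S.fromSpecResidueField s = Spec.map (CommRingCat.ofHom (algebraMap R' C)) ≫ f' := by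
      rw [Category.assoc, ha₀, ← Category.assoc, ← Spec.map_comp, ← CommRingCat.ofHom_comp]
      congr 3
    let iX : (Over.map f').obj (CoactBr.sp R' C) ≅ (Over.map (S.fromSpecResidueField s)).obj (Over.mk sX) :=
      Over.isoMk (Iso.refl _) ((Category.id_comp _).trans hsX)
    obtain ⟨gk, hgk⟩ := fl_surjective (S.fromSpecResidueField s) G (iX.inv ≫ fl f' G g')
    obtain ⟨xk, hxk⟩ := fl_surjective (S.fromSpecResidueField s) H₁ (iX.inv ≫ fl f' H₁ x)
    have h := congrArg (fl (S.fromSpecResidueField s) G) (hc _ gk xk)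
    rw [fl_mul, fl_mul, fl_comp_map, hgk, hxk, Category.assoc, ← MonObj.comp_mul, ← MonObj.comp_mul] at h
    exact (cancel_epi iX.inv).1 h

/-- A flat local extension of the local ring at a point splitting two groups of multiplicative type. -/
theorem exists_split_local (h₁ : SGA3x.IsMultTypeFT H₁) (h₂ : SGA3x.IsMultTypeFT H₂) {R : Type u} [CommRing R]
    (g : Spec (CommRingCat.of R) ⟶ S) [IsOpenImmersion g] (q : PrimeSpectrum R) :
    ∃ (R' : Type u) (_ : CommRing R') (_ : IsLocalRing R') (φ : R →+* R') (M₁ M₂ : Type) (_ : AddCommGroup M₁)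
      (_ : AddCommGroup M₂) (_ : AddGroup.FG M₁), φ.Flat ∧ (maximalIdeal R').comap φ = q.asIdeal ∧
        Nonempty (Chars M₁ (Red.bc (Spec.map (CommRingCat.ofHom φ) ≫ g) H₁)) ∧
        Nonempty (Chars M₂ (Red.bc (Spec.map (CommRingCat.ofHom φ) ≫ g) H₂)) := by
  obtain ⟨J, _, T, _, _, hflat, hcov, hC⟩ := exists_charts_ft h₁ g
  obtain ⟨i, q', hq'⟩ := hcov q
  obtain ⟨M₁, _, hfg₁, ⟨C₁⟩⟩ := hC i
  let kT := Spec.map (CommRingCat.ofHom (algebraMap R (T i)))
  let f1 := kT ≫ g
  obtain ⟨J₂, _, T₂, _, _, hflat₂, hcov₂, hC₂⟩ := exists_charts_ft (isMultTypeFT_bc h₂ f1) (𝟙 (Spec (CommRingCat.of (T i))))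
  obtain ⟨i', q'', hq''⟩ := hcov₂ q'
  obtain ⟨M₂, _, hfg₂, ⟨C₂⟩⟩ := hC₂ i'
  let kT₂ := Spec.map (CommRingCat.ofHom (algebraMap (T i) (T₂ i')))
  let R' := Localization.AtPrime q''.asIdeal
  let kl := Spec.map (CommRingCat.ofHom (algebraMap (T₂ i') R'))
  let f' := (kl ≫ kT₂) ≫ kT ≫ g
  let D₁ : Chars M₁ (Red.bc f' H₁) :=
    charsComp f1 (kl ≫ kT₂) H₁ ((charsComp g kT H₁ C₁).baseChange (kl ≫ kT₂) _)
  have hD : ((kl ≫ kT₂ ≫ 𝟙 _) ≫ f1) = f' := by simp [f', f1]
  let D₂ : Chars M₂ (Red.bc f' H₂) :=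
    hD ▸ charsComp f1 (kl ≫ kT₂ ≫ 𝟙 _) H₂ (charsComp (kT₂ ≫ 𝟙 _) kl (Red.bc f1 H₂)
      ((charsComp (𝟙 _) kT₂ (Red.bc f1 H₂) C₂).baseChange kl _))
  let φ : R →+* R' := (algebraMap (T₂ i') R').comp ((algebraMap (T i) (T₂ i')).comp (algebraMap R (T i)))
  have hf' : f' = Spec.map (CommRingCat.ofHom φ) ≫ g := by
    simp only [f', kl, kT₂, kT, φ, CommRingCat.ofHom_comp, Spec.map_comp, Category.assoc]
  have hcomap : q''.asIdeal.comap ((algebraMap (T i) (T₂ i')).comp (algebraMap R (T i))) = q.asIdeal := by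
    rw [← hq', ← hq'', ← Ideal.comap_comap]
    rfl
  refine ⟨R', inferInstance, inferInstance, φ, M₁, M₂, inferInstance, inferInstance, hfg₁,
    RingHom.Flat.comp (RingHom.Flat.comp (RingHom.flat_algebraMap_iff.2 (hflat i))
      (RingHom.flat_algebraMap_iff.2 (hflat₂ i'))) (RingHom.flat_algebraMap_iff.2 inferInstance), ?_, ?_, ?_⟩
  · rw [show φ = (algebraMap (T₂ i') R').comp ((algebraMap (T i) (T₂ i')).comp (algebraMap R (T i))) from rfl,
      ← Ideal.comap_comap, show Ideal.comap (algebraMap (T₂ i') R') (maximalIdeal R') = q''.asIdeal from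
        Localization.AtPrime.under_maximalIdeal, hcomap]
  · exact hf' ▸ ⟨D₁⟩
  · exact hf' ▸ ⟨D₂⟩

set_option maxHeartbeats 1000000 in
/-- Subgroups of multiplicative type equal on a fibre where the first is central are equal nearby. -/
theorem exists_nhd_eq (h₁ : SGA3x.IsMultTypeFT H₁) (h₂ : SGA3x.IsMultTypeFT H₂)
    (hG : IsLocallyNoetherian S ∨ LocallyOfFiniteType G.hom) (s : S)
    (hc : ∀ (X : Over (Spec (S.residueField s))) (g : X ⟶ Red.bc (S.fromSpecResidueField s) G)
      (h : X ⟶ Red.bc (S.fromSpecResidueField s) H₁),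
      g * (h ≫ (Over.pullback (S.fromSpecResidueField s)).map i₁) = (h ≫ (Over.pullback (S.fromSpecResidueField s)).map i₁) * g)
    (hs : ∃ ψ : Red.bc (S.fromSpecResidueField s) H₁ ≅ Red.bc (S.fromSpecResidueField s) H₂,
      ψ.hom ≫ (Over.pullback (S.fromSpecResidueField s)).map i₂ = (Over.pullback (S.fromSpecResidueField s)).map i₁) :
    ∃ U : S.Opens, s ∈ U ∧ ∃ ψ : Red.bc U.ι H₁ ≅ Red.bc U.ι H₂,
      ψ.hom ≫ (Over.pullback U.ι).map i₂ = (Over.pullback U.ι).map i₁ := by
  have hEs := (eqv_iff_exists_iso i₁ i₂ (S.fromSpecResidueField s)).2 hs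
  haveI := isAffineHom_of_isMultTypeFT h₁
  haveI := isAffineHom_of_isMultTypeFT h₂
  haveI := lfp_of_isMultTypeFT h₁
  haveI := lfp_of_isMultTypeFT h₂
  obtain ⟨V, hV, hsV, -⟩ := exists_isAffineOpen_mem_and_subset (x := s) (U := ⊤) trivial
  let g := hV.fromSpec
  obtain ⟨q, hq⟩ : s ∈ Set.range g := by rw [hV.range_fromSpec]; exact hsV
  let p : Ideal Γ(S, V) := (q : PrimeSpectrum Γ(S, V)).asIdeal
  haveI : p.IsPrime := (q : PrimeSpectrum Γ(S, V)).isPrime
  -- a local flat extension splitting both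
  obtain ⟨R', _, _, φ, M₁, M₂, _, _, _, hφ, hφq, ⟨D₁⟩, ⟨D₂⟩⟩ := exists_split_local h₁ h₂ g q
  let f' := Spec.map (CommRingCat.ofHom φ) ≫ g
  let ψp : Localization.AtPrime p →+* R' := IsLocalization.lift (M := p.primeCompl) (g := φ) fun y => by
    by_contra hu
    exact y.2 (show (y : Γ(S, V)) ∈ (q : PrimeSpectrum Γ(S, V)).asIdeal from hφq ▸ hu)
  have hψp : ψp.comp (algebraMap Γ(S, V) (Localization.AtPrime p)) = φ := IsLocalization.lift_comp _
  have hkq : ∀ z : Spec (CommRingCat.of (ResidueField R')),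
      (Spec.map (CommRingCat.ofHom (algebraMap R' (ResidueField R'))) ≫ f') z = s := by
    intro z
    rw [← Category.assoc, ← Spec.map_comp, ← CommRingCat.ofHom_comp]
    refine Eq.trans (congrArg g ?_) hq
    refine PrimeSpectrum.ext ?_
    show Ideal.comap ((algebraMap R' (ResidueField R')).comp φ) (PrimeSpectrum.asIdeal z) = p
    rw [show PrimeSpectrum.asIdeal z = ⊥ from (Ideal.eq_bot_or_top _).resolve_right z.isPrime.ne_top,
      ← RingHom.ker_eq_comap_bot, ← RingHom.comap_ker]
    show Ideal.comap φ (RingHom.ker (residue R')) = p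
    rw [ker_residue]
    exact hφq
  -- the closed point lands in `Spec κ(s)`
  obtain ⟨⟨t₀, a₀⟩, hta⟩ := (Scheme.SpecToEquivOfField (ResidueField R') S).symm.surjective
    (Spec.map (CommRingCat.ofHom (algebraMap R' (ResidueField R'))) ≫ f')
  obtain rfl : t₀ = s :=
    ((congrArg Sigma.fst ((Equiv.eq_symm_apply _).1 hta.symm)).symm).trans (hkq (IsLocalRing.closedPoint _))
  have ha₀ : Spec.map a₀ ≫ S.fromSpecResidueField t₀ =
      Spec.map (CommRingCat.ofHom (algebraMap R' (ResidueField R'))) ≫ f' := hta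
  have hfin : (IsLocallyNoetherian S ∧ LocallyOfFiniteType H₁.hom ∧ LocallyOfFiniteType H₂.hom) ∨
      LocallyOfFiniteType G.hom := hG.imp (fun h => ⟨h, inferInstance, inferInstance⟩) id
  have hE' : Eqv i₁ i₂ f' := eqv_of_split i₁ i₂ f' D₁ D₂ hfin _ a₀ ha₀ hEs hc
  -- descend to the local ring and spread out
  have hflatψ : ψp.Flat := by
    letI := ψp.toAlgebra
    letI := φ.toAlgebra
    haveI : IsScalarTower Γ(S, V) (Localization.AtPrime p) R' :=
      IsScalarTower.of_algebraMap_eq' hψp.symm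
    exact (Module.flat_iff_of_isLocalization (Localization.AtPrime p) p.primeCompl R').2 hφ
  have hsurj : Function.Surjective (PrimeSpectrum.comap ψp) := by
    letI := ψp.toAlgebra
    haveI : Module.Flat (Localization.AtPrime p) R' := hflatψ
    haveI : IsLocalHom (algebraMap (Localization.AtPrime p) R') := ⟨fun a ha => by
      obtain ⟨x, y, rfl⟩ := IsLocalization.exists_mk'_eq p.primeCompl a
      rw [IsLocalization.AtPrime.isUnit_mk'_iff]
      intro hx
      have h1 : ψp (IsLocalization.mk' _ x y) * φ y = φ x := by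
        rw [← hψp, RingHom.comp_apply, RingHom.comp_apply, ← map_mul, IsLocalization.mk'_spec]
      have h2 : φ x ∈ maximalIdeal R' := by
        rw [← Ideal.mem_comap, hφq]
        exact hx
      refine (mem_maximalIdeal _).1 h2 ?_
      rw [← h1]
      exact ha.mul (of_not_not fun hu => y.2 (show (y : Γ(S, V)) ∈ (q : PrimeSpectrum Γ(S, V)).asIdeal from hφq ▸ hu))⟩
    haveI : Module.FaithfullyFlat (Localization.AtPrime p) R' := Module.FaithfullyFlat.of_flat_of_isLocalHom
    exact PrimeSpectrum.comap_surjective_of_faithfullyFlat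
  let cv := Spec.map (CommRingCat.ofHom ψp)
  haveI : Flat cv := (HasRingHomProperty.Spec_iff (P := @Flat)).2 hflatψ
  haveI : Surjective cv := ⟨hsurj⟩
  have hEp : Eqv i₁ i₂ (Spec.map (CommRingCat.ofHom (algebraMap Γ(S, V) (Localization.AtPrime p))) ≫ g) := by
    refine eqv_of_flat_cover i₁ i₂ cv ?_
    rw [← Category.assoc, ← Spec.map_comp, ← CommRingCat.ofHom_comp, hψp]
    exact hE'
  have hp₁ : ∀ {H H' : Over S} (a : H ⟶ G) (b : H' ⟶ G), LocallyOfFinitePresentation H.hom →
      LocallyOfFinitePresentation H'.hom → IsImmersion b.left →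
      LocallyOfFinitePresentation (pullback.fst a.left b.left) ∧ IsImmersion (pullback.fst a.left b.left) := by
    intro H H' a b hH hH' hb
    haveI : IsImmersion (pullback.fst a.left b.left) := MorphismProperty.pullback_fst (P := @IsImmersion) _ _ hb
    refine ⟨?_, inferInstance⟩
    rcases hG with h | h
    · haveI := h
      haveI : IsLocallyNoetherian H.left := LocallyOfFiniteType.isLocallyNoetherian H.hom
      exact NagataCurve13.lfp_of_noetherian _
    · haveI := h
      haveI : LocallyOfFinitePresentation (b.left ≫ G.hom) := by rw [Over.w]; exact hH'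
      haveI : LocallyOfFinitePresentation b.left := SchBasic.locallyOfFinitePresentation_of_comp b.left G.hom
      exact MorphismProperty.pullback_fst (P := @LocallyOfFinitePresentation) _ _ inferInstance
  obtain ⟨h12, h12'⟩ := hp₁ i₁ i₂ inferInstance inferInstance inferInstance
  obtain ⟨h21, h21'⟩ := hp₁ i₂ i₁ inferInstance inferInstance inferInstance
  obtain ⟨r₁, hr₁, hF₁⟩ := exists_nhd_fac i₁ i₂ g p hEp.1
  obtain ⟨r₂, hr₂, hF₂⟩ := exists_nhd_fac i₂ i₁ g p hEp.2
  let Rr := Localization.Away (r₁ * r₂)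
  have hfacr : ∀ r, r ∣ r₁ * r₂ → ∃ w, Spec.map (CommRingCat.ofHom (algebraMap Γ(S, V) Rr)) =
      w ≫ Spec.map (CommRingCat.ofHom (algebraMap Γ(S, V) (Localization.Away r))) := by
    rintro r ⟨r', hr'⟩
    have hu : IsUnit (algebraMap Γ(S, V) Rr r) := by
      refine isUnit_of_mul_isUnit_left (y := algebraMap Γ(S, V) Rr r') ?_
      rw [← map_mul, ← hr']
      exact IsLocalization.Away.algebraMap_isUnit _
    refine ⟨Spec.map (CommRingCat.ofHom (IsLocalization.Away.lift r hu)), ?_⟩
    rw [← Spec.map_comp, ← CommRingCat.ofHom_comp, IsLocalization.Away.lift_comp]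
  let kr := Spec.map (CommRingCat.ofHom (algebraMap Γ(S, V) Rr))
  have hEr : Eqv i₁ i₂ (kr ≫ g) := by
    obtain ⟨w₁, hw₁⟩ := hfacr r₁ (dvd_mul_right _ _)
    obtain ⟨w₂, hw₂⟩ := hfacr r₂ (dvd_mul_left _ _)
    refine ⟨?_, ?_⟩
    · show Fac i₁ i₂ (kr ≫ g)
      rw [show kr = _ from hw₁, Category.assoc]
      exact fac_comp i₁ i₂ hF₁ w₁
    · show Fac i₂ i₁ (kr ≫ g)
      rw [show kr = _ from hw₂, Category.assoc]
      exact fac_comp i₂ i₁ hF₂ w₂
  haveI : IsOpenImmersion kr := IsOpenImmersion.of_isLocalization (r₁ * r₂)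
  let jr := kr ≫ g
  refine ⟨jr.opensRange, ?_, (eqv_iff_exists_iso i₁ i₂ _).1 ?_⟩
  · obtain ⟨z, hz⟩ : (q : PrimeSpectrum Γ(S, V)) ∈ Set.range (PrimeSpectrum.comap (algebraMap Γ(S, V) Rr)) := by
      rw [PrimeSpectrum.localization_away_comap_range Rr (r₁ * r₂)]
      exact fun hm => (Ideal.IsPrime.mem_or_mem inferInstance hm).elim hr₁ hr₂
    exact ⟨z, by rw [← hq, ← hz]; rfl⟩
  · rw [← Scheme.Hom.isoOpensRange_inv_comp jr]
    exact eqv_comp i₁ i₂ hEr _

end Groth.Agent.MTRigid29.FibreEqual
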