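import Groth.Agent.Lib.MTRigid29.TransporterRep
import Groth.Agent.Lib.FlatH4.GenFreeMain
import Groth.Agent.S0346

/-!
# Generic representability of transporters
-/

set_option autoImplicit false
set_option linter.style.haveILetI false
set_option backward.isDefEq.respectTransparency.types false
set_option backward.isDefEq.respectTransparency false
set_option maxSynthPendingDepth 3
set_option synthInstance.maxHeartbeats 400000

universe u

open CategoryTheory Limits MonoidalCategory CartesianMonoidalCategory MonObj AlgebraicGeometry Opposite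
open scoped TensorProduct

noncomputable section

namespace Groth.Agent.MTRigid29

/-- Free algebras have contents. -/
theorem hasContent_of_free {R A : Type u} [CommRing R] [CommRing A] [Algebra R A] [Module.Free R A] :
    HasContent R A := by
  classical
  intro z
  let b := Module.Free.chooseBasis R A
  refine ⟨Ideal.span ((b.repr z).support.image fun i => b.repr z i : Finset R), ⟨_, rfl⟩,
    fun C _ _ => ⟨fun h => ?_, fun h => ?_⟩⟩
  · suffices Ideal.span (((b.repr z).support.image fun i => b.repr z i : Finset R) : Set R) ≤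
      RingHom.ker (algebraMap R C) from fun r hr => this hr
    rw [Ideal.span_le]
    intro r hr
    obtain ⟨i, -, rfl⟩ := Finset.mem_image.1 hr
    have h1 := congrArg ((TensorProduct.rid R C).toLinearMap ∘ₗ (b.coord i).lTensor C) h
    simpa [Algebra.smul_def] using h1
  · have hz : z = ∑ i ∈ (b.repr z).support, b.repr z i • b i := by
      conv_lhs => rw [← b.linearCombination_repr z, Finsupp.linearCombination_apply, Finsupp.sum]
    rw [hz, TensorProduct.tmul_sum]
    refine Finset.sum_eq_zero fun i hi => ?_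
    rw [TensorProduct.tmul_smul, TensorProduct.smul_tmul', Algebra.smul_def,
      h _ (Ideal.subset_span (Finset.mem_image.2 ⟨i, hi, rfl⟩)), MulZeroClass.zero_mul, TensorProduct.zero_tmul]

/-- Free affine schemes over the base have contents after any base change. -/
theorem hasContentLoc_snd_of_free {U : Scheme.{u}} {R A : Type u} [CommRing R] [CommRing A] [Algebra R A]
    [Module.Free R A] (e : Spec (CommRingCat.of R) ⟶ U) [IsIso e] (G : Over U) :
    HasContentLoc (snd (Over.mk (Spec.map (CommRingCat.ofHom (algebraMap R A)) ≫ e)) G).left := by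
  intro R₁ _ g _
  obtain ⟨ψ, hψ⟩ := Spec.map_surjective (g ≫ G.hom ≫ inv e)
  letI : Algebra R R₁ := ψ.hom.toAlgebra
  have hψ' : Spec.map (CommRingCat.ofHom (algebraMap R R₁)) ≫ e = g ≫ G.hom := by
    rw [show CommRingCat.ofHom (algebraMap R R₁) = ψ from rfl, hψ, Category.assoc, Category.assoc, IsIso.inv_hom_id,
      Category.comp_id]
  let Y : Over U := Over.mk (Spec.map (CommRingCat.ofHom (algebraMap R A)) ≫ e)
  let inR : A →ₐ[R] R₁ ⊗[R] A := Algebra.TensorProduct.includeRight
  have h0 : IsPullback (Spec.map (CommRingCat.ofHom inR.toRingHom))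
      (Spec.map (CommRingCat.ofHom (algebraMap R₁ (R₁ ⊗[R] A)))) (Spec.map (CommRingCat.ofHom (algebraMap R A)))
      (Spec.map (CommRingCat.ofHom (algebraMap R R₁))) :=
    (IsPullback.of_iso (IsPullback.of_hasPullback (Spec.map (CommRingCat.ofHom (algebraMap R R₁)))
        (Spec.map (CommRingCat.ofHom (algebraMap R A))))
      (pullbackSpecIso R R₁ A) (Iso.refl _) (Iso.refl _) (Iso.refl _)
      (by rw [Iso.refl_hom, Category.comp_id]; exact (pullbackSpecIso_hom_fst R R₁ A).symm)
      (by rw [Iso.refl_hom, Category.comp_id]; exact (pullbackSpecIso_hom_snd R R₁ A).symm)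
      (by simp) (by simp)).flip
  have h1 : IsPullback (Spec.map (CommRingCat.ofHom inR.toRingHom))
      (Spec.map (CommRingCat.ofHom (algebraMap R₁ (R₁ ⊗[R] A)))) Y.hom (g ≫ G.hom) :=
    IsPullback.of_iso h0 (Iso.refl _) (Iso.refl _) (Iso.refl _) (asIso e) (by simp) (by simp) (by simp [Y])
      (by simp [← hψ'])
  let q : Spec (CommRingCat.of (R₁ ⊗[R] A)) ⟶ (Y ⊗ G).left :=
    pullback.lift (Spec.map (CommRingCat.ofHom inR.toRingHom))
      (Spec.map (CommRingCat.ofHom (algebraMap R₁ (R₁ ⊗[R] A))) ≫ g) (by rw [Category.assoc]; exact h1.w)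
  refine ⟨R₁ ⊗[R] A, inferInstance, inferInstance, q, ?_, hasContent_of_free⟩
  refine IsPullback.of_right (h₁₂ := pullback.fst Y.hom G.hom) ?_ (pullback.lift_snd _ _ _)
    (IsPullback.of_hasPullback Y.hom G.hom)
  rw [show q ≫ pullback.fst Y.hom G.hom = _ from pullback.lift_fst _ _ _]
  exact h1

/-- A group scheme of finite type is separated over a neighbourhood of the generic point. -/
theorem exists_open_separated {S : Scheme.{u}} [IrreducibleSpace S] (G : Over S) [GrpObj G] [QuasiCompact G.hom]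
    (U₀ : S.Opens) (hU₀ : IsAffineOpen U₀) (hne : (U₀ : Set S).Nonempty) :
    ∃ U : S.Opens, genericPoint S ∈ U ∧ U ≤ U₀ ∧
      ∀ V : S.Opens, V ≤ U → IsSeparated (Red.bc V.ι G).hom := by
  classical
  have hgen : ∀ {W : S.Opens}, (W : Set S).Nonempty → genericPoint S ∈ W := fun {W} hW =>
    ((genericPoint_spec S).mem_open_set_iff W.isOpen).2 (by simpa using hW)
  let σ : S ⟶ G.left := η[G].left
  have hσ : σ ≫ G.hom = 𝟙 S := Over.w η[G]
  let P := pullback G.hom U₀.ι
  haveI : IsAffine (U₀ : Scheme.{u}) := hU₀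
  haveI : CompactSpace P := QuasiCompact.compactSpace_of_compactSpace (pullback.snd G.hom U₀.ι)
  let 𝒰 := P.affineCover.finiteSubcover
  let V : 𝒰.I₀ → G.left.Opens := fun k => (𝒰.f k ≫ pullback.fst G.hom U₀.ι).opensRange
  have hVsep : ∀ k, IsSeparated ((V k).ι ≫ G.hom) := by
    intro k
    have h1 : (V k).ι ≫ G.hom = (Scheme.Hom.isoOpensRange (𝒰.f k ≫ pullback.fst G.hom U₀.ι)).inv ≫
        (𝒰.f k ≫ pullback.snd G.hom U₀.ι) ≫ U₀.ι := by
      rw [Iso.eq_inv_comp, ← Category.assoc, Scheme.Hom.isoOpensRange_hom_ι, Category.assoc, Category.assoc,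
        pullback.condition]
    haveI : IsAffine (𝒰.X k) := inferInstance
    haveI : IsSeparated (𝒰.f k ≫ pullback.snd G.hom U₀.ι) := inferInstance
    rw [h1]
    infer_instance
  let N : 𝒰.I₀ → Set S := fun k => if genericPoint S ∈ σ ⁻¹ᵁ V k then (σ ⁻¹ᵁ V k : Set S) else Set.univ
  have hNo : ∀ k, IsOpen (N k) := fun k => by
    simp only [N]; split_ifs
    exacts [(σ ⁻¹ᵁ V k).isOpen, isOpen_univ]
  let U : S.Opens := U₀ ⊓ ⟨⋂ k, N k, isOpen_iInter_of_finite hNo⟩
  refine ⟨U, ⟨hgen hne, Set.mem_iInter.2 fun k => by simp only [N]; split_ifs with h; exacts [h, trivial]⟩, inf_le_left,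
    fun W hW => ?_⟩
  refine (S0346.result _ (Red.bc W.ι G)).1.2 ?_
  let G' := Red.bc W.ι G
  let σ' : (W : Scheme.{u}) ⟶ G'.left := η[G'].left
  have hσ' : σ' ≫ G'.hom = 𝟙 _ := Over.w η[G']
  have hσfst : σ' ≫ pullback.fst G.hom W.ι = W.ι ≫ σ := by
    have h2 : DiagGL.fl W.ι G (η[G'] : 𝟙_ (Over (W : Scheme.{u})) ⟶ G') = 1 := by
      rw [MonObj.one_eq_one]; exact fl_one W.ι
    have h3 := congrArg CommaMorphism.left h2
    refine h3.trans ?_
    show (𝟙 (W : Scheme.{u}) ≫ W.ι) ≫ η[G].left = W.ι ≫ σ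
    rw [Category.id_comp]
  let D : 𝒰.I₀ → G'.left.Opens := fun k => pullback.fst G.hom W.ι ⁻¹ᵁ V k
  have hDcov : ⨆ k, D k = ⊤ := by
    refine eq_top_iff.2 fun p _ => ?_
    have hp : G.hom (pullback.fst G.hom W.ι p) ∈ U₀ := by
      rw [← Scheme.Hom.comp_apply, pullback.condition, Scheme.Hom.comp_apply]
      exact (hW (pullback.snd G.hom W.ι p).2).1
    obtain ⟨p₀, hp₀, -⟩ := Scheme.Pullback.exists_preimage_pullback (f := G.hom) (g := U₀.ι)
      (pullback.fst G.hom W.ι p) ⟨_, hp⟩ rfl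
    obtain ⟨z, hz⟩ := 𝒰.covers p₀
    refine TopologicalSpace.Opens.mem_iSup.2 ⟨𝒰.idx p₀, ?_⟩
    show pullback.fst G.hom W.ι p ∈ Set.range (𝒰.f (𝒰.idx p₀) ≫ pullback.fst G.hom U₀.ι)
    exact ⟨z, by rw [Scheme.Hom.comp_apply, hz, hp₀]⟩
  refine IsZariskiLocalAtTarget.of_iSup_eq_top (P := @IsClosedImmersion) D hDcov fun k => ?_
  by_cases hk : genericPoint S ∈ σ ⁻¹ᵁ V k
  · have htop : σ' ⁻¹ᵁ D k = ⊤ := by
      refine eq_top_iff.2 fun w _ => ?_
      show pullback.fst G.hom W.ι (σ' w) ∈ V k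
      rw [show pullback.fst G.hom W.ι (σ' w) = σ (W.ι w) from congrArg (fun k : (W : Scheme.{u}) ⟶ G.left => k w) hσfst]
      have h4 := Set.mem_iInter.1 (hW w.2).2 k
      simp only [N, if_pos hk] at h4
      exact h4
    haveI : IsSeparated ((D k).ι ≫ G'.hom) := by
      haveI := hVsep k
      haveI : IsSeparated (((D k).ι ≫ G'.hom) ≫ W.ι) := by
        rw [Category.assoc, show G'.hom ≫ W.ι = pullback.fst G.hom W.ι ≫ G.hom from pullback.condition.symm,
          ← Category.assoc, ← morphismRestrict_ι, Category.assoc]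
        infer_instance
      exact IsSeparated.of_comp _ W.ι
    have h5 : (σ' ∣_ D k) ≫ (D k).ι ≫ G'.hom = (σ' ⁻¹ᵁ D k).ι := by
      rw [morphismRestrict_ι_assoc, hσ', Category.comp_id]
    haveI : IsIso (σ' ⁻¹ᵁ D k).ι := by rw [htop]; exact (Scheme.topIso _).isIso_hom
    haveI : IsClosedImmersion ((σ' ∣_ D k) ≫ (D k).ι ≫ G'.hom) := by rw [h5]; infer_instance
    exact IsClosedImmersion.of_comp (σ' ∣_ D k) ((D k).ι ≫ G'.hom)
  · haveI : IsEmpty ↥((σ' ⁻¹ᵁ D k : (W : Scheme.{u}).Opens) : Scheme.{u}) := ⟨fun w => by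
      refine hk (hgen ⟨W.ι w.1, ?_⟩)
      show σ (W.ι w.1) ∈ V k
      rw [← Scheme.Hom.comp_apply, ← hσfst, Scheme.Hom.comp_apply]
      exact w.2⟩
    infer_instance

/-- Over an integral base transporters are generically representable by closed subschemes. -/
theorem exists_open_transporter {S : Scheme.{u}} [IsIntegral S] (G Y : Over S) [GrpObj G]
    [LocallyOfFinitePresentation G.hom] [QuasiCompact G.hom]
    [LocallyOfFiniteType Y.hom] [QuasiCompact Y.hom] (u v : Y ⟶ G) :
    ∃ U : S.Opens, genericPoint S ∈ U ∧ IsAffineOpen U ∧ IsSeparated (Red.bc U.ι G).hom ∧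
      ∃ (T : Over (U : Scheme.{u})) (t : T ⟶ Red.bc U.ι G), IsClosedImmersion t.left ∧
        LocallyOfFinitePresentation T.hom ∧
        ∀ (S' : Over (U : Scheme.{u})) (g : S' ⟶ Red.bc U.ι G), (∃ z : S' ⟶ T, z ≫ t = g) ↔
          ∀ (S'' : Over (U : Scheme.{u})) (s : S'' ⟶ S') (y : S'' ⟶ Red.bc U.ι Y),
            (s ≫ g) * (y ≫ (Over.pullback U.ι).map u) * (s ≫ g)⁻¹ = y ≫ (Over.pullback U.ι).map v := by
  classical
  obtain ⟨U₀, hU₀, hgU₀, -⟩ := exists_isAffineOpen_mem_and_subset (X := S) (x := genericPoint S) (U := ⊤) trivial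
  haveI : Nonempty (U₀ : S.Opens) := ⟨⟨_, hgU₀⟩⟩
  haveI : IsAffine (U₀ : Scheme.{u}) := hU₀
  let R := Γ(S, U₀)
  let Y₀ := pullback Y.hom U₀.ι
  haveI : CompactSpace Y₀ := QuasiCompact.compactSpace_of_compactSpace (pullback.snd Y.hom U₀.ι)
  let 𝒰 := Y₀.affineCover.finiteSubcover
  haveI : ∀ k, IsAffine (𝒰.X k) := fun k => inferInstance
  let Z := ∐ 𝒰.X
  haveI : IsAffine Z := inferInstance
  let π : Z ⟶ Y₀ := Sigma.desc 𝒰.f
  haveI : Flat π := IsZariskiLocalAtSource.sigmaDesc fun k => inferInstance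
  haveI : LocallyOfFiniteType π := IsZariskiLocalAtSource.sigmaDesc fun k => inferInstance
  have hπs : Function.Surjective π := fun y => by
    obtain ⟨z, hz⟩ := 𝒰.covers y
    exact ⟨Sigma.ι 𝒰.X (𝒰.idx y) z, by rw [← Scheme.Hom.comp_apply, Sigma.ι_desc]; exact hz⟩
  let B := Γ(Z, ⊤)
  let z₀ : Spec B ⟶ Spec R := Z.isoSpec.inv ≫ π ≫ pullback.snd Y.hom U₀.ι ≫ hU₀.isoSpec.hom
  letI : Algebra R B := (Spec.preimage z₀).hom.toAlgebra
  have hz₀ : Spec.map (CommRingCat.ofHom (algebraMap R B)) = z₀ := by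
    show Spec.map (Spec.preimage z₀) = z₀
    rw [Spec.map_preimage]
  haveI : Algebra.FiniteType R B :=
    RingHom.finiteType_algebraMap.1 ((HasRingHomProperty.Spec_iff (P := @LocallyOfFiniteType)).1 (show LocallyOfFiniteType (Spec.map (CommRingCat.ofHom (algebraMap R B))) by rw [hz₀]; infer_instance))
  obtain ⟨c, hc, hfree⟩ := FlatH4.exists_free_and_finitePresentation (R := R) (S := B)
  obtain ⟨U₁, hgU₁, hU₁U₀, hsep⟩ := exists_open_separated G U₀ hU₀ ⟨_, hgU₀⟩
  have hgc : genericPoint S ∈ S.basicOpen c := by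
    have hne : ((S.basicOpen c : S.Opens) : Set S).Nonempty := by
      rw [Set.nonempty_iff_ne_empty]
      intro h
      exact hc (basicOpen_eq_bot_iff c |>.1 (TopologicalSpace.Opens.ext h))
    exact ((genericPoint_spec S).mem_open_set_iff (S.basicOpen c).isOpen).2 (by simpa using hne)
  obtain ⟨r, hrle, hgr⟩ := hU₀.exists_basicOpen_le (V := U₁ ⊓ S.basicOpen c) ⟨_, hgU₁, hgc⟩ hgU₀
  let U : S.Opens := S.basicOpen r
  have hU : IsAffineOpen U := hU₀.basicOpen r
  haveI : IsSeparated (Red.bc U.ι G).hom := hsep U (hrle.trans inf_le_left)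
  let R' := Γ(S, U)
  let res : R ⟶ R' := S.presheaf.map (homOfLE (S.basicOpen_le r)).op
  letI : Algebra R R' := res.hom.toAlgebra
  have hres : Spec.map res ≫ hU₀.fromSpec = hU.fromSpec := IsAffineOpen.map_fromSpec _ hU _
  have hcR' : IsUnit (algebraMap R R' c) := by
    have hle : U ≤ S.basicOpen c := hrle.trans inf_le_right
    rw [show algebraMap R R' c = S.presheaf.map (homOfLE hle).op (S.presheaf.map (homOfLE (S.basicOpen_le c)).op c) from
      congrArg (fun k : R ⟶ R' => k c) (S.presheaf.map_comp (homOfLE (S.basicOpen_le c)).op (homOfLE hle).op :)]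
    exact (RingedSpace.isUnit_res_basicOpen S.toLocallyRingedSpace.toRingedSpace c).map (S.presheaf.map (homOfLE hle).op).hom
  let A := R' ⊗[R] B
  haveI : Module.Free R' A := (hfree R' hcR').1
  let e : Spec (CommRingCat.of R') ⟶ (U : Scheme.{u}) := hU.isoSpec.inv
  have he : e ≫ U.ι = Spec.map res ≫ hU₀.fromSpec := by rw [hres]; exact hU.isoSpec_inv_ι
  let zA : Spec (CommRingCat.of A) ⟶ Y₀ :=
    Spec.map (CommRingCat.ofHom (Algebra.TensorProduct.includeRight : B →ₐ[R] A).toRingHom) ≫ Z.isoSpec.inv ≫ π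
  have hzA : zA ≫ pullback.snd Y.hom U₀.ι ≫ U₀.ι = Spec.map (CommRingCat.ofHom (algebraMap R' A)) ≫ e ≫ U.ι := by
    rw [he]
    simp only [zA, Category.assoc]
    rw [show pullback.snd Y.hom U₀.ι ≫ U₀.ι = (pullback.snd Y.hom U₀.ι ≫ hU₀.isoSpec.hom) ≫ hU₀.fromSpec by
        rw [Category.assoc, hU₀.isoSpec_hom_fromSpec], Category.assoc, show Z.isoSpec.inv ≫ π ≫ pullback.snd Y.hom U₀.ι ≫ hU₀.isoSpec.hom ≫ hU₀.fromSpec =
      z₀ ≫ hU₀.fromSpec by simp [z₀], ← hz₀, ← Category.assoc, ← Category.assoc, ← Spec.map_comp, ← Spec.map_comp]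
    congr 2
    ext b
    show (1 : R') ⊗ₜ[R] (algebraMap R B b) = algebraMap R R' b ⊗ₜ[R] (1 : B)
    rw [Algebra.algebraMap_eq_smul_one, Algebra.algebraMap_eq_smul_one, TensorProduct.tmul_smul,
      TensorProduct.smul_tmul']
  let Y' : Over (U : Scheme.{u}) := Over.mk (Spec.map (CommRingCat.ofHom (algebraMap R' A)) ≫ e)
  let y' : Y' ⟶ Red.bc U.ι Y := Over.homMk
    (pullback.lift (zA ≫ pullback.fst Y.hom U₀.ι) (Spec.map (CommRingCat.ofHom (algebraMap R' A)) ≫ e) (by
      rw [Category.assoc, pullback.condition, hzA, Category.assoc])) (pullback.lift_snd _ _ _)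
  have hy'fst : y'.left ≫ pullback.fst Y.hom U.ι = zA ≫ pullback.fst Y.hom U₀.ι := pullback.lift_fst _ _ _
  haveI : IsOpenImmersion (Spec.map (CommRingCat.ofHom (algebraMap R R'))) := by
    haveI : IsOpenImmersion (Spec.map res ≫ hU₀.fromSpec) := by rw [hres]; exact inferInstanceAs (IsOpenImmersion hU.fromSpec)
    exact IsOpenImmersion.of_comp (Spec.map res) hU₀.fromSpec
  have hsq : IsPullback (Spec.map (CommRingCat.ofHom (Algebra.TensorProduct.includeRight : B →ₐ[R] A).toRingHom))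
      (Spec.map (CommRingCat.ofHom (algebraMap R' A))) (Spec.map (CommRingCat.ofHom (algebraMap R B)))
      (Spec.map (CommRingCat.ofHom (algebraMap R R'))) :=
    (IsPullback.of_iso (IsPullback.of_hasPullback (Spec.map (CommRingCat.ofHom (algebraMap R R')))
        (Spec.map (CommRingCat.ofHom (algebraMap R B))))
      (pullbackSpecIso R R' B) (Iso.refl _) (Iso.refl _) (Iso.refl _)
      (by rw [Iso.refl_hom, Category.comp_id]; exact (pullbackSpecIso_hom_fst R R' B).symm)
      (by rw [Iso.refl_hom, Category.comp_id]; exact (pullbackSpecIso_hom_snd R R' B).symm)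
      (by simp) (by simp)).flip
  haveI : IsOpenImmersion (Spec.map (CommRingCat.ofHom (Algebra.TensorProduct.includeRight : B →ₐ[R] A).toRingHom)) :=
    MorphismProperty.of_isPullback hsq.flip inferInstance
  haveI : Flat y'.left := by
    refine MorphismProperty.of_postcomp (W := @Flat) (W' := @IsOpenImmersion) y'.left (pullback.fst Y.hom U.ι)
      (inferInstanceAs (IsOpenImmersion (pullback.fst Y.hom U.ι))) ?_
    rw [hy'fst]
    infer_instance
  haveI : Surjective y'.left := ⟨fun p => by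
    have hpU : G.hom = G.hom := rfl
    let y := pullback.fst Y.hom U.ι p
    have hy : Y.hom y = U.ι (pullback.snd Y.hom U.ι p) := by
      rw [← Scheme.Hom.comp_apply, pullback.condition, Scheme.Hom.comp_apply]
    obtain ⟨y₀, hy₀, hy₀'⟩ := Scheme.Pullback.exists_preimage_pullback (f := Y.hom) (g := U₀.ι) y
      ⟨Y.hom y, by rw [hy]; exact S.basicOpen_le r (pullback.snd Y.hom U.ι p).2⟩ rfl
    obtain ⟨z, hz⟩ := hπs y₀
    let zs : Spec B := Z.isoSpec.hom z
    have hzs : Z.isoSpec.inv zs = z := by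
      show Z.isoSpec.inv (Z.isoSpec.hom z) = z
      rw [← Scheme.Hom.comp_apply, Iso.hom_inv_id]; rfl
    have hmem : zs ∈ Set.range (Spec.map (CommRingCat.ofHom (Algebra.TensorProduct.includeRight : B →ₐ[R] A).toRingHom)) := by
      have h1 : Spec.map (CommRingCat.ofHom (algebraMap R B)) zs ∈ Set.range (Spec.map (CommRingCat.ofHom (algebraMap R R'))) := by
        refine ⟨hU.isoSpec.hom (pullback.snd Y.hom U.ι p), hU₀.fromSpec.isOpenEmbedding.injective ?_⟩
        have e1 : hU.isoSpec.hom ≫ Spec.map (CommRingCat.ofHom (algebraMap R R')) ≫ hU₀.fromSpec = U.ι := by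
          rw [show CommRingCat.ofHom (algebraMap R R') = res from rfl, hres, hU.isoSpec_hom_fromSpec]
        have e2 : Z.isoSpec.hom ≫ Spec.map (CommRingCat.ofHom (algebraMap R B)) ≫ hU₀.fromSpec =
            π ≫ pullback.snd Y.hom U₀.ι ≫ U₀.ι := by
          rw [hz₀]; simp [z₀]
        have e3 : U₀.ι (pullback.snd Y.hom U₀.ι y₀) = Y.hom y :=
          (congrArg (fun k : Y₀ ⟶ S => k y₀) pullback.condition).symm.trans (congrArg Y.hom hy₀)
        exact (congrArg (fun k : (U : Scheme.{u}) ⟶ S => k (pullback.snd Y.hom U.ι p)) e1).trans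
          (hy.symm.trans (e3.symm.trans ((congrArg (fun t => U₀.ι (pullback.snd Y.hom U₀.ι t)) hz).symm.trans
            (congrArg (fun k : Z ⟶ S => k z) e2).symm)))
      obtain ⟨q, hq⟩ := h1
      obtain ⟨w, hw, -⟩ := Scheme.Pullback.exists_preimage_pullback zs q hq.symm
      exact ⟨hsq.isoPullback.inv w, by rw [← Scheme.Hom.comp_apply, IsPullback.isoPullback_inv_fst]; exact hw⟩
    obtain ⟨w, hw⟩ := hmem
    refine ⟨w, (pullback.fst Y.hom U.ι).isOpenEmbedding.injective ?_⟩
    refine (congrArg (fun k : Spec (CommRingCat.of A) ⟶ Y.left => k w) hy'fst).trans ?_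
    show pullback.fst Y.hom U₀.ι (π (Z.isoSpec.inv (Spec.map _ w))) = y
    exact ((congrArg (fun t => pullback.fst Y.hom U₀.ι (π (Z.isoSpec.inv t))) hw).trans
      ((congrArg (fun t => pullback.fst Y.hom U₀.ι (π t)) hzs).trans
        ((congrArg (fun t => pullback.fst Y.hom U₀.ι t) hz).trans hy₀)))⟩
  haveI : LocallyOfFinitePresentation (Red.bc U.ι G).hom :=
    inferInstanceAs (LocallyOfFinitePresentation (pullback.snd G.hom U.ι))
  obtain ⟨T, t, ht, hTfp, hT⟩ := exists_transporter_eq (G := Red.bc U.ι G) (Y := Y') (hasContentLoc_snd_of_free e _)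
    (y' ≫ (Over.pullback U.ι).map u) (y' ≫ (Over.pullback U.ι).map v)
  refine ⟨U, hgr, hU, inferInstance, T, t, ht, hTfp, fun S' g => (hT S' g).trans ⟨fun h S'' s y => ?_,
    fun h X' x a => ?_⟩⟩
  · let P : Over (U : Scheme.{u}) := Over.mk (pullback.fst y.left y'.left ≫ S''.hom)
    let p₁ : P ⟶ S'' := Over.homMk (pullback.fst y.left y'.left) rfl
    let p₂ : P ⟶ Y' := Over.homMk (pullback.snd y.left y'.left) (by
      show pullback.snd y.left y'.left ≫ Y'.hom = pullback.fst y.left y'.left ≫ S''.hom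
      rw [← Over.w y', ← pullback.condition_assoc, Over.w y])
    have hp : p₁ ≫ y = p₂ ≫ y' := Over.OverMorphism.ext pullback.condition
    haveI : Flat (pullback.fst y.left y'.left) := MorphismProperty.pullback_fst _ _ inferInstance
    haveI : Surjective (pullback.fst y.left y'.left) := MorphismProperty.pullback_fst _ _ inferInstance
    haveI : Epi p₁.left := Flat.epi_of_flat_of_surjective (pullback.fst y.left y'.left)
    have h1 := h P (p₁ ≫ s) p₂
    rw [Category.assoc, ← Category.assoc p₂, ← Category.assoc p₂, ← hp, Category.assoc, Category.assoc,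
      ← GrpObj.comp_inv, ← MonObj.comp_mul, ← MonObj.comp_mul] at h1
    exact Over.OverMorphism.ext ((cancel_epi p₁.left).1 (congrArg CommaMorphism.left h1))
  · simpa only [Category.assoc] using h X' x (a ≫ y')

end Groth.Agent.MTRigid29
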