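import Groth.Agent.Lib.MTRigid29.HenselHom
import Groth.Agent.S2974
import Mathlib.RingTheory.AdicCompletion.LocalRing
import Mathlib.RingTheory.AdicCompletion.AsTensorProduct
import Mathlib.RingTheory.Flat.FaithfullyFlat.Algebra

/-!
# Homomorphisms over the completion of a henselian ring come from the ring
-/

set_option autoImplicit false
set_option linter.style.haveILetI false
set_option linter.unusedSectionVars false

universe u

open TensorProduct IsLocalRing SGA3b

noncomputable section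

namespace Groth.Agent.MTRigid29.HenselBC

variable {A : Type u} [CommRing A] [IsLocalRing A] {T : Type u} [CommRing T] [Algebra A T] [IsLocalRing T]

theorem faithfullyFlat_incl_injective [Module.FaithfullyFlat A T] {X : Type u} [AddCommGroup X] [Module A X] :
    Function.Injective fun x : X => (1 : T) ⊗ₜ[A] x :=
  Module.FaithfullyFlat.tensorProduct_mk_injective X

/-- A local extension without residue extension, tensored with a finite local algebra, stays local. -/
theorem tensor_local [Module.FaithfullyFlat A T] [IsLocalHom (algebraMap A T)]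
    (hres : ∀ x : T, ∃ a : A, x - algebraMap A T a ∈ maximalIdeal T)
    (A₁ : Type u) [CommRing A₁] [Algebra A A₁] [IsLocalRing A₁] [Module.Finite A A₁] :
    Function.Injective (algebraMap A₁ (A₁ ⊗[A] T)) ∧ IsLocalHom (algebraMap A₁ (A₁ ⊗[A] T)) ∧
    ∃ _ : IsLocalRing (A₁ ⊗[A] T), ∀ x, ∃ a : A₁, x - algebraMap A₁ (A₁ ⊗[A] T) a ∈ maximalIdeal _ := by
  haveI : Algebra.IsIntegral A A₁ := Algebra.IsIntegral.of_finite A A₁
  have hinj : Function.Injective (algebraMap A₁ (A₁ ⊗[A] T)) := fun a b hab =>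
    faithfullyFlat_incl_injective (T := T) (by
      simpa using congrArg (Algebra.TensorProduct.comm A A₁ T) hab)
  haveI : Nontrivial (A₁ ⊗[A] T) := hinj.nontrivial
  have hQA : ∀ (Q : Ideal (A₁ ⊗[A] T)), Q.IsMaximal → Q.comap (algebraMap A₁ (A₁ ⊗[A] T)) = maximalIdeal A₁ ∧
      ∀ z ∈ maximalIdeal T, Algebra.TensorProduct.includeRight z ∈ Q := by
    intro Q hQ
    let Q' : Ideal (T ⊗[A] A₁) := Q.comap (Algebra.TensorProduct.comm A T A₁).toRingEquiv
    haveI hQ' : Q'.IsMaximal := Ideal.comap_isMaximal_of_surjective _ (AlgEquiv.surjective _)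
    haveI : Algebra.IsIntegral T (T ⊗[A] A₁) := Algebra.IsIntegral.of_finite _ _
    have hT : Q'.comap (algebraMap T (T ⊗[A] A₁)) = maximalIdeal T :=
      IsLocalRing.eq_maximalIdeal (Ideal.isMaximal_comap_of_isIntegral_of_isMaximal Q')
    have hz : ∀ z ∈ maximalIdeal T, Algebra.TensorProduct.includeRight z ∈ Q := fun z hz => by
      rw [← hT] at hz
      simpa [Q'] using hz
    refine ⟨?_, hz⟩
    haveI : (Q.comap (algebraMap A₁ (A₁ ⊗[A] T))).IsPrime := Ideal.comap_isPrime _ _
    have hA : maximalIdeal A ≤ (Q.comap (algebraMap A₁ (A₁ ⊗[A] T))).comap (algebraMap A A₁) := by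
      intro a ha
      rw [Ideal.mem_comap, Ideal.mem_comap, ← IsScalarTower.algebraMap_apply,
        ← Algebra.TensorProduct.includeRight.commutes]
      exact hz _ (map_nonunit (algebraMap A T) a ha)
    haveI := ((maximalIdeal.isMaximal A).eq_of_le (Ideal.IsPrime.ne_top inferInstance) hA) ▸ maximalIdeal.isMaximal A
    exact IsLocalRing.eq_maximalIdeal (Ideal.isMaximal_of_isIntegral_of_isMaximal_comap _ this)
  have hdec : ∀ x : A₁ ⊗[A] T, ∃ a : A₁, ∀ Q : Ideal (A₁ ⊗[A] T), Q.IsMaximal → x - algebraMap A₁ _ a ∈ Q := by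
    intro x
    induction x using TensorProduct.induction_on with
    | zero => exact ⟨0, fun Q _ => by simp⟩
    | tmul y z =>
      obtain ⟨a, ha⟩ := hres z
      refine ⟨a • y, fun Q hQ => ?_⟩
      have := Q.mul_mem_left (y ⊗ₜ[A] (1 : T)) ((hQA Q hQ).2 _ ha)
      convert this using 1
      rw [Algebra.TensorProduct.includeRight_apply, Algebra.TensorProduct.tmul_mul_tmul, mul_one, one_mul,
        TensorProduct.tmul_sub, Algebra.algebraMap_eq_smul_one a, ← TensorProduct.smul_tmul,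
        Algebra.TensorProduct.algebraMap_apply, Algebra.algebraMap_self, RingHom.id_apply]
    | add x y hx hy =>
      obtain ⟨a, ha⟩ := hx
      obtain ⟨b, hb⟩ := hy
      refine ⟨a + b, fun Q hQ => ?_⟩
      rw [map_add, add_sub_add_comm]
      exact Q.add_mem (ha Q hQ) (hb Q hQ)
  obtain ⟨Q₀, hQ₀⟩ := Ideal.exists_maximal (A₁ ⊗[A] T)
  have huniq : ∀ Q : Ideal (A₁ ⊗[A] T), Q.IsMaximal → Q = Q₀ := fun Q hQ => by
    refine hQ.eq_of_le hQ₀.ne_top fun x hx => ?_
    obtain ⟨a, ha⟩ := hdec x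
    have h1 : a ∈ Q.comap (algebraMap A₁ (A₁ ⊗[A] T)) := by
      simpa [Ideal.mem_comap] using Q.sub_mem hx (ha Q hQ)
    rw [(hQA Q hQ).1, ← (hQA Q₀ hQ₀).1] at h1
    have := Q₀.add_mem (ha Q₀ hQ₀) h1
    simpa using this
  haveI hloc : IsLocalRing (A₁ ⊗[A] T) := IsLocalRing.of_unique_max_ideal ⟨Q₀, hQ₀, huniq⟩
  refine ⟨hinj, ⟨fun a ha => ?_⟩, hloc, fun x => ?_⟩
  · by_contra hu
    have h1 : a ∈ maximalIdeal A₁ := (mem_maximalIdeal _).2 hu
    rw [← (hQA Q₀ hQ₀).1] at h1
    exact hQ₀.ne_top (Ideal.eq_top_of_isUnit_mem _ h1 ha)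
  · obtain ⟨a, ha⟩ := hdec x
    exact ⟨a, ha _ (maximalIdeal.isMaximal _)⟩

theorem diagBC_tmul {R : Type u} [CommRing R] (T' : Type u) [CommRing T'] [Algebra R T'] (M : Type u)
    [CommMonoid M] (x : T') (w : MonoidAlgebra R M) :
    MultTypeLib.diagBC R T' M (x ⊗ₜ[R] w) = x • MonoidAlgebra.mapAlgHom M (Algebra.ofId R T') w := by
  induction w using MonoidAlgebra.induction_linear with
  | zero => simp
  | add p q hp hq => simp only [TensorProduct.tmul_add, map_add, smul_add, hp, hq]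
  | single m r =>
    rw [show MonoidAlgebra.single m r = r • MonoidAlgebra.single m (1 : R) by simp, ← TensorProduct.smul_tmul,
      MultTypeLib.diagBC_tmul_single, map_smul, MonoidAlgebra.mapAlgHom_single, map_one]
    simp [Algebra.smul_def, mul_comm]

variable {B : Type u} [CommRing B] [HopfAlgebra A B] {C : Type u} [CommRing C] [HopfAlgebra A C]

theorem cancelBC_symm_tmul {R T₁ T₂ D : Type u} [CommRing R] [CommRing T₁] [CommRing T₂] [Algebra R T₁]
    [Algebra R T₂] [Algebra T₁ T₂] [IsScalarTower R T₁ T₂] [CommRing D] [Bialgebra R D] (x : T₂) (d : D) :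
    (MultTypeLib.cancelBC R D T₁ T₂).symm (x ⊗ₜ[R] d) = x ⊗ₜ[T₁] ((1 : T₁) ⊗ₜ[R] d) := by
  rw [← BialgEquiv.symm_apply_apply (MultTypeLib.cancelBC R D T₁ T₂) (x ⊗ₜ[T₁] ((1 : T₁) ⊗ₜ[R] d)),
    MultTypeLib.cancelBC_tmul, one_smul]

theorem ptHom_apply {R T₁ D X : Type u} [CommRing R] [CommRing T₁] [Algebra R T₁] [CommRing D] [Bialgebra R D]
    [CommRing X] [Bialgebra T₁ X] [Algebra R X] [IsScalarTower R T₁ X] (Φ : T₁ ⊗[R] D →ₐc[T₁] X) (d : D) :
    (((Φ : T₁ ⊗[R] D →ₐ[T₁] X).restrictScalars R).comp Algebra.TensorProduct.includeRight) d =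
      Φ ((1 : T₁) ⊗ₜ[R] d) :=
  rfl

theorem bialgTrans_apply {R X Y Z : Type u} [CommRing R] [CommRing X] [Bialgebra R X] [CommRing Y] [Bialgebra R Y]
    [CommRing Z] [Bialgebra R Z] (e₁ : X ≃ₐc[R] Y) (e₂ : Y ≃ₐc[R] Z) (x : X) : e₁.trans e₂ x = e₂ (e₁ x) :=
  rfl

variable {A₁ T' : Type u} [CommRing A₁] [CommRing T'] [Algebra A A₁] [Algebra A T'] [Algebra A₁ T']
  [IsScalarTower A A₁ T'] [Algebra T T'] [IsScalarTower A T T'] {M : Type u} [CommGroup M]

variable (T') in
/-- The trivialisation of the target over `T'`. -/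
def trivBC (e : A₁ ⊗[A] B ≃ₐc[A₁] MonoidAlgebra A₁ M) : T' ⊗[A] B ≃ₐc[T'] MonoidAlgebra T' M :=
  ((MultTypeLib.cancelBC A B A₁ T').symm.trans (MultTypeLib.bcEquiv T' e)).trans (MultTypeLib.diagBC A₁ T' M)

theorem trivBC_tmul (e : A₁ ⊗[A] B ≃ₐc[A₁] MonoidAlgebra A₁ M) (x : T') (b : B) :
    trivBC T' e (x ⊗ₜ[A] b) = x • MonoidAlgebra.mapAlgHom M (Algebra.ofId A₁ T') (e ((1 : A₁) ⊗ₜ[A] b)) := by
  rw [trivBC, bialgTrans_apply, bialgTrans_apply,
    show (MultTypeLib.cancelBC A B A₁ T').symm (x ⊗ₜ[A] b) = x ⊗ₜ[A₁] ((1 : A₁) ⊗ₜ[A] b) from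
      cancelBC_symm_tmul x b,
    MultTypeLib.bcEquiv_tmul, diagBC_tmul]

theorem trivBC_rTensor (e : A₁ ⊗[A] B ≃ₐc[A₁] MonoidAlgebra A₁ M) (z : A₁ ⊗[A] B) :
    trivBC T' e (LinearMap.rTensor B (IsScalarTower.toAlgHom A A₁ T').toLinearMap z) =
      MonoidAlgebra.mapAlgHom M (Algebra.ofId A₁ T') (e z) := by
  induction z using TensorProduct.induction_on with
  | zero => simp
  | tmul a b =>
    rw [LinearMap.rTensor_tmul, trivBC_tmul,
      show a ⊗ₜ[A] b = a • ((1 : A₁) ⊗ₜ[A] b) by rw [TensorProduct.smul_tmul', smul_eq_mul, mul_one],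
      map_smul, map_smul, AlgHom.toLinearMap_apply, IsScalarTower.toAlgHom_apply, algebraMap_smul]
  | add p q hp hq => simp only [map_add, hp, hq]

variable (T') in
/-- The base change of a homomorphism to `T'`. -/
def pushHom (φ' : T ⊗[A] C →ₐc[T] T ⊗[A] B) : T' ⊗[A] C →ₐc[T'] T' ⊗[A] B :=
  ((MultTypeLib.cancelBC A B T T').toBialgHom).comp
    ((Bialgebra.TensorProduct.map (BialgHom.id T' T') φ').comp (MultTypeLib.cancelBC A C T T').symm.toBialgHom)

theorem pushHom_one_tmul (φ' : T ⊗[A] C →ₐc[T] T ⊗[A] B) (c : C) : pushHom T' φ' ((1 : T') ⊗ₜ[A] c) =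
    LinearMap.rTensor B (IsScalarTower.toAlgHom A T T').toLinearMap (φ' ((1 : T) ⊗ₜ[A] c)) := by
  have h : (MultTypeLib.cancelBC A C T T').symm.toBialgHom ((1 : T') ⊗ₜ[A] c) =
      (1 : T') ⊗ₜ[T] ((1 : T) ⊗ₜ[A] c) :=
    cancelBC_symm_tmul (1 : T') c
  simp only [pushHom, BialgHom.coe_comp, Function.comp_apply, h, Bialgebra.TensorProduct.map_tmul,
    BialgHom.id_apply]
  generalize φ' ((1 : T) ⊗ₜ[A] c) = y
  induction y using TensorProduct.induction_on with
  | zero => simp
  | tmul t b =>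
    refine (MultTypeLib.cancelBC_tmul A B T T' (1 : T') t b).trans ?_
    rw [LinearMap.rTensor_tmul, Algebra.smul_def, mul_one]
    rfl
  | add p q hp hq => simp only [TensorProduct.tmul_add, map_add, hp, hq]

/-- A bialgebra homomorphism to a group algebra over a local extension has its values over the base. -/
theorem exists_base_value {A₁ T' : Type u} [CommRing A₁] [HenselianLocalRing A₁] [IsNoetherianRing A₁] [CommRing T']
    [IsLocalRing T'] [Algebra A₁ T'] [IsLocalHom (algebraMap A₁ T')] (hinj : Function.Injective (algebraMap A₁ T'))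
    (hres : ∀ x : T', ∃ a : A₁, x - algebraMap A₁ T' a ∈ maximalIdeal T') {C₁ : Type u} [CommRing C₁]
    [HopfAlgebra A₁ C₁] [Algebra.FiniteType A₁ C₁] {L : Type u} [Field L] [Algebra (ResidueField A₁) L] [Algebra A₁ L]
    [IsScalarTower A₁ (ResidueField A₁) L] {N : Type u} [CommGroup N] (E : L ⊗[A₁] C₁ ≃ₐc[L] MonoidAlgebra L N)
    {M : Type u} [CommGroup M] (Φ : T' ⊗[A₁] C₁ →ₐc[T'] MonoidAlgebra T' M) (c : C₁) :
    ∃ w : MonoidAlgebra A₁ M, MonoidAlgebra.mapAlgHom M (Algebra.ofId A₁ T') w = Φ ((1 : T') ⊗ₜ[A₁] c) := by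
  classical
  have hcoef := fun μ => HenselHom.coeff_mem_range (A := A₁) (A' := T') hinj hres (L := L) E _
    (HenselHom.isHomPt_of_bialgHom Φ) c μ
  choose a ha using hcoef
  refine ⟨MonoidAlgebra.ofCoeff (Finsupp.onFinset (Φ ((1 : T') ⊗ₜ[A₁] c)).coeff.support a fun μ hμ => ?_),
    MonoidAlgebra.ext (Finsupp.ext fun μ => ?_)⟩
  · refine Finsupp.mem_support_iff.2 fun h0 => hμ (hinj ?_)
    rw [ha, map_zero]
    exact h0
  · refine Eq.trans ?_ (ha μ)
    simp

set_option maxRecDepth 8000 in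
/-- The base change of a homomorphism, at a ring over `T` and `A₁`, comes from `A₁`. -/
theorem exists_base_tensor [HenselianLocalRing A₁] [IsNoetherianRing A₁] [IsLocalRing T']
    [IsLocalHom (algebraMap A₁ T')] (hinj : Function.Injective (algebraMap A₁ T'))
    (hres : ∀ x : T', ∃ a : A₁, x - algebraMap A₁ T' a ∈ maximalIdeal T') [Algebra.FiniteType A C]
    {L : Type u} [Field L] [Algebra (ResidueField A₁) L] [Algebra A₁ L]
    [IsScalarTower A₁ (ResidueField A₁) L] {N : Type u} [CommGroup N]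
    (E : L ⊗[A₁] (A₁ ⊗[A] C) ≃ₐc[L] MonoidAlgebra L N) (e : A₁ ⊗[A] B ≃ₐc[A₁] MonoidAlgebra A₁ M)
    (φ' : T ⊗[A] C →ₐc[T] T ⊗[A] B) (c : C) :
    ∃ z : A₁ ⊗[A] B, LinearMap.rTensor B (IsScalarTower.toAlgHom A A₁ T').toLinearMap z =
      LinearMap.rTensor B (IsScalarTower.toAlgHom A T T').toLinearMap (φ' ((1 : T) ⊗ₜ[A] c)) := by
  obtain ⟨w, hw⟩ := exists_base_value hinj hres E
    ((trivBC T' e).toBialgHom.comp ((pushHom T' φ').comp (MultTypeLib.cancelBC A C A₁ T').toBialgHom))
    ((1 : A₁) ⊗ₜ[A] c)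
  refine ⟨e.symm w, EquivLike.injective (trivBC T' e) ?_⟩
  rw [trivBC_rTensor, BialgEquiv.apply_symm_apply, hw, ← pushHom_one_tmul (T' := T') φ' c]
  exact congrArg (fun u => trivBC T' e (pushHom T' φ' u))
    ((MultTypeLib.cancelBC_tmul A C A₁ T' (1 : T') (1 : A₁) c).trans (by rw [one_smul]))

set_option maxHeartbeats 1000000 in
/-- The descent statement at one finite local algebra splitting the target. -/
theorem mem_range_local [IsNoetherianRing A] [HenselianLocalRing A] [Module.FaithfullyFlat A T]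
    [IsLocalHom (algebraMap A T)] (hres : ∀ x : T, ∃ a : A, x - algebraMap A T a ∈ maximalIdeal T)
    (hCft : Algebra.FiniteType A C) {L : Type u} [Field L] [Algebra (ResidueField A) L] {N : Type u} [CommGroup N]
    (eL : L ⊗[ResidueField A] (ResidueField A ⊗[A] C) ≃ₐc[L] MonoidAlgebra L N)
    (A₁ : Type u) [CommRing A₁] [Algebra A A₁] [IsLocalRing A₁] [Module.Finite A A₁] {M : Type u} [CommGroup M]
    (e : A₁ ⊗[A] B ≃ₐc[A₁] MonoidAlgebra A₁ M) (φ' : T ⊗[A] C →ₐc[T] T ⊗[A] B) (c : C) :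
    (1 : A₁) ⊗ₜ[A] φ' ((1 : T) ⊗ₜ[A] c) ∈ LinearMap.range (LinearMap.lTensor A₁ (TensorProduct.mk A T B 1)) := by
  haveI := hCft
  haveI : IsNoetherianRing A₁ := IsNoetherianRing.of_finite A A₁
  haveI : HenselianLocalRing A₁ := S0505.result A A₁
  haveI : Algebra.IsIntegral A A₁ := Algebra.IsIntegral.of_finite A A₁
  haveI : IsLocalHom (algebraMap A A₁) := ⟨fun a ha => by
    by_contra hu
    obtain ⟨Q, hQ, -⟩ := Ideal.exists_le_maximal (⊥ : Ideal A₁) bot_ne_top
    haveI := hQ
    have h1 := IsLocalRing.eq_maximalIdeal (Ideal.isMaximal_comap_of_isIntegral_of_isMaximal (R := A) Q)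
    exact hQ.ne_top (Ideal.eq_top_of_isUnit_mem _ (h1.ge ((mem_maximalIdeal _).2 hu) : a ∈ Q.comap _) ha)⟩
  obtain ⟨hinj, hlh, hloc, hres'⟩ := tensor_local hres A₁
  haveI := hlh
  haveI := hloc
  -- the field
  letI : Algebra A L := ((algebraMap (ResidueField A) L).comp (algebraMap A (ResidueField A))).toAlgebra
  haveI : IsScalarTower A (ResidueField A) L := IsScalarTower.of_algebraMap_eq fun _ => rfl
  let X := L ⊗[ResidueField A] ResidueField A₁
  haveI : Nontrivial X := by infer_instance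
  obtain ⟨m, hm⟩ := Ideal.exists_maximal X
  let L₁ := X ⧸ m
  letI : Field L₁ := Ideal.Quotient.field m
  letI : Algebra (ResidueField A₁) L₁ := ((Ideal.Quotient.mk m).comp
    (Algebra.TensorProduct.includeRight : ResidueField A₁ →ₐ[ResidueField A] X).toRingHom).toAlgebra
  letI : Algebra A₁ L₁ := ((algebraMap (ResidueField A₁) L₁).comp (algebraMap A₁ (ResidueField A₁))).toAlgebra
  haveI : IsScalarTower A₁ (ResidueField A₁) L₁ := IsScalarTower.of_algebraMap_eq fun _ => rfl
  haveI : IsScalarTower A L L₁ := IsScalarTower.of_algebraMap_eq fun _ => rfl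
  haveI : IsScalarTower A A₁ L₁ := IsScalarTower.of_algebraMap_eq fun a => by
    show Ideal.Quotient.mk m (algebraMap L X (algebraMap (ResidueField A) L (residue A a))) =
      Ideal.Quotient.mk m (Algebra.TensorProduct.includeRight (residue A₁ (algebraMap A A₁ a)))
    rw [show residue A₁ (algebraMap A A₁ a) = algebraMap (ResidueField A) (ResidueField A₁) (residue A a) from rfl,
      AlgHom.commutes]
    rfl
  let E : L₁ ⊗[A₁] (A₁ ⊗[A] C) ≃ₐc[L₁] MonoidAlgebra L₁ N :=
    ((MultTypeLib.cancelBC A C A₁ L₁).trans (MultTypeLib.cancelBC A C L L₁).symm).trans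
      ((MultTypeLib.bcEquiv L₁ ((MultTypeLib.cancelBC A C (ResidueField A) L).symm.trans eL)).trans
        (MultTypeLib.diagBC L L₁ N))
  -- the homomorphism
  let T' := A₁ ⊗[A] T
  letI : Algebra T T' := Algebra.TensorProduct.rightAlgebra
  let y := φ' ((1 : T) ⊗ₜ[A] c)
  let J : A₁ ⊗[A] (T ⊗[A] B) ≃ₗ[A] T' ⊗[A] B := (TensorProduct.assoc A A₁ T B).symm
  have hJ : ∀ y : T ⊗[A] B, J ((1 : A₁) ⊗ₜ[A] y) =
      LinearMap.rTensor B (IsScalarTower.toAlgHom A T T').toLinearMap y := fun y => by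
    induction y using TensorProduct.induction_on with
    | zero => simp
    | tmul t b => rfl
    | add p q hp hq => rw [TensorProduct.tmul_add, map_add, map_add, hp, hq]
  have hJ' : ∀ z : A₁ ⊗[A] B, J (LinearMap.lTensor A₁ (TensorProduct.mk A T B 1) z) =
      LinearMap.rTensor B (IsScalarTower.toAlgHom A A₁ T').toLinearMap z := fun z => by
    induction z using TensorProduct.induction_on with
    | zero => simp
    | tmul a b => rfl
    | add p q hp hq => rw [map_add, map_add, map_add, hp, hq]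
  obtain ⟨z, hz⟩ := exists_base_tensor (T' := T') hinj hres' E e φ' c
  refine ⟨z, J.injective ?_⟩
  rw [hJ', hz, hJ]

set_option maxHeartbeats 1000000 in
/-- Surjectivity of base change to a local extension without residue extension, over a henselian base. -/
theorem exists_descend [IsNoetherianRing A] [HenselianLocalRing A] [Module.FaithfullyFlat A T]
    [IsLocalHom (algebraMap A T)] (hres : ∀ x : T, ∃ a : A, x - algebraMap A T a ∈ maximalIdeal T)
    (hBft : Algebra.FiniteType A B) (hB : IsMultType A B) (hCft : Algebra.FiniteType A C)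
    (hs : IsMultType (ResidueField A) (ResidueField A ⊗[A] C)) (φ' : T ⊗[A] C →ₐc[T] T ⊗[A] B) :
    ∃ φ : C →ₐc[A] B, ∀ c : C, φ' ((1 : T) ⊗ₜ[A] c) = (1 : T) ⊗ₜ[A] (φ c) := by
  classical
  haveI := hCft
  obtain ⟨L, _, _, _, _, N, _, -, ⟨eL⟩⟩ := MultTypeLib.exists_separable_isDiag
    (Algebra.FiniteType.baseChange (R := A) (A := C) (ResidueField A)) hs
  obtain ⟨S, _, _, _, _, _, M, _, ⟨eS⟩⟩ := S2974.result A B hBft hB
  obtain ⟨ι, _, F, _, hloc, ⟨Er⟩⟩ := S0499.result A S
  have hrange : ∀ c, φ' ((1 : T) ⊗ₜ[A] c) ∈ LinearMap.range (TensorProduct.mk A T B 1) := by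
    intro c
    let P := LinearMap.range (TensorProduct.mk A T B 1)
    let n : (T ⊗[A] B) ⧸ P := P.mkQ (φ' ((1 : T) ⊗ₜ[A] c))
    suffices hn : n = 0 by exact (Submodule.Quotient.mk_eq_zero P).1 hn
    letI : ∀ i, Algebra A (F i) := fun i =>
      (((Pi.evalRingHom F i).comp Er.toRingHom).comp (algebraMap A S)).toAlgebra
    let Ea : S ≃ₐ[A] (∀ i, F i) := AlgEquiv.ofRingEquiv (f := Er) fun a => funext fun i => rfl
    have hi : ∀ i, (1 : F i) ⊗ₜ[A] n = 0 := fun i => by
      haveI := hloc i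
      let p : S →ₐ[A] F i := (Pi.evalAlgHom A F i).comp Ea
      haveI : Module.Finite A (F i) := Module.Finite.of_surjective p.toLinearMap
        ((Function.surjective_eval i).comp Ea.surjective)
      letI : Algebra S (F i) := p.toRingHom.toAlgebra
      haveI : IsScalarTower A S (F i) := IsScalarTower.of_algebraMap_eq fun a => (p.commutes a).symm
      obtain ⟨z, hz⟩ := mem_range_local hres hCft eL (F i)
        (((MultTypeLib.cancelBC A B S (F i)).symm.trans (MultTypeLib.bcEquiv (F i) eS)).trans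
          (MultTypeLib.diagBC S (F i) M)) φ' c
      show LinearMap.lTensor (F i) P.mkQ ((1 : F i) ⊗ₜ[A] φ' ((1 : T) ⊗ₜ[A] c)) = 0
      rw [← hz, ← LinearMap.comp_apply, ← LinearMap.lTensor_comp,
        show P.mkQ ∘ₗ TensorProduct.mk A T B 1 = 0 from LinearMap.range_le_ker_iff.1 (by rw [Submodule.ker_mkQ]),
        LinearMap.lTensor_zero, LinearMap.zero_apply]
    refine Module.FaithfullyFlat.tensorProduct_mk_injective (A := A) (B := S) _ ?_
    show (1 : S) ⊗ₜ[A] n = 1 ⊗ₜ[A] 0
    rw [TensorProduct.tmul_zero]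
    refine (TensorProduct.congr Ea.toLinearEquiv (LinearEquiv.refl A _)).injective ?_
    rw [map_zero, TensorProduct.congr_tmul]
    refine (TensorProduct.comm A _ _).injective ?_
    refine (TensorProduct.piRight A A _ F).injective ?_
    rw [map_zero, map_zero, TensorProduct.comm_tmul, TensorProduct.piRight_apply]
    funext i
    rw [TensorProduct.piRightHom_tmul]
    refine (TensorProduct.comm A _ _).injective ?_
    simpa using hi i
  choose g hg using hrange
  have hg' : ∀ c, (1 : T) ⊗ₜ[A] g c = φ' ((1 : T) ⊗ₜ[A] c) := hg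
  have hinj : Function.Injective fun x : B => (1 : T) ⊗ₜ[A] x := faithfullyFlat_incl_injective
  let gA : C →ₐ[A] B :=
    { toFun := g
      map_one' := hinj (by
        show (1 : T) ⊗ₜ[A] g 1 = (1 : T) ⊗ₜ[A] (1 : B)
        rw [hg', ← Algebra.TensorProduct.one_def, map_one]
        rfl)
      map_mul' := fun x y => hinj (by
        show (1 : T) ⊗ₜ[A] g (x * y) = (1 : T) ⊗ₜ[A] (g x * g y)
        rw [hg', ← mul_one (1 : T), ← Algebra.TensorProduct.tmul_mul_tmul, map_mul,
          ← Algebra.TensorProduct.tmul_mul_tmul, hg', hg'])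
      map_zero' := hinj (by
        show (1 : T) ⊗ₜ[A] g 0 = (1 : T) ⊗ₜ[A] (0 : B)
        rw [hg', TensorProduct.tmul_zero, map_zero, TensorProduct.tmul_zero])
      map_add' := fun x y => hinj (by
        show (1 : T) ⊗ₜ[A] g (x + y) = (1 : T) ⊗ₜ[A] (g x + g y)
        rw [hg', TensorProduct.tmul_add, map_add, TensorProduct.tmul_add, hg', hg'])
      commutes' := fun r => hinj (by
        show (1 : T) ⊗ₜ[A] g (algebraMap A C r) = (1 : T) ⊗ₜ[A] algebraMap A B r
        rw [hg', Algebra.algebraMap_eq_smul_one, Algebra.algebraMap_eq_smul_one, TensorProduct.tmul_smul,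
          TensorProduct.tmul_smul, ← algebraMap_smul T r, map_smul, ← Algebra.TensorProduct.one_def, map_one]
        exact algebraMap_smul T r _) }
  refine ⟨BialgHom.ofAlgHom gA ?_ ?_, fun c => (hg' c).symm⟩
  · refine AlgHom.ext fun c => ?_
    show Coalgebra.counit (R := A) (g c) = Coalgebra.counit (R := A) c
    refine (FaithfulSMul.algebraMap_injective A T) ?_
    have h1 : ∀ {D : Type u} [CommRing D] [HopfAlgebra A D] (d : D),
        Coalgebra.counit (R := T) ((1 : T) ⊗ₜ[A] d) = algebraMap A T (Coalgebra.counit (R := A) d) := fun d => by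
      simp [Algebra.smul_def]
    rw [← h1, ← h1, hg', CoalgHomClass.counit_comp_apply]
  · refine AlgHom.ext fun c => ?_
    show TensorProduct.map gA.toLinearMap gA.toLinearMap (Coalgebra.comul (R := A) c) = Coalgebra.comul (R := A) (g c)
    have hκ : Function.Injective fun x : B ⊗[A] B =>
        TensorProduct.AlgebraTensorModule.distribBaseChange A T B B ((1 : T) ⊗ₜ[A] x) :=
      (LinearEquiv.injective _).comp faithfullyFlat_incl_injective
    have h1 : ∀ {D : Type u} [CommRing D] [HopfAlgebra A D] (d : D), Coalgebra.comul (R := T) ((1 : T) ⊗ₜ[A] d) =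
        TensorProduct.AlgebraTensorModule.distribBaseChange A T D D ((1 : T) ⊗ₜ[A] Coalgebra.comul (R := A) d) := by
      intro D _ _ d
      simp [← (Coalgebra.Repr.arbitrary A d).eq, TensorProduct.tmul_sum]
    refine hκ ?_
    simp only [← h1]
    rw [hg', ← CoalgHomClass.map_comp_comul_apply φ' ((1 : T) ⊗ₜ[A] c), h1]
    generalize Coalgebra.comul (R := A) c = z
    induction z using TensorProduct.induction_on with
    | zero => simp
    | tmul p q =>
      simp only [TensorProduct.map_tmul, AlgHom.toLinearMap_apply, TensorProduct.AlgebraTensorModule.distribBaseChange_tmul]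
      exact congrArg₂ (· ⊗ₜ[T] ·) (hg' p) (hg' q)
    | add p q hp hq => simp only [TensorProduct.tmul_add, map_add, hp, hq]

/-- The residues of the completion come from the ring. -/
theorem completion_hres [IsNoetherianRing A] (x : AdicCompletion (maximalIdeal A) A) :
    ∃ a : A, x - algebraMap A _ a ∈ maximalIdeal (AdicCompletion (maximalIdeal A) A) := by
  obtain ⟨a, ha⟩ := (AdicCompletion.residueField_map_bijective A).2 (residue _ x)
  obtain ⟨a, rfl⟩ := residue_surjective a
  rw [ResidueField.map_residue] at ha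
  exact ⟨a, Ideal.Quotient.eq.1 ha.symm⟩

end Groth.Agent.MTRigid29.HenselBC
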