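import Groth.Agent.Lib.MultType.Split
import Groth.Agent.Lib.MultType.Field
import Groth.Agent.S0499
import Groth.Agent.S0503
import Groth.Agent.S0505
import Mathlib.Algebra.DualNumber
import Mathlib.Algebra.TrivSqZeroExt.Basic
import Mathlib.RingTheory.Unramified.Locus
import Mathlib.RingTheory.Unramified.LocalRing
import Mathlib.RingTheory.QuasiFinite.Basic
import Mathlib.RingTheory.LocalRing.Module

/-!
# Homomorphisms from diagonalisable groups over a henselian base are defined over the base
-/

set_option autoImplicit false
set_option linter.style.haveILetI false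

universe u

open TensorProduct IsLocalRing

noncomputable section

namespace Groth.Agent.MTRigid29.HenselHom

variable {A : Type u} [CommRing A] {M : Type u} [CommGroup M]

/-- Left inclusion into the group algebra of pairs. -/
def inl (T : Type u) [CommRing T] [Algebra A T] : MonoidAlgebra T M →ₐ[T] MonoidAlgebra T (M × M) :=
  MonoidAlgebra.mapDomainAlgHom T T (MonoidHom.inl M M)

/-- Right inclusion into the group algebra of pairs. -/
def inr (T : Type u) [CommRing T] [Algebra A T] : MonoidAlgebra T M →ₐ[T] MonoidAlgebra T (M × M) :=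
  MonoidAlgebra.mapDomainAlgHom T T (MonoidHom.inr M M)

/-- The comultiplication, in pairs. -/
def dup (T : Type u) [CommRing T] [Algebra A T] : MonoidAlgebra T M →ₐ[T] MonoidAlgebra T (M × M) :=
  MonoidAlgebra.mapDomainAlgHom T T ((MonoidHom.id M).prod (MonoidHom.id M))

/-- The counit. -/
def aug (T : Type u) [CommRing T] [Algebra A T] : MonoidAlgebra T M →ₐ[T] T := MonoidAlgebra.lift T T M 1

variable {C : Type u} [CommRing C] [HopfAlgebra A C] {T : Type u} [CommRing T] [Algebra A T]

/-- An algebra map to a group algebra which is a point of the homomorphisms from a diagonalisable group. -/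
def IsHomPt (ψ : C →ₐ[A] MonoidAlgebra T M) : Prop :=
  (∀ c, dup (A := A) T (ψ c) = Algebra.TensorProduct.lift (((inl (A := A) T).restrictScalars A).comp ψ)
    (((inr (A := A) T).restrictScalars A).comp ψ) (fun _ _ => .all _ _) (Coalgebra.comul (R := A) c)) ∧
  ∀ c, aug (A := A) T (ψ c) = algebraMap A T (Coalgebra.counit (R := A) c)

theorem coeff_inl_mul_inr (x y : MonoidAlgebra T M) (a b : M) :
    (inl (A := A) T x * inr (A := A) T y).coeff (a, b) = x.coeff a * y.coeff b := by
  classical
  induction x using MonoidAlgebra.induction_linear with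
  | zero => simp
  | add p q hp hq => simp only [map_add, add_mul, MonoidAlgebra.coeff_add, Finsupp.add_apply, hp, hq]
  | single m r =>
    induction y using MonoidAlgebra.induction_linear with
    | zero => simp
    | add p q hp hq => simp only [map_add, mul_add, MonoidAlgebra.coeff_add, Finsupp.add_apply, hp, hq]
    | single m' r' =>
      simp only [inl, inr, MonoidAlgebra.mapDomainAlgHom_apply, MonoidAlgebra.mapDomain_single,
        MonoidHom.inl_apply, MonoidHom.inr_apply, MonoidAlgebra.single_mul_single, Prod.mk_mul_mk, mul_one, one_mul,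
        MonoidAlgebra.coeff_single, Finsupp.single_apply, Prod.mk.injEq]
      by_cases h : m = a <;> by_cases h' : m' = b <;> simp [h, h']

theorem coeff_dup (x : MonoidAlgebra T M) (a b : M) [DecidableEq M] :
    (dup (A := A) T x).coeff (a, b) = if a = b then x.coeff a else 0 := by
  classical
  induction x using MonoidAlgebra.induction_linear with
  | zero => simp
  | add p q hp hq =>
    simp only [map_add, MonoidAlgebra.coeff_add, Finsupp.add_apply, hp, hq]
    split_ifs <;> simp
  | single m r =>
    simp only [dup, MonoidAlgebra.mapDomainAlgHom_apply, MonoidAlgebra.mapDomain_single, MonoidHom.prod_apply,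
      MonoidHom.id_apply, MonoidAlgebra.coeff_single, Finsupp.single_apply, Prod.mk.injEq]
    by_cases h : m = a <;> by_cases h' : a = b <;> simp_all

theorem eq_zero_or_one {R : Type*} [CommRing R] [IsLocalRing R] {x : R} (h : IsIdempotentElem x) :
    x = 0 ∨ x = 1 := by
  rcases IsLocalRing.isUnit_or_isUnit_one_sub_self x with hu | hu
  · exact Or.inr (hu.mul_left_cancel (h.trans (mul_one x).symm))
  · refine Or.inl (hu.mul_left_cancel ?_)
    rw [mul_zero, sub_mul, one_mul, h, sub_self]

/-- Over a local ring the characters of a diagonalisable group are its group elements. -/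
theorem exists_eq_single [IsLocalRing T] (z : MonoidAlgebra T M)
    (h1 : dup (A := A) T z = inl (A := A) T z * inr (A := A) T z) (h2 : aug (A := A) T z = 1) :
    ∃ m, z = MonoidAlgebra.single m 1 := by
  classical
  have hc : ∀ a b, z.coeff a * z.coeff b = if a = b then z.coeff a else 0 := fun a b => by
    rw [← coeff_inl_mul_inr (A := A), ← h1, coeff_dup]
  have hz : ∑ m ∈ z.coeff.support, z.coeff m = 1 := by
    rw [← h2]
    show _ = MonoidAlgebra.lift T T M 1 z
    rw [MonoidAlgebra.lift_apply, Finsupp.sum]
    simp
  obtain ⟨m, -, hm⟩ : ∃ m ∈ z.coeff.support, IsUnit (z.coeff m) := by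
    by_contra! h
    exact (IsLocalRing.maximalIdeal.isMaximal T).ne_top ((Ideal.eq_top_iff_one _).2
      (hz ▸ Ideal.sum_mem _ fun m hm => (IsLocalRing.mem_maximalIdeal _).2 (h m hm)))
  refine ⟨m, MonoidAlgebra.ext ?_⟩
  refine Finsupp.ext fun a => ?_
  have hm1 : z.coeff m = 1 := hm.mul_left_cancel ((hc m m).trans (by rw [if_pos rfl, mul_one]))
  rw [MonoidAlgebra.coeff_single, Finsupp.single_apply]
  split_ifs with h
  · rw [← h, hm1]
  · have := hc m a
    rwa [if_neg h, hm1, one_mul] at this

theorem IsHomPt.push {ψ : C →ₐ[A] MonoidAlgebra T M} (h : IsHomPt ψ) {T' : Type u} [CommRing T'] [Algebra A T']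
    (g : T →ₐ[A] T') : IsHomPt ((MonoidAlgebra.mapAlgHom M g).comp ψ) := by
  have key : ∀ (f : M →* M × M) (x : MonoidAlgebra T M),
      MonoidAlgebra.mapDomainAlgHom T' T' f (MonoidAlgebra.mapAlgHom M g x) =
        MonoidAlgebra.mapAlgHom (M × M) g (MonoidAlgebra.mapDomainAlgHom T T f x) := by
    intro f x
    induction x using MonoidAlgebra.induction_linear with
    | zero => simp
    | add p q hp hq => simp only [map_add, hp, hq]
    | single m r =>
      simp [MonoidAlgebra.mapDomainAlgHom_apply, MonoidAlgebra.mapDomain_single, MonoidAlgebra.mapAlgHom_single]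
  refine ⟨fun c => ?_, fun c => ?_⟩
  · show MonoidAlgebra.mapDomainAlgHom T' T' _ (MonoidAlgebra.mapAlgHom M g (ψ c)) = _
    rw [key, show MonoidAlgebra.mapDomainAlgHom T T _ (ψ c) = _ from h.1 c]
    show ((MonoidAlgebra.mapAlgHom (M × M) g).comp (Algebra.TensorProduct.lift
      (((inl (A := A) T).restrictScalars A).comp ψ) (((inr (A := A) T).restrictScalars A).comp ψ)
      (fun _ _ => .all _ _))) (Coalgebra.comul (R := A) c) = _
    refine DFunLike.congr_fun (Algebra.TensorProduct.ext ?_ ?_) _
    · refine AlgHom.ext fun x => ?_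
      simp only [AlgHom.comp_apply, Algebra.TensorProduct.includeLeft_apply, Algebra.TensorProduct.lift_tmul,
        AlgHom.restrictScalars_apply, map_one, mul_one]
      exact (key (MonoidHom.inl M M) (ψ x)).symm
    · refine AlgHom.ext fun x => ?_
      simp only [AlgHom.comp_apply, AlgHom.restrictScalars_apply, Algebra.TensorProduct.includeRight_apply,
        Algebra.TensorProduct.lift_tmul, map_one, one_mul]
      exact (key (MonoidHom.inr M M) (ψ x)).symm
  · show aug (A := A) T' (MonoidAlgebra.mapAlgHom M g (ψ c)) = _
    have h3 : ∀ x : MonoidAlgebra T M, aug (A := A) T' (MonoidAlgebra.mapAlgHom M g x) = g (aug (A := A) T x) := by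
      intro x
      induction x using MonoidAlgebra.induction_linear with
      | zero => simp
      | add p q hp hq => simp only [map_add, hp, hq]
      | single m r => simp [aug, MonoidAlgebra.mapAlgHom_single]
    rw [h3, h.2, g.commutes]

/-- A homomorphism of bialgebras to a group algebra gives a point. -/
theorem isHomPt_of_bialgHom (Φ : T ⊗[A] C →ₐc[T] MonoidAlgebra T M) :
    IsHomPt (((Φ : T ⊗[A] C →ₐ[T] MonoidAlgebra T M).restrictScalars A).comp Algebra.TensorProduct.includeRight) := by
  let Φa : T ⊗[A] C →ₐ[T] MonoidAlgebra T M := Φ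
  let pair : MonoidAlgebra T M ⊗[T] MonoidAlgebra T M →ₐ[T] MonoidAlgebra T (M × M) :=
    Algebra.TensorProduct.lift (inl (A := A) T) (inr (A := A) T) fun _ _ => .all _ _
  have hpair : ∀ x, pair (Coalgebra.comul (R := T) x) = dup (A := A) T x := by
    intro x
    induction x using MonoidAlgebra.induction_linear with
    | zero => simp
    | add p q hp hq => simp only [map_add, hp, hq]
    | single m r =>
      rw [show MonoidAlgebra.single m r = r • MonoidAlgebra.single m (1 : T) by simp, map_smul, map_smul, map_smul,
        MonoidAlgebra.comul_single]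
      congr 1
      simp [pair, inl, inr, dup, MonoidAlgebra.mapDomainAlgHom_apply, MonoidAlgebra.mapDomain_single,
        MonoidAlgebra.single_mul_single]
  refine ⟨fun c => ?_, fun c => ?_⟩
  · show dup (A := A) T (Φa (1 ⊗ₜ c)) = _
    rw [← hpair, show Coalgebra.comul (R := T) (Φa (1 ⊗ₜ c)) =
      TensorProduct.map (Φ : T ⊗[A] C →ₗ[T] MonoidAlgebra T M) (Φ : T ⊗[A] C →ₗ[T] MonoidAlgebra T M)
        (Coalgebra.comul (R := T) ((1 : T) ⊗ₜ[A] c)) from (CoalgHomClass.map_comp_comul_apply Φ _).symm]
    simp only [← (Coalgebra.Repr.arbitrary A c).eq, map_sum, TensorProduct.comul_tmul,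
      CommSemiring.comul_apply, TensorProduct.tmul_sum]
    refine Finset.sum_congr rfl fun i _ => ?_
    simp [pair, Φa]
  · show aug (A := A) T (Φa (1 ⊗ₜ c)) = _
    have h3 : ∀ x : MonoidAlgebra T M, aug (A := A) T x = Coalgebra.counit (R := T) x := by
      intro x
      induction x using MonoidAlgebra.induction_linear with
      | zero => simp
      | add p q hp hq => simp only [map_add, hp, hq]
      | single m r => simp [aug]
    rw [h3, show Coalgebra.counit (R := T) (Φa (1 ⊗ₜ c)) = Coalgebra.counit (R := T) ((1 : T) ⊗ₜ[A] c) from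
      CoalgHomClass.counit_comp_apply Φ _]
    simp [Algebra.smul_def]

/-- Rigidity: points congruent modulo an infinitesimal of a group with multiplicative fibre agree. -/
theorem eq_of_congr {k : Type u} [Field k] [Algebra A k] {L : Type u} [Field L] [Algebra A L] {N : Type u}
    [CommGroup N] (E : L ⊗[A] C ≃ₐc[L] MonoidAlgebra L N) [Algebra L T] [IsScalarTower A L T] [IsLocalRing T]
    (χ : T →ₐ[A] k) {ψ ψ' : C →ₐ[A] MonoidAlgebra T M} (h : IsHomPt ψ) (h' : IsHomPt ψ')
    (hχ : (MonoidAlgebra.mapAlgHom M χ).comp ψ = (MonoidAlgebra.mapAlgHom M χ).comp ψ') : ψ = ψ' := by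
  let ext : (C →ₐ[A] MonoidAlgebra T M) → (L ⊗[A] C →ₐ[L] MonoidAlgebra T M) := fun φ =>
    Algebra.TensorProduct.lift (Algebra.ofId L _) φ fun _ _ => .all _ _
  have hext : ∀ φ c, ext φ (1 ⊗ₜ c) = φ c := fun φ c => by
    rw [Algebra.TensorProduct.lift_tmul, map_one, one_mul]
  have glike : ∀ φ, IsHomPt φ → ∀ n, ∃ m, ext φ (E.symm (MonoidAlgebra.single n 1)) = MonoidAlgebra.single m 1 := by
    intro φ hφ n
    let P : L ⊗[A] C →ₐ[L] MonoidAlgebra T (M × M) :=
      (Algebra.TensorProduct.lift (((inl (A := A) T).restrictScalars L).comp (ext φ))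
        (((inr (A := A) T).restrictScalars L).comp (ext φ)) fun _ _ => .all _ _).comp
          (Bialgebra.comulAlgHom L (L ⊗[A] C))
    have hd : ((dup (A := A) T).restrictScalars L).comp (ext φ) = P := by
      refine Algebra.TensorProduct.ext (Subsingleton.elim _ _) (AlgHom.ext fun c => ?_)
      show dup (A := A) T (ext φ (1 ⊗ₜ c)) = P (1 ⊗ₜ c)
      rw [hext, hφ.1 c]
      simp only [P, AlgHom.comp_apply, Bialgebra.comulAlgHom_apply, ← (Coalgebra.Repr.arbitrary A c).eq, map_sum,
        TensorProduct.comul_tmul, CommSemiring.comul_apply, TensorProduct.tmul_sum]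
      refine Finset.sum_congr rfl fun i _ => ?_
      simp [ext, ← MonoidAlgebra.one_def]
    have hcounit : ((aug (A := A) T).restrictScalars L).comp (ext φ) =
        (Algebra.ofId L T).comp (Bialgebra.counitAlgHom L (L ⊗[A] C)) := by
      refine Algebra.TensorProduct.ext (Subsingleton.elim _ _) (AlgHom.ext fun c => ?_)
      show aug (A := A) T (ext φ (1 ⊗ₜ c)) = algebraMap L T (Coalgebra.counit (R := L) ((1 : L) ⊗ₜ[A] c))
      rw [hext, hφ.2 c, IsScalarTower.algebraMap_apply A L T]
      congr 1
      simp [Algebra.smul_def]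
    refine exists_eq_single (A := A) _ ?_ ?_
    · refine (DFunLike.congr_fun hd _).trans ?_
      have hg : Coalgebra.comul (R := L) (E.symm (MonoidAlgebra.single n 1)) =
          E.symm (MonoidAlgebra.single n 1) ⊗ₜ[L] E.symm (MonoidAlgebra.single n 1) := by
        rw [← CoalgHomClass.map_comp_comul_apply E.symm (MonoidAlgebra.single n 1), MonoidAlgebra.comul_single]
        simp
      simp only [P, AlgHom.comp_apply, Bialgebra.comulAlgHom_apply, hg, Algebra.TensorProduct.lift_tmul]
      rfl
    · refine (DFunLike.congr_fun hcounit _).trans ?_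
      show algebraMap L T (Coalgebra.counit (R := L) (E.symm (MonoidAlgebra.single n 1))) = 1
      rw [CoalgHomClass.counit_comp_apply]
      simp
  have heq : ext ψ = ext ψ' := by
    refine AlgHom.ext fun z => ?_
    obtain ⟨w, rfl⟩ : ∃ w, E.symm w = z := ⟨E z, E.symm_apply_apply z⟩
    induction w using MonoidAlgebra.induction_linear with
    | zero => simp
    | add p q hp hq => simp only [map_add, hp, hq]
    | single n r =>
      rw [show MonoidAlgebra.single n r = r • MonoidAlgebra.single n (1 : L) by simp, map_smul, map_smul, map_smul]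
      congr 1
      obtain ⟨m, hm⟩ := glike ψ h n
      obtain ⟨m', hm'⟩ := glike ψ' h' n
      rw [hm, hm']
      have hcomp : ∀ φ (u : L ⊗[A] C), (MonoidAlgebra.mapAlgHom M χ).comp φ = (MonoidAlgebra.mapAlgHom M χ).comp ψ →
          MonoidAlgebra.mapAlgHom M χ (ext φ u) = MonoidAlgebra.mapAlgHom M χ (ext ψ u) := by
        intro φ u hφ
        induction u using TensorProduct.induction_on with
        | zero => simp
        | tmul l c =>
          simp only [ext, Algebra.TensorProduct.lift_tmul, map_mul]
          congr 1
          exact DFunLike.congr_fun hφ c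
        | add p q hp hq => simp only [map_add, hp, hq]
      have := hcomp ψ' (E.symm (MonoidAlgebra.single n 1)) hχ.symm
      rw [hm, hm', MonoidAlgebra.mapAlgHom_single, MonoidAlgebra.mapAlgHom_single, map_one] at this
      rw [MonoidAlgebra.single_left_injective one_ne_zero this]
  refine AlgHom.ext fun c => ?_
  have := DFunLike.congr_fun heq ((1 : L) ⊗ₜ c)
  rwa [hext, hext] at this

set_option maxHeartbeats 1000000 in
/-- A point over a local extension without residue extension is defined over the henselian base. -/
theorem coeff_mem_range [IsNoetherianRing A] [HenselianLocalRing A] {A' : Type u} [CommRing A'] [Algebra A A']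
    [IsLocalRing A'] [IsLocalHom (algebraMap A A')] (hinj : Function.Injective (algebraMap A A'))
    (hres : ∀ x : A', ∃ a : A, x - algebraMap A A' a ∈ maximalIdeal A') [Algebra.FiniteType A C]
    {L : Type u} [Field L] [Algebra (ResidueField A) L] [Algebra A L] [IsScalarTower A (ResidueField A) L]
    {N : Type u} [CommGroup N] (E : L ⊗[A] C ≃ₐc[L] MonoidAlgebra L N)
    (ψ : C →ₐ[A] MonoidAlgebra A' M) (h : IsHomPt ψ) (c : C) (m : M) :
    (ψ c).coeff m ∈ Set.range (algebraMap A A') := by
  classical
  obtain ⟨S, hS⟩ := Algebra.FiniteType.out (R := A) (A := C)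
  let G : Finset A' := S.biUnion fun s => (ψ s).coeff.support.image fun m => (ψ s).coeff m
  let P : Subalgebra A A' := Algebra.adjoin A (G : Set A')
  haveI hPft : Algebra.FiniteType A P := (Subalgebra.fg_iff_finiteType P).1 ⟨G, rfl⟩
  haveI : IsNoetherianRing P := Algebra.FiniteType.isNoetherianRing A P
  -- the point is defined over `P`
  have hmem : ∀ c m, (ψ c).coeff m ∈ P := by
    intro c
    have hc : c ∈ (⊤ : Subalgebra A C) := trivial
    rw [← hS] at hc
    induction hc using Algebra.adjoin_induction with
    | mem s hs =>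
      intro m
      by_cases hm : m ∈ (ψ s).coeff.support
      · exact Algebra.subset_adjoin (Finset.mem_biUnion.2 ⟨s, hs, Finset.mem_image.2 ⟨m, hm, rfl⟩⟩)
      · rw [Finsupp.notMem_support_iff.1 hm]
        exact zero_mem _
    | algebraMap r =>
      intro m
      rw [AlgHom.commutes, IsScalarTower.algebraMap_apply A A' (MonoidAlgebra A' M), MonoidAlgebra.coe_algebraMap]
      simp only [Function.comp_apply, MonoidAlgebra.coeff_single, Finsupp.single_apply]
      split_ifs
      · exact P.algebraMap_mem r
      · exact zero_mem _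
    | add x y _ _ hx hy =>
      intro m
      rw [map_add, MonoidAlgebra.coeff_add, Finsupp.add_apply]
      exact add_mem (hx m) (hy m)
    | mul x y _ _ hx hy =>
      intro m
      rw [map_mul, MonoidAlgebra.coeff_mul]
      refine sum_mem fun a _ => sum_mem fun b _ => ?_
      simp only [Finsupp.single_apply]
      split_ifs
      · exact mul_mem (hx a) (hy b)
      · exact zero_mem _
  have hinjP : ∀ (X : Type u) [Monoid X], Function.Injective (MonoidAlgebra.mapAlgHom X P.val) := by
    intro X _ a b hab
    refine MonoidAlgebra.ext (Finsupp.ext fun z => Subtype.ext ?_)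
    have := congrArg (fun w => MonoidAlgebra.coeff w z) hab
    simpa using this
  have hlift : ∀ c, ∃ w, MonoidAlgebra.mapAlgHom M P.val w = ψ c := fun c => by
    refine ⟨MonoidAlgebra.ofCoeff ((ψ c).coeff.mapRange (fun x => if hx : x ∈ P then ⟨x, hx⟩ else 0) (by simp; rfl)), ?_⟩
    refine MonoidAlgebra.ext (Finsupp.ext fun z => ?_)
    simp [hmem c z]
  choose w hw using hlift
  let φ : C →ₐ[A] MonoidAlgebra P M :=
    { toFun := w
      map_one' := hinjP M (by rw [hw, map_one, map_one])
      map_mul' := fun x y => hinjP M (by rw [map_mul, hw, hw, hw, map_mul])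
      map_zero' := hinjP M (by rw [hw, map_zero, map_zero])
      map_add' := fun x y => hinjP M (by rw [map_add, hw, hw, hw, map_add])
      commutes' := fun r => hinjP M (by rw [hw, AlgHom.commutes, AlgHom.commutes]) }
  have hφψ : (MonoidAlgebra.mapAlgHom M P.val).comp φ = ψ := AlgHom.ext hw
  have hφ : IsHomPt φ := by
    have key : ∀ (f : M →* M × M) (x : MonoidAlgebra P M),
        MonoidAlgebra.mapAlgHom (M × M) P.val (MonoidAlgebra.mapDomainAlgHom P P f x) =
          MonoidAlgebra.mapDomainAlgHom A' A' f (MonoidAlgebra.mapAlgHom M P.val x) := by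
      intro f x
      induction x using MonoidAlgebra.induction_linear with
      | zero => simp
      | add p q hp hq => simp only [map_add, hp, hq]
      | single m r =>
        simp [MonoidAlgebra.mapDomainAlgHom_apply, MonoidAlgebra.mapDomain_single, MonoidAlgebra.mapAlgHom_single]
    refine ⟨fun c => hinjP _ ?_, fun c => Subtype.ext ?_⟩
    · refine (key _ (φ c)).trans ?_
      rw [show MonoidAlgebra.mapAlgHom M P.val (φ c) = ψ c from hw c]
      refine (h.1 c).trans ?_
      show _ = ((MonoidAlgebra.mapAlgHom (M × M) P.val).comp (Algebra.TensorProduct.lift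
        (((inl (A := A) P).restrictScalars A).comp φ) (((inr (A := A) P).restrictScalars A).comp φ)
        (fun _ _ => .all _ _))) (Coalgebra.comul (R := A) c)
      refine DFunLike.congr_fun (Algebra.TensorProduct.ext ?_ ?_) _
      · refine AlgHom.ext fun x => ?_
        simp only [AlgHom.comp_apply, Algebra.TensorProduct.includeLeft_apply, Algebra.TensorProduct.lift_tmul,
          AlgHom.restrictScalars_apply, map_one, mul_one]
        exact ((key _ (φ x)).trans (congrArg _ (hw x))).symm
      · refine AlgHom.ext fun x => ?_
        simp only [AlgHom.comp_apply, AlgHom.restrictScalars_apply, Algebra.TensorProduct.includeRight_apply,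
          Algebra.TensorProduct.lift_tmul, map_one, one_mul]
        exact ((key _ (φ x)).trans (congrArg _ (hw x))).symm
    · have h3 : ∀ x : MonoidAlgebra P M, aug (A := A) A' (MonoidAlgebra.mapAlgHom M P.val x) = P.val (aug (A := A) P x) := by
        intro x
        induction x using MonoidAlgebra.induction_linear with
        | zero => simp
        | add p q hp hq => simp only [map_add, hp, hq]
        | single m r => simp [aug, MonoidAlgebra.mapAlgHom_single]
      show P.val (aug (A := A) P (φ c)) = _
      rw [← h3, show MonoidAlgebra.mapAlgHom M P.val (φ c) = ψ c from hw c, h.2 c]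
      rfl
  -- the prime and its residue map
  let q : Ideal P := (maximalIdeal A').comap P.val.toRingHom
  haveI : q.IsPrime := Ideal.comap_isPrime _ _
  let e : ResidueField A →+* ResidueField A' := ResidueField.map (algebraMap A A')
  have he : Function.Bijective e := by
    refine ⟨e.injective, fun x => ?_⟩
    obtain ⟨x, rfl⟩ := residue_surjective x
    obtain ⟨a, ha⟩ := hres x
    refine ⟨residue A a, ?_⟩
    rw [ResidueField.map_residue]
    exact (Ideal.Quotient.eq.2 ha).symm
  let e' := RingEquiv.ofBijective e he
  let χ : P →ₐ[A] L :=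
    { toRingHom := (algebraMap (ResidueField A) L).comp (e'.symm.toRingHom.comp ((residue A').comp P.val.toRingHom))
      commutes' := fun a => by
        show algebraMap (ResidueField A) L (e'.symm (residue A' (algebraMap A A' a))) = _
        rw [show residue A' (algebraMap A A' a) = e' (residue A a) from (ResidueField.map_residue _ a).symm,
          RingEquiv.symm_apply_apply, IsScalarTower.algebraMap_apply A (ResidueField A) L]
        rfl }
  have hχq : RingHom.ker χ.toRingHom = q := by
    ext x
    show algebraMap (ResidueField A) L (e'.symm (residue A' x)) = 0 ↔ (x : A') ∈ maximalIdeal A'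
    rw [map_eq_zero, map_eq_zero, residue_eq_zero_iff]
  -- derivations vanish
  letI : Algebra P L := χ.toRingHom.toAlgebra
  haveI : IsScalarTower A P L := IsScalarTower.of_algebraMap_eq fun a => (χ.commutes a).symm
  have hder : ∀ D : Derivation A P L, D = 0 := by
    intro D
    let g₀ : P →ₐ[A] DualNumber L := (IsScalarTower.toAlgHom A L (DualNumber L)).comp χ
    let g₁ : P →ₐ[A] DualNumber L :=
      { toFun := fun x => TrivSqZeroExt.inl (χ x) + TrivSqZeroExt.inr (D x)
        map_one' := by
          ext <;> simp
        map_mul' := fun x y => by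
          ext
          · simp
          · have e1 : ∀ (u : P) (v : L), u • v = χ u * v := fun u v => Algebra.smul_def u v
            simp [TrivSqZeroExt.snd_mul, e1]
            ring
        map_zero' := by ext <;> simp
        map_add' := fun x y => by ext <;> simp
        commutes' := fun a => by
          ext
          · simp [TrivSqZeroExt.algebraMap_eq_inl']
          · simp [TrivSqZeroExt.algebraMap_eq_inl'] }
    haveI : IsLocalRing (DualNumber L) := IsLocalRing.of_isUnit_or_isUnit_one_sub_self fun x => by
      rcases em (IsUnit x.fst) with hx | hx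
      · exact Or.inl (TrivSqZeroExt.isUnit_iff_isUnit_fst.2 hx)
      · refine Or.inr (TrivSqZeroExt.isUnit_iff_isUnit_fst.2 ?_)
        rw [isUnit_iff_ne_zero, not_not] at hx
        simp [hx]
    have heq := eq_of_congr E (TrivSqZeroExt.fstHom A L L) (hφ.push g₀) (hφ.push g₁) (by
      refine AlgHom.ext fun c => MonoidAlgebra.ext (Finsupp.ext fun z => ?_)
      simp [g₀, g₁, TrivSqZeroExt.algebraMap_eq_inl'])
    have hG : ∀ (x : A') (hx : x ∈ P), g₀ ⟨x, hx⟩ = g₁ ⟨x, hx⟩ := fun x hx => by
      induction hx using Algebra.adjoin_induction with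
      | mem y hy =>
        obtain ⟨s, -, hy⟩ := Finset.mem_biUnion.1 hy
        obtain ⟨m, -, rfl⟩ := Finset.mem_image.1 hy
        have h1 := congrArg (fun w => MonoidAlgebra.coeff w m) (DFunLike.congr_fun heq s)
        have h2 : (φ s).coeff m = ⟨(ψ s).coeff m, hmem s m⟩ := Subtype.ext (by
          have := congrArg (fun w => MonoidAlgebra.coeff w m) (hw s)
          simpa [φ] using this)
        simpa [h2] using h1
      | algebraMap r => exact (g₀.commutes r).trans (g₁.commutes r).symm
      | add a b ha hb h1 h2 =>
        rw [show (⟨a + b, _⟩ : P) = ⟨a, ha⟩ + ⟨b, hb⟩ from rfl, map_add, map_add, h1, h2]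
      | mul a b ha hb h1 h2 =>
        rw [show (⟨a * b, _⟩ : P) = ⟨a, ha⟩ * ⟨b, hb⟩ from rfl, map_mul, map_mul, h1, h2]
    refine Derivation.ext fun x => ?_
    have := congrArg TrivSqZeroExt.snd (hG x.1 x.2)
    simpa [g₀, g₁, TrivSqZeroExt.algebraMap_eq_inl'] using this.symm
  haveI : Algebra.IsUnramifiedAt A q := by
    have hns : (⟨q, inferInstance⟩ : PrimeSpectrum P) ∉ Module.support P (Ω[P⁄A]) := by
      rw [Module.mem_support_iff_nontrivial_residueField_tensorProduct, not_nontrivial_iff_subsingleton]
      let ρ : q.ResidueField →+* L := Ideal.ResidueField.lift q χ.toRingHom hχq.ge (fun x hx => by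
        show χ x ∈ IsUnit.submonoid L
        refine isUnit_iff_ne_zero.2 fun h0 => hx ?_
        show x ∈ q
        rw [← hχq]
        exact h0)
      refine subsingleton_of_forall_eq 0 fun z => ?_
      by_contra hz
      obtain ⟨f, hf⟩ : ∃ f : Module.Dual q.ResidueField (q.ResidueField ⊗[P] Ω[P⁄A]), f z ≠ 0 := by
        by_contra! hall
        exact hz ((Module.forall_dual_apply_eq_zero_iff q.ResidueField z).1 hall)
      let l : Ω[P⁄A] →ₗ[P] L :=
        { toFun := fun ω => ρ (f (1 ⊗ₜ ω))
          map_add' := fun a b => by rw [TensorProduct.tmul_add, map_add, map_add]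
          map_smul' := fun p ω => by
            rw [TensorProduct.tmul_smul, show p • ((1 : q.ResidueField) ⊗ₜ[P] ω) =
              algebraMap P q.ResidueField p • ((1 : q.ResidueField) ⊗ₜ[P] ω) from (algebraMap_smul _ p _).symm,
              map_smul, smul_eq_mul, map_mul, RingHom.id_apply, Algebra.smul_def]
            congr 1
            exact Ideal.ResidueField.lift_algebraMap q χ.toRingHom _ _ p }
      have hl : l = 0 := (KaehlerDifferential.linearMapEquivDerivation A P).injective
        ((hder _).trans (map_zero _).symm)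
      refine hf ?_
      induction z using TensorProduct.induction_on with
      | zero => simp at hz
      | tmul a ω =>
        refine ρ.injective ?_
        rw [show a ⊗ₜ[P] ω = a • ((1 : q.ResidueField) ⊗ₜ[P] ω) by rw [TensorProduct.smul_tmul', smul_eq_mul, mul_one],
          map_smul, smul_eq_mul, map_mul, show ρ (f (1 ⊗ₜ ω)) = 0 from LinearMap.congr_fun hl ω, mul_zero, map_zero]
      | add a b ha hb =>
        rw [map_add]
        have e1 : f a = 0 := by
          by_contra h
          exact h (ha (fun h0 => h (by rw [h0, map_zero])) h)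
        have e2 : f b = 0 := by
          by_contra h
          exact h (hb (fun h0 => h (by rw [h0, map_zero])) h)
        rw [e1, e2, add_zero]
    have := Algebra.unramifiedLocus_eq_compl_support (R := A) (A := P)
    exact (show (⟨q, inferInstance⟩ : PrimeSpectrum P) ∈ Algebra.unramifiedLocus A P by rw [this]; exact hns)
  obtain ⟨f, hf, hunr⟩ := Algebra.exists_unramified_of_isUnramifiedAt (R := A) q
  haveI := hunr
  let Q := Localization.Away f
  haveI : Algebra.QuasiFinite A Q := inferInstance
  obtain ⟨ε, hε, hfin, htop⟩ := S0503.result A Q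
  have hfu : IsUnit (P.val f) := by
    by_contra hu
    exact hf ((mem_maximalIdeal _).2 hu)
  let θ : Q →ₐ[A] A' := IsLocalization.liftAlgHom (M := Submonoid.powers f) (f := P.val) (by
    rintro ⟨_, n, rfl⟩
    rw [map_pow]
    exact hfu.pow n)
  have hθ : ∀ x : P, θ (algebraMap P Q x) = x := fun x => IsLocalization.lift_eq _ x
  have hεθ : θ ε = 1 := by
    rcases eq_zero_or_one (hε.map θ) with h0 | h1
    · exfalso
      let θ' : Q ⧸ Ideal.span {ε} →ₐ[A] A' := Ideal.Quotient.liftₐ _ θ fun x hx => by
        obtain ⟨y, rfl⟩ := Ideal.mem_span_singleton.1 hx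
        rw [map_mul, h0, zero_mul]
      have h1 := Ideal.map_mono (f := θ'.toRingHom) htop.ge
      rw [Ideal.map_top, Ideal.map_map, show θ'.toRingHom.comp (algebraMap A _) = algebraMap A A' from
        θ'.comp_algebraMap] at h1
      exact (maximalIdeal.isMaximal A').ne_top (top_le_iff.1 (h1.trans (map_maximalIdeal_le _)))
    · exact h1
  let θ₁ : Q ⧸ Ideal.span {1 - ε} →ₐ[A] A' := Ideal.Quotient.liftₐ _ θ fun x hx => by
    obtain ⟨y, rfl⟩ := Ideal.mem_span_singleton.1 hx
    rw [map_mul, map_sub, map_one, hεθ, sub_self, zero_mul]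
  haveI := hfin
  let F := θ₁.range
  haveI hFfin : Module.Finite A F := Module.Finite.of_surjective θ₁.rangeRestrict.toLinearMap
    θ₁.rangeRestrict_surjective
  haveI : IsLocalRing F := by
    obtain ⟨J, _, Fi, _, hloc, ⟨E'⟩⟩ := S0499.result A F
    haveI : Nonempty J := by
      by_contra hJ
      rw [not_nonempty_iff] at hJ
      have : (1 : F) = 0 := E'.injective (Subsingleton.elim _ _)
      exact one_ne_zero (congrArg Subtype.val this)
    haveI : Subsingleton J := ⟨fun a b => by
      by_contra hab
      haveI := hloc a
      haveI := hloc b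
      let x : F := E'.symm (Pi.single a 1)
      have hx : IsIdempotentElem x := by
        show x * x = x
        rw [← map_mul, ← Pi.single_mul, one_mul]
      rcases eq_zero_or_one (hx.map F.val) with h0 | h1
      · have : x = 0 := Subtype.ext h0
        have h2 := congrFun ((E'.apply_symm_apply (Pi.single a 1)).symm.trans ((congrArg E' this).trans (map_zero E'))) a
        simp at h2
      · have : x = 1 := Subtype.ext h1
        have h2 := congrFun ((E'.apply_symm_apply (Pi.single a 1)).symm.trans ((congrArg E' this).trans (map_one E'))) b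
        simp [Ne.symm hab] at h2⟩
    let u := Classical.arbitrary J
    haveI : Unique J := uniqueOfSubsingleton u
    haveI := hloc default
    exact (E'.trans (RingEquiv.piUnique Fi)).symm.isLocalRing
  haveI hFloc : IsLocalHom (algebraMap A F) := ⟨fun a ha => by
    refine IsUnit.of_map (algebraMap A A') a ?_
    exact ha.map F.val⟩
  haveI : Algebra.FormallyUnramified A F := by
    haveI : Algebra.FormallyUnramified A (Q ⧸ Ideal.span {1 - ε}) :=
      Algebra.FormallyUnramified.of_surjective (Ideal.Quotient.mkₐ A _) Ideal.Quotient.mk_surjective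
    exact Algebra.FormallyUnramified.of_surjective θ₁.rangeRestrict θ₁.rangeRestrict_surjective
  have hmax := Algebra.FormallyUnramified.map_maximalIdeal (R := A) (S := F)
  have hsurj : Function.Surjective (algebraMap A F) := by
    have hNak : (⊤ : Submodule A F) ≤ LinearMap.range (Algebra.linearMap A F) ⊔ maximalIdeal A • ⊤ := by
      intro x _
      obtain ⟨a, ha⟩ := hres x
      refine Submodule.mem_sup.2 ⟨algebraMap A F a, ⟨a, rfl⟩, x - algebraMap A F a, ?_, add_sub_cancel _ _⟩
      rw [Ideal.smul_top_eq_map, hmax]
      refine (mem_maximalIdeal _).2 fun hu => ?_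
      exact (mem_maximalIdeal _).1 ha (by simpa using hu.map F.val)
    intro x
    exact Submodule.le_of_le_smul_of_le_jacobson_bot (Module.Finite.fg_top)
      (IsLocalRing.maximalIdeal_le_jacobson _) hNak (Submodule.mem_top (x := x))
  obtain ⟨a, ha⟩ := hsurj ⟨(ψ c).coeff m, Ideal.Quotient.mk _ (algebraMap P Q ⟨_, hmem c m⟩), hθ _⟩
  exact ⟨a, congrArg Subtype.val ha⟩

end Groth.Agent.MTRigid29.HenselHom
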