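import Groth.Agent.Lib.MTRigid29.HomFun
import Groth.Agent.Lib.MTRigid29.ConstS
import Groth.Agent.Lib.MTRigid29.MapChS

/-!
# The scheme of homomorphisms between split groups of multiplicative type

For character groups `M₁`, `M₂` with `M₂` finitely generated it is the constant scheme on `Hom(M₂, M₁)`.
-/

set_option autoImplicit false
set_option linter.style.haveILetI false
set_option linter.unusedSectionVars false
set_option backward.isDefEq.respectTransparency false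
set_option backward.isDefEq.respectTransparency.types false
set_option maxSynthPendingDepth 3

universe u

open CategoryTheory Limits MonoidalCategory CartesianMonoidalCategory MonObj AlgebraicGeometry Opposite

noncomputable section

namespace Groth.Agent.MTRigid29

open AutFam DiagGL

variable {S : Scheme.{u}} {H₁ H₂ : Over S} [GrpObj H₁] [GrpObj H₂] {M₁ M₂ : Type} [AddCommGroup M₁]
  [AddCommGroup M₂] (C₁ : Chars M₁ H₁) (C₂ : Chars M₂ H₂)

/-- A family agrees with the map of characters `a` over an open of the parameter scheme. -/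
def IsCharOn {T : Over S} (φ : H₁ ⊗ T ⟶ H₂) (a : M₂ →+ M₁) (W : T.left.Opens) : Prop :=
  ∀ (X : Over S) (g : X ⟶ H₁) (t : X ⟶ T), (∀ z, t.left z ∈ W) → lift g t ≫ φ = g ≫ mapChS C₁ C₂ a

theorem exists_nhd_isCharOn [AddGroup.FG M₂] {T : Over S} (φ : H₁ ⊗ T ⟶ H₂) (hφ : IsHomFamily H₁ H₂ φ)
    (z : T.left) : ∃ W : T.left.Opens, z ∈ W ∧ ∃ a, IsCharOn C₁ C₂ φ a W := by
  obtain ⟨U, hU, hzU, -⟩ := exists_isAffineOpen_mem_and_subset (X := T.left) (x := z) (U := ⊤) trivial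
  let R : Type u := Γ(T.left, U)
  let j : Spec (CommRingCat.of R) ⟶ T.left := hU.fromSpec
  let k : Spec (CommRingCat.of R) ⟶ S := j ≫ T.hom
  let P : Over (Spec (CommRingCat.of R)) := 𝟙_ _
  let jO : (Over.map k).obj P ⟶ T := Over.homMk j (Category.id_comp k).symm
  let φ' : Red.bc k H₁ ⊗ P ⟶ Red.bc k H₂ := famDown k ((H₁ ◁ jO) ≫ φ)
  have hφ' : IsHomFamily (Red.bc k H₁) (Red.bc k H₂) φ' := isHomFamily_famDown k (isHomFamily_comp jO hφ)
  let u : Red.bc k H₁ ⟶ Red.bc k H₂ := lift (𝟙 _) (toUnit _) ≫ φ'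
  have hu' : ∀ {X : Over (Spec (CommRingCat.of R))} (x : X ⟶ Red.bc k H₁), x ≫ u = lift x (toUnit X) ≫ φ' := by
    intro X x
    rw [← Category.assoc, comp_lift, Category.comp_id, comp_toUnit]
  haveI : IsMonHom u := TorsorSch25.isMonHom_of_points _ fun X x y => by
    rw [hu', hu', hu']
    exact hφ' X x y _
  obtain ⟨t, ht⟩ : ∃ t, j t = z := by
    have : z ∈ Set.range hU.fromSpec := by rw [hU.range_fromSpec]; exact hzU
    exact this
  obtain ⟨f, hf, a, ha⟩ := exists_local_mapChar (C₁.baseChange k H₁) (C₂.baseChange k H₂) u t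
  let D : (Spec (CommRingCat.of R)).Opens := PrimeSpectrum.basicOpen f
  refine ⟨j ''ᵁ D, ⟨t, hf, ht⟩, a, fun X g τ hτ => ?_⟩
  have hr : Set.range τ.left ⊆ Set.range (D.ι ≫ j) := by
    rintro _ ⟨w, rfl⟩
    obtain ⟨d, hd, hdw⟩ := hτ w
    exact ⟨⟨d, hd⟩, hdw⟩
  let l : X.left ⟶ D.toScheme := IsOpenImmersion.lift (D.ι ≫ j) τ.left hr
  have hl : l ≫ D.ι ≫ j = τ.left := IsOpenImmersion.lift_fac _ _ hr
  let X' : Over (Spec (CommRingCat.of R)) := Over.mk (l ≫ D.ι)
  let τ' : X' ⟶ P := toUnit X'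
  let e : (Over.map k).obj X' ≅ X := Over.isoMk (Iso.refl _) (by
    show 𝟙 X.left ≫ X.hom = (l ≫ D.ι) ≫ j ≫ T.hom
    rw [Category.id_comp, Category.assoc, reassoc_of% hl, Over.w τ])
  have hτ' : (Over.map k).map τ' ≫ jO = e.hom ≫ τ := by
    refine Over.OverMorphism.ext ?_
    show τ'.left ≫ j = 𝟙 X.left ≫ τ.left
    rw [Category.id_comp, ← hl, show τ'.left = l ≫ D.ι from (Category.comp_id τ'.left).symm.trans (Over.w τ'),
      Category.assoc]
  obtain ⟨x, hx⟩ := fl_surjective k H₁ (e.hom ≫ g)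
  have hunit : IsUnit (alg X' f) := by
    show IsUnit ((l ≫ D.ι).appTop.hom ((Scheme.ΓSpecIso (CommRingCat.of R)).inv f))
    refine RingedSpace.isUnit_of_isUnit_germ X'.left.toLocallyRingedSpace.toRingedSpace _ _ fun w hw => ?_
    refine (Scheme.mem_basicOpen_top (f := (l ≫ D.ι).appTop.hom ((Scheme.ΓSpecIso (CommRingCat.of R)).inv f))
      (x := w)).1 ?_
    rw [← Scheme.preimage_basicOpen_top, basicOpen_eq_of_affine]
    exact (l w).2
  have key := congrArg (fl k H₂) (ha X' hunit x)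
  rw [← mapChS_eq_mapChar, ← pullback_map_mapChS, fl_comp_map, hu', fl_lift_comp, famUp_famDown,
    lift_whiskerLeft_assoc, hx, hτ'] at key
  rw [← cancel_epi e.hom, ← Category.assoc, comp_lift, key, Category.assoc]

theorem isCharOn_sSup {T : Over S} (φ : H₁ ⊗ T ⟶ H₂) (a : M₂ →+ M₁) :
    IsCharOn C₁ C₂ φ a (sSup {W | IsCharOn C₁ C₂ φ a W}) := by
  intro X g t ht
  let U : {W : T.left.Opens // IsCharOn C₁ C₂ φ a W} → X.left.Opens := fun W => t.left ⁻¹ᵁ W.1
  refine hom_ext_opens U (eq_top_iff.2 fun z _ => ?_) fun W => ?_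
  · obtain ⟨W, hW, hzW⟩ := TopologicalSpace.Opens.mem_sSup.1 (ht z)
    exact TopologicalSpace.Opens.mem_iSup.2 ⟨⟨W, hW⟩, hzW⟩
  · have h := W.2 _ (openIncl (U W) ≫ g) (openIncl (U W) ≫ t) fun z => z.2
    rw [← comp_lift, Category.assoc, Category.assoc] at h
    exact h

include C₁ C₂ in
theorem eq_of_isCharOn {T : Over S} (φ : H₁ ⊗ T ⟶ H₂) {a b : M₂ →+ M₁} {W W' : T.left.Opens}
    (ha : IsCharOn C₁ C₂ φ a W) (hb : IsCharOn C₁ C₂ φ b W') {z : T.left} (hz : z ∈ W) (hz' : z ∈ W') :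
    a = b := by
  let K := T.left.residueField z
  let L := MonoidAlgebra K (Multiplicative M₁)
  let q : Spec (CommRingCat.of L) ⟶ Spec K := Spec.map (CommRingCat.ofHom (algebraMap K L))
  let X : Over S := Over.mk ((q ≫ T.left.fromSpecResidueField z) ≫ T.hom)
  let t : X ⟶ T := Over.homMk (q ≫ T.left.fromSpecResidueField z) rfl
  have ht : ∀ w : X.left, t.left w = z := fun w => Scheme.fromSpecResidueField_apply z (q w)
  let ι₀ : L →* Γ(X.left, ⊤) := (Scheme.ΓSpecIso (CommRingCat.of L)).inv.hom.toMonoidHom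
  obtain ⟨g, hg⟩ := C₁.surj (T := X) (ι₀.comp (MonoidAlgebra.of K (Multiplicative M₁)))
  have h := (ha X g t fun w => (ht w).symm ▸ hz).symm.trans (hb X g t fun w => (ht w).symm ▸ hz')
  ext m
  have h' := congrArg (fun y => C₂.ch y (Multiplicative.ofAdd m)) h
  simp only [ch_mapChS, hg, MonoidHom.comp_apply] at h'
  have hinj : Function.Injective ι₀ := (Scheme.ΓSpecIso (CommRingCat.of L)).symm.commRingCatIsoToRingEquiv.injective
  exact congrArg Multiplicative.toAdd (MonoidAlgebra.of_injective (hinj h'))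

include C₁ C₂ in
/-- Homomorphisms of split groups of multiplicative type form a constant scheme. -/
theorem exists_representsHom_split [AddGroup.FG M₂] :
    ∃ υ : H₁ ⊗ TwC.const S (M₂ →+ M₁) ⟶ H₂, RepresentsHom H₁ H₂ (TwC.const S (M₂ →+ M₁)) υ ∧
      ∀ (X : Over S) (g : X ⟶ H₁) (a : M₂ →+ M₁),
        lift g (toUnit X ≫ TwC.pt S (M₂ →+ M₁) a) ≫ υ = g ≫ mapChS C₁ C₂ a := by
  let k₀ : H₁ ⊗ TwC.const S (M₂ →+ M₁) ⟶ TwC.const S (M₂ →+ M₁) := snd _ _
  obtain ⟨υ, hυ⟩ := exists_glue_piece k₀ fun a => openIncl (piece k₀ a) ≫ fst _ _ ≫ mapChS C₁ C₂ a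
  have hval : ∀ (X : Over S) (g : X ⟶ H₁) (k : X ⟶ TwC.const S (M₂ →+ M₁)) (a : M₂ →+ M₁),
      (∀ z, z ∈ piece k a) → lift g k ≫ υ = g ≫ mapChS C₁ C₂ a := by
    intro X g k a h
    have hr : Set.range (lift g k).left ⊆ Set.range (piece k₀ a).ι := by
      rintro _ ⟨w, rfl⟩
      rw [Scheme.Opens.range_ι]
      have hw := h w
      rw [show k = lift g k ≫ k₀ from (lift_snd _ _).symm, piece_comp] at hw
      exact hw
    let l : X ⟶ openOver (piece k₀ a) :=
      Over.homMk (IsOpenImmersion.lift (piece k₀ a).ι (lift g k).left hr) (by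
        show _ ≫ (piece k₀ a).ι ≫ _ = _
        rw [IsOpenImmersion.lift_fac_assoc, Over.w])
    have hl : l ≫ openIncl (piece k₀ a) = lift g k := Over.OverMorphism.ext (IsOpenImmersion.lift_fac _ _ hr)
    rw [← hl, Category.assoc, hυ, ← Category.assoc l, hl, lift_fst_assoc]
  have hfam : IsHomFamily H₁ H₂ υ := by
    intro X g₁ g₂ k
    refine hom_ext_piece k fun a => ?_
    rw [MonObj.comp_mul, ← Category.assoc, ← Category.assoc, ← Category.assoc, comp_lift, comp_lift, comp_lift,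
      hval (openOver (piece k a)) _ _ a (fun z => z.2), hval (openOver (piece k a)) _ _ a (fun z => z.2), hval (openOver (piece k a)) _ _ a (fun z => z.2), MonObj.comp_mul]
    exact MonObj.mul_comp _ _ _
  refine ⟨υ, ⟨hfam, fun T φ hφ => ?_⟩, fun X g a => hval X g _ a (piece_toUnit_pt (S := S) (T := X) a)⟩
  let U : (M₂ →+ M₁) → T.left.Opens := fun a => sSup {W | IsCharOn C₁ C₂ φ a W}
  have hU : ⨆ a, U a = ⊤ := eq_top_iff.2 fun z _ => by
    obtain ⟨W, hzW, a, ha⟩ := exists_nhd_isCharOn C₁ C₂ φ hφ z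
    exact TopologicalSpace.Opens.mem_iSup.2 ⟨a, TopologicalSpace.Opens.mem_sSup.2 ⟨W, ha, hzW⟩⟩
  have hd : Pairwise (fun a b => Disjoint (U a) (U b)) := fun a b hab => by
    show Disjoint (U a) (U b)
    rw [disjoint_iff, eq_bot_iff]
    rintro z ⟨hza, hzb⟩
    exact (hab (eq_of_isCharOn C₁ C₂ φ (isCharOn_sSup C₁ C₂ φ a) (isCharOn_sSup C₁ C₂ φ b) hza hzb)).elim
  obtain ⟨k, hk⟩ := exists_hom_of_partition U hU hd
  refine ⟨k, ?_, fun k' hk' => ?_⟩
  · refine hom_ext_opens (fun a => (snd H₁ T).left ⁻¹ᵁ U a) (eq_top_iff.2 fun z _ => ?_) fun a => ?_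
    · obtain ⟨a, ha⟩ := TopologicalSpace.Opens.mem_iSup.1 (hU ▸ trivial : (snd H₁ T).left z ∈ ⨆ a, U a)
      exact TopologicalSpace.Opens.mem_iSup.2 ⟨a, ha⟩
    · let i := openIncl ((snd H₁ T).left ⁻¹ᵁ U a)
      have hi : i = lift (i ≫ fst _ _) (i ≫ snd _ _) := by ext <;> simp
      show i ≫ (H₁ ◁ k) ≫ υ = i ≫ φ
      rw [hi, lift_whiskerLeft_assoc, hval _ _ _ a, isCharOn_sSup C₁ C₂ φ a (openOver ((snd H₁ T).left ⁻¹ᵁ U a)) _ (i ≫ snd H₁ T) fun z => z.2]
      intro z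
      exact hk a z.2
  · refine eq_of_piece_le k' k fun a => le_trans (le_sSup ?_) (hk a)
    intro X g t ht
    rw [← hk', lift_whiskerLeft_assoc]
    exact hval _ _ _ a fun z => ht z

end Groth.Agent.MTRigid29
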