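import Groth.Agent.Lib.MTRigid29.MonoClosedGlobal
import Groth.Agent.Lib.MTRigid29.SplitTori

/-!
# Scheme-theoretic images of homomorphisms
-/

set_option autoImplicit false
set_option linter.style.haveILetI false
set_option backward.isDefEq.respectTransparency.types false
set_option maxSynthPendingDepth 3

universe u

open CategoryTheory Limits MonoidalCategory CartesianMonoidalCategory MonObj AlgebraicGeometry

noncomputable section

namespace Groth.Agent.MTRigid29

open DiagGL

variable {S S' : Scheme.{u}} {P G E : Over S}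

/-- Equal kernels pull back to equal kernels along an open immersion. -/
theorem ker_eq_of_isPullback {X X' Y U U' V : Scheme.{u}} {f : X ⟶ Y} {g : X' ⟶ Y} {f' : U ⟶ V} {g' : U' ⟶ V}
    {iU : U ⟶ X} {iU' : U' ⟶ X'} {iV : V ⟶ Y} [IsOpenImmersion iV] [QuasiCompact f] [QuasiCompact g]
    (H : IsPullback f' iU iV f) (H' : IsPullback g' iU' iV g) (h : f.ker = g.ker) : f'.ker = g'.ker := by
  refine Scheme.IdealSheafData.ext (funext fun W => ?_)
  rw [Scheme.ker_ideal_of_isPullback_of_isOpenImmersion f f' iU iV H,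
    Scheme.ker_ideal_of_isPullback_of_isOpenImmersion g g' iU' iV H', h]

/-- `j₃` is the scheme theoretic image of `J`. -/
structure IsImage (J : P ⟶ G) (j₃ : E ⟶ G) : Prop where
  closed : IsClosedImmersion j₃.left
  qc : QuasiCompact J.left
  ker : j₃.left.ker = J.left.ker

theorem exists_image_obj (J : P ⟶ G) [QuasiCompact J.left] :
    ∃ (E : Over S) (j₃ : E ⟶ G), IsImage J j₃ := by
  refine ⟨Over.mk (J.left.imageι ≫ G.hom), Over.homMk J.left.imageι rfl, ?_, ‹_›, ?_⟩
  · exact inferInstanceAs (IsClosedImmersion J.left.imageι)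
  · exact Scheme.IdealSheafData.ker_subschemeι _

theorem IsImage.bc {J : P ⟶ G} {j₃ : E ⟶ G} (h : IsImage J j₃) (g : S' ⟶ S) [IsOpenImmersion g] :
    IsImage ((Over.pullback g).map J) ((Over.pullback g).map j₃) := by
  haveI := h.qc
  haveI := h.closed
  haveI : IsOpenImmersion (pullback.fst G.hom g) := inferInstance
  refine ⟨MorphismProperty.of_isPullback (P := @IsClosedImmersion) (isPullback_map_left g j₃) h.closed,
    MorphismProperty.of_isPullback (P := @QuasiCompact) (isPullback_map_left g J) h.qc, ?_⟩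
  exact ker_eq_of_isPullback (isPullback_map_left g j₃).flip (isPullback_map_left g J).flip h.ker

theorem IsImage.mono {J : P ⟶ G} {j₃ : E ⟶ G} (h : IsImage J j₃) : Mono j₃ := by
  haveI := h.closed
  exact Over.mono_of_mono_left j₃

theorem IsImage.exists_iso {J : P ⟶ G} {j₃ : E ⟶ G} (h : IsImage J j₃) {T : Over S} (q : P ⟶ T) (j' : T ⟶ G)
    [Flat q.left] [Surjective q.left] [QuasiCompact q.left] [IsClosedImmersion j'.left] (hq : q ≫ j' = J) :
    ∃ Φ : E ≅ T, Φ.hom ≫ j' = j₃ := by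
  haveI := h.closed
  haveI : EffectiveEpi q.left := effectiveEpi_of_cover _ fun V hV =>
    ⟨q.left ⁻¹ᵁ V, q.left.isCompact_preimage hV.isCompact, Set.image_preimage_eq _ q.left.surjective⟩
  have hJ : q.left ≫ j'.left = J.left := congrArg CommaMorphism.left hq
  have hle : j'.left.ker ≤ j₃.left.ker := by
    rw [h.ker, ← hJ]
    exact Scheme.Hom.le_ker_comp _ _
  let a := IsClosedImmersion.lift j'.left j₃.left hle
  have ha : a ≫ j'.left = j₃.left := IsClosedImmersion.lift_fac _ _ _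
  let z := IsClosedImmersion.lift j₃.left J.left h.ker.le
  have hz : z ≫ j₃.left = J.left := IsClosedImmersion.lift_fac _ _ _
  have hzq : ∀ {W : Scheme.{u}} (g₁ g₂ : W ⟶ P.left), g₁ ≫ q.left = g₂ ≫ q.left → g₁ ≫ z = g₂ ≫ z :=
    fun g₁ g₂ hg => (cancel_mono j₃.left).1 (by
      rw [Category.assoc, Category.assoc, hz, ← hJ, reassoc_of% hg])
  let b := EffectiveEpi.desc q.left z hzq
  have hb : q.left ≫ b = z := EffectiveEpi.fac q.left z hzq
  have hbj : b ≫ j₃.left = j'.left := (cancel_epi q.left).1 (by rw [← Category.assoc, hb, hz, hJ])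
  let Φ : E ≅ T := Over.isoMk
    ⟨a, b, (cancel_mono j₃.left).1 (by rw [Category.assoc, hbj, ha, Category.id_comp]),
      (cancel_mono j'.left).1 (by rw [Category.assoc, ha, hbj, Category.id_comp])⟩
    (by rw [← Over.w j', ← Category.assoc, ha, Over.w])
  exact ⟨Φ, Over.OverMorphism.ext ha⟩

/-- Factorisation through a monomorphism is local on the base. -/
theorem exists_factor_of_local {X : Over S} (j₃ : E ⟶ G) [Mono j₃.left] (x : X ⟶ G)
    (h : ∀ s : S, ∃ (W : Scheme.{u}) (g : W ⟶ S), IsOpenImmersion g ∧ s ∈ Set.range g ∧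
      ∀ (Y : Over W) (k : (Over.map g).obj Y ⟶ X), ∃ c : (Over.map g).obj Y ⟶ E, c ≫ j₃ = k ≫ x) :
    ∃ c : X ⟶ E, c ≫ j₃ = x := by
  choose W g hg hs hc using h
  let O : S → X.left.Opens := fun s => X.hom ⁻¹ᵁ @Scheme.Hom.opensRange _ _ (g s) (hg s)
  let 𝒰 : X.left.OpenCover := X.left.openCoverOfIsOpenCover O (by
    rw [TopologicalSpace.IsOpenCover, _root_.eq_top_iff]
    intro y _
    exact TopologicalSpace.Opens.mem_iSup.2 ⟨X.hom y, hs (X.hom y)⟩)
  have hpc : ∀ s : S, ∃ l : (O s : Scheme.{u}) ⟶ E.left, l ≫ j₃.left = (O s).ι ≫ x.left := fun s => by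
    haveI := hg s
    let b : (O s : Scheme.{u}) ⟶ W s := IsOpenImmersion.lift (g s) ((O s).ι ≫ X.hom) (by
      rintro _ ⟨y, rfl⟩
      exact y.2)
    let k : (Over.map (g s)).obj (Over.mk b) ⟶ X := Over.homMk (O s).ι (IsOpenImmersion.lift_fac _ _ _).symm
    obtain ⟨c, hc'⟩ := hc s (Over.mk b) k
    exact ⟨c.left, congrArg CommaMorphism.left hc'⟩
  choose l hl using hpc
  have hcompat : ∀ a b : S, pullback.fst (𝒰.f a) (𝒰.f b) ≫ l a = pullback.snd (𝒰.f a) (𝒰.f b) ≫ l b := fun a b => by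
    refine (cancel_mono j₃.left).1 ?_
    refine (Category.assoc _ _ _).trans ((congrArg (pullback.fst (𝒰.f a) (𝒰.f b) ≫ ·) (hl a)).trans ?_)
    refine Eq.trans ?_ ((congrArg (pullback.snd (𝒰.f a) (𝒰.f b) ≫ ·) (hl b)).symm.trans (Category.assoc _ _ _).symm)
    exact pullback.condition_assoc _
  let c := 𝒰.glueMorphisms l hcompat
  have hc' : c ≫ j₃.left = x.left := 𝒰.hom_ext _ _ fun s => by
    rw [𝒰.ι_glueMorphisms_assoc]
    exact hl s
  exact ⟨Over.homMk c (by rw [← Over.w j₃, ← Category.assoc, hc', Over.w]), Over.OverMorphism.ext hc'⟩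

end Groth.Agent.MTRigid29
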