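import Groth.Agent.Lib.MTRigid29.SpMultType
import Groth.Agent.Lib.MTRigid29.TwConstUnibranch
import Groth.Agent.Lib.MTRigid29.HomLocus
import Groth.Agent.Lib.MTRigid29.SplitTori
import Groth.Agent.Lib.MTRigid29.MapChS
import Groth.Agent.Lib.MTRigid29.BaseChange
import Groth.Agent.Lib.MTRigid29.HomCases
import Groth.Agent.Lib.MultType.QuasiIso
import Groth.Agent.S6061
import Groth.Agent.S9812
import Mathlib.GroupTheory.FiniteAbelian.Basic

/-!
# Groups of multiplicative type over a normal base are isotrivial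
-/

set_option autoImplicit false
set_option linter.style.haveILetI false
set_option backward.isDefEq.respectTransparency.types false
set_option backward.isDefEq.respectTransparency false
set_option maxSynthPendingDepth 3

universe u

open CategoryTheory Limits MonoidalCategory CartesianMonoidalCategory MonObj AlgebraicGeometry Opposite
open scoped TensorProduct

noncomputable section

namespace Groth.Agent.MTRigid29.IsotrivialNormal

open DiagGL


section Scheme

variable {S : Scheme.{u}}

theorem comp_lift_toUnit {W : Scheme.{u}} {Z A B : Over W} (y : Z ⟶ A) :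
    lift y (toUnit Z) = y ≫ lift (𝟙 A) (toUnit A) := by
  rw [comp_lift, Category.comp_id, toUnit_unique (y ≫ toUnit A) (toUnit Z)]

set_option maxHeartbeats 800000 in
/-- Over a geometrically unibranch integral base a group of multiplicative type is split by a connected finite etale
cover. -/
theorem exists_split_cover [IsIntegral S] (hS : ∀ s : S, CAlg2.IsGeomUnibranch (S.presheaf.stalk s)) (H : Over S)
    [GrpObj H] (hH : SGA3x.IsMultTypeFT H)
    (hHe : TwC.Locally S TwC.Topology.etale (fun S' f => ∃ (M : Type) (_ : AddCommGroup M),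
      Nonempty (Grp.mk (Red.bc f H) ≅ Grp.mk (Red.DS S' M)))) :
    ∃ (V : Scheme.{u}) (g : V ⟶ S), Etale g ∧ IsFinite g ∧ Surjective g ∧
      ∃ (N : Type) (_ : AddCommGroup N), Nonempty (Chars N (Red.bc g H)) := by
  obtain ⟨K, _, k, N, _, hN, hk, ⟨C⟩⟩ := exists_split_point hH (genericPoint S)
  let G : Over S := Red.DS S N
  let CG : Chars N G := charsDS S N
  haveI := hN
  obtain ⟨A, υ, hA, hAt⟩ := S6061.result H G hHe (fun s => ⟨S, 𝟙 S, inferInstance, ⟨s, rfl⟩, N, inferInstance, hN,
    nonempty_grpIso_of_chars (CG.baseChange (𝟙 S) G) (charsDS S N)⟩)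
  haveI := (etale_of_twConst A hAt).2
  -- the splitting at the generic point as a point of the representing scheme
  obtain ⟨i⟩ := nonempty_grpIso_of_chars C (CG.baseChange k G)
  haveI : IsMonHom i.hom.hom.hom := i.hom.hom.isMonHom_hom
  let φK : Red.bc k H ⊗ 𝟙_ (Over (Spec (CommRingCat.of K))) ⟶ Red.bc k G := fst _ _ ≫ i.hom.hom.hom
  have hφK : AutFam.IsHomFamily (Red.bc k H) (Red.bc k G) φK := fun X g₁ g₂ t => by
    simp only [φK, lift_fst_assoc]
    exact MonObj.mul_comp _ _ _
  obtain ⟨a, ha, -⟩ := hA.2 _ (famUp k φK) ((isHomFamily_famUp_iff k φK).2 hφK)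
  let x0 : Spec (CommRingCat.of K) := IsLocalRing.closedPoint K
  let l : A.left := a.left x0
  have haw : a.left ≫ A.hom = k := (Over.w a).trans (Category.id_comp k)
  have hlη : A.hom l = genericPoint S := (congrArg (fun q => q x0) haw).trans hk
  haveI : LocallyQuasiFinite A.hom := SchDesc12.locallyQuasiFinite_of_etale _
  have hgen : EtHull15.IsGen l := MTRigid29.isGen_of_image (f := A.hom) (by
    rw [hlη]
    exact fun z hz => hz.antisymm ((genericPoint_spec S).specializes trivial) |>.eq)
  obtain ⟨U, hUl, hUc, hUf⟩ := isFinite_closure hS (fun Z f _ => locFinGen_of_irreducible f) A hAt hgen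
  haveI := hUf
  let g : (U : Scheme.{u}) ⟶ S := U.ι ≫ A.hom
  have hlU : l ∈ U := show l ∈ (U : Set A.left) from hUl.symm ▸ subset_closure rfl
  have haU : Set.range a.left ⊆ Set.range U.ι := by
    rintro _ ⟨w, rfl⟩
    rw [Scheme.Opens.range_ι]
    show a.left w ∈ (U : Set A.left)
    rw [show w = x0 from Subsingleton.elim (α := PrimeSpectrum K) _ _]
    exact hlU
  let k' : Spec (CommRingCat.of K) ⟶ (U : Scheme.{u}) := IsOpenImmersion.lift U.ι a.left haU
  have hk' : k' ≫ U.ι = a.left := IsOpenImmersion.lift_fac _ _ _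
  have hk'g : k' ≫ g = k := by rw [← Category.assoc, hk', haw]
  -- the universal homomorphism
  let xU : (Over.map g).obj (𝟙_ (Over (U : Scheme.{u}))) ⟶ A := Over.homMk U.ι (by
    show U.ι ≫ A.hom = 𝟙 _ ≫ g
    rw [Category.id_comp])
  let ψ : Red.bc g H ⊗ 𝟙_ (Over (U : Scheme.{u})) ⟶ Red.bc g G := famDown g ((H ◁ xU) ≫ υ)
  have hψ : AutFam.IsHomFamily (Red.bc g H) (Red.bc g G) ψ := isHomFamily_famDown g (isHomFamily_comp _ hA.1)
  let v : Red.bc g H ⟶ Red.bc g G := lift (𝟙 _) (toUnit _) ≫ ψ
  have hv : ∀ {Z : Over (U : Scheme.{u})} (y : Z ⟶ Red.bc g H), y ≫ v = lift y (toUnit Z) ≫ ψ := fun {Z} y => by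
    rw [← Category.assoc, ← comp_lift_toUnit (B := Red.bc g G) y]
  haveI : IsMonHom v := TorsorSch25.isMonHom_of_points v fun Z y y' => by
    rw [hv, hv, hv]
    exact hψ Z y y' (toUnit Z)
  -- it is an isomorphism at the generic point
  let kk := k'
  have key : ∀ (Z : Over (Spec (CommRingCat.of K))) (y : Z ⟶ Red.bc k' (Red.bc g H)) (z : Z ⟶ Red.bc k H)
      (e : (Over.map k).obj Z ≅ (Over.map g).obj ((Over.map k').obj Z)), e.hom.left = 𝟙 _ →
      fl k H z = e.hom ≫ fl g H (fl k' _ y) →
      e.hom ≫ fl g G (fl k' _ (y ≫ (Over.pullback k').map v)) = fl k G (z ≫ i.hom.hom.hom) := by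
    intro Z y z e he hz
    rw [fl_comp_map, hv, fl_lift_comp]
    show _ ≫ lift _ _ ≫ famUp g (famDown g ((H ◁ xU) ≫ υ)) = _
    rw [famUp_famDown, lift_whiskerLeft_assoc, comp_lift_assoc, ← hz,
      show z ≫ i.hom.hom.hom = lift z (toUnit Z) ≫ φK by simp [φK], fl_lift_comp, ← ha, lift_whiskerLeft_assoc]
    congr 2
    refine Over.OverMorphism.ext ?_
    show e.hom.left ≫ (toUnit ((Over.map k').obj Z)).left ≫ U.ι = (toUnit Z).left ≫ a.left
    rw [he]
    show 𝟙 _ ≫ (Z.hom ≫ k') ≫ U.ι = Z.hom ≫ a.left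
    rw [Category.id_comp, Category.assoc, hk']
  let eZ : ∀ Z : Over (Spec (CommRingCat.of K)), (Over.map k).obj Z ≅ (Over.map g).obj ((Over.map k').obj Z) :=
    fun Z => Over.isoMk (Iso.refl _) (by
      show 𝟙 _ ≫ (Z.hom ≫ k') ≫ g = Z.hom ≫ k
      rw [Category.id_comp, Category.assoc, hk'g])
  let w := (Over.pullback k').map v
  have hcorr : ∀ (Z : Over (Spec (CommRingCat.of K))), Function.Bijective (fun y : Z ⟶ Red.bc k' (Red.bc g H) => y ≫ w) := by
    intro Z
    refine ⟨fun y y' h => ?_, fun t => ?_⟩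
    · obtain ⟨z, hz⟩ := fl_surjective k H ((eZ Z).hom ≫ fl g H (fl k' _ y))
      obtain ⟨z', hz'⟩ := fl_surjective k H ((eZ Z).hom ≫ fl g H (fl k' _ y'))
      have h1 := key Z y z (eZ Z) rfl hz
      have h2 := key Z y' z' (eZ Z) rfl hz'
      rw [show y ≫ (Over.pullback k').map v = y' ≫ (Over.pullback k').map v from h, h2] at h1
      have h3 : z' = z := (cancel_mono i.hom.hom.hom).1 (fl_injective k G h1)
      rw [h3, hz] at hz'
      exact fl_injective k' _ (fl_injective g H ((cancel_epi (eZ Z).hom).1 hz'))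
    · obtain ⟨t', ht'⟩ := fl_surjective k G ((eZ Z).hom ≫ fl g G (fl k' _ t))
      let z := t' ≫ i.inv.hom.hom
      obtain ⟨y', hy'⟩ := fl_surjective g H ((eZ Z).inv ≫ fl k H z)
      obtain ⟨y, rfl⟩ := fl_surjective k' (Red.bc g H) y'
      refine ⟨y, fl_injective k' _ (fl_injective g G ((cancel_epi (eZ Z).hom).1 ?_))⟩
      rw [key Z y z (eZ Z) rfl (by rw [hy', Iso.hom_inv_id_assoc]), ← ht']
      congr 1
      simp [z, ← Grp.comp', ← Mon.comp_hom']
  have hwiso : IsIso w := by
    obtain ⟨inv', hinv⟩ := (hcorr _).2 (𝟙 _)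
    refine ⟨inv', (hcorr _).1 ?_, hinv⟩
    show (w ≫ inv') ≫ w = 𝟙 _ ≫ w
    rw [Category.assoc, show inv' ≫ w = 𝟙 _ from hinv, Category.comp_id, Category.id_comp]
  have hMapP : MapP (MorphismProperty.isomorphisms Scheme.{u}) v k' := by
    haveI := hwiso
    exact ((Over.forget _).mapIso (asIso w)).isIso_hom
  obtain ⟨U', hU'c, hU', hU'P⟩ := exists_clopen_locus (MorphismProperty.isomorphisms Scheme.{u}) v charCrit_iso
    (isMT_of_ft (isMultTypeFT_bc hH g)) (isMultTypeFT_bc (isMultTypeFT_of_chars CG) g)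
  have hmem : k' x0 ∈ U' := (hU' _).2 (mapP_residue_of_field _ v k' hMapP)
  haveI : IrreducibleSpace ↥(U : Scheme.{u}) := by
    have hirr : IsIrreducible (U : Set A.left) := hUl ▸ isIrreducible_singleton.closure
    exact Subtype.irreducibleSpace hirr
  have hU'top : U' = ⊤ := clopen_top hU'c hmem
  have hiso : IsIso v.left := left_prop_of_mapP_id _ v (mapP_id_of_top _ v U' hU'top hU'P)
  haveI : IsIso ((Over.forget _).map v) := hiso
  haveI : IsIso v := isIso_of_reflects_iso v (Over.forget _)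
  have hsurj : Surjective g := ⟨fun s => by
    have hcl : IsClosed (Set.range g) := g.isClosedMap.isClosed_range
    have hη : genericPoint S ∈ Set.range g := ⟨⟨l, hlU⟩, hlη⟩
    exact ((genericPoint_spec S).specializes (show s ∈ ⊤ from trivial)).mem_closed hcl hη⟩
  exact ⟨_, g, inferInstance, inferInstance, hsurj, N, inferInstance,
    ⟨(CG.baseChange g G).transport (Grp.mkIso' (asIso v))⟩⟩

end Scheme

/-- Groups of multiplicative type and finite type over an integrally closed domain are isotrivial. -/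
theorem isIsotrivial (R : Type u) [CommRing R] [IsDomain R] [IsIntegrallyClosed R] (A : Type u) [CommRing A]
    [HopfAlgebra R A] [Algebra.FiniteType R A] (h : SGA3b.IsMultType R A) : SGA3b.IsIsotrivial R A := by
  haveI : IsIntegral (Spec (CommRingCat.of R)) := inferInstance
  have hS : ∀ s : Spec (CommRingCat.of R), CAlg2.IsGeomUnibranch ((Spec (CommRingCat.of R)).presheaf.stalk s) := by
    intro s
    haveI : IsIntegrallyClosed ((Spec (CommRingCat.of R)).presheaf.stalk s) := by
      haveI : IsIntegrallyClosed (Localization.AtPrime s.asIdeal) :=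
        isIntegrallyClosed_of_isLocalization _ s.asIdeal.primeCompl s.asIdeal.primeCompl_le_nonZeroDivisors
      exact IsIntegrallyClosed.of_equiv (StructureSheaf.stalkIso R s).toRingEquiv
    exact S9812.result _
  obtain ⟨V, g, hge, hgf, hgs, N, _, ⟨C⟩⟩ := exists_split_cover hS (CoactBr.sp R A) (isMultTypeFT_sp h) (fun s => by
    obtain ⟨V, f, hf, hs, M, iM, -, he⟩ := locally_etale h s
    exact ⟨V, f, hf, hs, M, iM, he⟩)
  haveI := hge
  haveI := hgf
  haveI := hgs
  haveI : IsAffine V := isAffine_of_isAffineHom g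
  let R' : Type u := Γ(V, ⊤)
  let p : Spec (CommRingCat.of R') ⟶ Spec (CommRingCat.of R) := V.isoSpec.inv ≫ g
  letI : Algebra R R' := (Spec.preimage p).hom.toAlgebra
  have hp : Spec.map (CommRingCat.ofHom (algebraMap R R')) = p := Spec.map_preimage p
  haveI hEt : Algebra.Etale R R' := RingHom.etale_algebraMap.1
    ((HasRingHomProperty.Spec_iff (P := @Etale)).1 (show Etale (Spec.map (CommRingCat.ofHom (algebraMap R R'))) by
      rw [hp]; infer_instance))
  haveI hFin : Module.Finite R R' := RingHom.finite_algebraMap.1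
    ((IsFinite.SpecMap_iff (f := CommRingCat.ofHom (algebraMap R R'))).1 (by rw [hp]; infer_instance))
  have hff : Module.FaithfullyFlat R R' := Module.FaithfullyFlat.of_comap_surjective fun q => by
    haveI : Surjective p := inferInstance
    obtain ⟨w, hw⟩ := p.surjective q
    refine ⟨w, ?_⟩
    rw [← hp] at hw
    exact hw
  refine ⟨R', inferInstance, inferInstance, hEt, hFin, hff, ?_⟩
  have C' : Nonempty (Chars N (Red.bc (Spec.map (CommRingCat.ofHom (algebraMap R R'))) (CoactBr.sp R A))) := by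
    rw [hp]
    exact ⟨charsComp g V.isoSpec.inv _ (C.baseChange V.isoSpec.inv _)⟩
  obtain ⟨C'⟩ := C'
  obtain ⟨E⟩ := nonempty_bialgEquiv (Iso.refl (Grp.mk (CoactBr.sp R A))) C'
  exact ⟨ULift.{u} (Multiplicative N), inferInstance,
    ⟨E.trans (MonoidAlgebra.domCongrBialgEquiv R' R' MulEquiv.ulift.symm)⟩⟩

end Groth.Agent.MTRigid29.IsotrivialNormal
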