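import Groth.Agent.Lib.MTRigid29.LocSplitImage
import Groth.Agent.Lib.MTRigid29.Graph

/-!
# The directed family of locally split subtori
-/

set_option autoImplicit false
set_option linter.style.haveILetI false
set_option linter.unusedSectionVars false
set_option backward.isDefEq.respectTransparency.types false
set_option maxSynthPendingDepth 3

universe u

open CategoryTheory Limits MonoidalCategory CartesianMonoidalCategory MonObj AlgebraicGeometry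

noncomputable section

namespace Groth.Agent.MTRigid29

open DiagGL

variable {S : Scheme.{u}} {G : Over S} [GrpObj G]

theorem isMonHom_fst_mul_snd (hG : SGA3x.IsMultTypeFT G) {E₁ E₂ : Over S} [GrpObj E₁] [GrpObj E₂]
    (j₁ : E₁ ⟶ G) [IsMonHom j₁] (j₂ : E₂ ⟶ G) [IsMonHom j₂] :
    IsMonHom ((fst E₁ E₂ ≫ j₁) * (snd E₁ E₂ ≫ j₂)) :=
  TorsorSch25.isMonHom_of_points _ fun X a b => by
    have h := commute_of_isMultTypeFT hG (b ≫ fst E₁ E₂ ≫ j₁) (a ≫ snd E₁ E₂ ≫ j₂)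
    simp only [MonObj.comp_mul, MonObj.mul_comp, ← Category.assoc] at h ⊢
    rw [_root_.mul_assoc, ← _root_.mul_assoc ((b ≫ fst E₁ E₂) ≫ j₁), h]
    simp only [_root_.mul_assoc]

/-- Any two locally split subtori lie in a third one. -/
theorem exists_directed (hG : SGA3x.IsMultTypeFT G) {E₁ E₂ : Over S} [GrpObj E₁] [GrpObj E₂]
    (j₁ : E₁ ⟶ G) [IsMonHom j₁] (j₂ : E₂ ⟶ G) [IsMonHom j₂] (h₁ : IsLocSplit E₁) (h₂ : IsLocSplit E₂) :
    ∃ (E₃ : Over S) (_ : GrpObj E₃) (j₃ : E₃ ⟶ G) (g₁ : E₁ ⟶ E₃) (g₂ : E₂ ⟶ E₃), IsMonHom j₃ ∧ Mono j₃ ∧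
      IsLocSplit E₃ ∧ g₁ ≫ j₃ = j₁ ∧ g₂ ≫ j₃ = j₂ := by
  haveI := isAffineHom_of_isMultTypeFT hG
  haveI := isAffineHom_of_isMultTypeFT (isMultTypeFT_of_torus (isTorus_of_isLocSplit h₁))
  haveI := isAffineHom_of_isMultTypeFT (isMultTypeFT_of_torus (isTorus_of_isLocSplit h₂))
  haveI := isAffineHom_tensor E₁ E₂
  let J := (fst E₁ E₂ ≫ j₁) * (snd E₁ E₂ ≫ j₂)
  haveI : IsMonHom J := isMonHom_fst_mul_snd hG j₁ j₂
  haveI : QuasiCompact J.left := quasiCompact_left J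
  obtain ⟨E, j₃, hE⟩ := exists_image_obj J
  haveI := hE.mono
  haveI := hE.closed
  have piece : ∀ s : S, ∃ (U₀ : S.Opens) (hs₀ : s ∈ U₀) (U : (U₀ : Scheme.{u}).Opens) (hs : (⟨s, hs₀⟩ : (U₀ : Scheme.{u})) ∈ U)
      (V : (U : Scheme.{u}).Opens), (⟨⟨s, hs₀⟩, hs⟩ : (U : Scheme.{u})) ∈ V ∧
      SplitPiece ((Over.pullback U.ι).map ((Over.pullback U₀.ι).map j₃)) V.ι := by
    intro s
    obtain ⟨U₁, hs₁, r₁, hU₁⟩ := h₁ s
    obtain ⟨U₂, hs₂, r₂, hU₂⟩ := h₂ s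
    obtain ⟨C₁⟩ := nonempty_chars hU₁
    obtain ⟨C₂⟩ := nonempty_chars hU₂
    obtain ⟨D₁⟩ := nonempty_chars_of_le (inf_le_left : U₁ ⊓ U₂ ≤ U₁) C₁
    obtain ⟨D₂⟩ := nonempty_chars_of_le (inf_le_right : U₁ ⊓ U₂ ≤ U₂) C₂
    haveI : AddGroup.FG ((Fin r₁ → ℤ) × (Fin r₂ → ℤ)) := AddGroup.fg_iff_mul_fg.2 inferInstance
    haveI := isMonHom_map J (U₁ ⊓ U₂).ι
    obtain ⟨U, hs, V, hV, hp⟩ := exists_splitPiece (charsProd (U₁ ⊓ U₂).ι D₁ D₂) (isMultTypeFT_bc hG (U₁ ⊓ U₂).ι)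
      ((Over.pullback (U₁ ⊓ U₂).ι).map J) _ (hE.bc (U₁ ⊓ U₂).ι) ⟨s, ⟨hs₁, hs₂⟩⟩
    exact ⟨U₁ ⊓ U₂, ⟨hs₁, hs₂⟩, U, hs, V, hV, hp⟩
  have hsub : ∀ s : S, ∃ (W : Scheme.{u}) (g : W ⟶ S), IsOpenImmersion g ∧ s ∈ Set.range g ∧ SubgroupOn j₃ g := by
    intro s
    obtain ⟨U₀, hs₀, U, hs, V, hV, r, T, _, -, j', hj', -, Φ, hΦ⟩ := piece s
    haveI := hj'
    exact ⟨_, (V.ι ≫ U.ι) ≫ U₀.ι, inferInstance, ⟨⟨⟨⟨s, hs₀⟩, hs⟩, hV⟩, rfl⟩,
      (SubgroupOn.of_iso j' Φ hΦ).of_bc.of_bc⟩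
  choose W g hg hgs hsg using hsub
  obtain ⟨hgrp, hhom⟩ := exists_grpObj_of_subgroup j₃
    (fun X a b => exists_factor_of_local j₃ _ fun s => ⟨_, g s, hg s, hgs s, fun Y k => by
      obtain ⟨c, hc⟩ := (hsg s Y).2.1 (k ≫ a) (k ≫ b)
      exact ⟨c, hc.trans (by rw [MonObj.comp_mul, Category.assoc, Category.assoc])⟩⟩)
    (exists_factor_of_local j₃ _ fun s => ⟨_, g s, hg s, hgs s, fun Y k => by
      obtain ⟨c, hc⟩ := (hsg s Y).1
      exact ⟨c, hc.trans (MonObj.comp_one k).symm⟩⟩)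
    (fun X a => exists_factor_of_local j₃ _ fun s => ⟨_, g s, hg s, hgs s, fun Y k => by
      obtain ⟨c, hc⟩ := (hsg s Y).2.2 (k ≫ a)
      exact ⟨c, hc.trans (by rw [GrpObj.comp_inv, Category.assoc])⟩⟩)
  let z : E₁ ⊗ E₂ ⟶ E := Over.homMk (IsClosedImmersion.lift j₃.left J.left hE.ker.le) (by
    rw [← Over.w j₃, ← Category.assoc, IsClosedImmersion.lift_fac]
    exact Over.w J)
  have hz : z ≫ j₃ = J := Over.OverMorphism.ext (IsClosedImmersion.lift_fac _ _ _)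
  refine ⟨E, hgrp, j₃, lift (𝟙 E₁) 1 ≫ z, lift 1 (𝟙 E₂) ≫ z, hhom, ‹_›, fun s => ?_, ?_, ?_⟩
  · haveI := hhom
    obtain ⟨U₀, hs₀, U, hs, V, hV, hp⟩ := piece s
    haveI := isMonHom_map j₃ U₀.ι
    haveI := isMonHom_map ((Over.pullback U₀.ι).map j₃) U.ι
    obtain ⟨r, ⟨C⟩⟩ := hp.chars
    let O : S.Opens := U₀.ι ''ᵁ (U.ι ''ᵁ V)
    have hsO : s ∈ O := ⟨⟨s, hs₀⟩, ⟨⟨⟨s, hs₀⟩, hs⟩, hV, rfl⟩, rfl⟩
    let m : (O : Scheme.{u}) ⟶ (V : Scheme.{u}) := IsOpenImmersion.lift (V.ι ≫ U.ι ≫ U₀.ι) O.ι (by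
      rintro _ ⟨⟨z, y, ⟨x, hx, rfl⟩, rfl⟩, rfl⟩
      exact ⟨⟨x, hx⟩, rfl⟩)
    have hm : ((m ≫ V.ι) ≫ U.ι) ≫ U₀.ι = O.ι := by
      rw [Category.assoc, Category.assoc]; exact IsOpenImmersion.lift_fac _ _ _
    have D' := charsComp U₀.ι ((m ≫ V.ι) ≫ U.ι) E
      (charsComp U.ι (m ≫ V.ι) _ (charsComp V.ι m _ (C.baseChange m _)))
    rw [hm] at D'
    exact ⟨O, hsO, r, chars_split D'⟩
  · rw [Category.assoc, hz, MonObj.comp_mul, lift_fst_assoc, lift_snd_assoc, Category.id_comp, MonObj.one_comp,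
      _root_.mul_one]
  · rw [Category.assoc, hz, MonObj.comp_mul, lift_fst_assoc, lift_snd_assoc, Category.id_comp, MonObj.one_comp,
      _root_.one_mul]

/-- A split group around the image of a field point is split over that point. -/
theorem nonempty_chars_at {T : Over S} [GrpObj T] {U : S.Opens} {M : Type} [AddCommGroup M] (C : Chars M (Red.bc U.ι T))
    {K : Type u} [Field K] (k : Spec (CommRingCat.of K) ⟶ S) (h : k (IsLocalRing.closedPoint K) ∈ U) :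
    Nonempty (Chars M (Red.bc k T)) := by
  have hr : Set.range k ⊆ Set.range U.ι := by
    rintro _ ⟨z, rfl⟩
    rw [show z = IsLocalRing.closedPoint K from Subsingleton.elim _ _]
    exact ⟨⟨_, h⟩, rfl⟩
  have D := charsComp U.ι (IsOpenImmersion.lift U.ι k hr) T (C.baseChange _ _)
  rw [IsOpenImmersion.lift_fac] at D
  exact ⟨D⟩

theorem le_rank_of_mono {K : Type u} [Field K] {H₁ H₂ : Over (Spec (CommRingCat.of K))} [GrpObj H₁] [GrpObj H₂]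
    {r : ℕ} {M : Type} [AddCommGroup M] [AddGroup.FG M] (C₁ : Chars (Fin r → ℤ) H₁) (C₂ : Chars M H₂)
    (v : H₁ ⟶ H₂) [IsMonHom v] [Mono v] : r ≤ Module.finrank ℤ M := by
  haveI : Module.Finite ℤ M := Module.Finite.iff_addGroup_fg.2 inferInstance
  obtain ⟨φ, hφ⟩ := exists_surjective_of_mono C₁ C₂ v
  simpa using LinearMap.finrank_le_finrank_of_surjective (f := φ.toIntLinearMap) hφ

/-- Locally split of constant rank. -/
def IsLocSplitRank (T : Over S) [GrpObj T] (r : ℕ) : Prop :=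
  ∀ s : ↥S, ∃ U : S.Opens, s ∈ U ∧ Red.IsSplitTorusWith (Fin r → ℤ) (Red.bc U.ι T)

theorem rank_unique {T : Over S} [GrpObj T] {U V : S.Opens} {r r' : ℕ}
    (hU : Red.IsSplitTorusWith (Fin r → ℤ) (Red.bc U.ι T)) (hV : Red.IsSplitTorusWith (Fin r' → ℤ) (Red.bc V.ι T))
    {s : S} (hsU : s ∈ U) (hsV : s ∈ V) : r = r' := by
  let k : Spec (CommRingCat.of (S.residueField s : Type u)) ⟶ S := S.fromSpecResidueField s
  have hk : k (IsLocalRing.closedPoint _) = s := Scheme.fromSpecResidueField_apply _ _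
  obtain ⟨C⟩ := nonempty_chars hU
  obtain ⟨C'⟩ := nonempty_chars hV
  obtain ⟨D⟩ := nonempty_chars_at C k (hk.symm ▸ hsU)
  obtain ⟨D'⟩ := nonempty_chars_at C' k (hk.symm ▸ hsV)
  haveI : AddGroup.FG (Fin r → ℤ) := AddGroup.fg_iff_mul_fg.2 inferInstance
  haveI : AddGroup.FG (Fin r' → ℤ) := AddGroup.fg_iff_mul_fg.2 inferInstance
  have h1 := le_rank_of_mono D D' (𝟙 _)
  have h2 := le_rank_of_mono D' D (𝟙 _)
  simp only [Module.finrank_fin_fun] at h1 h2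
  omega

theorem exists_rank [ConnectedSpace ↥S] {T : Over S} [GrpObj T] (h : IsLocSplit T) : ∃ r, IsLocSplitRank T r := by
  obtain ⟨s₀⟩ : Nonempty ↥S := inferInstance
  obtain ⟨U₀, hs₀, r, hr⟩ := h s₀
  refine ⟨r, ?_⟩
  let O : Set S := {s | ∃ U : S.Opens, s ∈ U ∧ Red.IsSplitTorusWith (Fin r → ℤ) (Red.bc U.ι T)}
  have hO : IsClopen O := by
    refine ⟨⟨isOpen_iff_forall_mem_open.2 fun s hs => ?_⟩, isOpen_iff_forall_mem_open.2 fun s hs => ?_⟩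
    · obtain ⟨V, hsV, r', hr'⟩ := h s
      refine ⟨V, fun t ht ⟨U, htU, hU⟩ => hs ?_, V.2, hsV⟩
      obtain rfl := rank_unique hU hr' htU ht
      exact ⟨V, hsV, hr'⟩
    · obtain ⟨U, hsU, hU⟩ := hs
      exact ⟨U, fun t ht => ⟨U, ht, hU⟩, U.2, hsU⟩
  exact fun s => (hO.eq_univ ⟨s₀, U₀, hs₀, hr⟩).symm.subset (Set.mem_univ s)

theorem isIso_of_mono_locSplit {T T' : Over S} [GrpObj T] [GrpObj T'] {r : ℕ} (hT : IsLocSplitRank T r)
    (hT' : IsLocSplitRank T' r) (g : T ⟶ T') [IsMonHom g] [Mono g] : IsIso g := by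
  have h : IsIso g.left := by
    refine left_prop_of_mapP_id (MorphismProperty.isomorphisms Scheme.{u}) g (mapP_of_cover _ g (𝟙 S) fun s => ?_)
    obtain ⟨U, hsU, hU⟩ := hT s
    obtain ⟨U', hsU', hU'⟩ := hT' s
    obtain ⟨C⟩ := nonempty_chars hU
    obtain ⟨C'⟩ := nonempty_chars hU'
    obtain ⟨D⟩ := nonempty_chars_of_le (inf_le_left : U ⊓ U' ≤ U) C
    obtain ⟨D'⟩ := nonempty_chars_of_le (inf_le_right : U ⊓ U' ≤ U') C'
    refine ⟨_, (U ⊓ U').ι, inferInstance, ⟨⟨s, hsU, hsU'⟩, rfl⟩, ?_⟩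
    rw [Category.comp_id]
    haveI := isMonHom_map g (U ⊓ U').ι
    haveI : AddGroup.FG (Fin r → ℤ) := AddGroup.fg_iff_mul_fg.2 inferInstance
    haveI := isIso_of_mono_chars D D' ((Over.pullback (U ⊓ U').ι).map g)
    exact ((Over.forget _).mapIso (asIso ((Over.pullback (U ⊓ U').ι).map g))).isIso_hom
  haveI : IsIso ((Over.forget S).map g) := h
  exact isIso_of_reflects_iso g (Over.forget S)

/-- On a connected base there is a greatest locally split subtorus. -/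
theorem exists_greatest_locSplit [ConnectedSpace ↥S] (hG : SGA3x.IsMultTypeFT G) :
    ∃ (T : Over S) (_ : GrpObj T) (j : T ⟶ G), IsMonHom j ∧ Mono j ∧ IsLocSplit T ∧
      ∀ (T' : Over S) [GrpObj T'] (j' : T' ⟶ G) [IsMonHom j'] [Mono j'], IsLocSplit T' → ∃ g : T' ⟶ T, g ≫ j = j' := by
  obtain ⟨s₀⟩ : Nonempty ↥S := inferInstance
  obtain ⟨K, _, k, M, _, hfg, -, ⟨D⟩⟩ := exists_split_point hG s₀
  haveI := hfg
  let p : ℕ → Prop := fun r => ∃ (T : Over S) (_ : GrpObj T) (j : T ⟶ G) (_ : IsMonHom j) (_ : Mono j),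
    IsLocSplitRank T r
  have hbound : ∀ r, p r → r ≤ Module.finrank ℤ M := by
    rintro r ⟨T, _, j, _, _, hT⟩
    obtain ⟨U, hU, hr⟩ := hT (k (IsLocalRing.closedPoint K))
    obtain ⟨C⟩ := nonempty_chars hr
    obtain ⟨C'⟩ := nonempty_chars_at C k hU
    haveI := isMonHom_map j k
    exact le_rank_of_mono C' D ((Over.pullback k).map j)
  have h0 : p 0 := by
    let C := charsDS S (Fin 0 → ℤ)
    haveI : IsMonHom (1 : Red.DS S (Fin 0 → ℤ) ⟶ G) :=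
      TorsorSch25.isMonHom_of_points _ fun T a b => by simp [MonObj.comp_one]
    refine ⟨_, inferInstance, 1, inferInstance, ⟨fun a b _ => C.inj fun m => ?_⟩,
      fun s => ⟨⊤, trivial, chars_split (C.baseChange (⊤ : S.Opens).ι _)⟩⟩
    rw [show m = 1 from congrArg Multiplicative.ofAdd (funext fun i => i.elim0), map_one, map_one]
  classical
  obtain ⟨T, iT, j, hj, hjm, hT⟩ : p (Nat.findGreatest p (Module.finrank ℤ M)) :=
    Nat.findGreatest_spec (Nat.zero_le _) h0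
  refine ⟨T, iT, j, hj, hjm, fun s => (hT s).elim fun U h => ⟨U, h.1, _, h.2⟩, fun T' _ j' _ _ hT' => ?_⟩
  obtain ⟨E, iE, j₃, g₁, g₂, hj₃, hm₃, hE, e₁, e₂⟩ :=
    exists_directed hG j j' (fun s => (hT s).elim fun U h => ⟨U, h.1, _, h.2⟩) hT'
  letI := iE
  obtain ⟨r₃, hr₃⟩ := exists_rank hE
  have hle : r₃ ≤ Nat.findGreatest p (Module.finrank ℤ M) :=
    Nat.le_findGreatest (hbound r₃ ⟨E, iE, j₃, hj₃, hm₃, hr₃⟩) ⟨E, iE, j₃, hj₃, hm₃, hr₃⟩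
  haveI := hm₃
  haveI := hj₃
  haveI : Mono (g₁ ≫ j₃) := e₁.symm ▸ hjm
  haveI : Mono g₁ := mono_of_mono g₁ j₃
  haveI : IsMonHom g₁ := TorsorSch25.isMonHom_of_points g₁ fun X a b => (cancel_mono j₃).1 (by
    rw [Category.assoc, e₁, MonObj.mul_comp, MonObj.mul_comp, Category.assoc, Category.assoc, e₁])
  have hge : Nat.findGreatest p (Module.finrank ℤ M) ≤ r₃ := by
    obtain ⟨U, hU, hr⟩ := hT s₀
    obtain ⟨U', hU', hr'⟩ := hr₃ s₀
    let k₀ : Spec (CommRingCat.of (S.residueField s₀ : Type u)) ⟶ S := S.fromSpecResidueField s₀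
    have hk : k₀ (IsLocalRing.closedPoint _) = s₀ := Scheme.fromSpecResidueField_apply _ _
    obtain ⟨C⟩ := nonempty_chars hr
    obtain ⟨C'⟩ := nonempty_chars hr'
    obtain ⟨A⟩ := nonempty_chars_at C k₀ (hk.symm ▸ hU)
    obtain ⟨B⟩ := nonempty_chars_at C' k₀ (hk.symm ▸ hU')
    haveI : AddGroup.FG (Fin r₃ → ℤ) := AddGroup.fg_iff_mul_fg.2 inferInstance
    haveI := isMonHom_map g₁ k₀
    simpa using le_rank_of_mono A B ((Over.pullback k₀).map g₁)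
  rw [le_antisymm hle hge] at hr₃
  haveI := isIso_of_mono_locSplit hT hr₃ g₁
  exact ⟨g₂ ≫ inv g₁, by rw [Category.assoc, ← e₁, IsIso.inv_hom_id_assoc, e₂]⟩

end Groth.Agent.MTRigid29
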