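import Groth.Agent.Lib.MTRigid29.SubgrpEqvSplit
import Groth.Agent.Lib.MTRigid29.NormalCentral
import Groth.Agent.Lib.FpqcDesc.Basic
import Mathlib.AlgebraicGeometry.Morphisms.LocalFlatDescent
import Mathlib.RingTheory.TensorProduct.MonoidAlgebra

/-!
# Monomorphisms from groups of multiplicative type to affine groups are closed immersions
-/

set_option autoImplicit false
set_option linter.style.haveILetI false
set_option backward.isDefEq.respectTransparency.types false
set_option maxSynthPendingDepth 3

universe u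

open CategoryTheory Limits MonoidalCategory CartesianMonoidalCategory MonObj AlgebraicGeometry Opposite
open scoped TensorProduct

noncomputable section

namespace Groth.Agent.MTRigid29

open DiagGL

section Split

variable {R : Type u} [CommRing R] {H G : Over (Spec (CommRingCat.of R))} [GrpObj H] [GrpObj G]
  {M : Type} [AddCommGroup M] (C : Chars M H) {B : Type u} [CommRing B] [Algebra R B]

theorem chr_diag_id : chr (charsDiag R M) (𝟙 (CoactBr.sp R (MonoidAlgebra R (Multiplicative M)))) =
    MonoidAlgebra.of R (Multiplicative M) := by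
  refine MonoidHom.ext fun a => ?_
  show (Scheme.ΓSpecIso (CommRingCat.of (MonoidAlgebra R (Multiplicative M)))).hom.hom
    ((charsDiag R M).ch (T := CoactBr.sp R (MonoidAlgebra R (Multiplicative M))) (𝟙 _) a) = _
  simp [charsDiag, ev]
  exact ConcreteCategory.congr_hom (Scheme.ΓSpecIso (CommRingCat.of (MonoidAlgebra R (Multiplicative M)))).inv_hom_id _

include C in
/-- A monomorphism from a split group to an affine group is a closed immersion. -/
theorem isClosedImmersion_of_mono_split (w : G ≅ CoactBr.sp R B) (u : H ⟶ G) [IsMonHom u] [Mono u] :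
    IsClosedImmersion u.left := by
  let L := MonoidAlgebra R (Multiplicative M)
  let D := charsDiag R M
  obtain ⟨e⟩ := nonempty_grpIso_of_chars D C
  haveI : IsMonHom e.hom.hom.hom := e.hom.hom.isMonHom_hom
  let E : CoactBr.sp R L ≅ H := ⟨e.hom.hom.hom, e.inv.hom.hom, by rw [← Mon.comp_hom', ← Grp.comp', e.hom_inv_id]; rfl,
    by rw [← Mon.comp_hom', ← Grp.comp', e.inv_hom_id]; rfl⟩
  let v : CoactBr.sp R L ⟶ G := E.hom ≫ u
  haveI : IsMonHom v := inferInstanceAs (IsMonHom (e.hom.hom.hom ≫ u))
  haveI : Mono v := inferInstanceAs (Mono (E.hom ≫ u))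
  obtain ⟨f, hf⟩ := exists_pt (v ≫ w.hom)
  have hv : ∀ {A : Type u} [CommRing A] [Algebra R A] (φ : L →ₐ[R] A),
      pmap φ v ≫ w.hom = CoactBr.pt (φ.comp f) := fun φ => by
    rw [pmap_apply, Category.assoc, hf, ← CoactBr.pt_comp]
  let 𝒜 : Subalgebra R L := f.range
  let f' : B →ₐ[R] 𝒜 := f.rangeRestrict
  let p : Pts G 𝒜 := CoactBr.pt f' ≫ w.inv
  have hp : pmap 𝒜.val p = v := by
    rw [← cancel_mono w.hom, hf, pmap_apply, Category.assoc, Category.assoc, Iso.inv_hom_id, Category.comp_id,
      ← CoactBr.pt_comp]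
    rfl
  have hchr : ∀ {A : Type u} [CommRing A] [Algebra R A] (φ : L →ₐ[R] A) (a : Multiplicative M),
      chr D (pmap φ (𝟙 _)) a = φ (MonoidAlgebra.of R _ a) := fun φ a => by rw [chr_nat, chr_diag_id]
  -- projections to a character
  have hsingle : ∀ (z : L) (m : Multiplicative M), z ∈ 𝒜 → MonoidAlgebra.single m (z.coeff m) ∈ 𝒜 := by
    rintro _ m ⟨b, rfl⟩
    let Δ : L →ₐ[R] L ⊗[R] L := Bialgebra.comulAlgHom R L
    let κ : 𝒜 ⊗[R] L →ₐ[R] L ⊗[R] L := Algebra.TensorProduct.map 𝒜.val (AlgHom.id R L)
    let z : Pts G (𝒜 ⊗[R] L) := pmap Algebra.TensorProduct.includeLeft p * pmap Algebra.TensorProduct.includeRight v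
    obtain ⟨g, hg⟩ := exists_pt (z ≫ w.hom)
    have hκ : pmap κ z = pmap Δ v := by
      have h1 : pmap Δ (𝟙 (CoactBr.sp R L)) = pmap Algebra.TensorProduct.includeLeft (𝟙 _) *
          pmap Algebra.TensorProduct.includeRight (𝟙 _) := chr_inj D fun a => by
        rw [chr_mul, hchr, hchr, hchr]
        exact ((MonoidAlgebra.isGroupLikeElem_of (R := R) a).comul_eq_tmul_self).trans (by simp)
      have h2 : ∀ {A : Type u} [CommRing A] [Algebra R A] (φ : L →ₐ[R] A), pmap φ v = pmap φ (𝟙 _) ≫ v := fun φ => by
        rw [pmap_apply, pmap_apply, Category.comp_id]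
      rw [h2 Δ, h1, MonObj.mul_comp, ← h2, ← h2, map_mul, pmap_pmap, pmap_pmap,
        show κ.comp Algebra.TensorProduct.includeLeft = (Algebra.TensorProduct.includeLeft : L →ₐ[R] L ⊗[R] L).comp 𝒜.val
          from AlgHom.ext fun x => by simp [κ],
        show κ.comp Algebra.TensorProduct.includeRight = (Algebra.TensorProduct.includeRight : L →ₐ[R] L ⊗[R] L)
          from AlgHom.ext fun x => by simp [κ],
        ← pmap_pmap, hp]
    have hΔ : Δ.comp f = κ.comp g := by
      refine CoactBr.pt_injective ?_
      rw [← hv, ← hκ, CoactBr.pt_comp, ← hg, pmap_apply, Category.assoc]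
    let c : L →ₗ[R] R := Finsupp.lapply m ∘ₗ (MonoidAlgebra.coeffLinearEquiv R).toLinearMap
    let π : L ⊗[R] L →ₗ[R] L := (TensorProduct.rid R L).toLinearMap ∘ₗ c.lTensor L
    have h1 : ∀ x : L, π (Δ x) = MonoidAlgebra.single m (x.coeff m) := by
      intro x
      induction x using MonoidAlgebra.induction_linear with
      | zero => simp
      | add x y hx hy => rw [map_add, map_add, hx, hy]; simp
      | single n r =>
        classical
        have hd : Δ (MonoidAlgebra.single n r) = r • ((MonoidAlgebra.single n 1 : L) ⊗ₜ[R] (MonoidAlgebra.single n 1 : L)) := by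
          rw [show MonoidAlgebra.single n r = r • MonoidAlgebra.of R (Multiplicative M) n by
            simp [MonoidAlgebra.smul_single], map_smul]
          exact congrArg (r • ·) (MonoidAlgebra.isGroupLikeElem_of (R := R) n).comul_eq_tmul_self
        rw [hd]
        have hc : c (MonoidAlgebra.single n (1 : R)) = (MonoidAlgebra.single n (1 : R) : L).coeff m := rfl
        simp only [π, map_smul, LinearMap.coe_comp, Function.comp_apply, LinearMap.lTensor_tmul, LinearEquiv.coe_coe,
          TensorProduct.rid_tmul]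
        rw [hc]
        by_cases hnm : n = m
        · subst hnm; simp
          exact (MonoidAlgebra.smul_single _ _ _).trans (by simp)
        · simp [hnm]
    have h2 : ∀ y : 𝒜 ⊗[R] L, π (κ y) ∈ 𝒜 := by
      intro y
      induction y using TensorProduct.induction_on with
      | zero => rw [map_zero, map_zero]; exact zero_mem _
      | add x y hx hy => rw [map_add, map_add]; exact add_mem hx hy
      | tmul a l =>
        show π ((a : L) ⊗ₜ[R] l) ∈ 𝒜
        simp only [π, LinearMap.coe_comp, Function.comp_apply, LinearMap.lTensor_tmul, LinearEquiv.coe_coe,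
          TensorProduct.rid_tmul]
        exact Subalgebra.smul_mem 𝒜 a.2 _
    rw [← h1]
    show π (Δ (f b)) ∈ 𝒜
    rw [show Δ (f b) = κ (g b) from DFunLike.congr_fun hΔ b]
    exact h2 _
  -- stability under inversion
  have hinv : ∀ z ∈ 𝒜, MonoidAlgebra.mapDomain (fun a : Multiplicative M => a⁻¹) z ∈ 𝒜 := by
    rintro _ ⟨b, rfl⟩
    let σ : L →ₐ[R] L := MonoidAlgebra.lift R L _ ((MonoidAlgebra.of R (Multiplicative M)).comp invMonoidHom)
    obtain ⟨g, hg⟩ := exists_pt (p⁻¹ ≫ w.hom)
    have h1 : pmap σ v = pmap 𝒜.val p⁻¹ := by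
      have h2 : pmap σ (𝟙 (CoactBr.sp R L)) = (pmap (AlgHom.id R L) (𝟙 (CoactBr.sp R L)))⁻¹ := by
        refine eq_inv_of_mul_eq_one_left (chr_inj D fun a => ?_)
        rw [chr_mul, chr_one, hchr, hchr, AlgHom.id_apply, show σ (MonoidAlgebra.of R _ a) = MonoidAlgebra.of R _ a⁻¹
          from MonoidAlgebra.lift_of _ _, ← map_mul, inv_mul_cancel, map_one]
      rw [map_inv, hp, show pmap σ v = pmap σ (𝟙 _) ≫ v by rw [pmap_apply, pmap_apply, Category.comp_id], h2, pmap_id,
        GrpObj.inv_comp, Category.id_comp]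
    have hσ : σ.comp f = 𝒜.val.comp g := by
      refine CoactBr.pt_injective ?_
      rw [← hv, h1, CoactBr.pt_comp, ← hg, pmap_apply, Category.assoc]
    have h3 : ∀ x : L, MonoidAlgebra.mapDomain (fun a : Multiplicative M => a⁻¹) x = σ x := by
      intro x
      induction x using MonoidAlgebra.induction_linear with
      | zero => rw [map_zero, MonoidAlgebra.mapDomain_zero]
      | add x y hx hy => rw [map_add, ← hx, ← hy]; exact MonoidAlgebra.mapDomain_add _ _ _
      | single n r =>
        rw [MonoidAlgebra.mapDomain_single]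
        refine Eq.trans ?_ (MonoidAlgebra.lift_single _ _ _).symm
        simp [MonoidAlgebra.smul_single]
    rw [h3]
    show σ (f b) ∈ 𝒜
    rw [show σ (f b) = (g b : L) from DFunLike.congr_fun hσ b]
    exact (g b).2
  -- every character occurs with unit coefficient
  have htop : ∀ (m : Multiplicative M), MonoidAlgebra.single m (1 : R) ∈ 𝒜 := by
    let J : Multiplicative M → Ideal R := fun m =>
      { carrier := {c | MonoidAlgebra.single m c ∈ 𝒜}
        zero_mem' := by simp
        add_mem' := fun {a b} ha hb => by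
          simp only [Set.mem_ofPred_eq, MonoidAlgebra.single_add] at *; exact add_mem ha hb
        smul_mem' := fun r c hc => by
          simp only [Set.mem_ofPred_eq] at *
          rw [smul_eq_mul, ← smul_eq_mul, ← MonoidAlgebra.smul_single]
          exact Subalgebra.smul_mem 𝒜 hc r }
    have hJ : ∀ m c, c ∈ J m ↔ MonoidAlgebra.single m c ∈ 𝒜 := fun m c => Iff.rfl
    suffices hJtop : ∀ m, J m = ⊤ from fun m => (hJ m 1).1 (hJtop m ▸ Submodule.mem_top)
    intro m
    by_contra hm
    obtain ⟨q, hq, hle⟩ := Ideal.exists_le_maximal _ hm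
    haveI := hq
    let P : Subgroup (Multiplicative M) :=
      { carrier := {a | ¬ J a ≤ q}
        one_mem' := fun h => hq.ne_top ((Ideal.eq_top_iff_one _).2 (h ((hJ 1 1).2 (by
          rw [← MonoidAlgebra.one_def]; exact one_mem _))))
        mul_mem' := fun {a b} ha hb h => by
          obtain ⟨c, hc, hcq⟩ := SetLike.not_le_iff_exists.1 ha
          obtain ⟨d, hd, hdq⟩ := SetLike.not_le_iff_exists.1 hb
          refine (hq.isPrime.mul_notMem hcq hdq) (h ((hJ _ _).2 ?_))
          rw [← MonoidAlgebra.single_mul_single]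
          exact mul_mem ((hJ _ _).1 hc) ((hJ _ _).1 hd)
        inv_mem' := fun {a} ha h => by
          obtain ⟨c, hc, hcq⟩ := SetLike.not_le_iff_exists.1 ha
          refine hcq (h ((hJ _ _).2 ?_))
          have h4 := hinv _ ((hJ _ _).1 hc)
          rwa [MonoidAlgebra.mapDomain_single] at h4 }
    let K := q.ResidueField
    let Q := MonoidAlgebra K (Multiplicative M ⧸ P)
    let ε : L →ₐ[R] Q := MonoidAlgebra.lift R Q _ 1
    let φ : L →ₐ[R] Q := MonoidAlgebra.lift R Q _ ((MonoidAlgebra.of K _).comp (QuotientGroup.mk' P))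
    have hfε : φ.comp f = ε.comp f := AlgHom.ext fun b => by
      have hb : f b = (f b).coeff.sum MonoidAlgebra.single := (MonoidAlgebra.sum_coeff_single _).symm
      simp only [AlgHom.comp_apply]
      rw [hb, map_finsuppSum, map_finsuppSum]
      refine Finset.sum_congr rfl fun a _ => ?_
      show φ (MonoidAlgebra.single a _) = ε (MonoidAlgebra.single a _)
      rw [MonoidAlgebra.lift_single, MonoidAlgebra.lift_single]
      by_cases ha : a ∈ P
      · congr 1
        simp [(QuotientGroup.eq_one_iff a).2 ha]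
        exact MonoidAlgebra.one_def.symm
      · have : (f b).coeff a ∈ q := not_not.1 ha ((hJ _ _).2 (hsingle _ a ⟨b, rfl⟩))
        have h0 : algebraMap R Q ((f b).coeff a) = 0 := by
          rw [IsScalarTower.algebraMap_apply R K Q, Ideal.algebraMap_residueField_eq_zero.2 this, map_zero]
        rw [Algebra.smul_def, Algebra.smul_def, h0, MulZeroClass.zero_mul, MulZeroClass.zero_mul]
    have h5 : pmap φ (𝟙 (CoactBr.sp R L)) = pmap ε (𝟙 _) := by
      have hq : ∀ {A : Type u} [CommRing A] [Algebra R A] (χ : L →ₐ[R] A), pmap χ (𝟙 _) ≫ v = pmap χ v :=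
        fun χ => by rw [pmap_apply, pmap_apply, Category.comp_id]
      refine (cancel_mono v).1 ((cancel_mono w.hom).1 ?_)
      rw [hq, hq, hv, hv, hfε]
    refine absurd hle (?_ : m ∈ P)
    refine (QuotientGroup.eq_one_iff m).1 (MonoidAlgebra.of_injective (R := K) ?_)
    have h6 := congrArg (fun x => chr D x m) h5
    simp only [hchr] at h6
    rw [map_one]
    refine (MonoidAlgebra.lift_of _ m).symm.trans (h6.trans ?_)
    exact MonoidAlgebra.lift_of _ m
  have hsurj : Function.Surjective f := by
    rw [← AlgHom.range_eq_top, _root_.eq_top_iff]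
    rintro z -
    rw [← MonoidAlgebra.sum_coeff_single z]
    refine sum_mem fun m _ => ?_
    rw [← _root_.mul_one (z.coeff m), ← smul_eq_mul, ← MonoidAlgebra.smul_single]
    exact Subalgebra.smul_mem _ (htop m) _
  haveI : IsClosedImmersion (CoactBr.pt f).left :=
    IsClosedImmersion.spec_of_surjective (CommRingCat.ofHom f.toRingHom) hsurj
  have hu : u.left = E.inv.left ≫ (CoactBr.pt f).left ≫ w.inv.left := by
    rw [← Over.comp_left, ← Over.comp_left, ← hf, Category.assoc, Iso.hom_inv_id, Category.comp_id,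
      Iso.inv_hom_id_assoc]
  haveI : IsIso E.inv.left := inferInstanceAs (IsIso ((Over.forget _).map E.inv))
  haveI : IsIso w.inv.left := inferInstanceAs (IsIso ((Over.forget _).map w.inv))
  rw [hu]
  infer_instance

end Split

end Groth.Agent.MTRigid29
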