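import Groth.Agent.Lib.MTRigid29.TrivGlobal

/-!
# A homomorphism out of a group of multiplicative type which is a monomorphism on the fibres
-/

set_option autoImplicit false
set_option linter.style.haveILetI false
set_option backward.isDefEq.respectTransparency.types false
set_option maxSynthPendingDepth 3

universe u

open CategoryTheory Limits MonoidalCategory CartesianMonoidalCategory MonObj AlgebraicGeometry Opposite
open scoped TensorProduct

noncomputable section

namespace Groth.Agent.MTRigid29

open DiagGL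

section Local

variable {R : Type u} [CommRing R] {A : Type u} [CommRing A] [HopfAlgebra R A]
  {G : Over (Spec (CommRingCat.of R))} [GrpObj G]

/-- The trivial point. -/
def triPt (R A : Type u) [CommRing R] [CommRing A] [HopfAlgebra R A] (C : Type u) [CommRing C] [Algebra R C] :
    A →ₐ[R] C := (Algebra.ofId R C).comp (Bialgebra.counitAlgHom R A)

variable (w : Pts G A) (hw : pmap (Bialgebra.counitAlgHom R A) w = 1)

include hw in
theorem pmap_triPt (C : Type u) [CommRing C] [Algebra R C] : pmap (triPt R A C) w = 1 := by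
  rw [triPt, ← pmap_pmap, hw, map_one]

include hw in
/-- Near the trivial point the kernel is cut out by equations. -/
theorem exists_local_equations (q : PrimeSpectrum R) :
    ∃ (P : Ideal A) (_ : P.IsPrime) (I : Ideal (Localization.AtPrime P)),
      P = q.asIdeal.comap (Bialgebra.counitAlgHom R A).toRingHom ∧
      ∀ {C : Type u} [CommRing C] [Algebra R C] (f : Localization.AtPrime P →ₐ[R] C),
        pmap (f.comp (IsScalarTower.toAlgHom R A (Localization.AtPrime P))) w = 1 ↔ ∀ x ∈ I, f x = 0 := by
  classical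
  let ε : A →+* R := (Bialgebra.counitAlgHom R A).toRingHom
  let P : Ideal A := q.asIdeal.comap ε
  haveI : P.IsPrime := Ideal.comap_isPrime ε q.asIdeal
  let L := Localization.AtPrime P
  let one : Spec (CommRingCat.of R) ⟶ G.left := (1 : 𝟙_ (Over (Spec (CommRingCat.of R))) ⟶ G).left
  have hone : ∀ (C : Type u) [CommRing C] [Algebra R C],
      (1 : Pts G C).left = Spec.map (CommRingCat.ofHom (algebraMap R C)) ≫ one := fun C _ _ => by
    rw [← MonObj.comp_one (toUnit (CoactBr.sp R C))]
    rfl
  have hε : Spec.map (CommRingCat.ofHom ε) ≫ w.left = one := by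
    have h := (congrArg CommaMorphism.left hw).trans (hone R)
    rw [show algebraMap R R = RingHom.id R from rfl] at h
    exact h.trans (by rw [show CommRingCat.ofHom (RingHom.id R) = 𝟙 (CommRingCat.of R) from rfl, Spec.map_id, Category.id_comp])
  obtain ⟨V, hV, hqV, -⟩ := exists_isAffineOpen_mem_and_subset (x := one q) (U := ⊤) trivial
  have hclosed : ∀ z : PrimeSpectrum L, ∀ (g : Spec (CommRingCat.of L) ⟶ G.left),
      g (IsLocalRing.closedPoint L) ∈ V → g z ∈ V := fun z g h =>
    ((IsLocalRing.specializes_closedPoint z).map g.continuous).mem_open V.2 h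
  have hcp : PrimeSpectrum.comap (algebraMap A L) (IsLocalRing.closedPoint L) = ⟨P, inferInstance⟩ :=
    PrimeSpectrum.ext (IsLocalization.AtPrime.under_maximalIdeal L P)
  have hw1 : (Spec.map (CommRingCat.ofHom (algebraMap A L)) ≫ w.left) (IsLocalRing.closedPoint L) ∈ V := by
    have h : w.left (PrimeSpectrum.comap ε q) ∈ V := by
      show (Spec.map (CommRingCat.ofHom ε) ≫ w.left) q ∈ V
      rw [hε]; exact hqV
    show w.left (PrimeSpectrum.comap (algebraMap A L) (IsLocalRing.closedPoint L)) ∈ V
    rw [hcp]; exact h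
  have he1 : (Spec.map (CommRingCat.ofHom (algebraMap R L)) ≫ one) (IsLocalRing.closedPoint L) ∈ V := by
    show one (PrimeSpectrum.comap (algebraMap R L) (IsLocalRing.closedPoint L)) ∈ V
    have : PrimeSpectrum.comap (algebraMap R L) (IsLocalRing.closedPoint L) = q := by
      rw [IsScalarTower.algebraMap_eq R A L, PrimeSpectrum.comap_comp_apply, hcp]
      refine PrimeSpectrum.ext (Ideal.ext fun r => ?_)
      show ε (algebraMap R A r) ∈ q.asIdeal ↔ r ∈ q.asIdeal
      rw [show ε (algebraMap R A r) = r from AlgHom.commutes _ r]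
    rw [this]; exact hqV
  obtain ⟨χ, hχ⟩ := exists_fac hV (Spec.map (CommRingCat.ofHom (algebraMap A L)) ≫ w.left) fun z => hclosed z _ hw1
  obtain ⟨σ, hσ⟩ := exists_fac hV (Spec.map (CommRingCat.ofHom (algebraMap R L)) ≫ one) fun z => hclosed z _ he1
  refine ⟨P, inferInstance, Ideal.span (Set.range fun v => χ v - σ v), rfl, fun {C} _ _ f => ?_⟩
  have h1 : (pmap (f.comp (IsScalarTower.toAlgHom R A L)) w).left =
      Spec.map (CommRingCat.ofHom (f.toRingHom.comp χ)) ≫ hV.fromSpec := by
    rw [← specMap_comp, Category.assoc, hχ]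
    exact (congrArg (· ≫ w.left) (specMap_comp _ _).symm).trans (Category.assoc _ _ _)
  have h2 : (1 : Pts G C).left = Spec.map (CommRingCat.ofHom (f.toRingHom.comp σ)) ≫ hV.fromSpec := by
    rw [hone C, ← specMap_comp, Category.assoc, hσ, ← Category.assoc, specMap_comp]
    exact congrArg (fun k => Spec.map (CommRingCat.ofHom k) ≫ one) f.comp_algebraMap.symm
  constructor
  · intro h x hx
    have h3 := fac_injective hV ((h1.symm.trans (congrArg CommaMorphism.left h)).trans h2)
    refine (Ideal.span_le (I := RingHom.ker f.toRingHom)).2 ?_ hx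
    rintro _ ⟨v, rfl⟩
    show f.toRingHom (χ v - σ v) = 0
    rw [map_sub, sub_eq_zero]
    exact DFunLike.congr_fun h3 v
  · intro h
    refine Over.OverMorphism.ext (h1.trans (Eq.trans ?_ h2.symm))
    refine congrArg (fun k => Spec.map (CommRingCat.ofHom k) ≫ hV.fromSpec) (RingHom.ext fun v => ?_)
    show f.toRingHom (χ v) = f.toRingHom (σ v)
    rw [← sub_eq_zero, ← map_sub]
    exact h _ (Ideal.subset_span ⟨v, rfl⟩)

include hw in
/-- A point in the kernel is trivial when the kernels of the fibres are trivial. -/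
theorem eq_triPt_of_fibres [Algebra.FiniteType R A] {B : Type u} [CommRing B] [Algebra R B]
    (hfib : ∀ (q : Ideal R) [q.IsPrime], (∀ r ∈ q, ¬ IsUnit (algebraMap R B r)) →
      ∀ (C : Type u) [CommRing C] [Algebra R C], (∀ r ∈ q, algebraMap R C r = 0) →
      (∀ r ∉ q, IsUnit (algebraMap R C r)) → ∀ f : A →ₐ[R] C, pmap f w = 1 → f = triPt R A C)
    (f : A →ₐ[R] B) (hf : pmap f w = 1) : f = triPt R A B := by
  classical
  suffices hloc : ∀ (C : Type u) [CommRing C] [IsLocalRing C] [Algebra R C] (_ : B →ₐ[R] C) (f : A →ₐ[R] C),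
      pmap f w = 1 → f = triPt R A C by
    refine AlgHom.ext fun a => sub_eq_zero.1 (eq_zero_of_localization _ fun m hm => ?_)
    let φ := IsScalarTower.toAlgHom R B (Localization.AtPrime m)
    have h := hloc (Localization.AtPrime m) φ (φ.comp f) (by rw [← pmap_pmap, hf, map_one])
    rw [map_sub, sub_eq_zero]
    refine (DFunLike.congr_fun h a).trans ?_
    exact (IsScalarTower.algebraMap_apply R B (Localization.AtPrime m) _)
  intro C _ _ _ φ f hf
  let q : Ideal R := (IsLocalRing.maximalIdeal C).comap (algebraMap R C)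
  haveI hq : q.IsPrime := Ideal.comap_isPrime _ _
  have hqB : ∀ r ∈ q, ¬ IsUnit (algebraMap R B r) := fun r hr hu =>
    (IsLocalRing.mem_maximalIdeal _).1 hr (φ.commutes r ▸ hu.map φ)
  have hunit : ∀ r ∉ q, IsUnit (algebraMap R C r) := fun r hr => by
    by_contra hu
    exact hr hu
  have hmod : ∀ a, f a - algebraMap R C (Coalgebra.counit a) ∈ Ideal.map (algebraMap R C) q := by
    intro a
    let Q := C ⧸ Ideal.map (algebraMap R C) q
    have h0 : ∀ r ∈ q, algebraMap R Q r = 0 := fun r hr => by
      rw [IsScalarTower.algebraMap_apply R C Q]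
      exact Ideal.Quotient.eq_zero_iff_mem.2 (Ideal.mem_map_of_mem _ hr)
    have h1 : ∀ r ∉ q, IsUnit (algebraMap R Q r) := fun r hr => by
      rw [IsScalarTower.algebraMap_apply R C Q]; exact (hunit r hr).map _
    have h2 := hfib q hqB Q h0 h1 ((Ideal.Quotient.mkₐ R _).comp f) (by rw [← pmap_pmap, hf, map_one])
    refine Ideal.Quotient.eq.1 ((DFunLike.congr_fun h2 a).trans ?_)
    exact IsScalarTower.algebraMap_apply R C Q _
  have hle : Ideal.map (algebraMap R C) q ≤ IsLocalRing.maximalIdeal C := Ideal.map_comap_le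
  obtain ⟨P, hP, I, hPq, hI⟩ := exists_local_equations w hw ⟨q, hq⟩
  let L := Localization.AtPrime P
  have hmemP : ∀ a, a ∈ P ↔ Coalgebra.counit (R := R) a ∈ q := fun a => by rw [hPq]; rfl
  have hfu : ∀ s : P.primeCompl, IsUnit (f s) := fun s => by
    by_contra hu
    refine s.2 ((hmemP s).2 ?_)
    have h1 : f (s : A) ∈ IsLocalRing.maximalIdeal C := hu
    have h2 := Ideal.sub_mem _ h1 (hle (hmod s))
    rw [sub_sub_cancel] at h2
    exact h2
  let fL : L →ₐ[R] C := IsLocalization.liftAlgHom (M := P.primeCompl) (f := f) hfu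
  have hfL : fL.comp (IsScalarTower.toAlgHom R A L) = f :=
    AlgHom.ext fun a => IsLocalization.lift_eq hfu a
  have hfI : ∀ x ∈ I, fL x = 0 := (hI fL).1 (by rw [hfL]; exact hf)
  have hεu : ∀ s : P.primeCompl, IsUnit (triPt R A C s) := fun s => hunit _ fun h => s.2 ((hmemP s).2 h)
  let εL : L →ₐ[R] C := IsLocalization.liftAlgHom (M := P.primeCompl) (f := triPt R A C) hεu
  have hεL : εL.comp (IsScalarTower.toAlgHom R A L) = triPt R A C :=
    AlgHom.ext fun a => IsLocalization.lift_eq hεu a
  have hεI : ∀ x ∈ I, εL x = 0 := (hI εL).1 (by rw [hεL]; exact pmap_triPt w hw C)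
  obtain ⟨g, hg⟩ := Algebra.FiniteType.out (R := R) (A := A)
  let d : A → C := fun a => f a - algebraMap R C (Coalgebra.counit a)
  let N : Ideal C := Ideal.span (d '' (g : Set A))
  have hd : ∀ a, d a ∈ N := by
    intro a
    have ha : a ∈ Algebra.adjoin R (g : Set A) := hg ▸ Algebra.mem_top
    induction ha using Algebra.adjoin_induction with
    | mem x hx => exact Ideal.subset_span ⟨x, hx, rfl⟩
    | algebraMap r =>
      have : d (algebraMap R A r) = 0 := by simp [d]
      rw [this]; exact N.zero_mem
    | add x y _ _ hx hy =>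
      have : d (x + y) = d x + d y := by simp only [d, map_add]; ring
      rw [this]; exact N.add_mem hx hy
    | mul x y _ _ hx hy =>
      have : d (x * y) = f x * d y + algebraMap R C (Coalgebra.counit y) * d x := by
        simp only [d, map_mul, Bialgebra.counit_mul]; ring
      rw [this]; exact N.add_mem (N.mul_mem_left _ hy) (N.mul_mem_left _ hx)
  have hN : N ≤ IsLocalRing.maximalIdeal C • N := by
    refine Ideal.span_le.2 ?_
    rintro _ ⟨x, -, rfl⟩
    let Q := L ⧸ (I ⊔ Ideal.map (algebraMap R L) q)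
    let π : L →ₐ[R] Q := Ideal.Quotient.mkₐ R _
    have h0 : ∀ r ∈ q, algebraMap R Q r = 0 := fun r hr => by
      rw [IsScalarTower.algebraMap_apply R L Q]
      exact Ideal.Quotient.eq_zero_iff_mem.2 (Ideal.mem_sup_right (Ideal.mem_map_of_mem _ hr))
    have h1 : ∀ r ∉ q, IsUnit (algebraMap R Q r) := fun r hr => by
      rw [IsScalarTower.algebraMap_apply R L Q]
      refine IsUnit.map _ ?_
      rw [IsScalarTower.algebraMap_apply R A L]
      exact IsLocalization.map_units L (⟨algebraMap R A r, fun h => hr (by simpa using (hmemP _).1 h)⟩ : P.primeCompl)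
    have h2 := hfib q hqB Q h0 h1 (π.comp (IsScalarTower.toAlgHom R A L))
      ((hI π).2 fun y hy => Ideal.Quotient.eq_zero_iff_mem.2 (Ideal.mem_sup_left hy))
    let y : A := x - algebraMap R A (Coalgebra.counit (R := R) x)
    have hy : algebraMap A L y ∈ I ⊔ Ideal.map (algebraMap R L) q := by
      rw [← Ideal.Quotient.eq_zero_iff_mem, map_sub, map_sub, sub_eq_zero]
      refine (DFunLike.congr_fun h2 x).trans ?_
      exact (IsScalarTower.algebraMap_apply R L Q _).trans (congrArg _ (IsScalarTower.algebraMap_apply R A L _))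
    obtain ⟨i, hi, z, hz, hiz⟩ := Submodule.mem_sup.1 hy
    have hfy : fL (algebraMap A L y) = d x := by
      rw [show fL (algebraMap A L y) = f y from DFunLike.congr_fun hfL y]
      simp [d, y]
    have hεy : εL (algebraMap A L y) = 0 := by
      rw [show εL (algebraMap A L y) = triPt R A C y from DFunLike.congr_fun hεL y]
      simp [triPt, y]
    rw [← hiz, map_add, hfI i hi, _root_.zero_add] at hfy
    rw [← hiz, map_add, hεI i hi, _root_.zero_add] at hεy
    have key : ∀ z ∈ Ideal.map (algebraMap R L) q, fL z - εL z ∈ IsLocalRing.maximalIdeal C • N := by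
      intro z hz
      have hz' := MultTypeLib.mem_KT_iff_mem_map.2 hz
      refine Submodule.smul_induction_on hz' ?_ ?_
      · intro r hr l _
        rw [map_smul, map_smul, show r • fL l - r • εL l = algebraMap R C r • (fL l - εL l) by
          rw [algebraMap_smul, smul_sub]]
        refine Submodule.smul_mem_smul (hle (Ideal.mem_map_of_mem _ hr)) ?_
        obtain ⟨⟨a, s⟩, has⟩ := IsLocalization.surj P.primeCompl l
        have hf' : fL l * f s = f a := by
          have := congrArg fL has
          rw [map_mul] at this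
          exact (congrArg (fL l * ·) (DFunLike.congr_fun hfL (s : A)).symm).trans (this.trans (DFunLike.congr_fun hfL a))
        have hε' : εL l * triPt R A C s = triPt R A C a := by
          have := congrArg εL has
          rw [map_mul] at this
          exact (congrArg (εL l * ·) (DFunLike.congr_fun hεL (s : A)).symm).trans (this.trans (DFunLike.congr_fun hεL a))
        obtain ⟨v, hv⟩ := (hfu s).exists_left_inv
        have : fL l - εL l = v * (d a - εL l * d s) := by
          calc fL l - εL l = (v * f s) * (fL l - εL l) := by rw [hv, _root_.one_mul]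
            _ = v * (fL l * f s - εL l * f s) := by ring
            _ = v * (f a - (εL l * triPt R A C s + εL l * d s)) := by rw [hf', ← mul_add]; simp [d, triPt]
            _ = v * (d a - εL l * d s) := by rw [hε']; simp [d, triPt]; ring
        rw [this]
        exact N.mul_mem_left _ (N.sub_mem (hd a) (N.mul_mem_left _ (hd s)))
      · intro a b ha hb
        rw [map_add, map_add, add_sub_add_comm]; exact add_mem ha hb
    have := key z hz
    rwa [hεy, sub_zero, hfy] at this
  have hN0 : N = ⊥ := Submodule.eq_bot_of_le_smul_of_le_jacobson_bot (IsLocalRing.maximalIdeal C) N ⟨(g.image d), by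
    rw [Finset.coe_image]⟩ hN (IsLocalRing.maximalIdeal_le_jacobson _)
  refine AlgHom.ext fun a => sub_eq_zero.1 ?_
  have := hd a
  rw [hN0, Submodule.mem_bot] at this
  exact this

end Local

variable {S S' S'' : Scheme.{u}} {H G : Over S} [GrpObj H] [GrpObj G] (u : H ⟶ G)

/-- `u` is injective on points over `f`. -/
def Monic (f : S' ⟶ S) : Prop := ∀ (T : Over S') (h : (Over.map f).obj T ⟶ H), h ≫ u = 1 → h = 1

theorem monic_comp {f : S' ⟶ S} (h : Monic u f) (g : S'' ⟶ S') : Monic u (g ≫ f) := by
  intro T x hx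
  let i : (Over.map (g ≫ f)).obj T ≅ (Over.map f).obj ((Over.map g).obj T) := Over.isoMk (Iso.refl _) (by simp)
  rw [← cancel_epi i.inv, MonObj.comp_one]
  exact h _ (i.inv ≫ x) (by rw [Category.assoc, hx, MonObj.comp_one])

theorem monic_of_mono (f : S' ⟶ S) [IsMonHom u] (h : Mono ((Over.pullback f).map u).left) : Monic u f := by
  intro T x hx
  haveI : Mono ((Over.pullback f).map u) := Over.mono_of_mono_left _
  obtain ⟨y, rfl⟩ := fl_surjective f H x
  have h1 : (1 : T ⟶ Red.bc f H) ≫ (Over.pullback f).map u = 1 := by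
    refine fl_injective f G ?_
    rw [fl_comp_map, fl_one, fl_one, MonObj.one_comp]
  have h2 : y ≫ (Over.pullback f).map u = 1 := fl_injective f G (by rw [fl_comp_map, hx, fl_one])
  rw [(cancel_mono ((Over.pullback f).map u)).1 (h2.trans h1.symm), fl_one]

/-- Injectivity on the fibres implies injectivity over any field. -/
theorem monic_of_field (hfib : ∀ s : S, Monic u (S.fromSpecResidueField s)) (K : Type u) [Field K]
    (x : Spec (CommRingCat.of K) ⟶ S) : Monic u x := by
  obtain ⟨⟨s, a⟩, rfl⟩ := (Scheme.SpecToEquivOfField K S).symm.surjective x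
  exact monic_comp u (hfib s) _

variable [IsMonHom u]

/-- A homomorphism from a group of multiplicative type and of finite type injective on fibres is injective. -/
theorem mono_of_fibres (hH : SGA3x.IsMultTypeFT H) (hfib : ∀ s : S, Monic u (S.fromSpecResidueField s)) :
    Mono u := by
  suffices key : ∀ (X : Over S) (h : X ⟶ H), h ≫ u = 1 → h = 1 by
    refine ⟨fun a b hab => ?_⟩
    have := key _ (a * b⁻¹) (by rw [MonObj.mul_comp, GrpObj.inv_comp, hab, mul_inv_cancel])
    exact mul_inv_eq_one.1 this
  intro X h hh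
  have hx : ∀ x : X.left, ∃ (R : Type u) (_ : CommRing R) (g : Spec (CommRingCat.of R) ⟶ S) (_ : IsOpenImmersion g)
      (O : X.left.Opens), x ∈ O ∧ IsAffineOpen O ∧ Set.range (O.ι ≫ X.hom) ⊆ Set.range g := by
    intro x
    obtain ⟨V, hV, hxV, -⟩ := exists_isAffineOpen_mem_and_subset (x := X.hom x) (U := ⊤) trivial
    obtain ⟨O, hO, hxO, hle⟩ := exists_isAffineOpen_mem_and_subset (x := x) (U := X.hom ⁻¹ᵁ V) hxV
    refine ⟨Γ(S, V), inferInstance, hV.fromSpec, inferInstance, O, hxO, hO, ?_⟩
    rintro _ ⟨y, rfl⟩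
    rw [hV.range_fromSpec]
    exact hle y.2
  choose R iR g hg O hxO hO hrange using hx
  let 𝒰 : X.left.OpenCover := X.left.openCoverOfIsOpenCover O (by
    rw [TopologicalSpace.IsOpenCover, _root_.eq_top_iff]
    exact fun y _ => TopologicalSpace.Opens.mem_iSup.2 ⟨y, hxO y⟩)
  refine Over.OverMorphism.ext (𝒰.hom_ext _ _ fun x => ?_)
  haveI := hg x
  obtain ⟨A, _, _, j, hj, -, hft, ⟨e⟩⟩ := exists_model_ft hH (g x)
  haveI := hft
  let B := Γ(X.left, O x)
  let b : Spec (CommRingCat.of B) ⟶ Spec (CommRingCat.of (R x)) :=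
    IsOpenImmersion.lift (g x) ((hO x).isoSpec.inv ≫ (O x).ι ≫ X.hom)
      (by rintro _ ⟨z, rfl⟩; exact hrange x ⟨(hO x).isoSpec.inv z, rfl⟩)
  letI : Algebra (R x) B := (Spec.preimage b).hom.toAlgebra
  have hb : Spec.map (CommRingCat.ofHom (algebraMap (R x) B)) = b := Spec.map_preimage b
  let incl : (Over.map (g x)).obj (CoactBr.sp (R x) B) ⟶ X := Over.homMk ((hO x).isoSpec.inv ≫ (O x).ι) (by
    show ((hO x).isoSpec.inv ≫ (O x).ι) ≫ X.hom = Spec.map (CommRingCat.ofHom (algebraMap (R x) B)) ≫ g x
    rw [hb, IsOpenImmersion.lift_fac, Category.assoc])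
  suffices hloc : incl ≫ h = 1 by
    rw [← MonObj.comp_one incl] at hloc
    have := congrArg CommaMorphism.left hloc
    exact (cancel_epi (hO x).isoSpec.inv).1 ((Category.assoc _ _ _).symm.trans (this.trans (Category.assoc _ _ _)))
  obtain ⟨y, hy⟩ := fl_surjective (g x) H (incl ≫ h)
  let u' := (Over.pullback (g x)).map u
  let w : Pts (Red.bc (g x) G) A := e.hom.hom.hom ≫ u'
  haveI : IsMonHom e.inv.hom.hom := e.inv.hom.isMonHom_hom
  haveI : IsMonHom e.hom.hom.hom := e.hom.hom.isMonHom_hom
  have hu' : y ≫ u' = 1 := fl_injective (g x) G (by rw [fl_comp_map, hy, Category.assoc, hh, MonObj.comp_one, fl_one])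
  obtain ⟨f, hf⟩ := exists_pt (y ≫ e.inv.hom.hom)
  have hfy : CoactBr.pt f ≫ e.hom.hom.hom = y := by
    rw [← hf, Category.assoc, ← Mon.comp_hom', ← Grp.comp', e.inv_hom_id]
    exact Category.comp_id y
  have htri : ∀ (C : Type u) [CommRing C] [Algebra (R x) C],
      CoactBr.pt (triPt (R x) A C) ≫ e.hom.hom.hom = (1 : Pts (Red.bc (g x) H) C) := fun C _ _ => by
    rw [triPt, ← CoactBr.one_eq_pt, MonObj.one_comp]
  have hu1 : IsMonHom u' := TorsorSch25.isMonHom_of_points _ fun T a b => fl_injective (g x) G (by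
    rw [fl_comp_map, fl_mul, fl_mul, fl_comp_map, fl_comp_map, MonObj.mul_comp])
  have hw : pmap (Bialgebra.counitAlgHom (R x) A) w = 1 := by
    rw [pmap_apply, ← Category.assoc, show (Bialgebra.counitAlgHom (R x) A) = triPt (R x) A (R x) from
      AlgHom.ext fun a => rfl, htri, MonObj.one_comp]
  have hft' : f = triPt (R x) A B := by
    refine eq_triPt_of_fibres w hw ?_ f (by rw [pmap_apply, ← Category.assoc, hfy, hu'])
    intro q _ _ C _ _ h0 h1 f' hf'
    let K := q.ResidueField
    let χ : K →+* C := Ideal.ResidueField.lift q (algebraMap (R x) C) h0 h1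
    have hχ : χ.comp (algebraMap (R x) K) = algebraMap (R x) C :=
      RingHom.ext fun r => Ideal.ResidueField.lift_algebraMap q (algebraMap (R x) C) h0 h1 r
    have hm : Monic u (Spec.map (CommRingCat.ofHom (algebraMap (R x) C)) ≫ g x) := by
      rw [← hχ, ← specMap_comp, Category.assoc]
      exact monic_comp u (monic_of_field u hfib K _) _
    let z : CoactBr.sp (R x) C ⟶ Red.bc (g x) H := CoactBr.pt f' ≫ e.hom.hom.hom
    let i : (Over.map (Spec.map (CommRingCat.ofHom (algebraMap (R x) C)) ≫ g x)).obj (Over.mk (𝟙 _)) ≅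
        (Over.map (g x)).obj (CoactBr.sp (R x) C) :=
      Over.isoMk (Iso.refl _) ((Category.id_comp _).trans (Category.id_comp _).symm)
    have hz : fl (g x) H z = 1 := by
      rw [← cancel_epi i.hom, MonObj.comp_one]
      refine hm _ _ ?_
      rw [Category.assoc, ← fl_comp_map, show z ≫ u' = 1 by rw [Category.assoc]; exact hf', fl_one, MonObj.comp_one]
    rw [← fl_one (g x)] at hz
    have hz' := fl_injective (g x) H hz
    rw [← htri C] at hz'
    exact CoactBr.pt_injective ((cancel_mono e.hom.hom.hom).1 hz')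
  rw [← hy, ← hfy, hft', htri, fl_one]

end Groth.Agent.MTRigid29
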