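import Groth.Agent.Lib.WeilRes21.Ring
import Mathlib.RingTheory.FinitePresentation

/-!
# The Weil restriction of a finitely presented algebra is finitely presented
-/

set_option autoImplicit false
set_option backward.isDefEq.respectTransparency.types false

universe u

open TensorProduct

noncomputable section

namespace Groth.Agent.MTRigid29

open WeilRes21

variable (B B' A : Type u) [CommRing B] [CommRing B'] [CommRing A] [Algebra B B'] [Algebra B' A]
  [Module.Finite B B'] [Module.Projective B B']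

theorem finitePresentation_weilRing [Algebra.FinitePresentation B' A] :
    Algebra.FinitePresentation B (WeilRes21.Ring B B' A) := by
  classical
  obtain ⟨n, f, hf, hker⟩ := Algebra.FinitePresentation.out (R := B') (A := A)
  obtain ⟨s, hs⟩ := hker
  let P : Type u := MvPolynomial (Fin n × Fin (dim B B')) B
  let y : Fin n → B' ⊗[B] P := fun k => ∑ i, elt B B' i ⊗ₜ MvPolynomial.X (k, i)
  let φ₀ : MvPolynomial (Fin n) B' →ₐ[B'] B' ⊗[B] P := MvPolynomial.aeval y
  let G : Set P := Set.range (fun p : s × Fin (dim B B') => coord B B' p.2 (φ₀ p.1.1)) ∪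
    Set.range (fun x : Fin n × Fin (dim B B') => coord B B' x.2 (y x.1) - MvPolynomial.X x)
  have hG : G.Finite := (Set.finite_range _).union (Set.finite_range _)
  let I : Ideal P := Ideal.span G
  haveI : Algebra.FinitePresentation B (P ⧸ I) :=
    Algebra.FinitePresentation.quotient (Submodule.fg_span hG)
  let q : P →ₐ[B] P ⧸ I := Ideal.Quotient.mkₐ B I
  have hrel : ∀ p ∈ (RingHom.ker f), bcMap B B' q (φ₀ p) = 0 := by
    intro p hp
    change p ∈ RingHom.ker f.toRingHom at hp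
    rw [← hs] at hp
    induction hp using Submodule.span_induction with
    | mem x hx =>
      refine ext_coord B B' fun i => ?_
      rw [coord_bcMap, map_zero (coord B B' i)]
      exact Ideal.Quotient.eq_zero_iff_mem.2 (Ideal.subset_span (Or.inl ⟨(⟨x, hx⟩, i), rfl⟩))
    | zero => simp
    | add a b _ _ ha hb => rw [map_add, map_add, ha, hb, add_zero]
    | smul r a _ ha => rw [smul_eq_mul, map_mul, map_mul, ha, mul_zero]
  obtain ⟨φ, hφ⟩ : ∃ φ : A →ₐ[B'] B' ⊗[B] (P ⧸ I), φ.comp f = (bcMap B B' q).comp φ₀ := by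
    let e := Ideal.quotientKerAlgEquivOfSurjective hf
    let l : (MvPolynomial (Fin n) B' ⧸ RingHom.ker f) →ₐ[B'] B' ⊗[B] (P ⧸ I) :=
      Ideal.Quotient.liftₐ _ ((bcMap B B' q).comp φ₀) hrel
    refine ⟨l.comp e.symm.toAlgHom, AlgHom.ext fun p => ?_⟩
    show l (e.symm (f p)) = _
    rw [show e.symm (f p) = Ideal.Quotient.mk _ p from e.symm_apply_eq.2 rfl]
    rfl
  let ψ₀ : P →ₐ[B] WeilRes21.Ring B B' A :=
    MvPolynomial.aeval fun x => gen B B' A (f (MvPolynomial.X x.1)) x.2
  have hψX : ∀ x, ψ₀ (MvPolynomial.X x) = gen B B' A (f (MvPolynomial.X x.1)) x.2 := fun x =>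
    MvPolynomial.aeval_X _ x
  have hy : ∀ k, bcMap B B' ψ₀ (y k) = univ B B' A (f (MvPolynomial.X k)) := by
    intro k
    conv_rhs => rw [← sum_coord B B' (univ B B' A (f (MvPolynomial.X k)))]
    simp [y, hψX, coord_univ]
  have hψφ : (bcMap B B' ψ₀).comp φ₀ = (univ B B' A).comp f := MvPolynomial.algHom_ext fun k => by
    simp [φ₀, hy]
  have hψI : ∀ p ∈ I, ψ₀ p = 0 := by
    intro p hp
    refine (Ideal.span_le.2 ?_ : I ≤ RingHom.ker ψ₀) hp
    rintro _ (⟨⟨⟨x, hx⟩, i⟩, rfl⟩ | ⟨⟨k, i⟩, rfl⟩)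
    · show ψ₀ (coord B B' i (φ₀ x)) = 0
      rw [← coord_bcMap, show bcMap B B' ψ₀ (φ₀ x) = univ B B' A (f x) from AlgHom.congr_fun hψφ x,
        show f x = 0 from (hs ▸ Ideal.subset_span hx : x ∈ RingHom.ker f), map_zero, map_zero]
    · show ψ₀ (coord B B' i (y k) - MvPolynomial.X (k, i)) = 0
      rw [map_sub, ← coord_bcMap, hy, coord_univ, hψX, sub_self]
  let ψ : (P ⧸ I) →ₐ[B] WeilRes21.Ring B B' A := Ideal.Quotient.liftₐ I ψ₀ hψI
  let θ : WeilRes21.Ring B B' A →ₐ[B] P ⧸ I := WeilRes21.lift φ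
  have hψq : ψ.comp q = ψ₀ := AlgHom.ext fun p => rfl
  have h1 : θ.comp ψ = AlgHom.id B _ := by
    refine Ideal.Quotient.algHom_ext _ (MvPolynomial.algHom_ext fun ⟨k, i⟩ => ?_)
    show θ (ψ (q (MvPolynomial.X (k, i)))) = q (MvPolynomial.X (k, i))
    rw [show ψ (q (MvPolynomial.X (k, i))) = gen B B' A (f (MvPolynomial.X k)) i from by
      exact hψX (k, i)]
    show WeilRes21.lift φ _ = _
    rw [lift_gen, show φ (f (MvPolynomial.X k)) = bcMap B B' q (φ₀ (MvPolynomial.X k)) from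
      AlgHom.congr_fun hφ _, coord_bcMap]
    simp only [φ₀, MvPolynomial.aeval_X]
    refine (Ideal.Quotient.eq).2 (Ideal.subset_span (Or.inr ⟨(k, i), rfl⟩))
  have h2 : ψ.comp θ = AlgHom.id B _ := by
    apply (homEquiv B B' A).injective
    rw [homEquiv_comp, homEquiv_id]
    refine AlgHom.ext fun a => ?_
    obtain ⟨p, rfl⟩ := hf a
    show bcMap B B' ψ (homEquiv B B' A θ (f p)) = univ B B' A (f p)
    rw [show homEquiv B B' A θ = φ from (homEquiv B B' A).apply_symm_apply φ,
      show φ (f p) = bcMap B B' q (φ₀ p) from AlgHom.congr_fun hφ p, ← AlgHom.comp_apply (bcMap B B' ψ),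
      bcMap_comp, hψq]
    exact AlgHom.congr_fun hψφ p
  exact Algebra.FinitePresentation.equiv (AlgEquiv.ofAlgHom ψ θ h2 h1)

end Groth.Agent.MTRigid29
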