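import Groth.Agent.Lib.MorSAff4.Main
import Groth.Agent.Lib.MTRigid29.WeilFP

/-!
# Relative morphisms from a finite projective scheme into an affine one: finiteness of the representing scheme
-/

set_option autoImplicit false
set_option backward.isDefEq.respectTransparency.types false

universe u

open CategoryTheory CategoryTheory.Limits AlgebraicGeometry TensorProduct Opposite

noncomputable section

namespace Groth.Agent.MTRigid29

open MorSAff4

variable {Z X S : Scheme.{u}} [IsAffine Z] [IsAffine X] [IsAffine S] (g : Z ⟶ S) (f : X ⟶ S)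

theorem exists_rep_finiteness (hfree : letI := g.appTop.hom.toAlgebra
      Module.Finite Γ(S, ⊤) Γ(Z, ⊤) ∧ Module.Projective Γ(S, ⊤) Γ(Z, ⊤)) :
    ∃ W : Over S, IsAffine W.left ∧ Nonempty ((Flatn.morS g f).RepresentableBy W) ∧
      (LocallyOfFiniteType f → LocallyOfFiniteType W.hom) ∧
      (LocallyOfFinitePresentation f → LocallyOfFinitePresentation W.hom) := by
  letI := g.appTop.hom.toAlgebra
  haveI := hfree.1
  haveI := hfree.2
  letI : Algebra Γ(S, ⊤) Γ(X, ⊤) := f.appTop.hom.toAlgebra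
  let B : Type u := Γ(S, ⊤)
  let B' : Type u := Γ(Z, ⊤)
  let A' : Type u := Γ(Z, ⊤) ⊗[Γ(S, ⊤)] Γ(X, ⊤)
  let R : Type u := WeilRes21.Ring Γ(S, ⊤) Γ(Z, ⊤) A'
  let iR : CommRingCat.of R ≅ Γ(Spec (CommRingCat.of R), ⊤) := (Scheme.ΓSpecIso (CommRingCat.of R)).symm
  let W : Over S := Over.mk
    (ofRingHom (CommRingCat.ofHom (algebraMap Γ(S, ⊤) R) ≫ iR.hom) : Spec (CommRingCat.of R) ⟶ S)
  haveI : IsAffine W.left := inferInstanceAs (IsAffine (Spec _))
  have hW : W.hom.appTop = CommRingCat.ofHom (algebraMap Γ(S, ⊤) R) ≫ iR.hom := ofRingHom_appTop _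
  let ρ : R →ₐ[Γ(S, ⊤)] Γ(W.left, ⊤) :=
    { iR.hom.hom with
      commutes' := fun b => by
        show _ = W.hom.appTop b
        rw [hW]
        rfl }
  haveI : IsAffine (Over.mk f).left := ‹IsAffine X›
  let incl : Γ(X, ⊤) →ₐ[Γ(S, ⊤)] A' := Algebra.TensorProduct.includeRight
  -- from a map of rings to a morphism over `S`
  have hcond : ∀ (T : Over S) (χ : Γ(X, ⊤) →ₐ[Γ(S, ⊤)] Γ(Z, ⊤) ⊗[Γ(S, ⊤)] Γ(T.left, ⊤)),
      ofRingHom (CommRingCat.ofHom χ.toRingHom ≫ k g T) ≫ f = pullback.snd T.hom g ≫ g := by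
    intro T χ
    apply ext_of_isAffine
    rw [Scheme.Hom.comp_appTop, Scheme.Hom.comp_appTop, ofRingHom_appTop, ← k_left g T, ← Category.assoc,
      ← Category.assoc]
    congr 1
    ext b
    show χ (algebraMap Γ(S, ⊤) Γ(X, ⊤) b) = algebraMap Γ(S, ⊤) Γ(Z, ⊤) b ⊗ₜ 1
    rw [AlgHom.commutes]
    rfl
  let mk : ∀ (T : Over S) (χ : Γ(X, ⊤) →ₐ[Γ(S, ⊤)] Γ(Z, ⊤) ⊗[Γ(S, ⊤)] Γ(T.left, ⊤)),
      (Flatn.morS g f).obj (op T) := fun T χ =>
    Over.homMk (ofRingHom (CommRingCat.ofHom χ.toRingHom ≫ k g T)) (hcond T χ)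
  let univ' : Γ(X, ⊤) →ₐ[Γ(S, ⊤)] Γ(Z, ⊤) ⊗[Γ(S, ⊤)] Γ(W.left, ⊤) :=
    ((WeilRes21.bcMap Γ(S, ⊤) Γ(Z, ⊤) ρ).restrictScalars Γ(S, ⊤)).comp
      (((WeilRes21.univ Γ(S, ⊤) Γ(Z, ⊤) A').restrictScalars Γ(S, ⊤)).comp incl)
  have bij : ∀ T : Over S, IsAffine T.left →
      Function.Bijective fun φ : T ⟶ W => (Flatn.morS g f).map φ.op (mk W univ') := by
    intro T hT
    haveI := hT
    haveI := isIso_k g T
    let toψ : (T ⟶ W) → (R →ₐ[Γ(S, ⊤)] Γ(T.left, ⊤)) := fun φ => (secMap φ).comp ρ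
    have hΦ : ∀ φ : T ⟶ W, ((Flatn.morS g f).map φ.op (mk W univ')).left.appTop =
        CommRingCat.ofHom (((WeilRes21.homEquiv Γ(S, ⊤) Γ(Z, ⊤) A' (toψ φ)).restrictScalars Γ(S, ⊤)).comp
          incl).toRingHom ≫ k g T := by
      intro φ
      rw [Flatn.morS_map]
      show (((Over.pullback g).map φ).left ≫ ofRingHom (CommRingCat.ofHom univ'.toRingHom ≫ k g W)).appTop = _
      rw [Scheme.Hom.comp_appTop, ofRingHom_appTop, Category.assoc, ← k_natural, ← Category.assoc]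
      congr 1
      rw [← CommRingCat.ofHom_comp]
      congr 1
      refine RingHom.ext fun x => ?_
      show WeilRes21.bcMap Γ(S, ⊤) Γ(Z, ⊤) (secMap φ) (univ' x) = _
      rw [WeilRes21.homEquiv_apply, ← WeilRes21.bcMap_comp]
      rfl
    constructor
    · intro φ φ' he
      have h1 : CommRingCat.ofHom (((WeilRes21.homEquiv Γ(S, ⊤) Γ(Z, ⊤) A' (toψ φ)).restrictScalars Γ(S, ⊤)).comp
          incl).toRingHom = CommRingCat.ofHom (((WeilRes21.homEquiv Γ(S, ⊤) Γ(Z, ⊤) A' (toψ φ')).restrictScalars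
          Γ(S, ⊤)).comp incl).toRingHom := by
        rw [← cancel_mono (k g T), ← hΦ, ← hΦ]
        exact congrArg (fun b => b.left.appTop) he
      have h2 : WeilRes21.homEquiv Γ(S, ⊤) Γ(Z, ⊤) A' (toψ φ) = WeilRes21.homEquiv Γ(S, ⊤) Γ(Z, ⊤) A' (toψ φ') := by
        refine Algebra.TensorProduct.ext (AlgHom.ext fun z => ?_) (AlgHom.ext fun x => congr($h1 x))
        exact ((WeilRes21.homEquiv Γ(S, ⊤) Γ(Z, ⊤) A' (toψ φ)).commutes z).trans
          ((WeilRes21.homEquiv Γ(S, ⊤) Γ(Z, ⊤) A' (toψ φ')).commutes z).symm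
      have h3 := (WeilRes21.homEquiv Γ(S, ⊤) Γ(Z, ⊤) A').injective h2
      apply Over.OverMorphism.ext
      apply ext_of_isAffine
      rw [← cancel_epi iR.hom]
      exact CommRingCat.hom_ext (RingHom.ext fun r => AlgHom.congr_fun h3 r)
    · intro b
      let bl : pullback T.hom g ⟶ X := b.left
      have hb : bl ≫ f = pullback.snd T.hom g ≫ g := Over.w b
      let χ₀ := bl.appTop ≫ inv (k g T)
      let χ : Γ(X, ⊤) →ₐ[Γ(S, ⊤)] Γ(Z, ⊤) ⊗[Γ(S, ⊤)] Γ(T.left, ⊤) :=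
        { χ₀.hom with
          commutes' := fun s => by
            have h1 : f.appTop ≫ χ₀ = g.appTop ≫ CommRingCat.ofHom (Algebra.TensorProduct.includeLeftRingHom
                (R := Γ(S, ⊤)) (A := Γ(Z, ⊤)) (B := Γ(T.left, ⊤))) := by
              rw [← cancel_mono (k g T)]
              simp only [χ₀, Category.assoc, k_left, IsIso.inv_hom_id, Category.comp_id]
              rw [← Scheme.Hom.comp_appTop, ← Scheme.Hom.comp_appTop, hb]
            exact congr($h1 s) }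
      let χ' : A' →ₐ[Γ(Z, ⊤)] Γ(Z, ⊤) ⊗[Γ(S, ⊤)] Γ(T.left, ⊤) :=
        Algebra.TensorProduct.lift (Algebra.ofId _ _) χ fun _ _ => Commute.all _ _
      let ψ := (WeilRes21.homEquiv Γ(S, ⊤) Γ(Z, ⊤) A').symm χ'
      let φl : T.left ⟶ Spec (CommRingCat.of R) := ofRingHom (iR.inv ≫ CommRingCat.ofHom ψ.toRingHom)
      have hφ : φl ≫ W.hom = T.hom := by
        apply ext_of_isAffine
        rw [Scheme.Hom.comp_appTop, ofRingHom_appTop, hW, Category.assoc, Iso.hom_inv_id_assoc]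
        exact CommRingCat.hom_ext ψ.comp_algebraMap
      let φ : T ⟶ W := Over.homMk φl hφ
      have hψ : toψ φ = ψ := by
        refine AlgHom.ext fun r => ?_
        show (iR.hom ≫ φl.appTop) r = ψ r
        rw [ofRingHom_appTop, Iso.hom_inv_id_assoc]
        rfl
      refine ⟨φ, Over.OverMorphism.ext (ext_of_isAffine ?_)⟩
      rw [hΦ, hψ, Equiv.apply_symm_apply]
      show _ = bl.appTop
      have h2 : CommRingCat.ofHom ((χ'.restrictScalars Γ(S, ⊤)).comp incl).toRingHom = χ₀ :=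
        CommRingCat.hom_ext (RingHom.ext fun x => by
          show χ' ((1 : Γ(Z, ⊤)) ⊗ₜ x) = χ x
          rw [Algebra.TensorProduct.lift_tmul, map_one, one_mul])
      rw [h2, Category.assoc, IsIso.inv_hom_id, Category.comp_id]
  have hrepW : Nonempty ((Flatn.morS g f).RepresentableBy W) := by
    refine representableBy_of_affine g f W (mk W univ') fun T hT => ?_
    exact bij T hT
  have hRappTop : W.hom.appTop.hom = iR.hom.hom.comp (algebraMap Γ(S, ⊤) R) := by rw [hW]; rfl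
  have hprop : ∀ {Q : ∀ {R S : Type u} [CommRing R] [CommRing S], (R →+* S) → Prop},
      RingHom.RespectsIso @Q → Q (algebraMap Γ(S, ⊤) R) → Q W.hom.appTop.hom := fun {Q} hQ h => by
    rw [hRappTop]
    exact hQ.1 _ iR.commRingCatIsoToRingEquiv h
  refine ⟨W, inferInstance, hrepW, fun hf => ?_, fun hf => ?_⟩
  · rw [HasRingHomProperty.iff_of_isAffine (P := @LocallyOfFiniteType)] at hf ⊢
    haveI : Algebra.FiniteType Γ(S, ⊤) Γ(X, ⊤) := RingHom.finiteType_algebraMap.1 hf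
    haveI : Algebra.FiniteType Γ(Z, ⊤) A' := inferInstance
    haveI := WeilRes21.finiteType Γ(S, ⊤) Γ(Z, ⊤) A'
    exact hprop RingHom.finiteType_respectsIso (RingHom.finiteType_algebraMap.2 this)
  · rw [HasRingHomProperty.iff_of_isAffine (P := @LocallyOfFinitePresentation)] at hf ⊢
    haveI : Algebra.FinitePresentation Γ(S, ⊤) Γ(X, ⊤) := RingHom.finitePresentation_algebraMap.1 hf
    haveI : Algebra.FinitePresentation Γ(Z, ⊤) A' := inferInstance
    haveI := finitePresentation_weilRing Γ(S, ⊤) Γ(Z, ⊤) A'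
    exact hprop RingHom.finitePresentation_respectsIso (RingHom.finitePresentation_algebraMap.2 this)

end Groth.Agent.MTRigid29
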