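import Groth.Agent.Lib.MTRigid29.MorScheme
import Groth.Agent.Lib.SchBasic.Basic
import Groth.Agent.Lib.MTRigid29.MonoClosedGlobal

/-!
# Closed subschemes of schemes of morphisms: homomorphisms, centralizers
-/

set_option autoImplicit false
set_option linter.style.haveILetI false
set_option backward.isDefEq.respectTransparency false
set_option backward.isDefEq.respectTransparency.types false
set_option maxSynthPendingDepth 3

universe u

open CategoryTheory Limits MonoidalCategory CartesianMonoidalCategory MonObj AlgebraicGeometry Opposite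

noncomputable section

namespace Groth.Agent.MTRigid29

open AutFam

variable {S : Scheme.{u}}

/-- The locus of coincidence of two maps into a separated scheme. -/
theorem exists_eqLocus {M N : Over S} (a b : M ⟶ N) [IsSeparated N.hom] :
    ∃ (C : Over S) (c : C ⟶ M), IsClosedImmersion c.left ∧
      (LocallyOfFiniteType N.hom → LocallyOfFinitePresentation c.left) ∧
      ∀ (T : Over S) (x : T ⟶ M), (∃ z : T ⟶ C, z ≫ c = x) ↔ x ≫ a = x ≫ b := by
  let p : M.left ⟶ pullback N.hom N.hom := pullback.lift a.left b.left ((Over.w a).trans (Over.w b).symm)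
  let cl := pullback.fst p (pullback.diagonal N.hom)
  let C : Over S := Over.mk (cl ≫ M.hom)
  let c : C ⟶ M := Over.homMk cl rfl
  refine ⟨C, c, MorphismProperty.pullback_fst _ _ (inferInstance : IsClosedImmersion (pullback.diagonal N.hom)),
    fun h => ?_, fun T x => ⟨?_, fun hx => ?_⟩⟩
  · haveI : LocallyOfFinitePresentation (pullback.diagonal N.hom ≫ pullback.fst N.hom N.hom) := by
      rw [pullback.diagonal_fst]; infer_instance
    haveI : LocallyOfFiniteType (pullback.fst N.hom N.hom) := MorphismProperty.pullback_fst _ _ h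
    exact MorphismProperty.pullback_fst _ _
      (SchBasic.locallyOfFinitePresentation_of_comp (pullback.diagonal N.hom) (pullback.fst N.hom N.hom))
  · rintro ⟨z, rfl⟩
    refine Over.OverMorphism.ext ?_
    show (z.left ≫ cl) ≫ a.left = (z.left ≫ cl) ≫ b.left
    have h1 : p ≫ pullback.fst N.hom N.hom = a.left := pullback.lift_fst _ _ _
    have h2 : p ≫ pullback.snd N.hom N.hom = b.left := pullback.lift_snd _ _ _
    rw [← h1, ← h2, Category.assoc, Category.assoc]
    simp only [cl, pullback.condition_assoc, pullback.diagonal_fst, pullback.diagonal_snd]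
  · have hx' : x.left ≫ p = (x ≫ a).left ≫ pullback.diagonal N.hom := by
      apply pullback.hom_ext
      · simp [p]
      · rw [hx]; simp [p]
    refine ⟨Over.homMk (pullback.lift x.left (x ≫ a).left hx') (by
      show _ ≫ cl ≫ M.hom = _
      rw [pullback.lift_fst_assoc]
      exact Over.w x), Over.OverMorphism.ext (pullback.lift_fst _ _ _)⟩

/-- Classifying morphisms for a scheme of morphisms are determined by their values on points. -/
theorem mor_ext {X Y M : Over S} {ev : X ⊗ M ⟶ Y} (h : ∀ (T : Over S) (φ : X ⊗ T ⟶ Y), ∃! v : T ⟶ M, (X ◁ v) ≫ ev = φ)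
    {T : Over S} {a b : T ⟶ M} (hab : (X ◁ a) ≫ ev = (X ◁ b) ≫ ev) : a = b :=
  (h T _).unique hab rfl

/-- The scheme of homomorphisms from a finite locally free group into an affine group. -/
theorem exists_homGrpScheme (G G' : Over S) [GrpObj G] [GrpObj G'] [IsFinite G.hom] [Flat G.hom]
    [LocallyOfFinitePresentation G.hom] [IsAffineHom G'.hom] :
    ∃ (C : Over S) (ev : G ⊗ C ⟶ G'), IsAffineHom C.hom ∧
      (LocallyOfFiniteType G'.hom → LocallyOfFiniteType C.hom) ∧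
      (LocallyOfFinitePresentation G'.hom → LocallyOfFinitePresentation C.hom) ∧
      RepresentsHom G G' C ev := by
  obtain ⟨M, ev, hMa, hMft, hMfp, hM⟩ := exists_morScheme G G'
  haveI hgg : IsFinite (G ⊗ G).hom ∧ Flat (G ⊗ G).hom ∧ LocallyOfFinitePresentation (G ⊗ G).hom :=
    ⟨inferInstanceAs (IsFinite (pullback.fst G.hom G.hom ≫ G.hom)),
      inferInstanceAs (Flat (pullback.fst G.hom G.hom ≫ G.hom)),
      inferInstanceAs (LocallyOfFinitePresentation (pullback.fst G.hom G.hom ≫ G.hom))⟩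
  haveI := hgg.1; haveI := hgg.2.1; haveI := hgg.2.2
  obtain ⟨N, evN, hNa, hNft, -, hN⟩ := exists_morScheme (G ⊗ G) G'
  let g₁ : (G ⊗ G) ⊗ M ⟶ G := fst _ _ ≫ fst _ _
  let g₂ : (G ⊗ G) ⊗ M ⟶ G := fst _ _ ≫ snd _ _
  let t : (G ⊗ G) ⊗ M ⟶ M := snd _ _
  obtain ⟨a, ha, -⟩ := hN M (lift (g₁ * g₂) t ≫ ev)
  obtain ⟨b, hb, -⟩ := hN M ((lift g₁ t ≫ ev) * (lift g₂ t ≫ ev))
  haveI : IsSeparated N.hom := inferInstance
  obtain ⟨C, c, hc, hcfp, hC⟩ := exists_eqLocus a b
  have hiff : ∀ (T : Over S) (v : T ⟶ M), v ≫ a = v ≫ b ↔ IsHomFamily G G' ((G ◁ v) ≫ ev) := by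
    intro T v
    have hx : ∀ (X : Over S) (x₁ x₂ : X ⟶ G) (s : X ⟶ T), lift (lift x₁ x₂) (s ≫ v) ≫ g₁ = x₁ ∧
        lift (lift x₁ x₂) (s ≫ v) ≫ g₂ = x₂ ∧ lift (lift x₁ x₂) (s ≫ v) ≫ t = s ≫ v := fun X x₁ x₂ s => by
      simp [g₁, g₂, t]
    have e1 : ∀ (X : Over S) (x₁ x₂ : X ⟶ G) (s : X ⟶ T),
        lift (lift x₁ x₂) s ≫ ((G ⊗ G) ◁ (v ≫ a)) ≫ evN = lift (x₁ * x₂) s ≫ (G ◁ v) ≫ ev ∧
        lift (lift x₁ x₂) s ≫ ((G ⊗ G) ◁ (v ≫ b)) ≫ evN =
          (lift x₁ s ≫ (G ◁ v) ≫ ev) * (lift x₂ s ≫ (G ◁ v) ≫ ev) := fun X x₁ x₂ s => by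
      obtain ⟨h1, h2, h3⟩ := hx X x₁ x₂ s
      constructor
      · rw [lift_whiskerLeft_assoc, ← Category.assoc s v a, ← lift_whiskerLeft_assoc, ha, ← Category.assoc,
          comp_lift, MonObj.comp_mul, h1, h2, h3, lift_whiskerLeft_assoc]
      · rw [lift_whiskerLeft_assoc, ← Category.assoc s v b, ← lift_whiskerLeft_assoc, hb, MonObj.comp_mul,
          ← Category.assoc, ← Category.assoc, comp_lift, comp_lift, h1, h2, h3, lift_whiskerLeft_assoc,
          lift_whiskerLeft_assoc]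
    constructor
    · intro hv X x₁ x₂ s
      obtain ⟨h1, h2⟩ := e1 X x₁ x₂ s
      rw [← h1, hv, h2]
    · intro hf
      refine mor_ext hN ?_
      obtain ⟨h1, h2⟩ := e1 ((G ⊗ G) ⊗ T) (fst _ _ ≫ fst _ _) (fst _ _ ≫ snd _ _) (snd _ _)
      have hid : lift (lift (fst (G ⊗ G) T ≫ fst G G) (fst (G ⊗ G) T ≫ snd G G)) (snd (G ⊗ G) T) = 𝟙 _ := by
        ext <;> simp
      rw [hid, Category.id_comp] at h1 h2
      rw [h1, h2]
      exact hf _ _ _ _
  have hCh : C.hom = c.left ≫ M.hom := (Over.w c).symm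
  refine ⟨C, (G ◁ c) ≫ ev, ?_, fun h => ?_, fun h => ?_, ?_, fun T φ hφ => ?_⟩
  · rw [hCh]; infer_instance
  · haveI := hMft h; rw [hCh]; infer_instance
  · haveI := hMfp h
    haveI : LocallyOfFiniteType G'.hom := by haveI := h; infer_instance
    haveI := hcfp (hNft inferInstance)
    rw [hCh]; infer_instance
  · exact (hiff C c).1 ((hC C c).1 ⟨𝟙 C, Category.id_comp c⟩)
  · obtain ⟨v, hv, huv⟩ := hM T φ
    obtain ⟨z, hz⟩ := (hC T v).2 ((hiff T v).2 (by rwa [hv]))
    refine ⟨z, ?_, fun z' hz' => ?_⟩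
    · show (G ◁ z) ≫ (G ◁ c) ≫ ev = φ
      rw [← MonoidalCategory.whiskerLeft_comp_assoc, hz, hv]
    · haveI : Mono c.left := inferInstance
      haveI : Mono c := (Over.forget S).mono_of_mono_map ‹Mono c.left›
      rw [← cancel_mono c, hz]
      refine huv _ ?_
      show (G ◁ (z' ≫ c)) ≫ ev = φ
      rw [MonoidalCategory.whiskerLeft_comp_assoc]
      exact hz'

/-- The centralizer of a finite locally free closed subscheme of an affine group. -/
theorem exists_centralizer_finiteFlat (G Y : Over S) [GrpObj G] [IsAffineHom G.hom] (y : Y ⟶ G) [IsFinite Y.hom] [Flat Y.hom]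
    [LocallyOfFinitePresentation Y.hom] :
    ∃ (C : Over S) (c : C ⟶ G), IsClosedImmersion c.left ∧
      ∀ (X : Over S) (g : X ⟶ G), (∃ z : X ⟶ C, z ≫ c = g) ↔
        ∀ (X' : Over S) (x : X' ⟶ X) (a : X' ⟶ Y), (x ≫ g) * (a ≫ y) = (a ≫ y) * (x ≫ g) := by
  obtain ⟨N, ev, hNa, -, -, hN⟩ := exists_morScheme Y G
  obtain ⟨a, ha, -⟩ := hN G (snd Y G * (fst Y G ≫ y))
  obtain ⟨b, hb, -⟩ := hN G ((fst Y G ≫ y) * snd Y G)
  haveI : IsSeparated N.hom := inferInstance
  obtain ⟨C, c, hc, -, hC⟩ := exists_eqLocus a b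
  refine ⟨C, c, hc, fun X g => (hC X g).trans ⟨fun h X' x w => ?_, fun h => mor_ext hN ?_⟩⟩
  · have h1 : lift w x ≫ (Y ◁ (g ≫ a)) ≫ ev = lift w x ≫ (Y ◁ (g ≫ b)) ≫ ev := by rw [h]
    have ea : lift w ((x ≫ g) ≫ a) ≫ ev = (x ≫ g) * (w ≫ y) := by
      rw [← lift_whiskerLeft_assoc w (x ≫ g) a, ha, MonObj.comp_mul, lift_fst_assoc, lift_snd]
    have eb : lift w ((x ≫ g) ≫ b) ≫ ev = (w ≫ y) * (x ≫ g) := by
      rw [← lift_whiskerLeft_assoc w (x ≫ g) b, hb, MonObj.comp_mul, lift_fst_assoc, lift_snd]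
    rw [lift_whiskerLeft_assoc, lift_whiskerLeft_assoc, ← Category.assoc x g a, ← Category.assoc x g b, ea, eb] at h1
    exact h1
  · rw [MonoidalCategory.whiskerLeft_comp_assoc, ha, MonoidalCategory.whiskerLeft_comp_assoc, hb, MonObj.comp_mul,
      MonObj.comp_mul]
    simpa using h (Y ⊗ X) (snd _ _) (fst _ _)

end Groth.Agent.MTRigid29
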