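import Groth.Agent.Lib.MTRigid29.MorAff
import Groth.Agent.Lib.MTRigid29.HomFun
import Groth.Agent.Lib.MTRigid29.Descends
import Mathlib.RingTheory.Finiteness.ModuleFinitePresentation

/-!
# The scheme of morphisms from a finite locally free scheme into an affine one
-/

set_option autoImplicit false
set_option linter.style.haveILetI false
set_option backward.isDefEq.respectTransparency false
set_option backward.isDefEq.respectTransparency.types false
set_option maxSynthPendingDepth 3

universe u

open CategoryTheory Limits MonoidalCategory CartesianMonoidalCategory MonObj AlgebraicGeometry Opposite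

noncomputable section

namespace Groth.Agent.MTRigid29

variable {S : Scheme.{u}}

section MorFun

variable (X Y : Over S)

/-- The presheaf of relative morphisms. -/
def morFun : (Over S)ᵒᵖ ⥤ Type u where
  obj T := X ⊗ T.unop ⟶ Y
  map a := TypeCat.ofHom fun φ => (X ◁ a.unop) ≫ φ
  map_id T := by
    ext φ
    show ((X ◁ 𝟙 T.unop) ≫ φ).left = φ.left
    simp
  map_comp a b := by
    ext φ
    show ((X ◁ (b.unop ≫ a.unop)) ≫ φ).left = ((X ◁ b.unop) ≫ (X ◁ a.unop) ≫ φ).left
    simp

theorem isSheaf_morFun : Presieve.IsSheaf (Scheme.fpqcTopology.over S) (morFun X Y) := by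
  intro T R hR x hx
  have hY : Presieve.IsSheaf (Scheme.fpqcTopology.over S) (yoneda.obj Y) :=
    GrothendieckTopology.Subcanonical.isSheaf_of_isRepresentable _
  have hlift : ∀ {Z U : Over S} (a : Z ⟶ X) (b : Z ⟶ U), lift a b = lift a (𝟙 Z) ≫ (X ◁ b) := by
    intro Z U a b
    simp only [lift_whiskerLeft, Category.id_comp]
  have hxg : ∀ {Y₁ Y₂ Z : Over S} (g₁ : Z ⟶ Y₁) (g₂ : Z ⟶ Y₂) (p₁ : Y₁ ⟶ T) (p₂ : Y₂ ⟶ T) (h₁ : R p₁) (h₂ : R p₂),
      g₁ ≫ p₁ = g₂ ≫ p₂ → (X ◁ g₁) ≫ x p₁ h₁ = (X ◁ g₂) ≫ x p₂ h₂ :=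
    fun g₁ g₂ p₁ p₂ h₁ h₂ h => hx g₁ g₂ h₁ h₂ h
  let y : Presieve.FamilyOfElements (yoneda.obj Y) (R.pullback (snd X T)).arrows := fun {U} q hq =>
    lift (q ≫ fst X T) (𝟙 U) ≫ x (q ≫ snd X T) hq
  have hy : y.Compatible := by
    intro Y₁ Y₂ Z g₁ g₂ q₁ q₂ h₁ h₂ hg
    show g₁ ≫ lift (q₁ ≫ fst X T) (𝟙 Y₁) ≫ _ = g₂ ≫ lift (q₂ ≫ fst X T) (𝟙 Y₂) ≫ _
    rw [← Category.assoc g₁, comp_lift, Category.comp_id, hlift _ g₁, ← Category.assoc g₂, comp_lift,
      Category.comp_id, hlift _ g₂, Category.assoc, Category.assoc,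
      hxg g₁ g₂ _ _ h₁ h₂ (by rw [reassoc_of% hg]), reassoc_of% hg]
  obtain ⟨φ, hφ, huniq⟩ := hY _ ((Scheme.fpqcTopology.over S).pullback_stable (snd X T) hR) y hy
  have hval : ∀ {U : Over S} (g : U ⟶ X) (p : U ⟶ T) (hp : R p), lift g p ≫ φ = lift g (𝟙 U) ≫ x p hp := by
    intro U g p hp
    have hq : R (lift g p ≫ snd X T) := by rw [lift_snd]; exact hp
    refine (hφ (lift g p) hq).trans ?_
    show lift (lift g p ≫ fst X T) (𝟙 U) ≫ x (lift g p ≫ snd X T) hq = _
    simp only [lift_fst]
    congr 1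
    have : ∀ (p' : U ⟶ T) (h' : R p') (_ : p' = p), x p' h' = x p hp := by
      rintro p' h' rfl; rfl
    exact this _ hq (lift_snd _ _)
  refine ⟨φ, fun U p hp => ?_, fun φ' hφ' => huniq φ' fun U q hq => ?_⟩
  · show (X ◁ p) ≫ φ = x p hp
    have h := hval (fst X U) (snd X U ≫ p) (R.downward_closed hp _)
    rw [show lift (fst X U) (snd X U ≫ p) = X ◁ p by ext <;> simp] at h
    rw [h]
    have h2 := hxg (𝟙 _) (snd X U) (snd X U ≫ p) p (R.downward_closed hp _) hp (Category.id_comp _)
    rw [MonoidalCategory.whiskerLeft_id, Category.id_comp] at h2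
    rw [h2, ← Category.assoc, ← hlift, lift_fst_snd, Category.id_comp]
  · show q ≫ φ' = lift (q ≫ fst X T) (𝟙 U) ≫ x (q ≫ snd X T) hq
    rw [show x (q ≫ snd X T) hq = (X ◁ (q ≫ snd X T)) ≫ φ' from (hφ' (q ≫ snd X T) hq).symm,
      ← Category.assoc, ← hlift]
    congr 1
    ext <;> simp

end MorFun

/-- A representing object of a sheaf becomes, after base change, the representing object of its restriction. -/
theorem nonempty_iso_of_rep {V : Scheme.{u}} (f : V ⟶ S) {F : (Over S)ᵒᵖ ⥤ Type u} {A : Over S}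
    (a : F.obj (op A)) (hA : ∀ (T : Over S) (z : F.obj (op T)), ∃! g : T ⟶ A, F.map g.op a = z)
    {W : Over V} (ξ : F.obj (op ((Over.map f).obj W)))
    (hW : ∀ (T : Over V) (z : F.obj (op ((Over.map f).obj T))), ∃! w : T ⟶ W, F.map ((Over.map f).map w).op ξ = z) :
    Nonempty ((Over.pullback f).obj A ≅ W) := by
  let P := (Over.pullback f).obj A
  let e := (Over.mapPullbackAdj f).homEquiv
  obtain ⟨w, hw, -⟩ := hW P (F.map ((e P A).symm (𝟙 P)).op a)
  obtain ⟨v₀, hv₀, -⟩ := hA _ ξ
  let v : W ⟶ P := e W A v₀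
  have hv : (Over.map f).map v ≫ (e P A).symm (𝟙 P) = v₀ := by
    rw [← Adjunction.homEquiv_naturality_left_symm, Category.comp_id]
    exact Equiv.symm_apply_apply _ _
  refine ⟨⟨w, v, ?_, ?_⟩⟩
  · refine (e P A).symm.injective ((hA _ (F.map ((e P A).symm (𝟙 P)).op a)).unique ?_ rfl)
    rw [Adjunction.homEquiv_naturality_left_symm, show (e W A).symm v = v₀ from Equiv.symm_apply_apply _ _,
      ← map_map_apply, hv₀, hw]
  · refine (hW W ξ).unique ?_ ?_
    · rw [CategoryTheory.Functor.map_comp, ← map_map_apply, hw, map_map_apply, hv, hv₀]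
    · rw [CategoryTheory.Functor.map_id, map_id_apply']

section Affine

variable {U : Scheme.{u}} (j : U ⟶ S) (X Y : Over S) (T : Over U)

/-- The two descriptions of the source of a family over an open. -/
def srcIso : pullback T.hom (pullback.snd X.hom j) ≅ (X ⊗ (Over.map j).obj T).left where
  hom := pullback.lift (pullback.snd _ _ ≫ pullback.fst X.hom j) (pullback.fst _ _) (by
    show _ = pullback.fst _ _ ≫ T.hom ≫ j
    rw [Category.assoc, pullback.condition, ← Category.assoc, ← Category.assoc, ← pullback.condition])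
  inv := pullback.lift (pullback.snd X.hom (T.hom ≫ j))
    (pullback.lift (pullback.fst X.hom (T.hom ≫ j)) (pullback.snd X.hom (T.hom ≫ j) ≫ T.hom) (by
      rw [Category.assoc]; exact pullback.condition))
    (by rw [pullback.lift_snd])
  hom_inv_id := by
    apply pullback.hom_ext
    · simp
    · apply pullback.hom_ext
      · simp
      · simp [pullback.condition]
  inv_hom_id := by
    apply pullback.hom_ext
    · simp
    · simp

/-- A relative morphism over an open as a family. -/
def toFam (b : (Flatn.morS (pullback.snd X.hom j) (pullback.snd Y.hom j)).obj (op T)) :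
    X ⊗ (Over.map j).obj T ⟶ Y :=
  Over.homMk ((srcIso j X T).inv ≫ b.left ≫ pullback.fst Y.hom j) (by
    have hb : b.left ≫ pullback.snd Y.hom j = pullback.snd T.hom (pullback.snd X.hom j) ≫ pullback.snd X.hom j :=
      Over.w b
    show ((srcIso j X T).inv ≫ b.left ≫ pullback.fst Y.hom j) ≫ Y.hom = _
    rw [Category.assoc, Category.assoc, pullback.condition, reassoc_of% hb, Iso.inv_comp_eq]
    show _ = (srcIso j X T).hom ≫ pullback.fst X.hom (T.hom ≫ j) ≫ X.hom
    rw [← Category.assoc (srcIso j X T).hom,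
      show (srcIso j X T).hom ≫ pullback.fst X.hom (T.hom ≫ j) = pullback.snd _ _ ≫ pullback.fst X.hom j from
        pullback.lift_fst _ _ _, Category.assoc, pullback.condition])

theorem toFam_bijective : Function.Bijective (toFam j X Y T) := by
  refine ⟨fun b b' h => ?_, fun φ => ?_⟩
  · have h1 : (srcIso j X T).inv ≫ b.left ≫ pullback.fst Y.hom j =
        (srcIso j X T).inv ≫ b'.left ≫ pullback.fst Y.hom j := congrArg CommaMorphism.left h
    rw [cancel_epi] at h1
    exact Over.OverMorphism.ext (pullback.hom_ext h1 ((Over.w b).trans (Over.w b').symm))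
  · refine ⟨Over.homMk (pullback.lift ((srcIso j X T).hom ≫ φ.left)
      (pullback.snd T.hom (pullback.snd X.hom j) ≫ pullback.snd X.hom j) (by
        rw [Category.assoc, Over.w φ]
        show (srcIso j X T).hom ≫ pullback.fst X.hom (T.hom ≫ j) ≫ X.hom = _
        rw [← Category.assoc (srcIso j X T).hom,
          show (srcIso j X T).hom ≫ pullback.fst X.hom (T.hom ≫ j) = pullback.snd _ _ ≫ pullback.fst X.hom j from
            pullback.lift_fst _ _ _, Category.assoc, Category.assoc, pullback.condition]))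
      (pullback.lift_snd _ _ _), ?_⟩
    refine Over.OverMorphism.ext ?_
    show (srcIso j X T).inv ≫ pullback.lift _ _ _ ≫ pullback.fst Y.hom j = φ.left
    rw [pullback.lift_fst, Iso.inv_hom_id_assoc]

theorem toFam_nat {T' : Over U} (w : T' ⟶ T) (b : (Flatn.morS (pullback.snd X.hom j) (pullback.snd Y.hom j)).obj (op T)) :
    toFam j X Y T' ((Flatn.morS (pullback.snd X.hom j) (pullback.snd Y.hom j)).map w.op b) =
      (X ◁ (Over.map j).map w) ≫ toFam j X Y T b := by
  refine Over.OverMorphism.ext ?_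
  show (srcIso j X T').inv ≫ (((Over.pullback (pullback.snd X.hom j)).map w).left ≫ b.left) ≫ _ =
    (X ◁ (Over.map j).map w).left ≫ (srcIso j X T).inv ≫ b.left ≫ _
  simp only [← Category.assoc]
  congr 2
  rw [← cancel_mono (srcIso j X T).hom, Category.assoc, Category.assoc, Iso.inv_hom_id, Category.comp_id,
    Iso.inv_comp_eq]
  have h1 : (X ◁ (Over.map j).map w).left ≫ (fst X ((Over.map j).obj T)).left =
      (fst X ((Over.map j).obj T')).left := congrArg CommaMorphism.left (whiskerLeft_fst X ((Over.map j).map w))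
  have h2 : (X ◁ (Over.map j).map w).left ≫ (snd X ((Over.map j).obj T)).left =
      (snd X ((Over.map j).obj T')).left ≫ w.left :=
    congrArg CommaMorphism.left (whiskerLeft_snd X ((Over.map j).map w))
  have hl : ((Over.pullback (pullback.snd X.hom j)).map w).left =
      pullback.lift (pullback.fst T'.hom (pullback.snd X.hom j) ≫ w.left)
        (pullback.snd T'.hom (pullback.snd X.hom j)) (by rw [Category.assoc, Over.w w, pullback.condition]) := rfl
  apply pullback.hom_ext
  · show _ = ((srcIso j X T').hom ≫ _) ≫ (fst X ((Over.map j).obj T)).left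
    rw [Category.assoc, Category.assoc, h1, hl]
    show pullback.lift _ _ _ ≫ (srcIso j X T).hom ≫ pullback.fst X.hom (T.hom ≫ j) =
      (srcIso j X T').hom ≫ pullback.fst X.hom (T'.hom ≫ j)
    simp [srcIso]
  · show _ = ((srcIso j X T').hom ≫ _) ≫ (snd X ((Over.map j).obj T)).left
    rw [Category.assoc, Category.assoc, h2, hl]
    show pullback.lift _ _ _ ≫ (srcIso j X T).hom ≫ pullback.snd X.hom (T.hom ≫ j) =
      (srcIso j X T').hom ≫ pullback.snd X.hom (T'.hom ≫ j) ≫ w.left
    simp [srcIso]

end Affine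

/-- The scheme of morphisms from a finite locally free scheme into an affine one. -/
theorem exists_morScheme (X Y : Over S) [IsFinite X.hom] [Flat X.hom] [LocallyOfFinitePresentation X.hom]
    [IsAffineHom Y.hom] :
    ∃ (M : Over S) (ev : X ⊗ M ⟶ Y), IsAffineHom M.hom ∧
      (LocallyOfFiniteType Y.hom → LocallyOfFiniteType M.hom) ∧
      (LocallyOfFinitePresentation Y.hom → LocallyOfFinitePresentation M.hom) ∧
      ∀ (T : Over S) (φ : X ⊗ T ⟶ Y), ∃! v : T ⟶ M, (X ◁ v) ≫ ev = φ := by
  let V : S.affineOpens → Scheme.{u} := fun U => U.1.toScheme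
  let f : ∀ U, V U ⟶ S := fun U => U.1.ι
  have hf : Presieve.ofArrows V f ∈ Scheme.fpqcPrecoverage S :=
    Scheme.zariskiPrecoverage_le_fpqcPrecoverage _ ((Scheme.ofArrows_mem_precoverage_iff _).2
      ⟨fun s => (exists_isAffineOpen_mem_and_subset (X := S) (x := s) (U := ⊤) trivial).elim
        fun W h => ⟨⟨W, h.1⟩, ⟨s, h.2.1⟩, rfl⟩, fun U => inferInstance⟩)
  have key : ∀ U : S.affineOpens, ∃ (W : Over (V U)) (ξ : (morFun X Y).obj (op ((Over.map (f U)).obj W))),
      IsAffineHom W.hom ∧ (LocallyOfFiniteType Y.hom → LocallyOfFiniteType W.hom) ∧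
      (LocallyOfFinitePresentation Y.hom → LocallyOfFinitePresentation W.hom) ∧
      ∀ (T : Over (V U)) (z : (morFun X Y).obj (op ((Over.map (f U)).obj T))),
        ∃! w : T ⟶ W, (morFun X Y).map ((Over.map (f U)).map w).op ξ = z := by
    intro U
    haveI : IsAffine (V U) := U.2
    let g := pullback.snd X.hom (f U)
    let fY := pullback.snd Y.hom (f U)
    haveI : IsFinite g := MorphismProperty.pullback_snd _ _ ‹IsFinite X.hom›
    haveI : Flat g := MorphismProperty.pullback_snd _ _ ‹Flat X.hom›
    haveI : LocallyOfFinitePresentation g := MorphismProperty.pullback_snd _ _ ‹LocallyOfFinitePresentation X.hom›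
    haveI : IsAffineHom fY := MorphismProperty.pullback_snd _ _ ‹IsAffineHom Y.hom›
    haveI : IsAffine (pullback X.hom (f U)) := isAffine_of_isAffineHom g
    haveI : IsAffine (pullback Y.hom (f U)) := isAffine_of_isAffineHom fY
    obtain ⟨W, hWa, ⟨e⟩, hft, hfp⟩ := exists_rep_finiteness g fY (by
      letI := g.appTop.hom.toAlgebra
      haveI : Module.Finite Γ(V U, ⊤) Γ(pullback X.hom (f U), ⊤) := g.finite_appTop
      haveI : Algebra.FinitePresentation Γ(V U, ⊤) Γ(pullback X.hom (f U), ⊤) :=
        RingHom.finitePresentation_algebraMap.1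
          ((HasRingHomProperty.iff_of_isAffine (P := @LocallyOfFinitePresentation)).1 ‹_›)
      haveI : Module.Flat Γ(V U, ⊤) Γ(pullback X.hom (f U), ⊤) :=
        RingHom.flat_algebraMap_iff.1 ((HasRingHomProperty.iff_of_isAffine (P := @Flat)).1 ‹Flat g›)
      haveI := Module.FinitePresentation.of_finite_of_finitePresentation Γ(V U, ⊤) Γ(pullback X.hom (f U), ⊤)
      exact ⟨inferInstance, Module.Flat.projective_of_finitePresentation⟩)
    haveI := hWa
    refine ⟨W, toFam (f U) X Y W (e.homEquiv (𝟙 W)), inferInstance, fun h => hft ?_, fun h => hfp ?_, fun T z => ?_⟩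
    · exact MorphismProperty.pullback_snd _ _ h
    · exact MorphismProperty.pullback_snd _ _ h
    · have hev : ∀ w : T ⟶ W, (X ◁ (Over.map (f U)).map w) ≫ toFam (f U) X Y W (e.homEquiv (𝟙 W)) =
          toFam (f U) X Y T (e.homEquiv w) := fun w => by
        rw [← toFam_nat, ← e.homEquiv_comp, Category.comp_id]
      obtain ⟨b, hb⟩ := (toFam_bijective (f U) X Y T).2 z
      refine ⟨e.homEquiv.symm b, ?_, fun w hw => ?_⟩
      · refine (hev _).trans ?_
        rw [Equiv.apply_symm_apply, hb]
      · apply e.homEquiv.injective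
        rw [Equiv.apply_symm_apply]
        exact (toFam_bijective (f U) X Y T).1 (((hev w).symm.trans hw).trans hb.symm)
  choose W ξ hWaff hWft hWfp hrep using key
  obtain ⟨A, a, ha⟩ := exists_rep_of_cover (F := morFun X Y) f ξ hrep hf (isSheaf_morFun X Y) fun D hD =>
    SchDesc12.isEffective_of_isAffineHom hf fun U => by rw [hD U]; exact hWaff U
  have hprop : ∀ (P : MorphismProperty Scheme.{u}) [P.RespectsIso] [IsZariskiLocalAtTarget P],
      (∀ U, P (W U).hom) → P A.hom := by
    intro P _ _ hP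
    refine (IsZariskiLocalAtTarget.iff_of_openCover (P := P) S.affineCover).2 fun k => ?_
    let U : S.affineOpens := ⟨(S.affineCover.f k).opensRange, isAffineOpen_opensRange _⟩
    obtain ⟨e⟩ := nonempty_iso_of_rep (f U) a ha (ξ U) (hrep U)
    have he : e.hom.left ≫ (W U).hom = pullback.snd A.hom (f U) := Over.w e.hom
    have hPU : P (pullback.snd A.hom (f U)) := by
      rw [← he]
      haveI : IsIso e.hom.left := (inferInstance : IsIso ((Over.forget _).map e.hom))
      exact (P.cancel_left_of_respectsIso _ _).2 (hP U)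
    have hk : (S.affineCover.f k).isoOpensRange.hom ≫ f U = S.affineCover.f k := by simp [f, U]
    show P (pullback.snd A.hom (S.affineCover.f k))
    rw [← hk]
    have sq := (IsPullback.of_hasPullback (pullback.snd A.hom (f U)) (S.affineCover.f k).isoOpensRange.hom).paste_horiz
      (IsPullback.of_hasPullback A.hom (f U))
    rw [← sq.isoPullback_inv_snd]
    refine (P.cancel_left_of_respectsIso _ _).2 ?_
    have h3 := (IsPullback.of_hasPullback (pullback.snd A.hom (f U)) (S.affineCover.f k).isoOpensRange.hom).w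
    haveI : IsIso (pullback.fst (pullback.snd A.hom (f U)) (S.affineCover.f k).isoOpensRange.hom) := inferInstance
    rw [← P.cancel_right_of_respectsIso _ (S.affineCover.f k).isoOpensRange.hom, ← pullback.condition,
      P.cancel_left_of_respectsIso]
    exact hPU
  exact ⟨A, a, hprop @IsAffineHom hWaff, fun h => hprop @LocallyOfFiniteType fun U => hWft U h,
    fun h => hprop @LocallyOfFinitePresentation fun U => hWfp U h, ha⟩

end Groth.Agent.MTRigid29
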