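import Mathlib

/-!
# Immersions modulo a nilpotent ideal coming from the base are immersions
-/

set_option autoImplicit false
set_option linter.style.haveILetI false
set_option backward.isDefEq.respectTransparency false

universe u

open CategoryTheory AlgebraicGeometry TopologicalSpace

noncomputable section

namespace Groth.Agent.MTRigid29.NilImmersion

/-- Surjectivity modulo a nilpotent ideal generated by the image lifts. -/
theorem surjective_of_mod {O A' : Type u} [CommRing O] [CommRing A'] (φ : O →+* A') (S : Set A')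
    (hS : S ⊆ Set.range φ) (hnil : IsNilpotent (Ideal.span S))
    (h : ∀ a, ∃ o, a - φ o ∈ Ideal.span S) : Function.Surjective φ := by
  have key : ∀ k : ℕ, ∀ a : A', ∃ o, a - φ o ∈ Ideal.span S ^ k := by
    intro k
    induction k with
    | zero => exact fun a => ⟨0, by simp⟩
    | succ k ih =>
      have hc : ∀ c ∈ Ideal.span S, ∀ r : A', ∃ o, r * c - φ o ∈ Ideal.span S ^ (k + 1) := by
        intro c hc
        induction hc using Submodule.span_induction with
        | mem s hs =>
          intro r
          obtain ⟨o, ho⟩ := ih r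
          obtain ⟨os, hos⟩ := hS hs
          refine ⟨o * os, ?_⟩
          rw [map_mul, hos, show r * s - φ o * s = (r - φ o) * s by ring, pow_succ]
          exact Ideal.mul_mem_mul ho (Ideal.subset_span hs)
        | zero => exact fun r => ⟨0, by simp⟩
        | add x y _ _ hx hy =>
          intro r
          obtain ⟨o, ho⟩ := hx r
          obtain ⟨o', ho'⟩ := hy r
          refine ⟨o + o', ?_⟩
          rw [map_add, mul_add, add_sub_add_comm]
          exact Ideal.add_mem _ ho ho'
        | smul t x _ hx =>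
          intro r
          rw [smul_eq_mul, ← mul_assoc]
          exact hx (r * t)
      intro a
      obtain ⟨o, ho⟩ := h a
      obtain ⟨o', ho'⟩ := hc _ ho 1
      refine ⟨o + o', ?_⟩
      rwa [map_add, ← sub_sub, ← one_mul (a - φ o)]
  intro a
  obtain ⟨n, hn⟩ := hnil
  obtain ⟨o, ho⟩ := key n a
  rw [hn] at ho
  exact ⟨o, (sub_eq_zero.1 (Ideal.mem_bot.1 ho)).symm⟩

/-- Surjectivity on stalks lifts over a nilpotent ideal generated by the image. -/
theorem surjectiveOnStalks_of_mod {C A' : Type u} [CommRing C] [CommRing A'] (χ : C →+* A') (S : Set A')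
    (hS : S ⊆ Set.range χ) (hnil : IsNilpotent (Ideal.span S))
    (h : ((Ideal.Quotient.mk (Ideal.span S)).comp χ).SurjectiveOnStalks) : χ.SurjectiveOnStalks := by
  intro P hP
  haveI := hP
  let L := Localization.AtPrime P
  let φ := Localization.localRingHom (P.comap χ) P χ rfl
  have hφ : ∀ c, φ (algebraMap C _ c) = algebraMap A' L (χ c) := fun c =>
    Localization.localRingHom_to_map _ _ _ _ c
  let S' : Set L := algebraMap A' L '' S
  have hspan : Ideal.span S' = (Ideal.span S).map (algebraMap A' L) := (Ideal.map_span _ _).symm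
  have hle : Ideal.span S ≤ P := by
    intro z hz
    obtain ⟨n, hn⟩ := hnil
    refine hP.mem_of_pow_mem n ?_
    have := Ideal.pow_mem_pow hz n
    rw [hn] at this
    rw [(Ideal.mem_bot).1 this]
    exact P.zero_mem
  let P' : Ideal (A' ⧸ Ideal.span S) := P.map (Ideal.Quotient.mk _)
  haveI : P'.IsPrime := Ideal.map_isPrime_of_surjective Ideal.Quotient.mk_surjective (by rwa [Ideal.mk_ker])
  have hP' : P'.comap (Ideal.Quotient.mk _) = P := by
    rw [Ideal.comap_map_of_surjective' _ Ideal.Quotient.mk_surjective, Ideal.mk_ker, sup_eq_left]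
    exact hle
  have hmem : ∀ z : A', (Ideal.Quotient.mk (Ideal.span S) z) ∈ P' ↔ z ∈ P := fun z => by
    rw [← Ideal.mem_comap, hP']
  have hs : ∀ s : A', ∃ o, algebraMap A' L s - φ o ∈ Ideal.span S' := by
    intro s
    obtain ⟨x, r, c, hc, hr, hxr⟩ := (RingHom.surjective_localRingHom_iff P').1 (h P' inferInstance)
      (Ideal.Quotient.mk _ s)
    obtain ⟨c, rfl⟩ := Ideal.Quotient.mk_surjective c
    rw [RingHom.comp_apply, RingHom.comp_apply, ← map_mul, ← map_mul, ← map_mul, Ideal.Quotient.eq] at hxr
    rw [RingHom.comp_apply, hmem] at hr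
    rw [hmem] at hc
    have hrC : r ∈ (P.comap χ).primeCompl := hr
    refine ⟨IsLocalization.mk' _ x ⟨r, hrC⟩, ?_⟩
    have hu : IsUnit (algebraMap A' L (c * χ r)) :=
      IsLocalization.map_units L (⟨c * χ r, P.primeCompl.mul_mem hc hr⟩ : P.primeCompl)
    rw [hspan, ← Ideal.unit_mul_mem_iff_mem _ hu]
    have h1 : φ (IsLocalization.mk' _ x ⟨r, hrC⟩) * algebraMap A' L (χ r) = algebraMap A' L (χ x) := by
      rw [← hφ r, ← hφ x, ← map_mul, IsLocalization.mk'_spec]
    convert Ideal.mem_map_of_mem (algebraMap A' L) hxr using 1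
    rw [map_sub (algebraMap A' L), map_mul (algebraMap A' L) (c * χ r), map_mul (algebraMap A' L) c,
      map_mul (algebraMap A' L) c, ← h1]
    ring
  refine surjective_of_mod φ S' ?_ ?_ fun a => ?_
  · rintro _ ⟨z, hz, rfl⟩
    obtain ⟨c, rfl⟩ := hS hz
    exact ⟨algebraMap C _ c, hφ c⟩
  · obtain ⟨n, hn⟩ := hnil
    refine ⟨n, ?_⟩
    rw [hspan, ← Ideal.map_pow, hn]
    exact Ideal.map_bot
  · obtain ⟨s, t, rfl⟩ := IsLocalization.exists_mk'_eq P.primeCompl a
    obtain ⟨os, hos⟩ := hs s
    obtain ⟨ot, hot⟩ := hs t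
    have hI : Ideal.span S' ≤ IsLocalRing.maximalIdeal L := by
      rw [hspan, ← Localization.AtPrime.map_eq_maximalIdeal]
      exact Ideal.map_mono hle
    have hu : IsUnit (φ ot) := by
      by_contra hn
      have h2 : algebraMap A' L t ∈ IsLocalRing.maximalIdeal L := by
        have := Ideal.add_mem _ (hI hot) ((IsLocalRing.mem_maximalIdeal _).2 hn)
        simpa using this
      exact (IsLocalRing.mem_maximalIdeal _).1 h2 (IsLocalization.map_units L t)
    haveI : IsLocalHom φ := Localization.isLocalHom_localRingHom _ _ _ _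
    obtain ⟨v, hv⟩ := isUnit_of_map_unit φ ot hu
    refine ⟨os * ↑v⁻¹, ?_⟩
    rw [← Ideal.unit_mul_mem_iff_mem _ (IsLocalization.map_units L t)]
    have h3 : φ ↑v⁻¹ * φ ot = 1 := by rw [← map_mul, ← hv, Units.inv_mul, map_one]
    have h4 : algebraMap A' L t * (IsLocalization.mk' L s t - φ (os * ↑v⁻¹)) =
        (algebraMap A' L s - φ os) - φ os * φ ↑v⁻¹ * (algebraMap A' L t - φ ot) := by
      have h5 : φ os * (φ ↑v⁻¹ * φ ot) = φ os := by rw [h3, mul_one]
      have h6 : algebraMap A' L t * IsLocalization.mk' L s t = algebraMap A' L s := IsLocalization.mk'_spec' L s t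
      rw [map_mul]
      linear_combination h6 - h5
    rw [h4]
    exact Ideal.sub_mem _ hos (Ideal.mul_mem_left _ _ hot)

set_option maxHeartbeats 400000 in
/-- A morphism from an affine scheme over `R` which is an immersion modulo a nilpotent ideal of `R` is one. -/
theorem isImmersion_of_mod {R A B : Type u} [CommRing R] [CommRing A] [CommRing B] [Algebra R A] (π : A →+* B)
    (hπ : Function.Surjective π) (J : Ideal R) (hJ : IsNilpotent J) (hker : RingHom.ker π = J.map (algebraMap R A))
    {G : Scheme.{u}} (f : Spec (CommRingCat.of A) ⟶ G) (gS : G ⟶ Spec (CommRingCat.of R))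
    (hf : f ≫ gS = Spec.map (CommRingCat.ofHom (algebraMap R A)))
    [IsImmersion (Spec.map (CommRingCat.ofHom π) ≫ f)] : IsImmersion f := by
  let i := Spec.map (CommRingCat.ofHom π)
  haveI : IsClosedImmersion i := IsClosedImmersion.spec_of_surjective _ hπ
  have hnilA : IsNilpotent (J.map (algebraMap R A)) := by
    obtain ⟨n, hn⟩ := hJ
    refine ⟨n, ?_⟩
    rw [← Ideal.map_pow, hn]
    exact Ideal.map_bot
  have hsurj : Function.Surjective i := fun q => by
    have hq : (q : PrimeSpectrum A) ∈ Set.range (PrimeSpectrum.comap π) := by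
      rw [range_comap_of_surjective _ _ hπ, hker]
      intro z hz
      obtain ⟨n, hn⟩ := hnilA
      refine (q : PrimeSpectrum A).isPrime.mem_of_pow_mem n ?_
      have := Ideal.pow_mem_pow hz n
      rw [hn] at this
      rw [(Ideal.mem_bot).1 this]
      exact Ideal.zero_mem _
    exact hq
  let e : Spec (CommRingCat.of B) ≃ₜ Spec (CommRingCat.of A) :=
    i.isClosedEmbedding.isEmbedding.toHomeomorphOfSurjective hsurj
  have hcomp : ⇑(i ≫ f) = f ∘ e := rfl
  have hemb : Topology.IsEmbedding f := by
    have h := (i ≫ f).isEmbedding.comp e.symm.isEmbedding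
    convert h using 1
    funext q
    exact (congrArg f (e.apply_symm_apply q)).symm
  have hloc : IsLocallyClosed (Set.range f) := by
    have h := (i ≫ f).isLocallyClosed_range
    rwa [hcomp, EquivLike.range_comp] at h
  -- stalks
  have hst : ∀ q : Spec (CommRingCat.of A), ∃ a : A, q ∈ PrimeSpectrum.basicOpen a ∧
      SurjectiveOnStalks (Spec.map (CommRingCat.ofHom (algebraMap A (Localization.Away a))) ≫ f) := by
    intro q
    obtain ⟨W, hW, hqW, -⟩ := exists_isAffineOpen_mem_and_subset (x := f q) (U := ⊤) trivial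
    obtain ⟨_, ⟨a, rfl⟩, hqa, haW⟩ := PrimeSpectrum.isTopologicalBasis_basic_opens.exists_subset_of_mem_open
      (show q ∈ SetLike.coe (f ⁻¹ᵁ W) from hqW) (Opens.isOpen _)
    refine ⟨a, hqa, ?_⟩
    let Aa := Localization.Away a
    let ja := Spec.map (CommRingCat.ofHom (algebraMap A Aa))
    have hrange : Set.range (ja ≫ f) ⊆ Set.range hW.fromSpec := by
      rw [hW.range_fromSpec]
      rintro _ ⟨z, rfl⟩
      refine haW ?_
      show PrimeSpectrum.comap (algebraMap A Aa) z ∈ (PrimeSpectrum.basicOpen a : Set (PrimeSpectrum A))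
      rw [← PrimeSpectrum.localization_away_comap_range Aa a]
      exact Set.mem_range_self _
    let χ : Γ(G, W) →+* Aa := (Spec.preimage (IsOpenImmersion.lift hW.fromSpec (ja ≫ f) hrange)).hom
    have hχ : Spec.map (CommRingCat.ofHom χ) ≫ hW.fromSpec = ja ≫ f := by
      rw [CommRingCat.ofHom_hom, Spec.map_preimage, IsOpenImmersion.lift_fac]
    let S : Set Aa := algebraMap R Aa '' J
    have hS : Ideal.span S = J.map (algebraMap R Aa) := rfl
    have hAa : Ideal.span S = (RingHom.ker π).map (algebraMap A Aa) := by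
      rw [hker, Ideal.map_map, hS]
      rfl
    let Q := Aa ⧸ Ideal.span S
    let βA : A →+* Q := (Ideal.Quotient.mk _).comp (algebraMap A Aa)
    have hβA : βA.SurjectiveOnStalks :=
      (RingHom.surjectiveOnStalks_of_surjective Ideal.Quotient.mk_surjective).comp
        (RingHom.surjectiveOnStalks_of_isLocalization (Submonoid.powers a) Aa)
    let β : B →+* Q := (RingHom.liftOfSurjective π hπ) ⟨βA, fun z hz => by
      refine Ideal.Quotient.eq_zero_iff_mem.2 ?_
      rw [hAa]
      exact Ideal.mem_map_of_mem _ hz⟩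
    have hβ : β.comp π = βA := RingHom.liftOfRightInverse_comp π _ _ _
    have hβs : β.SurjectiveOnStalks := RingHom.SurjectiveOnStalks.of_comp (f := π) (hβ ▸ hβA)
    have hsos : (Ideal.Quotient.mk (Ideal.span S)).comp χ |>.SurjectiveOnStalks := by
      haveI : SurjectiveOnStalks (Spec.map (CommRingCat.ofHom β)) := SurjectiveOnStalks.Spec_iff.2 hβs
      haveI h1 : SurjectiveOnStalks (Spec.map (CommRingCat.ofHom ((Ideal.Quotient.mk (Ideal.span S)).comp χ)) ≫ hW.fromSpec) := by
        rw [CommRingCat.ofHom_comp, Spec.map_comp, Category.assoc, hχ, ← Category.assoc, ← Spec.map_comp,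
          ← CommRingCat.ofHom_comp, show (Ideal.Quotient.mk (Ideal.span S)).comp (algebraMap A Aa) = β.comp π from hβ.symm,
          CommRingCat.ofHom_comp, Spec.map_comp, Category.assoc]
        infer_instance
      exact SurjectiveOnStalks.Spec_iff.1 (SurjectiveOnStalks.of_comp
        (Spec.map (CommRingCat.ofHom ((Ideal.Quotient.mk (Ideal.span S)).comp χ))) hW.fromSpec)
    have hχs : χ.SurjectiveOnStalks := surjectiveOnStalks_of_mod χ S (by
      rintro _ ⟨r, -, rfl⟩
      refine ⟨(Spec.preimage (hW.fromSpec ≫ gS)).hom r, ?_⟩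
      have h2 : Spec.map (Spec.preimage (hW.fromSpec ≫ gS) ≫ CommRingCat.ofHom χ) =
          Spec.map (CommRingCat.ofHom (algebraMap R Aa)) := by
        rw [Spec.map_comp, Spec.map_preimage, ← Category.assoc, hχ, Category.assoc, hf, ← Spec.map_comp,
          ← CommRingCat.ofHom_comp, ← IsScalarTower.algebraMap_eq]
      exact ConcreteCategory.congr_hom (Spec.map_injective h2) r)
      (by
        obtain ⟨n, hn⟩ := hJ
        refine ⟨n, ?_⟩
        rw [hS, ← Ideal.map_pow, hn]
        exact Ideal.map_bot) hsos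
    haveI : SurjectiveOnStalks (Spec.map (CommRingCat.ofHom χ)) := SurjectiveOnStalks.Spec_iff.2 hχs
    rw [← hχ]
    infer_instance
  choose a ha hsa using hst
  have hspan : Ideal.span (Set.range a) = ⊤ := by
    by_contra hne
    obtain ⟨m, hm, hle⟩ := Ideal.exists_le_maximal _ hne
    exact ha ⟨m, hm.isPrime⟩ (hle (Ideal.subset_span ⟨⟨m, hm.isPrime⟩, rfl⟩))
  haveI : SurjectiveOnStalks f :=
    (IsZariskiLocalAtSource.iff_of_openCover (P := @SurjectiveOnStalks)
      (Scheme.affineOpenCoverOfSpanRangeEqTop (R := CommRingCat.of A) a hspan).openCover).2 fun q => hsa q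
  haveI : IsPreimmersion f := ⟨hemb⟩
  exact ⟨hloc⟩

end Groth.Agent.MTRigid29.NilImmersion
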