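import Groth.Agent.Lib.MTRigid29.SubgrpEqvSplit
import Groth.Agent.Lib.MTRigid29.MonoClosed
import Mathlib.RingTheory.Flat.FaithfullyFlat.Basic

/-!
# Homomorphisms of split groups of multiplicative type

Locally on the base they come from maps of characters; such a map is a monomorphism,
resp. faithfully flat, iff the map of characters is surjective, resp. injective.
-/

set_option autoImplicit false
set_option linter.style.haveILetI false
set_option linter.unusedSectionVars false
set_option backward.isDefEq.respectTransparency.types false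
set_option maxSynthPendingDepth 3

universe u

open CategoryTheory Limits MonoidalCategory CartesianMonoidalCategory MonObj AlgebraicGeometry Opposite
open scoped TensorProduct

noncomputable section

namespace Groth.Agent.MTRigid29

open DiagGL

variable {R : Type u} [CommRing R] {H₁ H₂ : Over (Spec (CommRingCat.of R))} [GrpObj H₁] [GrpObj H₂]
  {M₁ M₂ : Type} [AddCommGroup M₁] [AddCommGroup M₂] (C₁ : Chars M₁ H₁) (C₂ : Chars M₂ H₂)

section Local

/-- The universal point of a split group, and the evaluation of characters of its image. -/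
theorem ch_comp_eq_lift (u : H₁ ⟶ H₂) (x₀ : Pts H₁ (MonoidAlgebra R (Multiplicative M₁)))
    (hx₀ : chr C₁ x₀ = MonoidAlgebra.of R (Multiplicative M₁)) {T : Over (Spec (CommRingCat.of R))} (x : T ⟶ H₁)
    (n : Multiplicative M₂) :
    letI := (alg T).toAlgebra
    C₂.ch (x ≫ u) n = MonoidAlgebra.lift R Γ(T.left, ⊤) (Multiplicative M₁) (C₁.ch x) (chr C₂ (x₀ ≫ u) n) := by
  letI := (alg T).toAlgebra
  let c := MonoidAlgebra.lift R Γ(T.left, ⊤) (Multiplicative M₁) (C₁.ch x)
  let xc : T ⟶ CoactBr.sp R (MonoidAlgebra R (Multiplicative M₁)) := mk c.toRingHom fun r => c.commutes r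
  have hev : ∀ z, xc.left.appTop ((Scheme.ΓSpecIso (CommRingCat.of (MonoidAlgebra R (Multiplicative M₁)))).inv z) = c z :=
    fun z => DFunLike.congr_fun (ev_mk (T := T) c.toRingHom fun r => c.commutes r) z
  have hx : xc ≫ x₀ = x := C₁.inj fun a => by
    rw [C₁.nat, show C₁.ch x₀ a = (Scheme.ΓSpecIso (CommRingCat.of (MonoidAlgebra R (Multiplicative M₁)))).inv
      (chr C₁ x₀ a) from (ConcreteCategory.congr_hom (Scheme.ΓSpecIso _).hom_inv_id (C₁.ch x₀ a)).symm, hev, hx₀]
    exact MonoidAlgebra.lift_of _ a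
  conv_lhs => rw [← hx, Category.assoc, C₂.nat]
  rw [show C₂.ch (x₀ ≫ u) n = (Scheme.ΓSpecIso (CommRingCat.of (MonoidAlgebra R (Multiplicative M₁)))).inv
      (chr C₂ (x₀ ≫ u) n) from (ConcreteCategory.congr_hom (Scheme.ΓSpecIso _).hom_inv_id (C₂.ch (x₀ ≫ u) n)).symm]
  exact hev _

/-- The coordinate of the tensor product of two monoid algebras at a pair. -/
def coeff₂ (m m' : Multiplicative M₁) :
    MonoidAlgebra R (Multiplicative M₁) ⊗[R] MonoidAlgebra R (Multiplicative M₁) →ₗ[R] R :=
  TensorProduct.lift ((LinearMap.mul R R).compl₁₂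
    ((Finsupp.lapply m).comp (MonoidAlgebra.coeffLinearEquiv R).toLinearMap)
    ((Finsupp.lapply m').comp (MonoidAlgebra.coeffLinearEquiv R).toLinearMap))

theorem coeff₂_tmul (m m' : Multiplicative M₁) (a b : MonoidAlgebra R (Multiplicative M₁)) :
    coeff₂ m m' (a ⊗ₜ[R] b) = a.coeff m * b.coeff m' := rfl

open scoped Classical in
theorem coeff₂_comul (m m' : Multiplicative M₁) (z : MonoidAlgebra R (Multiplicative M₁)) :
    coeff₂ m m' (Bialgebra.comulAlgHom R (MonoidAlgebra R (Multiplicative M₁)) z) = if m = m' then z.coeff m else 0 := by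
  induction z using MonoidAlgebra.induction_linear with
  | zero => simp
  | add a b ha hb => rw [map_add, map_add, ha, hb]; split_ifs <;> simp
  | single k r =>
    have h : MonoidAlgebra.single k r = r • MonoidAlgebra.of R (Multiplicative M₁) k := by simp
    rw [h, map_smul, map_smul]
    have h2 : Bialgebra.comulAlgHom R (MonoidAlgebra R (Multiplicative M₁)) (MonoidAlgebra.of R (Multiplicative M₁) k) =
      MonoidAlgebra.of R (Multiplicative M₁) k ⊗ₜ[R] MonoidAlgebra.of R (Multiplicative M₁) k :=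
      (MonoidAlgebra.isGroupLikeElem_of (R := R) k).comul_eq_tmul_self
    rw [h2, coeff₂_tmul]
    simp only [MonoidAlgebra.of_apply, MonoidAlgebra.coeff_single, smul_eq_mul, MonoidAlgebra.coeff_smul,
      Finsupp.smul_apply, Finsupp.single_apply]
    split_ifs <;> simp_all

variable (u : H₁ ⟶ H₂) [IsMonHom u]

include C₁ in
/-- The coefficients of the characters of the image of the universal point are orthogonal idempotents. -/
theorem coeff_mul_coeff (x₀ : Pts H₁ (MonoidAlgebra R (Multiplicative M₁)))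
    (hx₀ : chr C₁ x₀ = MonoidAlgebra.of R (Multiplicative M₁)) (n : Multiplicative M₂) (m m' : Multiplicative M₁) :
    (open scoped Classical in (chr C₂ (x₀ ≫ u) n).coeff m * (chr C₂ (x₀ ≫ u) n).coeff m' =
      if m = m' then (chr C₂ (x₀ ≫ u) n).coeff m else 0) := by
  let L₀ := MonoidAlgebra R (Multiplicative M₁)
  let Δ : L₀ →ₐ[R] L₀ ⊗[R] L₀ := Bialgebra.comulAlgHom R L₀
  let l₁ : L₀ →ₐ[R] L₀ ⊗[R] L₀ := Algebra.TensorProduct.includeLeft
  let l₂ : L₀ →ₐ[R] L₀ ⊗[R] L₀ := Algebra.TensorProduct.includeRight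
  have hxΔ : pmap Δ x₀ = pmap l₁ x₀ * pmap l₂ x₀ := chr_inj C₁ fun a => by
    rw [chr_mul, chr_nat, chr_nat, chr_nat, hx₀]
    simp [Δ, l₁, l₂]
    exact (MonoidAlgebra.isGroupLikeElem_of (R := R) a).comul_eq_tmul_self
  have h1 := congrArg (fun y => chr C₂ (y ≫ u) n) hxΔ
  simp only [MonObj.mul_comp, chr_mul, pmap_apply, Category.assoc] at h1
  rw [← pmap_apply, ← pmap_apply, ← pmap_apply, chr_nat, chr_nat, chr_nat] at h1
  have h2 := congrArg (coeff₂ m m') h1
  rw [coeff₂_comul] at h2
  simp only [l₁, l₂, Algebra.TensorProduct.includeLeft_apply, Algebra.TensorProduct.includeRight_apply,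
    Algebra.TensorProduct.tmul_mul_tmul, _root_.mul_one, _root_.one_mul, coeff₂_tmul] at h2
  exact h2.symm

include C₁ C₂ in
/-- A homomorphism of split groups comes from a map of characters near every point. -/
theorem exists_local_mapChar [AddGroup.FG M₂] (t : PrimeSpectrum R) :
    ∃ f : R, f ∉ t.asIdeal ∧ ∃ φ : M₂ →+ M₁, ∀ (T : Over (Spec (CommRingCat.of R))),
      IsUnit (alg T f) → ∀ x : T ⟶ H₁, x ≫ u = x ≫ mapChar C₁ C₂ φ := by
  classical
  obtain ⟨x₀, hx₀⟩ := exists_chr C₁ (MonoidAlgebra.of R (Multiplicative M₁))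
  let K := t.asIdeal.ResidueField
  obtain ⟨φ, hφ⟩ := exists_addHom_of_fac C₁ C₂ u (𝟙 H₂) (K := K)
    fun X τ x _ => ⟨x ≫ u.left, Category.comp_id _⟩
  let g := fun n : Multiplicative M₂ => chr C₂ (x₀ ≫ u) n
  have hidem := coeff_mul_coeff C₁ C₂ u x₀ hx₀
  let toK : MonoidAlgebra R (Multiplicative M₁) →ₐ[R] MonoidAlgebra K (Multiplicative M₁) :=
    MonoidAlgebra.lift R _ _ (MonoidAlgebra.of K (Multiplicative M₁))
  have hmem : ∀ n, (g n).coeff (φ.toMultiplicative n) ∉ t.asIdeal := fun n hn => by
    have h := hφ _ (pmap toK x₀) (pmap toK x₀ ≫ u) (Category.comp_id _) n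
    rw [show pmap toK x₀ ≫ u = pmap toK (x₀ ≫ u) from Category.assoc _ _ _, chr_nat, chr_nat, hx₀] at h
    have h' := congrArg (fun z => z.coeff (φ.toMultiplicative n)) h
    have htoK : ∀ z p, (toK z).coeff p = algebraMap R K (z.coeff p) := by
      intro z p
      induction z using MonoidAlgebra.induction_linear with
      | zero => simp
      | add a b ha hb => rw [map_add, MonoidAlgebra.coeff_add, MonoidAlgebra.coeff_add, Finsupp.add_apply,
          Finsupp.add_apply, ha, hb, map_add]
      | single k r =>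
        simp only [toK, MonoidAlgebra.lift_single, MonoidAlgebra.of_apply, MonoidAlgebra.smul_single,
          MonoidAlgebra.coeff_single, Algebra.smul_def, _root_.mul_one]
        by_cases hkp : k = p
        · subst hkp; simp
        · simp [hkp, Ne.symm hkp]
    simp only [htoK, g] at h'
    rw [MonoidAlgebra.of_apply, MonoidAlgebra.coeff_single, Finsupp.single_eq_same, map_one] at h'
    exact one_ne_zero (h'.symm.trans ((Ideal.algebraMap_residueField_eq_zero).2 hn))
  obtain ⟨s, hs⟩ : ∃ s : Finset M₂, AddSubgroup.closure (s : Set M₂) = ⊤ := (AddGroup.fg_def.1 ‹_›)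
  refine ⟨∏ n ∈ s, (g (Multiplicative.ofAdd n)).coeff (φ.toMultiplicative (Multiplicative.ofAdd n)),
    fun h => ?_, φ, fun T hT x => ?_⟩
  · obtain ⟨n, -, hn⟩ := (t.isPrime.prod_mem_iff).1 h
    exact hmem _ hn
  letI := (alg T).toAlgebra
  let c := MonoidAlgebra.lift R Γ(T.left, ⊤) (Multiplicative M₁) (C₁.ch x)
  have hgen : ∀ n ∈ s, C₂.ch (x ≫ u) (Multiplicative.ofAdd n) =
      C₁.ch x (φ.toMultiplicative (Multiplicative.ofAdd n)) := by
    intro n hn
    let m := φ.toMultiplicative (Multiplicative.ofAdd n)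
    let z := g (Multiplicative.ofAdd n)
    let r := z.coeff m
    rw [map_prod] at hT
    have hu : IsUnit (alg T r) := isUnit_of_mul_isUnit_left (by
      rw [← Finset.mul_prod_erase s _ hn] at hT; exact hT)
    have hrr : r * r = r := by simpa using hidem (Multiplicative.ofAdd n) m m
    have h1 : alg T r = 1 := hu.mul_eq_left.1 (by rw [← map_mul, hrr])
    have hz : r • z = r • MonoidAlgebra.of R (Multiplicative M₁) m := by
      refine MonoidAlgebra.coeff_injective (Finsupp.ext fun k => ?_)
      simp only [MonoidAlgebra.coeff_smul, Finsupp.smul_apply, smul_eq_mul, MonoidAlgebra.of_apply,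
        MonoidAlgebra.coeff_single, Finsupp.single_apply]
      rw [hidem (Multiplicative.ofAdd n) m k]
      split_ifs <;> simp [r, z, g]
    rw [ch_comp_eq_lift C₁ C₂ u x₀ hx₀ x]
    show c z = C₁.ch x m
    have h2 := congrArg c hz
    rw [map_smul, map_smul, Algebra.smul_def, Algebra.smul_def, show algebraMap R Γ(T.left, ⊤) r = 1 from h1,
      _root_.one_mul, _root_.one_mul] at h2
    exact h2.trans (MonoidAlgebra.lift_of _ _)
  refine C₂.inj fun n => ?_
  rw [ch_mapChar]
  have hn : n.toAdd ∈ AddSubgroup.closure (s : Set M₂) := by rw [hs]; trivial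
  let F₁ : Multiplicative M₂ →* Γ(T.left, ⊤) := C₂.ch (x ≫ u)
  let F₂ : Multiplicative M₂ →* Γ(T.left, ⊤) := (C₁.ch x).comp φ.toMultiplicative
  have key : ∀ a ∈ AddSubgroup.closure (s : Set M₂), F₁.toHomUnits (Multiplicative.ofAdd a) =
      F₂.toHomUnits (Multiplicative.ofAdd a) := fun a ha => by
    induction ha using AddSubgroup.closure_induction with
    | mem a ha => exact Units.ext (hgen a ha)
    | zero => simp
    | add a b _ _ ha hb => simp [ha, hb]
    | neg a _ ha => simp [ha]
  exact congrArg Units.val (key _ hn)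

end Local

section Criteria

/-- Base change of a map given by characters. -/
theorem pullback_map_mapChar {R' : Type u} [CommRing R'] (k : Spec (CommRingCat.of R') ⟶ Spec (CommRingCat.of R))
    (φ : M₂ →+ M₁) :
    (Over.pullback k).map (mapChar C₁ C₂ φ) = mapChar (C₁.baseChange k H₁) (C₂.baseChange k H₂) φ := by
  refine (C₂.baseChange k H₂).inj fun a => ?_
  conv_rhs => rw [← Category.id_comp (mapChar (C₁.baseChange k H₁) (C₂.baseChange k H₂) φ), ch_mapChar]
  show C₂.ch (fl k H₂ ((Over.pullback k).map (mapChar C₁ C₂ φ))) a = C₁.ch (fl k H₁ (𝟙 _)) _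
  conv_lhs => rw [← Category.id_comp ((Over.pullback k).map (mapChar C₁ C₂ φ)), fl_comp_map, ch_mapChar]

theorem mapChar_id (C₁' : Chars M₁ H₁) : mapChar C₁' C₁' (AddMonoidHom.id M₁) = 𝟙 H₁ := C₁'.inj fun a => by
  rw [← Category.id_comp (mapChar C₁' C₁' (AddMonoidHom.id M₁)), ch_mapChar]
  rfl

theorem mono_mapChar {φ : M₂ →+ M₁} (hφ : Function.Surjective φ) : Mono (mapChar C₁ C₂ φ) :=
  ⟨fun a b h => C₁.inj fun m => by
    obtain ⟨n, hn⟩ := hφ m.toAdd
    have h' := congrArg (fun z => C₂.ch z (Multiplicative.ofAdd n)) h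
    simp only [ch_mapChar] at h'
    rw [show φ.toMultiplicative (Multiplicative.ofAdd n) = m from congrArg Multiplicative.ofAdd hn] at h'
    exact h'⟩

theorem surjective_of_mono [Nontrivial R] {φ : M₂ →+ M₁} [Mono (mapChar C₁ C₂ φ)] : Function.Surjective φ := by
  intro m
  let q := QuotientAddGroup.mk' φ.range
  let P := MonoidAlgebra R (Multiplicative (M₁ ⧸ φ.range))
  obtain ⟨x, hx⟩ := exists_chr C₁ ((MonoidAlgebra.of R (Multiplicative (M₁ ⧸ φ.range))).comp q.toMultiplicative :
    Multiplicative M₁ →* P)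
  have h : x = 1 := (cancel_mono (mapChar C₁ C₂ φ)).1 (chr_inj C₂ fun n => by
    rw [MonObj.one_comp, chr_one, chr_mapChar, hx]
    show MonoidAlgebra.of R _ (Multiplicative.ofAdd (q (φ n.toAdd))) = 1
    rw [show q (φ n.toAdd) = 0 from (QuotientAddGroup.eq_zero_iff _).2 ⟨_, rfl⟩]
    exact map_one _)
  have h2 := congrArg (fun z => chr C₁ z (Multiplicative.ofAdd m)) h
  simp only [chr_one, hx] at h2
  have h3 : q m = 0 := congrArg Multiplicative.toAdd (MonoidAlgebra.of_injective (h2.trans (map_one _).symm))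
  exact (QuotientAddGroup.eq_zero_iff m).1 h3

theorem injective_of_epi [Nontrivial R] {φ : M₂ →+ M₁} [Epi (mapChar C₁ C₂ φ)] : Function.Injective φ := by
  refine (injective_iff_map_eq_zero φ).2 fun n hn => ?_
  let zm := zmultiplesHom M₂ n
  let D := charsDiag R ℤ
  have h : mapChar C₂ D zm = 1 := (cancel_epi (mapChar C₁ C₂ φ)).1 (D.inj fun k => by
    rw [ch_mapChar, ← Category.id_comp (mapChar C₁ C₂ φ), ch_mapChar, MonObj.comp_one, D.one]
    rw [show φ.toMultiplicative (zm.toMultiplicative k) = 1 from congrArg Multiplicative.ofAdd (by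
      show φ (k.toAdd • n) = 0
      rw [map_zsmul, hn, smul_zero])]
    exact map_one _)
  obtain ⟨y, hy⟩ := exists_chr C₂ (MonoidAlgebra.of R (Multiplicative M₂))
  have h2 := congrArg (fun z => chr D (y ≫ z) (Multiplicative.ofAdd 1)) h
  simp only [chr_mapChar, hy, MonObj.comp_one, chr_one] at h2
  have h3 : zm 1 = 0 := congrArg Multiplicative.toAdd (MonoidAlgebra.of_injective (h2.trans (map_one _).symm))
  simpa [zm] using h3

theorem isIso_mapChar {φ : M₂ →+ M₁} (hφ : Function.Bijective φ) : IsIso (mapChar C₁ C₂ φ) := by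
  let e := AddEquiv.ofBijective φ hφ
  exact ⟨mapChar C₂ C₁ e.symm.toAddMonoidHom, mapChar_comp C₂ C₁ _ _ fun b => e.apply_symm_apply b,
    mapChar_comp C₁ C₂ _ _ fun b => e.symm_apply_apply b⟩

open scoped Classical in
theorem faithfullyFlat_mapDomain {φ : M₂ →+ M₁} (hφ : Function.Injective φ) :
    (MonoidAlgebra.mapDomainAlgHom R R φ.toMultiplicative).toRingHom.FaithfullyFlat := by
  let f := MonoidAlgebra.mapDomainAlgHom R R φ.toMultiplicative
  letI : Algebra (MonoidAlgebra R (Multiplicative M₂)) (MonoidAlgebra R (Multiplicative M₁)) :=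
    f.toRingHom.toAlgebra
  show Module.FaithfullyFlat _ _
  let Q := M₁ ⧸ φ.range
  have hsec : ∀ m : M₁, ∃ n : M₂, φ n = m - (QuotientAddGroup.mk m : Q).out := fun m => by
    have h : (QuotientAddGroup.mk (QuotientAddGroup.mk m : Q).out : Q) = QuotientAddGroup.mk m := Quotient.out_eq _
    have h' := (QuotientAddGroup.eq).1 h
    obtain ⟨n, hn⟩ := h'
    exact ⟨n, hn.trans (by abel)⟩
  choose nn hnn using hsec
  let v : Q → MonoidAlgebra R (Multiplicative M₁) := fun q => MonoidAlgebra.single (Multiplicative.ofAdd q.out) 1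
  let Φ := Finsupp.linearCombination (MonoidAlgebra R (Multiplicative M₂)) v
  have hΦ : ∀ (q : Q) (n : Multiplicative M₂) (r : R), Φ (Finsupp.single q (MonoidAlgebra.single n r)) =
      MonoidAlgebra.single (Multiplicative.ofAdd (φ n.toAdd + q.out)) r := fun q n r => by
    rw [Finsupp.linearCombination_single]
    show f (MonoidAlgebra.single n r) * v q = _
    simp only [f, MonoidAlgebra.mapDomainAlgHom_apply, MonoidAlgebra.mapDomain_single, v,
      MonoidAlgebra.single_mul_single, _root_.mul_one]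
    rfl
  let Ψ : MonoidAlgebra R (Multiplicative M₁) →+ (Q →₀ MonoidAlgebra R (Multiplicative M₂)) :=
    (Finsupp.liftAddHom fun m : Multiplicative M₁ =>
      ((Finsupp.singleAddHom (QuotientAddGroup.mk m.toAdd : Q)).comp
        ((MonoidAlgebra.singleAddHom (Multiplicative.ofAdd (nn m.toAdd)) : R →+ _)))).comp
      (MonoidAlgebra.coeffLinearEquiv R).toLinearMap.toAddMonoidHom
  have hΨ : ∀ (m : Multiplicative M₁) (r : R), Ψ (MonoidAlgebra.single m r) =
      Finsupp.single (QuotientAddGroup.mk m.toAdd : Q) (MonoidAlgebra.single (Multiplicative.ofAdd (nn m.toAdd)) r) :=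
    fun m r => by simp [Ψ]
  have hbij : Function.Bijective Φ := by
    refine Function.bijective_iff_has_inverse.2 ⟨Ψ, fun z => ?_, fun z => ?_⟩
    · induction z using Finsupp.induction_linear with
      | zero => simp
      | add a b ha hb => simp [ha, hb]
      | single q a =>
        induction a using MonoidAlgebra.induction_linear with
        | zero => simp
        | add a b ha hb => simp [Finsupp.single_add, ha, hb]
        | single n r =>
          rw [hΦ, hΨ]
          have hq : (QuotientAddGroup.mk (φ n.toAdd + q.out) : Q) = q := by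
            rw [QuotientAddGroup.mk_add, (QuotientAddGroup.eq_zero_iff (N := φ.range) (φ n.toAdd)).2 ⟨_, rfl⟩, zero_add]
            exact Quotient.out_eq q
          simp only [toAdd_ofAdd, hq]
          congr 2
          refine Multiplicative.toAdd.injective (hφ ?_)
          simp [hnn, hq]
    · induction z using MonoidAlgebra.induction_linear with
      | zero => simp
      | add a b ha hb => simp [ha, hb]
      | single m r =>
        rw [hΨ, hΦ, toAdd_ofAdd, hnn, sub_add_cancel]
        rfl
  exact Module.FaithfullyFlat.of_linearEquiv _ _ (LinearEquiv.ofBijective Φ hbij).symm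

theorem flat_surjective_mapChar {φ : M₂ →+ M₁} (hφ : Function.Injective φ) :
    Flat (mapChar C₁ C₂ φ).left ∧ Surjective (mapChar C₁ C₂ φ).left := by
  let D₁ := charsDiag R M₁
  let D₂ := charsDiag R M₂
  let f := MonoidAlgebra.mapDomainAlgHom R R φ.toMultiplicative
  let a := mapChar C₁ D₁ (AddMonoidHom.id M₁)
  let b := mapChar D₂ C₂ (AddMonoidHom.id M₂)
  haveI : IsIso a := isIso_mapChar C₁ D₁ Function.bijective_id
  haveI : IsIso b := isIso_mapChar D₂ C₂ Function.bijective_id
  have h : mapChar C₁ C₂ φ = (a ≫ CoactBr.pt f) ≫ b := C₂.inj fun n => by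
    rw [← Category.id_comp (mapChar C₁ C₂ φ), ch_mapChar, ch_mapChar]
    refine Eq.symm ?_
    show ev (a ≫ CoactBr.pt f) (MonoidAlgebra.of R _ n) = _
    rw [ev_comp, ev_pt]
    show a.left.appTop ((Scheme.ΓSpecIso _).inv (f (MonoidAlgebra.single n 1))) = _
    rw [show f (MonoidAlgebra.single n 1) = MonoidAlgebra.of R _ (φ.toMultiplicative n) by simp [f]]
    refine Eq.trans ?_ (ch_mapChar C₁ D₁ (AddMonoidHom.id M₁) (𝟙 H₁) (φ.toMultiplicative n))
    rw [Category.id_comp]
    rfl
  have hf : Flat (Spec.map (CommRingCat.ofHom f.toRingHom)) ∧ Surjective (Spec.map (CommRingCat.ofHom f.toRingHom)) :=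
    (flat_and_surjective_SpecMap_iff _).2 (faithfullyFlat_mapDomain hφ)
  haveI : Flat (CoactBr.pt f).left := hf.1
  haveI : Surjective (CoactBr.pt f).left := hf.2
  haveI : IsIso a.left := ((Over.forget _).mapIso (asIso a)).isIso_hom
  haveI : IsIso b.left := ((Over.forget _).mapIso (asIso b)).isIso_hom
  rw [h, Over.comp_left, Over.comp_left]
  exact ⟨inferInstance, inferInstance⟩

end Criteria

end Groth.Agent.MTRigid29
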