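import Groth.Agent.Lib.MTRigid29.LiftHom

/-!
# Subgroups of multiplicative type agreeing over a nilpotent thickening
-/

set_option autoImplicit false
set_option linter.style.haveILetI false
set_option backward.isDefEq.respectTransparency.types false
set_option maxSynthPendingDepth 3

universe u

open CategoryTheory Limits MonoidalCategory CartesianMonoidalCategory MonObj AlgebraicGeometry Opposite
open scoped TensorProduct

noncomputable section

namespace Groth.Agent.MTRigid29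

open DiagGL

/-- A morphism of base changes compatible with maps into `G` moves points over the new base. -/
theorem exists_pt_of_map {S S' : Scheme.{u}} (s : S' ⟶ S) {H H' G : Over S} [GrpObj H] [GrpObj H'] [GrpObj G]
    (i : H ⟶ G) (i' : H' ⟶ G) (ψ : Red.bc s H ⟶ Red.bc s H')
    (hψ : ψ ≫ (Over.pullback s).map i' = (Over.pullback s).map i)
    (X : Over S) (p : X ⟶ Over.mk s) (h : X ⟶ H) : ∃ h' : X ⟶ H', h ≫ i = h' ≫ i' := by
  let Xs : Over S' := Over.mk p.left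
  let iX : X ≅ (Over.map s).obj Xs := Over.isoMk (Iso.refl _) (by
    show 𝟙 _ ≫ p.left ≫ s = X.hom
    rw [Category.id_comp]; exact Over.w p)
  obtain ⟨x, hx⟩ := fl_surjective s H (T := Xs) (iX.inv ≫ h)
  refine ⟨iX.hom ≫ fl s H' (x ≫ ψ), ?_⟩
  rw [Category.assoc, ← fl_comp_map, Category.assoc, hψ, fl_comp_map, hx, Category.assoc, Iso.hom_inv_id_assoc]

variable {R : Type u} [CommRing R] {J : Ideal R} {G H H' : Over (Spec (CommRingCat.of R))} [GrpObj G] [GrpObj H]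
  [GrpObj H']

section Central

variable {A : Type u} [CommRing A] [HopfAlgebra R A] (e : Grp.mk (CoactBr.sp R A) ≅ Grp.mk H)

/-- One step of the uniqueness of central homomorphisms. -/
theorem hgen_eq_step {j : A →ₗ[R] R} (hj : MultTypeLib.IsInt j) {L K : Ideal R} (hLK : L ≤ K) (hKL : K * K ≤ L)
    (u v : H ⟶ G) [IsMonHom u] [IsMonHom v]
    (hc : ∀ (X : Over (Spec (CommRingCat.of R))) (g : X ⟶ G) (h : X ⟶ H), g * (h ≫ u) = (h ≫ u) * g)
    (ih : hgen e K ≫ v = hgen e K ≫ u) : hgen e L ≫ v = hgen e L ≫ u := by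
  obtain ⟨ψ, hψ⟩ := exists_factor_red (A := A) hLK
  have hxy : pmap (Ideal.Quotient.mkₐ R (KI K (AA A L))) (hgen e L ≫ v) =
      pmap (Ideal.Quotient.mkₐ R (KI K (AA A L))) (hgen e L ≫ u) := by
    rw [← hψ, ← pmap_pmap, ← pmap_pmap, pmap_red_hgen, pmap_red_hgen, ih]
  obtain ⟨t, -, ht⟩ := exists_conj_step L hj hKL hLK (isHom_hgen e L v) (isHom_hgen e L u) hxy
  rw [ht, hc, mul_inv_cancel_right]

theorem hgen_eq_pow {j : A →ₗ[R] R} (hj : MultTypeLib.IsInt j)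
    (u v : H ⟶ G) [IsMonHom u] [IsMonHom v]
    (hc : ∀ (X : Over (Spec (CommRingCat.of R))) (g : X ⟶ G) (h : X ⟶ H), g * (h ≫ u) = (h ≫ u) * g)
    (h0 : ∀ (X : Over (Spec (CommRingCat.of R))) (_ : X ⟶ (Over.mk (Spec.map (CommRingCat.ofHom (Ideal.Quotient.mk J))) : Over (Spec (CommRingCat.of R)))) (h : X ⟶ H), h ≫ v = h ≫ u)
    (k : ℕ) : hgen e (J ^ 2 ^ k) ≫ v = hgen e (J ^ 2 ^ k) ≫ u := by
  induction k with
  | zero => exact h0 _ (toBase ((cst (J ^ 2 ^ 0)).comp (Ideal.Quotient.factorₐ R (le_of_eq (by simp))))) _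
  | succ k ih =>
    exact hgen_eq_step e hj (Ideal.pow_le_pow_right (Nat.pow_le_pow_right two_pos k.le_succ))
      (le_of_eq (by rw [← pow_add, pow_succ, mul_two])) u v hc ih

end Central

/-- A homomorphism agreeing with a central one modulo a nilpotent ideal equals it. -/
theorem eq_of_central_mod_nilpotent (hH : IsMT H) (hJ : IsNilpotent J) (u v : H ⟶ G) [IsMonHom u] [IsMonHom v]
    (hc : ∀ (X : Over (Spec (CommRingCat.of R))) (g : X ⟶ G) (h : X ⟶ H), g * (h ≫ u) = (h ≫ u) * g)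
    (h0 : ∀ (X : Over (Spec (CommRingCat.of R))) (_ : X ⟶ (Over.mk (Spec.map (CommRingCat.ofHom (Ideal.Quotient.mk J))) : Over (Spec (CommRingCat.of R)))) (h : X ⟶ H), h ≫ v = h ≫ u) :
    v = u := by
  obtain ⟨A, _, _, j, hj, ⟨e⟩⟩ := exists_model_affine hH
  obtain ⟨n, hn⟩ := hJ
  have hbot : J ^ 2 ^ n = ⊥ := le_bot_iff.1 (le_of_le_of_eq (Ideal.pow_le_pow_right Nat.lt_two_pow_self.le) hn)
  obtain ⟨g, -, hg⟩ := finish e hbot u v 1 (by simp [hgen_eq_pow e hj u v hc h0])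
  have := hg H (𝟙 H)
  rw [hc, mul_inv_cancel_right] at this
  simpa using this

variable (i : H ⟶ G) [IsMonHom i] (i' : H' ⟶ G) [IsMonHom i']

/-- The isomorphism lifting `int g₀` between the reductions. -/
theorem exists_iso_of_mt (hH : IsMT H) (hH' : IsMT H') [IsImmersion i.left] [IsImmersion i'.left]
    (hJ : IsNilpotent J)
    (g₀ : (Over.mk (Spec.map (CommRingCat.ofHom (Ideal.Quotient.mk J))) : Over (Spec (CommRingCat.of R))) ⟶ G)
    (h0 : ∀ (X : Over (Spec (CommRingCat.of R))) (p : X ⟶ (Over.mk (Spec.map (CommRingCat.ofHom (Ideal.Quotient.mk J))) : Over (Spec (CommRingCat.of R)))),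
      (∀ h : X ⟶ H, ∃ h' : X ⟶ H', (p ≫ g₀) * (h ≫ i) * (p ≫ g₀)⁻¹ = h' ≫ i') ∧
      (∀ h' : X ⟶ H', ∃ h : X ⟶ H, (p ≫ g₀)⁻¹ * (h' ≫ i') * (p ≫ g₀) = h ≫ i)) :
    ∃ (f : H ≅ H') (_ : IsMonHom f.hom),
      ∀ (X : Over (Spec (CommRingCat.of R))) (p : X ⟶ (Over.mk (Spec.map (CommRingCat.ofHom (Ideal.Quotient.mk J))) : Over (Spec (CommRingCat.of R)))) (h : X ⟶ H),
        h ≫ f.hom ≫ i' = (p ≫ g₀) * (h ≫ i) * (p ≫ g₀)⁻¹ := by
  obtain ⟨A, _, _, j, hj, hA, ⟨e⟩⟩ := exists_model_split hH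
  obtain ⟨A', _, _, j', hj', hA', ⟨e'⟩⟩ := exists_model_split hH'
  haveI : Mono i := Over.mono_of_mono_left i
  haveI : Mono i' := Over.mono_of_mono_left i'
  exact exists_iso_lift e e' hA hA' hj hj' hJ i i' g₀ h0

/-- The case of coinciding reductions. -/
theorem exists_iso_of_bc (hH : IsMT H) (hH' : IsMT H') [IsImmersion i.left] [IsImmersion i'.left]
    (hJ : IsNilpotent J)
    (ψ : Red.bc (Spec.map (CommRingCat.ofHom (Ideal.Quotient.mk J))) H ≅ Red.bc (Spec.map (CommRingCat.ofHom (Ideal.Quotient.mk J))) H')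
    (hψ : ψ.hom ≫ (Over.pullback (Spec.map (CommRingCat.ofHom (Ideal.Quotient.mk J)))).map i' = (Over.pullback (Spec.map (CommRingCat.ofHom (Ideal.Quotient.mk J)))).map i) :
    ∃ (f : H ≅ H') (_ : IsMonHom f.hom),
      ∀ (X : Over (Spec (CommRingCat.of R))) (_ : X ⟶ (Over.mk (Spec.map (CommRingCat.ofHom (Ideal.Quotient.mk J))) : Over (Spec (CommRingCat.of R)))) (h : X ⟶ H),
        h ≫ i = h ≫ f.hom ≫ i' := by
  obtain ⟨f, hf, h⟩ := exists_iso_of_mt i i' hH hH' hJ 1 fun X p => by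
    simp only [MonObj.comp_one, _root_.one_mul, inv_one, _root_.mul_one]
    exact ⟨fun h => exists_pt_of_map _ i i' ψ.hom hψ X p h,
      fun h => exists_pt_of_map _ i' i ψ.inv (by rw [← hψ, Iso.inv_hom_id_assoc]) X p h⟩
  refine ⟨f, hf, fun X p k => ?_⟩
  have := h X p k
  rw [MonObj.comp_one, _root_.one_mul, inv_one, _root_.mul_one] at this
  exact this.symm

omit [GrpObj H] [GrpObj H'] [IsMonHom i] [IsMonHom i'] in
/-- Conjugation by a point, read on the identity. -/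
theorem conjBy_of_forall (f : H ≅ H') (g : 𝟙_ (Over (Spec (CommRingCat.of R))) ⟶ G)
    (hg : ∀ (X : Over (Spec (CommRingCat.of R))) (h : X ⟶ H),
      h ≫ f.hom ≫ i' = (toUnit X ≫ g) * (h ≫ i) * (toUnit X ≫ g)⁻¹) :
    (toUnit H ≫ g) * i * (toUnit H ≫ g)⁻¹ = f.hom ≫ i' := by
  simpa using (hg H (𝟙 H)).symm

end Groth.Agent.MTRigid29
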