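import Groth.Agent.Lib.MTRigid29.SubgrpEqv
import Groth.Agent.Lib.MTRigid29.PairKernel
import Mathlib.RingTheory.Bialgebra.MonoidAlgebra

/-!
# The locus where two split subgroups of multiplicative type coincide
-/

set_option autoImplicit false
set_option linter.style.haveILetI false
set_option backward.isDefEq.respectTransparency.types false
set_option maxSynthPendingDepth 3

universe u

open CategoryTheory Limits MonoidalCategory CartesianMonoidalCategory MonObj AlgebraicGeometry Opposite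
open scoped TensorProduct

noncomputable section

namespace Groth.Agent.MTRigid29

open DiagGL

variable {R : Type u} [CommRing R]

section ChAlg

variable {H : Over (Spec (CommRingCat.of R))} [GrpObj H] {M : Type} [AddCommGroup M] (C : Chars M H)

/-- The characters of a point with values in an algebra. -/
def chr {B : Type u} [CommRing B] [Algebra R B] (x : Pts H B) : Multiplicative M →* B :=
  (Scheme.ΓSpecIso (CommRingCat.of B)).hom.hom.toMonoidHom.comp (C.ch x)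

theorem chr_nat {B B' : Type u} [CommRing B] [Algebra R B] [CommRing B'] [Algebra R B'] (f : B →ₐ[R] B')
    (x : Pts H B) (m : Multiplicative M) : chr C (pmap f x) m = f (chr C x m) := by
  show (Scheme.ΓSpecIso (CommRingCat.of B')).hom.hom (C.ch (CoactBr.pt f ≫ x) m) = _
  rw [C.nat]
  exact ConcreteCategory.congr_hom (Scheme.ΓSpecIso_naturality (CommRingCat.ofHom f.toRingHom)) (C.ch x m)

theorem chr_mul {B : Type u} [CommRing B] [Algebra R B] (x y : Pts H B) (m : Multiplicative M) :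
    chr C (x * y) m = chr C x m * chr C y m := by
  show (Scheme.ΓSpecIso (CommRingCat.of B)).hom.hom (C.ch (x * y) m) = _
  rw [C.mul]
  exact map_mul (Scheme.ΓSpecIso (CommRingCat.of B)).hom.hom _ _

theorem chr_one {B : Type u} [CommRing B] [Algebra R B] (m : Multiplicative M) :
    chr C (1 : Pts H B) m = 1 := by
  show (Scheme.ΓSpecIso (CommRingCat.of B)).hom.hom (C.ch (1 : Pts H B) m) = _
  rw [C.one]
  exact map_one (Scheme.ΓSpecIso (CommRingCat.of B)).hom.hom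

theorem chr_inj {B : Type u} [CommRing B] [Algebra R B] {x y : Pts H B} (h : ∀ m, chr C x m = chr C y m) : x = y :=
  C.inj fun m => (ConcreteCategory.bijective_of_isIso (Scheme.ΓSpecIso (CommRingCat.of B)).hom).1 (h m)

theorem exists_chr {B : Type u} [CommRing B] [Algebra R B] (c : Multiplicative M →* B) :
    ∃ x : Pts H B, chr C x = c := by
  obtain ⟨x, hx⟩ := C.surj (T := CoactBr.sp R B) ((Scheme.ΓSpecIso (CommRingCat.of B)).inv.hom.toMonoidHom.comp c)
  refine ⟨x, MonoidHom.ext fun m => ?_⟩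
  show (Scheme.ΓSpecIso (CommRingCat.of B)).hom.hom (C.ch x m) = c m
  rw [hx]
  exact ConcreteCategory.congr_hom (Scheme.ΓSpecIso (CommRingCat.of B)).inv_hom_id (c m)

end ChAlg

variable {G H₁ H₂ : Over (Spec (CommRingCat.of R))} [GrpObj G] [GrpObj H₁] [GrpObj H₂]
  {M₁ M₂ : Type} [AddCommGroup M₁] [AddCommGroup M₂] (C₁ : Chars M₁ H₁) (C₂ : Chars M₂ H₂)
  (i₁ : H₁ ⟶ G) (i₂ : H₂ ⟶ G)

section MapChar

/-- The homomorphism given by a map of characters. -/
def mapChar (φ : M₂ →+ M₁) : H₁ ⟶ H₂ :=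
  (C₂.surj (T := H₁) ((C₁.ch (𝟙 H₁)).comp φ.toMultiplicative)).choose

theorem ch_mapChar (φ : M₂ →+ M₁) {T : Over (Spec (CommRingCat.of R))} (x : T ⟶ H₁) (m : Multiplicative M₂) :
    C₂.ch (x ≫ mapChar C₁ C₂ φ) m = C₁.ch x (φ.toMultiplicative m) := by
  rw [C₂.nat, mapChar, (C₂.surj (T := H₁) ((C₁.ch (𝟙 H₁)).comp φ.toMultiplicative)).choose_spec, MonoidHom.comp_apply,
    ← C₁.nat, Category.comp_id]

theorem chr_mapChar (φ : M₂ →+ M₁) {B : Type u} [CommRing B] [Algebra R B] (x : Pts H₁ B) (m : Multiplicative M₂) :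
    chr C₂ (x ≫ mapChar C₁ C₂ φ) m = chr C₁ x (φ.toMultiplicative m) :=
  congrArg (Scheme.ΓSpecIso (CommRingCat.of B)).hom.hom (ch_mapChar C₁ C₂ φ x m)

instance isMonHom_mapChar (φ : M₂ →+ M₁) : IsMonHom (mapChar C₁ C₂ φ) :=
  TorsorSch25.isMonHom_of_points _ fun T a b => C₂.inj fun m => by
    rw [ch_mapChar, C₂.mul, ch_mapChar, ch_mapChar, C₁.mul]

theorem mapChar_comp (φ : M₂ →+ M₁) (φ' : M₁ →+ M₂) (h : ∀ b, φ' (φ b) = b) :
    mapChar C₂ C₁ φ' ≫ mapChar C₁ C₂ φ = 𝟙 H₂ := C₂.inj fun m => by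
  rw [ch_mapChar, show mapChar C₂ C₁ φ' = 𝟙 H₂ ≫ mapChar C₂ C₁ φ' from (Category.id_comp _).symm, ch_mapChar]
  exact congrArg (C₂.ch (𝟙 H₂)) (congrArg Multiplicative.ofAdd (h m.toAdd))

/-- The difference of the first inclusion and the second one composed with a map of characters. -/
def diffHom (φ : M₂ →+ M₁) : H₁ ⟶ G := i₁ * (mapChar C₁ C₂ φ ≫ i₂)⁻¹

theorem isMonHom_diffHom [IsMonHom i₁] [IsMonHom i₂]
    (hc : ∀ (X : Over (Spec (CommRingCat.of R))) (g : X ⟶ G) (h : X ⟶ H₁), g * (h ≫ i₁) = (h ≫ i₁) * g)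
    (φ : M₂ →+ M₁) : IsMonHom (diffHom C₁ C₂ i₁ i₂ φ) := by
  refine TorsorSch25.isMonHom_of_points _ fun T a b => ?_
  simp only [diffHom, MonObj.comp_mul, GrpObj.comp_inv, ← Category.assoc, MonObj.mul_comp, mul_inv_rev]
  have hab : (b ≫ mapChar C₁ C₂ φ) * (a ≫ mapChar C₁ C₂ φ) = (a ≫ mapChar C₁ C₂ φ) * (b ≫ mapChar C₁ C₂ φ) :=
    C₂.inj fun m => by rw [C₂.mul, C₂.mul, _root_.mul_comm]
  have hcd := congrArg (· ≫ i₂) hab
  simp only [MonObj.mul_comp] at hcd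
  have hb := hc T (((a ≫ mapChar C₁ C₂ φ) ≫ i₂)⁻¹) b
  generalize (a ≫ mapChar C₁ C₂ φ) ≫ i₂ = c at *
  generalize (b ≫ mapChar C₁ C₂ φ) ≫ i₂ = d at *
  generalize b ≫ i₁ = β at *
  generalize a ≫ i₁ = α at *
  have hcd' : d⁻¹ * c⁻¹ = c⁻¹ * d⁻¹ := by rw [← mul_inv_rev, ← mul_inv_rev, hcd]
  calc α * β * (d⁻¹ * c⁻¹) = α * β * (c⁻¹ * d⁻¹) := by rw [hcd']
    _ = α * (β * c⁻¹) * d⁻¹ := by group
    _ = α * (c⁻¹ * β) * d⁻¹ := by rw [hb]
    _ = α * c⁻¹ * (β * d⁻¹) := by group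

theorem diffHom_trivial_iff (φ : M₂ →+ M₁) {T : Over (Spec (CommRingCat.of R))} (x : T ⟶ H₁) :
    x ≫ diffHom C₁ C₂ i₁ i₂ φ = 1 ↔ x ≫ i₁ = (x ≫ mapChar C₁ C₂ φ) ≫ i₂ := by
  rw [diffHom, MonObj.comp_mul, GrpObj.comp_inv, mul_inv_eq_one, Category.assoc]

end MapChar

section Field

variable {K : Type u} [Field K] [Algebra R K]

/-- A point of an algebra over `K`, seen over `K`. -/
theorem fac_point (h : Fac i₁ i₂ (Spec.map (CommRingCat.ofHom (algebraMap R K)))) {L : Type u} [CommRing L]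
    [Algebra R L] [Algebra K L] [IsScalarTower R K L] (x : Pts H₁ L) : ∃ y : Pts H₂ L, y ≫ i₂ = x ≫ i₁ := by
  obtain ⟨l, hl⟩ := h _ (Spec.map (CommRingCat.ofHom (algebraMap K L))) x.left (by
    rw [specMap_comp, ← IsScalarTower.algebraMap_eq]
    exact Over.w x)
  exact ⟨Over.homMk l ((congrArg (l ≫ ·) (Over.w i₂).symm).trans ((Category.assoc _ _ _).symm.trans
    ((congrArg (· ≫ G.hom) hl).trans (Over.w (x ≫ i₁))))), Over.OverMorphism.ext hl⟩

/-- Over a field the inclusion of a split subgroup into another comes from a map of characters. -/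
theorem exists_addHom_of_fac [IsMonHom i₁] [IsMonHom i₂] [Mono i₂]
    (h : Fac i₁ i₂ (Spec.map (CommRingCat.ofHom (algebraMap R K)))) :
    ∃ φ : M₂ →+ M₁, ∀ (L : Type u) [CommRing L] [Algebra R L] [Algebra K L] [IsScalarTower R K L]
      (x : Pts H₁ L) (y : Pts H₂ L), y ≫ i₂ = x ≫ i₁ → ∀ m, chr C₂ y m = chr C₁ x (φ.toMultiplicative m) := by
  let L₀ := MonoidAlgebra K (Multiplicative M₁)
  obtain ⟨x₀, hx₀⟩ := exists_chr C₁ (MonoidAlgebra.of K (Multiplicative M₁) : Multiplicative M₁ →* L₀)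
  obtain ⟨y₀, hy₀⟩ := fac_point i₁ i₂ h x₀
  let Δ : L₀ →ₐ[R] L₀ ⊗[K] L₀ := (Bialgebra.comulAlgHom K L₀).restrictScalars R
  let l₁ : L₀ →ₐ[R] L₀ ⊗[K] L₀ := (Algebra.TensorProduct.includeLeft (R := K) (S := K)).restrictScalars R
  let l₂ : L₀ →ₐ[R] L₀ ⊗[K] L₀ := (Algebra.TensorProduct.includeRight (R := K)).restrictScalars R
  let ε : L₀ →ₐ[R] K := (Bialgebra.counitAlgHom K L₀).restrictScalars R
  have hxΔ : pmap Δ x₀ = pmap l₁ x₀ * pmap l₂ x₀ := chr_inj C₁ fun a => by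
    rw [chr_mul, chr_nat, chr_nat, chr_nat, hx₀]
    simp [Δ, l₁, l₂]
    exact (MonoidAlgebra.isGroupLikeElem_of (R := K) a).comul_eq_tmul_self
  have hxε : pmap ε x₀ = 1 := chr_inj C₁ fun a => by
    rw [chr_one, chr_nat, hx₀]
    simp [ε]
    exact (MonoidAlgebra.isGroupLikeElem_of (R := K) a).counit_eq_one
  have hyΔ : pmap Δ y₀ = pmap l₁ y₀ * pmap l₂ y₀ := by
    rw [← cancel_mono i₂, MonObj.mul_comp, pmap_apply, pmap_apply, pmap_apply, Category.assoc, Category.assoc,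
      Category.assoc, hy₀, ← Category.assoc, ← Category.assoc, ← Category.assoc, ← MonObj.mul_comp]
    exact congrArg (· ≫ i₁) hxΔ
  have hyε : pmap ε y₀ = 1 := by
    rw [← cancel_mono i₂, MonObj.one_comp, pmap_apply, Category.assoc, hy₀, ← Category.assoc]
    exact (congrArg (· ≫ i₁) hxε).trans (MonObj.one_comp _)
  have hg : ∀ m, ∃ a, MonoidAlgebra.of K (Multiplicative M₁) a = chr C₂ y₀ m := fun m => by
    refine MonoidAlgebra.isGroupLikeElem_iff_mem_range_of.1 ⟨?_, ?_⟩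
    · have h1 := congrArg (fun z => chr C₂ z m) hyε
      simp only [chr_nat, chr_one] at h1
      exact h1
    · have h1 := congrArg (fun z => chr C₂ z m) hyΔ
      simp only [chr_mul, chr_nat] at h1
      refine h1.trans ?_
      simp [l₁, l₂, Algebra.TensorProduct.tmul_mul_tmul]
  choose a ha using hg
  have hinj : Function.Injective (MonoidAlgebra.of K (Multiplicative M₁)) := MonoidAlgebra.of_injective
  let φm : Multiplicative M₂ →* Multiplicative M₁ :=
    MonoidHom.mk' a fun b c => hinj (by rw [ha, map_mul, map_mul, ha, ha])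
  refine ⟨AddMonoidHom.toMultiplicative.symm φm, fun L _ _ _ _ x y hxy m => ?_⟩
  let F : L₀ →ₐ[R] L := (MonoidAlgebra.lift K L (Multiplicative M₁) (chr C₁ x)).restrictScalars R
  have hxF : pmap F x₀ = x := chr_inj C₁ fun b => by
    rw [chr_nat, hx₀]
    exact MonoidAlgebra.lift_of (chr C₁ x) b
  have hyF : pmap F y₀ = y := by
    rw [← cancel_mono i₂, hxy, pmap_apply, Category.assoc, hy₀, ← Category.assoc]
    exact congrArg (· ≫ i₁) hxF
  rw [← hyF, chr_nat, ← ha]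
  exact (MonoidAlgebra.lift_of (chr C₁ x) (a m)).trans rfl

/-- Over a field coinciding subgroups differ by an isomorphism of characters. -/
theorem exists_equiv_of_eqv [IsMonHom i₁] [IsMonHom i₂] [Mono i₁] [Mono i₂]
    (h : Eqv i₁ i₂ (Spec.map (CommRingCat.ofHom (algebraMap R K)))) :
    ∃ φ : M₂ ≃+ M₁, ∀ (L : Type u) [CommRing L] [Algebra R L] [Algebra K L] [IsScalarTower R K L]
      (x : Pts H₁ L), x ≫ diffHom C₁ C₂ i₁ i₂ φ.toAddMonoidHom = 1 := by
  obtain ⟨φ, hφ⟩ := exists_addHom_of_fac C₁ C₂ i₁ i₂ h.1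
  obtain ⟨φ', hφ'⟩ := exists_addHom_of_fac C₂ C₁ i₂ i₁ h.2
  have key : ∀ (L : Type u) [CommRing L] [Algebra R L] [Algebra K L] [IsScalarTower R K L]
      (x : Pts H₁ L), x ≫ diffHom C₁ C₂ i₁ i₂ φ = 1 := fun L _ _ _ _ x => by
    obtain ⟨y, hy⟩ := fac_point i₁ i₂ h.1 x
    rw [diffHom_trivial_iff, ← hy,
      show x ≫ mapChar C₁ C₂ φ = y from chr_inj C₂ fun m => by rw [chr_mapChar, hφ L x y hy]]
  have inv1 : ∀ a, φ (φ' a) = a := fun a => by
    obtain ⟨x, hx⟩ := exists_chr C₁ (MonoidAlgebra.of K (Multiplicative M₁))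
    obtain ⟨y, hy⟩ := fac_point i₁ i₂ h.1 x
    have := hφ' _ y x hy.symm (Multiplicative.ofAdd a)
    rw [hφ _ x y hy, hx] at this
    exact (congrArg Multiplicative.toAdd (MonoidAlgebra.of_injective this)).symm
  have inv2 : ∀ b, φ' (φ b) = b := fun b => by
    obtain ⟨y, hy⟩ := exists_chr C₂ (MonoidAlgebra.of K (Multiplicative M₂))
    obtain ⟨x, hx⟩ := fac_point i₂ i₁ h.2 y
    have := hφ _ x y hx.symm (Multiplicative.ofAdd b)
    rw [hφ' _ y x hx, hy] at this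
    exact (congrArg Multiplicative.toAdd (MonoidAlgebra.of_injective this)).symm
  exact ⟨{ toFun := φ, invFun := φ', left_inv := inv2, right_inv := inv1, map_add' := map_add φ }, key⟩

end Field

section Finite

/-- The equations for `x ≫ i₁ = y ≫ i₂`. -/
theorem exists_pair_ideal (hpair : PairFG i₁ i₂) {A : Type u} [CommRing A] [Algebra R A] (x : Pts H₁ A)
    (y : Pts H₂ A) :
    ∃ I : Ideal A, I.FG ∧ ∀ {B : Type u} [CommRing B] [Algebra R B] (f : A →ₐ[R] B),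
      pmap f x ≫ i₁ = pmap f y ≫ i₂ ↔ ∀ z ∈ I, f z = 0 := by
  obtain ⟨I, hI, hf⟩ := hpair (CommRingCat.of A) _ x y
  refine ⟨I, hI, fun {B} _ _ f => Iff.trans ?_ (hf (CommRingCat.of B) (CommRingCat.ofHom f.toRingHom))⟩
  rw [pmap_apply, pmap_apply, Category.assoc, Category.assoc]
  exact ⟨fun h => congrArg CommaMorphism.left h, fun h => Over.OverMorphism.ext h⟩

/-- The subgroup of pairs attached to a map of characters. -/
def kappa (φ : M₂ →+ M₁) : M₁ × M₂ →+ M₁ := AddMonoidHom.fst M₁ M₂ + φ.comp (AddMonoidHom.snd M₁ M₂)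

theorem kappa_apply (φ : M₂ →+ M₁) (p : M₁ × M₂) : kappa φ p = p.1 + φ p.2 := rfl

open scoped Classical in
theorem finite_maps [IsMonHom i₁] [IsMonHom i₂] [Mono i₂] (hpair : PairFG i₁ i₂) :
    {φ : M₂ →+ M₁ | ∃ (K : Type u) (_ : Field K) (_ : Algebra R K), ∀ (L : Type u) [CommRing L] [Algebra R L]
      [Algebra K L] [IsScalarTower R K L] (x : Pts H₁ L), x ≫ diffHom C₁ C₂ i₁ i₂ φ = 1}.Finite := by
  let P := MonoidAlgebra R (Multiplicative (M₁ × M₂))
  obtain ⟨X, hX⟩ := exists_chr C₁ ((MonoidAlgebra.of R (Multiplicative (M₁ × M₂))).comp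
    (AddMonoidHom.inl M₁ M₂).toMultiplicative : Multiplicative M₁ →* P)
  obtain ⟨Y, hY⟩ := exists_chr C₂ ((MonoidAlgebra.of R (Multiplicative (M₁ × M₂))).comp
    (AddMonoidHom.inr M₁ M₂).toMultiplicative : Multiplicative M₂ →* P)
  obtain ⟨I, ⟨S, hS⟩, hI⟩ := exists_pair_ideal i₁ i₂ hpair X Y
  let D : Finset (M₁ × M₂) := S.biUnion fun z => (z.coeff.support ×ˢ z.coeff.support).image
    fun pq => pq.1.toAdd - pq.2.toAdd
  refine Set.Finite.of_injOn (f := fun φ : M₂ →+ M₁ => D.filter fun p => kappa φ p = 0)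
    (t := (D.powerset : Set (Finset (M₁ × M₂)))) (fun φ _ => Finset.mem_coe.2
      (Finset.mem_powerset.2 (Finset.filter_subset _ _))) ?_ D.powerset.finite_toSet
  suffices hgen : ∀ φ : M₂ →+ M₁, (∃ (K : Type u) (_ : Field K) (_ : Algebra R K), ∀ (L : Type u) [CommRing L]
      [Algebra R L] [Algebra K L] [IsScalarTower R K L] (x : Pts H₁ L), x ≫ diffHom C₁ C₂ i₁ i₂ φ = 1) →
      ∀ b : M₂, ((-φ b, b) : M₁ × M₂) ∈ AddSubgroup.closure (D.filter fun p => kappa φ p = 0 : Set (M₁ × M₂)) by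
    intro φ hφ φ' _ hD
    refine AddMonoidHom.ext fun b => ?_
    have h1 := hgen φ hφ b
    simp only at hD
    rw [hD] at h1
    have h2 : AddSubgroup.closure ((D.filter fun p => kappa φ' p = 0 : Finset _) : Set (M₁ × M₂)) ≤ (kappa φ').ker :=
      (AddSubgroup.closure_le _).2 fun p hp => (Finset.mem_filter.1 (Finset.mem_coe.1 hp)).2
    have h3 : -φ b + φ' b = 0 := h2 h1
    exact neg_add_eq_zero.1 h3
  rintro φ ⟨K, _, _, htriv⟩ b
  let N := AddSubgroup.closure (D.filter fun p => kappa φ p = 0 : Set (M₁ × M₂))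
  let ev : ∀ {Q : Type} [AddCommGroup Q] (κ : M₁ × M₂ →+ Q), P →ₐ[R] MonoidAlgebra K (Multiplicative Q) :=
    fun κ => MonoidAlgebra.lift R _ _ ((MonoidAlgebra.of K _).comp κ.toMultiplicative)
  have hev : ∀ {Q : Type} [AddCommGroup Q] (κ : M₁ × M₂ →+ Q) (z : P), ev κ z =
      ∑ p ∈ z.coeff.support, MonoidAlgebra.single (κ.toMultiplicative p) (algebraMap R K (z.coeff p)) := by
    intro Q _ κ z
    conv_lhs => rw [← MonoidAlgebra.sum_coeff_single z]
    rw [Finsupp.sum, map_sum]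
    refine Finset.sum_congr rfl fun p _ => (MonoidAlgebra.lift_single _ _ _).trans ?_
    rw [MonoidHom.comp_apply, MonoidAlgebra.of_apply, MonoidAlgebra.smul_single, Algebra.smul_def, _root_.mul_one]
  have hevof : ∀ {Q : Type} [AddCommGroup Q] (κ : M₁ × M₂ →+ Q) (p : Multiplicative (M₁ × M₂)),
      ev κ (MonoidAlgebra.of R _ p) = MonoidAlgebra.of K _ (κ.toMultiplicative p) := fun κ p =>
    MonoidAlgebra.lift_of _ p
  -- the point given by `φ` satisfies the equations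
  let f := ev (kappa φ)
  have hfX : ∀ a, chr C₁ (pmap f X) a = MonoidAlgebra.of K _ a := fun a => by
    rw [chr_nat, hX]
    refine (hevof _ _).trans (congrArg _ (congrArg Multiplicative.ofAdd ?_))
    show kappa φ (a.toAdd, 0) = a.toAdd
    simp [kappa_apply]
  have hfY : pmap f X ≫ mapChar C₁ C₂ φ = pmap f Y := chr_inj C₂ fun m => by
    rw [chr_mapChar, hfX, chr_nat, hY]
    refine Eq.trans (congrArg _ (congrArg Multiplicative.ofAdd ?_)) (hevof _ _).symm
    show φ m.toAdd = kappa φ ((0 : M₁), m.toAdd)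
    simp [kappa_apply]
  have hf : ∀ z ∈ I, f z = 0 := (hI f).1 (by
    rw [← hfY]; exact (diffHom_trivial_iff C₁ C₂ i₁ i₂ φ _).1 (htriv _ (pmap f X)))
  -- hence also the one modulo `N`
  let q : M₁ × M₂ →+ (M₁ × M₂) ⧸ N := QuotientAddGroup.mk' N
  let g := ev q
  have hg : ∀ z ∈ I, g z = 0 := by
    suffices I ≤ RingHom.ker g from fun z hz => this hz
    rw [← hS]
    refine Submodule.span_le.2 fun z hz => ?_
    have h0 : f z = 0 := hf z (hS ▸ Submodule.subset_span hz)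
    let σ : Multiplicative M₁ → Multiplicative ((M₁ × M₂) ⧸ N) := fun m =>
      if h : ∃ p ∈ z.coeff.support, (kappa φ).toMultiplicative p = m then q.toMultiplicative h.choose else 1
    have hσ : ∀ p ∈ z.coeff.support, σ ((kappa φ).toMultiplicative p) = q.toMultiplicative p := by
      intro p hp
      have h : ∃ p' ∈ z.coeff.support, (kappa φ).toMultiplicative p' = (kappa φ).toMultiplicative p := ⟨p, hp, rfl⟩
      simp only [σ, dif_pos h]
      obtain ⟨hp', heq⟩ := h.choose_spec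
      refine congrArg Multiplicative.ofAdd ((QuotientAddGroup.eq (s := N)).2 ?_)
      refine AddSubgroup.subset_closure (Finset.mem_coe.2 (Finset.mem_filter.2 ⟨?_, ?_⟩))
      · refine Finset.mem_biUnion.2 ⟨z, hz, Finset.mem_image.2 ⟨(p, h.choose), Finset.mem_product.2 ⟨hp, hp'⟩, ?_⟩⟩
        exact (neg_add_eq_sub _ _).symm
      · have h1 : kappa φ h.choose.toAdd = kappa φ p.toAdd := congrArg Multiplicative.toAdd heq
        rw [map_add, map_neg, h1, neg_add_cancel]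
    show g z = 0
    rw [show g z = MonoidAlgebra.mapDomain σ (f z) by
      rw [hev, hev]
      refine Eq.trans ?_ (map_sum (MonoidAlgebra.mapDomainLinearMap K K σ) _ _).symm
      refine Finset.sum_congr rfl fun p hp => ?_
      rw [← hσ p hp]
      exact MonoidAlgebra.mapDomain_single.symm, h0, MonoidAlgebra.mapDomain_zero]
  have h1 := (hI g).2 hg
  have h2 := (diffHom_trivial_iff C₁ C₂ i₁ i₂ φ _).1 (htriv _ (pmap g X))
  have h3 : pmap g Y = pmap g X ≫ mapChar C₁ C₂ φ := (cancel_mono i₂).1 (h1.symm.trans h2)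
  have h4 := congrArg (fun w => chr C₂ w (Multiplicative.ofAdd b)) h3
  simp only [chr_mapChar, chr_nat, hX, hY] at h4
  simp only [MonoidHom.comp_apply] at h4
  replace h4 := (hevof q _).symm.trans (h4.trans (hevof q _))
  have h5 : q ((0 : M₁), b) = q (φ b, (0 : M₂)) := congrArg Multiplicative.toAdd (MonoidAlgebra.of_injective h4)
  have h6 := (QuotientAddGroup.eq (s := N)).1 h5.symm
  show _ ∈ N
  simpa using h6

end Finite

section Locus

omit [GrpObj H₁] [GrpObj H₂] in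
theorem fac_of_triv {f' : H₁ ⟶ H₂} {T : Scheme.{u}} (σ : T ⟶ Spec (CommRingCat.of R))
    (h : ∀ (Y : Over T) (x : (Over.map σ).obj Y ⟶ H₁), x ≫ i₁ = (x ≫ f') ≫ i₂) : Fac i₁ i₂ σ := by
  intro X t x hx
  exact ⟨((Over.homMk x hx : (Over.map σ).obj (Over.mk t) ⟶ H₁) ≫ f').left,
    congrArg CommaMorphism.left (h (Over.mk t) (Over.homMk x hx)).symm⟩

theorem eqv_of_triv (φ : M₂ ≃+ M₁) {T : Scheme.{u}} (σ : T ⟶ Spec (CommRingCat.of R))
    (h : Triv (diffHom C₁ C₂ i₁ i₂ φ.toAddMonoidHom) σ) : Eqv i₁ i₂ σ := by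
  refine ⟨fac_of_triv i₁ i₂ (f' := mapChar C₁ C₂ φ.toAddMonoidHom) σ fun Y x =>
      (diffHom_trivial_iff C₁ C₂ i₁ i₂ _ x).1 (h Y x),
    fac_of_triv i₂ i₁ (f' := mapChar C₂ C₁ φ.symm.toAddMonoidHom) σ fun Y y => ?_⟩
  have h1 := (diffHom_trivial_iff C₁ C₂ i₁ i₂ _ _).1 (h Y (y ≫ mapChar C₂ C₁ φ.symm.toAddMonoidHom))
  rw [h1, Category.assoc y, mapChar_comp C₁ C₂ _ _ fun b => φ.symm_apply_apply b, Category.comp_id]

theorem kerFG_diffHom (hpair : PairFG i₁ i₂) (φ : M₂ →+ M₁) : KerFG (diffHom C₁ C₂ i₁ i₂ φ) := by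
  intro R' _ g _ A _ _ _ w
  let x : Over.mk (Spec.map (CommRingCat.ofHom (algebraMap R' A)) ≫ g) ⟶ H₁ := fl g H₁ w
  obtain ⟨I, hI, hf⟩ := hpair (CommRingCat.of A) _ x (x ≫ mapChar C₁ C₂ φ)
  refine ⟨I, hI, fun {B} _ _ f => Iff.trans ?_ (hf (CommRingCat.of B) (CommRingCat.ofHom f.toRingHom))⟩
  have key : pmap f (w ≫ (Over.pullback g).map (diffHom C₁ C₂ i₁ i₂ φ)) = 1 ↔
      (Over.map g).map (CoactBr.pt f) ≫ x ≫ i₁ =
        (Over.map g).map (CoactBr.pt f) ≫ (x ≫ mapChar C₁ C₂ φ) ≫ i₂ := by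
    rw [← (fl_injective g G).eq_iff, fl_one, pmap_apply, fl_comp, fl_comp_map, ← Category.assoc,
      diffHom_trivial_iff, Category.assoc, Category.assoc, Category.assoc, Category.assoc]
  refine key.trans ⟨fun h => congrArg CommaMorphism.left h, fun h => Over.OverMorphism.ext h⟩

include C₁ C₂ in
/-- The coincidence locus of two split subgroups is clopen. -/
theorem good_split [IsMonHom i₁] [IsMonHom i₂] [Mono i₁.left] [Mono i₂.left] (h₁ : SGA3x.IsMultTypeFT H₁)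
    (hc : ∀ (X : Over (Spec (CommRingCat.of R))) (g : X ⟶ G) (h : X ⟶ H₁), g * (h ≫ i₁) = (h ≫ i₁) * g)
    (hpair : PairFG i₁ i₂) : Good i₁ i₂ (𝟙 (Spec (CommRingCat.of R))) := by
  haveI : Mono i₁ := Over.mono_of_mono_left i₁
  haveI : Mono i₂ := Over.mono_of_mono_left i₂
  let S := Spec (CommRingCat.of R)
  have hU : ∀ φ : M₂ →+ M₁, ∃ U : S.Opens, IsClosed (U : Set S) ∧
      (∀ s : S, s ∈ U ↔ Triv (diffHom C₁ C₂ i₁ i₂ φ) (S.fromSpecResidueField s)) ∧
      Triv (diffHom C₁ C₂ i₁ i₂ φ) U.ι := fun φ => by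
    haveI := isMonHom_diffHom C₁ C₂ i₁ i₂ hc φ
    exact exists_triv_locus' _ h₁ (kerFG_diffHom C₁ C₂ i₁ i₂ hpair φ)
  choose U hUc hU hUt using hU
  let Φ : Set (M₂ ≃+ M₁) := {φ | ((U φ.toAddMonoidHom : S.Opens) : Set S).Nonempty}
  have hres : ∀ (t : S), ∃ (K : Type u) (_ : Field K) (_ : Algebra R K),
      ∀ {motive : ∀ {T : Scheme.{u}}, (T ⟶ S) → Prop},
        motive (S.fromSpecResidueField t) ↔ motive (Spec.map (CommRingCat.ofHom (algebraMap R K))) := fun t => by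
    let K := S.residueField t
    let χ : R →+* K := (Spec.preimage (S.fromSpecResidueField t)).hom
    refine ⟨K, inferInstance, χ.toAlgebra, fun {motive} => ?_⟩
    have h : Spec.map (CommRingCat.ofHom χ) = S.fromSpecResidueField t := by
      rw [CommRingCat.ofHom_hom, Spec.map_preimage]
    show _ ↔ motive (Spec.map (CommRingCat.ofHom χ))
    rw [h]
  have hfin : Φ.Finite := by
    refine Set.Finite.of_injOn (f := fun φ : M₂ ≃+ M₁ => φ.toAddMonoidHom) ?_
      (fun φ _ φ' _ h => AddEquiv.ext fun b => DFunLike.congr_fun h b) (finite_maps C₁ C₂ i₁ i₂ hpair)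
    rintro φ ⟨t, ht⟩
    obtain ⟨K, _, _, hK⟩ := hres t
    have h := (hU _ t).1 ht
    rw [hK (motive := fun σ => Triv (diffHom C₁ C₂ i₁ i₂ φ.toAddMonoidHom) σ)] at h
    refine ⟨K, inferInstance, inferInstance, fun L _ _ _ _ x => ?_⟩
    let i : CoactBr.sp R L ≅ (Over.map (Spec.map (CommRingCat.ofHom (algebraMap R K)))).obj
        (Over.mk (Spec.map (CommRingCat.ofHom (algebraMap K L)))) := Over.isoMk (Iso.refl _) (by
      show 𝟙 _ ≫ Spec.map _ ≫ Spec.map _ = Spec.map (CommRingCat.ofHom (algebraMap R L))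
      rw [Category.id_comp, specMap_comp, ← IsScalarTower.algebraMap_eq])
    have h2 := congrArg (i.hom ≫ ·) (h _ (i.inv ≫ x))
    simpa [MonObj.comp_one] using h2
  let V : S.Opens := ⨆ φ ∈ Φ, U φ.toAddMonoidHom
  have hVmem : ∀ t, t ∈ V ↔ ∃ φ : M₂ ≃+ M₁, t ∈ U φ.toAddMonoidHom := fun t => by
    simp only [V, TopologicalSpace.Opens.mem_iSup]
    exact ⟨fun ⟨φ, _, h⟩ => ⟨φ, h⟩, fun ⟨φ, h⟩ => ⟨φ, ⟨t, h⟩, h⟩⟩
  refine ⟨V, ?_, fun t => ?_, ?_⟩
  · have : (V : Set S) = ⋃ φ ∈ Φ, (U φ.toAddMonoidHom : Set S) := by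
      simp [V, TopologicalSpace.Opens.coe_iSup]
    rw [this]
    exact hfin.isClosed_biUnion fun φ _ => hUc _
  · rw [hVmem, Category.comp_id]
    obtain ⟨K, _, _, hK⟩ := hres t
    constructor
    · rintro ⟨φ, hφ⟩
      exact eqv_of_triv C₁ C₂ i₁ i₂ φ _ ((hU _ t).1 hφ)
    · intro h
      rw [hK (motive := fun σ => Eqv i₁ i₂ σ)] at h
      obtain ⟨φ, hφ⟩ := exists_equiv_of_eqv C₁ C₂ i₁ i₂ h
      refine ⟨φ, (hU _ t).2 ((hK (motive := fun σ => Triv (diffHom C₁ C₂ i₁ i₂ φ.toAddMonoidHom) σ)).2 ?_)⟩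
      obtain ⟨e⟩ : Nonempty (Grp.mk (CoactBr.sp R (MonoidAlgebra R (Multiplicative M₁))) ≅ Grp.mk H₁) :=
        nonempty_grpIso_of_chars (charsDiag R M₁) C₁
      exact (triv_specMap_iff e _ K).2 (hφ (K ⊗[R] MonoidAlgebra R (Multiplicative M₁)) (genPt e K))
  · rw [Category.comp_id]
    refine eqv_of_cover i₁ i₂ _ fun x => ?_
    obtain ⟨φ, hφ⟩ := (hVmem (V.ι x)).1 x.2
    have hle : U φ.toAddMonoidHom ≤ V := fun y hy => (hVmem y).2 ⟨φ, hy⟩
    refine ⟨_, S.homOfLE hle, inferInstance, ⟨⟨V.ι x, hφ⟩, ?_⟩, ?_⟩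
    · refine V.ι.isOpenEmbedding.injective ?_
      rw [← Scheme.Hom.comp_apply, Scheme.homOfLE_ι]
      rfl
    · rw [Scheme.homOfLE_ι]
      exact eqv_of_triv C₁ C₂ i₁ i₂ φ _ (hUt _)

end Locus

end Groth.Agent.MTRigid29
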