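import Groth.Agent.Lib.MultType.GlobalCrit
import Groth.Agent.Lib.MultType.QuasiIso
import Groth.Agent.Lib.MTSub29.Main

/-!
# Flat closed subgroups of groups of multiplicative type: Hopf algebra form
-/

set_option autoImplicit false
set_option linter.style.haveILetI false

universe u

open TensorProduct WithConv

noncomputable section

namespace Groth.Agent.MTRigid29.SubgrpFlat

variable {R : Type u} [CommRing R] {A B : Type u} [CommRing A] [HopfAlgebra R A] [CommRing B] [HopfAlgebra R B]

theorem comul_comp_powConv [Coalgebra.IsCocomm R A] (n : ℕ) :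
    (Bialgebra.comulAlgHom R A).comp (SGA3b.powConv R A n) =
      (Algebra.TensorProduct.map (SGA3b.powConv R A n) (SGA3b.powConv R A n)).comp (Bialgebra.comulAlgHom R A) := by
  let l : A →ₐ[R] A ⊗[R] A := Algebra.TensorProduct.includeLeft
  let r : A →ₐ[R] A ⊗[R] A := Algebra.TensorProduct.includeRight
  have hlr : toConv (Bialgebra.comulAlgHom R A) = toConv l * toConv r := ofConv_injective (AlgHom.ext fun a => by
    rw [AlgHom.convMul_apply, ← (Coalgebra.Repr.arbitrary R a).eq, Bialgebra.comulAlgHom_apply,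
      ← (Coalgebra.Repr.arbitrary R a).eq]
    simp [l, r])
  have hm : toConv ((Algebra.TensorProduct.map (SGA3b.powConv R A n) (SGA3b.powConv R A n)).comp
      (Bialgebra.comulAlgHom R A)) = toConv (l.comp (SGA3b.powConv R A n)) * toConv (r.comp (SGA3b.powConv R A n)) :=
    ofConv_injective (AlgHom.ext fun a => by
      rw [AlgHom.convMul_apply, ofConv_toConv, AlgHom.comp_apply, Bialgebra.comulAlgHom_apply,
        ← (Coalgebra.Repr.arbitrary R a).eq]
      simp [l, r])
  refine toConv_injective ?_
  rw [MultTypeLib.comp_powConv, hm, MultTypeLib.comp_powConv, MultTypeLib.comp_powConv, hlr, mul_pow]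

/-- The power map of a commutative group as a homomorphism of bialgebras. -/
def powBialgHom (R : Type u) [CommRing R] (A : Type u) [CommRing A] [HopfAlgebra R A] [Coalgebra.IsCocomm R A] (n : ℕ) :
    A →ₐc[R] A :=
  BialgHom.ofAlgHom (SGA3b.powConv R A n) (AlgHom.ext fun a => MTSub29.counit_powConv n a) (comul_comp_powConv n).symm

theorem isHopfIdeal_torsion [Coalgebra.IsCocomm R A] (n : ℕ) : (SGA3b.torsionIdeal R A n).IsHopfIdeal R :=
  MultTypeLib.isHopfIdeal_map_aug (powBialgHom R A n)

theorem powConv_comm (φ : A →ₐc[R] B) (n : ℕ) (a : A) :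
    SGA3b.powConv R B n (φ a) = φ (SGA3b.powConv R A n a) := by
  have h1 : toConv ((φ : A →ₐ[R] B).comp (SGA3b.powConv R A n)) = toConv (φ : A →ₐ[R] B) ^ n :=
    MultTypeLib.comp_powConv _ n
  have h2 : ∀ m : ℕ, toConv ((ofConv (toConv (AlgHom.id R B) ^ m)).comp (φ : A →ₐ[R] B)) =
      toConv (φ : A →ₐ[R] B) ^ m := by
    intro m
    induction m with
    | zero =>
      refine ofConv_injective (AlgHom.ext fun x => ?_)
      show algebraMap R B (Coalgebra.counit (φ x)) = algebraMap R B (Coalgebra.counit x)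
      rw [CoalgHomClass.counit_comp_apply φ]
    | succ m ih =>
      rw [pow_succ, pow_succ, ← ih]
      exact ofConv_injective (AlgHom.convMul_comp_bialgHom_distrib _ _ φ)
  exact DFunLike.congr_fun (congrArg ofConv ((h2 n).trans h1.symm)) a

theorem torsion_map_le (φ : A →ₐc[R] B) (n : ℕ) :
    SGA3b.torsionIdeal R A n ≤ (SGA3b.torsionIdeal R B n).comap (φ : A →ₐ[R] B) :=
  Ideal.map_le_iff_le_comap.2 fun x hx => by
    show φ (SGA3b.powConv R A n x) ∈ SGA3b.torsionIdeal R B n
    rw [← powConv_comm]
    refine Ideal.mem_map_of_mem _ ?_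
    show Coalgebra.counit (R := R) (φ x) = 0
    rw [CoalgHomClass.counit_comp_apply φ]
    exact hx

/-- A flat finitely presented quotient of a group of multiplicative type is of multiplicative type. -/
theorem isMultType_of_surjective [Coalgebra.IsCocomm R A] [Coalgebra.IsCocomm R B] (hft : Algebra.FiniteType R A)
    (h : SGA3b.IsMultType R A) (φ : A →ₐc[R] B) (hφ : Function.Surjective φ) [Module.Flat R B]
    (hfp : Algebra.FinitePresentation R B) : SGA3b.IsMultType R B := by
  refine MultTypeLib.isMultType_of_fibres_torsion hfp (fun p _ => ?_) fun n hn => ?_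
  · let k := p.ResidueField
    let ψ := MultTypeLib.bcMap k φ
    have hψ : Function.Surjective ψ := fun z => by
      induction z using TensorProduct.induction_on with
      | zero => exact ⟨0, map_zero ψ⟩
      | tmul l y =>
        obtain ⟨c, rfl⟩ := hφ y
        exact ⟨l ⊗ₜ[R] c, rfl⟩
      | add a b ha hb =>
        obtain ⟨x, rfl⟩ := ha
        obtain ⟨y, rfl⟩ := hb
        exact ⟨x + y, map_add ψ x y⟩
    let J : Ideal (k ⊗[R] A) := RingHom.ker (ψ : k ⊗[R] A →ₐ[k] k ⊗[R] B)
    haveI : J.IsHopfIdeal k := MultTypeLib.isHopfIdeal_of_ker ψ hψ fun x => Iff.rfl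
    haveI := hft
    obtain ⟨f⟩ := MultTypeLib.exists_bialgEquiv_of_ker_eq (Bialgebra.Quotient.mkBialgHom (R := k) J) ψ
      Ideal.Quotient.mk_surjective hψ (by
        ext x
        rw [RingHom.mem_ker, RingHom.mem_ker]
        exact Ideal.Quotient.eq_zero_iff_mem)
    exact MultTypeLib.isMultType_congr f (MultTypeLib.isMultType_quot_of_field inferInstance
      (MultTypeLib.isMultType_baseChange k h) J)
  · haveI := isHopfIdeal_torsion (R := R) (A := A) n
    haveI := (MultTypeLib.torsion_isMultType_and_finite hft h n hn (SGA3b.torsionIdeal R A n) rfl).2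
    let g : (A ⧸ SGA3b.torsionIdeal R A n) →ₐ[R] (B ⧸ SGA3b.torsionIdeal R B n) :=
      Ideal.quotientMapₐ _ (φ : A →ₐ[R] B) (torsion_map_le φ n)
    refine Module.Finite.of_surjective g.toLinearMap fun y => ?_
    obtain ⟨b, rfl⟩ := Ideal.Quotient.mk_surjective y
    obtain ⟨a, rfl⟩ := hφ b
    exact ⟨Ideal.Quotient.mk _ a, rfl⟩

end Groth.Agent.MTRigid29.SubgrpFlat
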