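import Groth.Agent.Lib.MTRigid29.LiftHom
import Groth.Agent.Lib.MultType.Coef
import Groth.Agent.Lib.SchBasic.Basic
import Groth.Prelude.Def_SGA3x

/-!
# The locus where a homomorphism out of a group of multiplicative type is trivial
-/

set_option autoImplicit false
set_option linter.style.haveILetI false
set_option backward.isDefEq.respectTransparency.types false
set_option maxSynthPendingDepth 3

universe u

open CategoryTheory Limits MonoidalCategory CartesianMonoidalCategory MonObj AlgebraicGeometry Opposite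
open scoped TensorProduct

noncomputable section

namespace Groth.Agent.MTRigid29

open DiagGL
open MultTypeLib (IsInt KT coeffOne)

section Alg

variable {R : Type u} [CommRing R] {A : Type u} [CommRing A] [HopfAlgebra R A]

/-- An element lies in the ideal generated by finitely many of its pairings. -/
theorem exists_finset_pairing (h : IsSplit (R := R) A) {j : A →ₗ[R] R} (hj : IsInt j) (z : A) :
    ∃ s : Finset A, z ∈ KT (Ideal.span ((fun a => j (z * a)) '' (s : Set A))) A := by
  classical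
  obtain ⟨κ, _, T, _, _, hff, hd⟩ := h
  haveI := hff
  have := Fintype.ofFinite κ
  have key : ∀ i, ∃ s : Finset A, (1 : T i) ⊗ₜ[R] z ∈
      KT (Ideal.span ((fun a => j (z * a)) '' (s : Set A))) (T i ⊗[R] A) := by
    intro i
    obtain ⟨M, _, ⟨e⟩⟩ := hd i
    let J : T i ⊗[R] A →ₗ[T i] T i := coeffOne (T i) M ∘ₗ (e : T i ⊗[R] A →ₗ[T i] MonoidAlgebra (T i) M)
    have hJ : IsInt J := (MultTypeLib.isInt_coeffOne (T i) M).comp_equiv e
    have hJa : ∀ a, J ((1 : T i) ⊗ₜ[R] a) = algebraMap R (T i) (j a) := fun a =>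
      LinearMap.congr_fun (hJ.of_baseChange.unique (hj.comp (Algebra.ofId R (T i)))) a
    have hJt : ∀ (t : T i) (a : A),
        J (((1 : T i) ⊗ₜ[R] z) * (t ⊗ₜ[R] a)) = j (z * a) • t := fun t a => by
      rw [Algebra.TensorProduct.tmul_mul_tmul, _root_.one_mul,
        show t ⊗ₜ[R] (z * a) = t • ((1 : T i) ⊗ₜ[R] (z * a)) by
          rw [TensorProduct.smul_tmul', smul_eq_mul, _root_.mul_one],
        map_smul, hJa, smul_eq_mul, Algebra.smul_def, mul_comm]
    choose S hS using fun n : M => TensorProduct.exists_finset (R := R)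
      (e.symm (MonoidAlgebra.single n⁻¹ (1 : T i)))
    let supp := (e ((1 : T i) ⊗ₜ[R] z)).coeff.support
    refine ⟨supp.biUnion fun n => (S n).image Prod.snd, ?_⟩
    rw [← e.symm_apply_apply ((1 : T i) ⊗ₜ[R] z), ← MonoidAlgebra.sum_coeff_single (e ((1 : T i) ⊗ₜ[R] z)),
      map_finsuppSum]
    refine Submodule.sum_mem _ fun n hn => ?_
    have hc : (e ((1 : T i) ⊗ₜ[R] z)).coeff n = ∑ p ∈ S n, j (z * p.2) • p.1 := by
      have h1 : (e ((1 : T i) ⊗ₜ[R] z)).coeff n =
          J (((1 : T i) ⊗ₜ[R] z) * e.symm (MonoidAlgebra.single n⁻¹ (1 : T i))) := by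
        show _ = coeffOne (T i) M (e (_ * _))
        rw [map_mul, e.apply_symm_apply]
        simp [coeffOne, MonoidAlgebra.coeff_mul_single_eq_coeff_mul n (x := e ((1 : T i) ⊗ₜ[R] z))
          (r := 1) (m₁ := 1) (m := n⁻¹) fun m' _ => by rw [mul_inv_eq_one]]
      rw [h1, hS n, Finset.mul_sum, map_sum]
      exact Finset.sum_congr rfl fun p _ => hJt p.1 p.2
    have h2 : e.symm (MonoidAlgebra.single n ((e ((1 : T i) ⊗ₜ[R] z)).coeff n)) =
        (e ((1 : T i) ⊗ₜ[R] z)).coeff n • e.symm (MonoidAlgebra.single n (1 : T i)) := by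
      rw [← map_smul, MonoidAlgebra.smul_single, smul_eq_mul, _root_.mul_one]
    show e.symm (MonoidAlgebra.single n ((e ((1 : T i) ⊗ₜ[R] z)).coeff n)) ∈ _
    rw [h2, hc, Finset.sum_smul]
    refine Submodule.sum_mem _ fun p hp => ?_
    rw [smul_assoc]
    refine Submodule.smul_mem_smul (Ideal.subset_span ⟨p.2, ?_, rfl⟩) Submodule.mem_top
    simp only [Finset.coe_biUnion, Set.mem_iUnion]
    exact ⟨n, hn, Finset.mem_image_of_mem _ hp⟩
  choose s hs using key
  refine ⟨Finset.univ.biUnion s, ?_⟩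
  set K := Ideal.span ((fun a => j (z * a)) '' ((Finset.univ.biUnion s : Finset A) : Set A)) with hK
  rw [MultTypeLib.mem_KT_iff_one_tmul_eq_zero]
  refine Module.FaithfullyFlat.tensorProduct_mk_injective (A := R) (B := Π i, T i) _ ?_
  show (1 : Π i, T i) ⊗ₜ[R] ((1 : R ⧸ K) ⊗ₜ[R] z) = (1 : Π i, T i) ⊗ₜ[R] 0
  rw [TensorProduct.tmul_zero,
    show (1 : Π i, T i) = ∑ i, LinearMap.single R T i 1 from (Finset.univ_sum_single (1 : Π i, T i)).symm,
    TensorProduct.sum_tmul]
  refine Finset.sum_eq_zero fun i _ => ?_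
  have h0 : ((1 : R ⧸ K) ⊗ₜ[R] ((1 : T i) ⊗ₜ[R] z)) = 0 :=
    MultTypeLib.mem_KT_iff_one_tmul_eq_zero.1 (MultTypeLib.KT_mono (Ideal.span_mono (Set.image_mono
      (Finset.coe_subset.2 (Finset.subset_biUnion_of_mem s (Finset.mem_univ i))))) (hs i))
  have h1 : (1 : T i) ⊗ₜ[R] ((1 : R ⧸ K) ⊗ₜ[R] z) = 0 := by
    rw [← TensorProduct.leftComm_tmul (R := R), h0, LinearEquiv.map_zero]
  have h2 := congrArg ((LinearMap.single R T i).rTensor ((R ⧸ K) ⊗[R] A)) h1
  rw [LinearMap.rTensor_tmul, map_zero] at h2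
  exact h2

/-- Finitely many elements generate after base change. -/
theorem exists_gen_baseChange (T : Type u) [CommRing T] [Algebra R T] {B : Type u} [CommRing B] [Algebra R B]
    (h : Algebra.FiniteType T (T ⊗[R] B)) :
    ∃ s : Finset B, Function.Surjective ((Algebra.adjoin R (s : Set B)).val.toLinearMap.lTensor T) := by
  classical
  obtain ⟨g, hg⟩ := h.out
  choose S hS using fun x : T ⊗[R] B => TensorProduct.exists_finset (R := R) x
  refine ⟨g.biUnion fun x => (S x).image Prod.snd, ?_⟩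
  set B' := Algebra.adjoin R ((g.biUnion fun x => (S x).image Prod.snd : Finset B) : Set B)
  have htop : (Algebra.TensorProduct.map (AlgHom.id (T) (T)) B'.val).range = ⊤ := by
    rw [_root_.eq_top_iff, ← hg, Algebra.adjoin_le_iff]
    intro x hx
    have hmem : ∀ p ∈ S x, p.2 ∈ B' := fun p hp => Algebra.subset_adjoin
      (Finset.mem_coe.2 (Finset.mem_biUnion.2 ⟨x, hx, Finset.mem_image_of_mem _ hp⟩))
    refine ⟨∑ p ∈ (S x).attach, p.1.1 ⊗ₜ[R] (⟨p.1.2, hmem p.1 p.2⟩ : B'), ?_⟩
    conv_rhs => rw [hS x, ← Finset.sum_attach]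
    simp
  intro y
  obtain ⟨v, rfl⟩ := (Algebra.TensorProduct.map (AlgHom.id (T) (T)) B'.val).mem_range.1
    (htop ▸ Algebra.mem_top (x := y))
  refine ⟨v, ?_⟩
  induction v using TensorProduct.induction_on with
  | zero => simp
  | add x y hx hy => simp only [map_add, hx, hy]
  | tmul p q => simp

/-- Finite type descends from a finite family of charts. -/
theorem finiteType_of_charts {κ : Type u} [Finite κ] (T : κ → Type u) [∀ i, CommRing (T i)] [∀ i, Algebra R (T i)]
    [Module.FaithfullyFlat R (Π i, T i)] {B : Type u} [CommRing B] [Algebra R B]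
    (h : ∀ i, Algebra.FiniteType (T i) (T i ⊗[R] B)) : Algebra.FiniteType R B := by
  classical
  have := Fintype.ofFinite κ
  have hgen := fun i => exists_gen_baseChange (R := R) (T i) (h i)
  choose s hs using hgen
  let B' := Algebra.adjoin R ((Finset.univ.biUnion s : Finset B) : Set B)
  have hle : ∀ i, Algebra.adjoin R (s i : Set B) ≤ B' := fun i =>
    Algebra.adjoin_mono (Finset.coe_subset.2 (Finset.subset_biUnion_of_mem s (Finset.mem_univ i)))
  have hzero : ∀ (i : κ) (b : B), (1 : T i) ⊗ₜ[R] (Subalgebra.toSubmodule B').mkQ b = 0 := by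
    intro i b
    obtain ⟨v, hv⟩ := hs i ((1 : T i) ⊗ₜ[R] b)
    have h0 : ∀ v, (Subalgebra.toSubmodule B').mkQ.lTensor (T i)
        ((Algebra.adjoin R (s i : Set B)).val.toLinearMap.lTensor (T i) v) = 0 := by
      intro v
      induction v using TensorProduct.induction_on with
      | zero => rw [map_zero, map_zero]
      | add x y hx hy => rw [map_add, map_add, hx, hy, _root_.add_zero]
      | tmul p q =>
        rw [LinearMap.lTensor_tmul, LinearMap.lTensor_tmul, Submodule.mkQ_apply,
          (Submodule.Quotient.mk_eq_zero _).2 (show (Algebra.adjoin R (s i : Set B)).val.toLinearMap q ∈ Subalgebra.toSubmodule B' from hle i q.2), TensorProduct.tmul_zero]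
    rw [← LinearMap.lTensor_tmul, ← hv]
    exact h0 v
  have hB : B' = ⊤ := _root_.eq_top_iff.2 fun b _ => by
    have h1 : (Subalgebra.toSubmodule B').mkQ b = 0 := by
      refine Module.FaithfullyFlat.tensorProduct_mk_injective (A := R) (B := Π i, T i) _ ?_
      show (1 : Π i, T i) ⊗ₜ[R] (Subalgebra.toSubmodule B').mkQ b = (1 : Π i, T i) ⊗ₜ[R] 0
      rw [TensorProduct.tmul_zero,
        show (1 : Π i, T i) = ∑ i, LinearMap.single R T i 1 from (Finset.univ_sum_single (1 : Π i, T i)).symm,
        TensorProduct.sum_tmul]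
      refine Finset.sum_eq_zero fun i _ => ?_
      have h2 := congrArg ((LinearMap.single R T i).rTensor (B ⧸ Subalgebra.toSubmodule B')) (hzero i b)
      rwa [LinearMap.rTensor_tmul, map_zero] at h2
    exact (Submodule.Quotient.mk_eq_zero _).1 h1
  exact ⟨⟨Finset.univ.biUnion s, hB⟩⟩

end Alg

section Affine

variable {R : Type u} [CommRing R] {A : Type u} [CommRing A] [HopfAlgebra R A]
  {G : Over (Spec (CommRingCat.of R))} [GrpObj G]

/-- The kernel of a morphism from an affine scheme, as an ideal. -/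
theorem exists_kernel_ideal {A : Type u} [CommRing A] [Algebra R A] [IsSeparated G.hom] (w : Pts G A) :
    ∃ I : Ideal A, (LocallyOfFiniteType G.hom → I.FG) ∧
      ∀ {B : Type u} [CommRing B] [Algebra R B] (f : A →ₐ[R] B), pmap f w = 1 ↔ ∀ x ∈ I, f x = 0 := by
  let s : Spec (CommRingCat.of R) ⟶ G.left := (1 : 𝟙_ (Over (Spec (CommRingCat.of R))) ⟶ G).left
  have hs : s ≫ G.hom = 𝟙 _ := Over.w (1 : 𝟙_ (Over (Spec (CommRingCat.of R))) ⟶ G)
  haveI : IsClosedImmersion s := by
    haveI : IsClosedImmersion (s ≫ G.hom) := by rw [hs]; infer_instance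
    exact IsClosedImmersion.of_comp s G.hom
  let c := pullback.fst (C := Scheme.{u}) (X := Spec (CommRingCat.of A)) w.left s
  obtain ⟨I, φ, hφ⟩ := (IsClosedImmersion.Spec_iff (f := c)).1 inferInstance
  refine ⟨I, fun hG => ?_, fun {B} _ _ f => ?_⟩
  · haveI : LocallyOfFinitePresentation s := by
      haveI : LocallyOfFinitePresentation (s ≫ G.hom) := by rw [hs]; infer_instance
      exact SchBasic.locallyOfFinitePresentation_of_comp s G.hom
    haveI hc : LocallyOfFinitePresentation c := inferInstance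
    have h2 : LocallyOfFinitePresentation (Spec.map (CommRingCat.ofHom (Ideal.Quotient.mk I))) := by
      rw [show Spec.map (CommRingCat.ofHom (Ideal.Quotient.mk I)) = φ.inv ≫ c by rw [hφ, Iso.inv_hom_id_assoc]]
      infer_instance
    have h3 := (HasRingHomProperty.Spec_iff (P := @LocallyOfFinitePresentation)).1 h2
    haveI : Algebra.FinitePresentation A (A ⧸ I) := h3
    simpa [Ideal.mk_ker] using Algebra.FinitePresentation.ker_fG_of_surjective
      (Ideal.Quotient.mkₐ A I) (Ideal.Quotient.mkₐ_surjective A I)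
  · have h1 : (1 : Pts G B).left = Spec.map (CommRingCat.ofHom (algebraMap R B)) ≫ s := by
      rw [← MonObj.comp_one (toUnit (CoactBr.sp R B))]
      rfl
    constructor
    · intro h x hx
      let l : Spec (CommRingCat.of B) ⟶ pullback (C := Scheme.{u}) (X := Spec (CommRingCat.of A)) w.left s :=
        pullback.lift (Spec.map (CommRingCat.ofHom f.toRingHom)) (Spec.map (CommRingCat.ofHom (algebraMap R B)))
          ((congrArg CommaMorphism.left h).trans h1)
      have hl : Spec.map (CommRingCat.ofHom f.toRingHom) =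
          (l ≫ φ.hom) ≫ Spec.map (CommRingCat.ofHom (Ideal.Quotient.mk I)) := by
        rw [Category.assoc, ← hφ]; exact (pullback.lift_fst _ _ _).symm
      have h2 : f.toRingHom = (Spec.preimage (l ≫ φ.hom)).hom.comp (Ideal.Quotient.mk I) := by
        have := Spec.map_injective (hl.trans (by rw [Spec.map_comp, Spec.map_preimage]) :
          Spec.map (CommRingCat.ofHom f.toRingHom) =
            Spec.map (CommRingCat.ofHom (Ideal.Quotient.mk I) ≫ Spec.preimage (l ≫ φ.hom)))
        exact congrArg CommRingCat.Hom.hom this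
      show f.toRingHom x = 0
      rw [h2, RingHom.comp_apply, Ideal.Quotient.eq_zero_iff_mem.2 hx, map_zero]
    · intro h
      let g : A ⧸ I →+* B := Ideal.Quotient.lift I f.toRingHom h
      let l := Spec.map (CommRingCat.ofHom g) ≫ φ.inv
      have hl : l ≫ c = Spec.map (CommRingCat.ofHom f.toRingHom) := by
        rw [hφ, Category.assoc, Iso.inv_hom_id_assoc, ← Spec.map_comp]
        rfl
      refine Over.OverMorphism.ext (Eq.trans ?_ h1.symm)
      show Spec.map (CommRingCat.ofHom f.toRingHom) ≫ w.left = _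
      have hb : l ≫ pullback.snd (C := Scheme.{u}) (X := Spec (CommRingCat.of A)) w.left s =
          Spec.map (CommRingCat.ofHom (algebraMap R B)) := by
        refine Eq.trans (Eq.trans (congrArg (l ≫ ·) ?_) (Category.assoc l c (Spec.map (CommRingCat.ofHom (algebraMap R A)))).symm) ?_
        · refine ((Category.comp_id _).symm.trans (congrArg (pullback.snd _ _ ≫ ·) hs.symm)).trans ?_
          refine (Category.assoc _ _ _).symm.trans ?_
          refine (congrArg (· ≫ G.hom) pullback.condition.symm).trans ?_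
          exact (Category.assoc _ _ _).trans (congrArg (c ≫ ·) (Over.w w))
        · exact (congrArg (· ≫ Spec.map (CommRingCat.ofHom (algebraMap R A))) hl).trans
            ((specMap_comp _ _).trans (congrArg (fun k => Spec.map (CommRingCat.ofHom k)) f.comp_algebraMap))
      refine ((congrArg (· ≫ w.left) hl.symm).trans (Category.assoc _ _ _)).trans ?_
      refine (congrArg (l ≫ ·) pullback.condition).trans ?_
      exact (Category.assoc _ _ _).symm.trans (congrArg (· ≫ s) hb)

variable {H : Over (Spec (CommRingCat.of R))} [GrpObj H] (e : Grp.mk (CoactBr.sp R A) ≅ Grp.mk H)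

/-- The generic point with values in `C ⊗ A`. -/
def genPt (C : Type u) [CommRing C] [Algebra R C] : Pts H (C ⊗[R] A) :=
  CoactBr.pt (Algebra.TensorProduct.includeRight : A →ₐ[R] C ⊗[R] A) ≫ e.hom.hom.hom

include e in
/-- The locus of triviality is cut out by an idempotent, the kernel being finitely generated. -/
theorem exists_idempotent' (hA : IsSplit (R := R) A) {j : A →ₗ[R] R} (hj : IsInt j) (u : H ⟶ G) [IsMonHom u]
    (I : Ideal A) (hIfg' : I.FG)
    (hI : ∀ {B : Type u} [CommRing B] [Algebra R B] (f : A →ₐ[R] B),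
      pmap f (e.hom.hom.hom ≫ u) = 1 ↔ ∀ x ∈ I, f x = 0) :
    ∃ ε : R, IsIdempotentElem ε ∧ ∀ (C : Type u) [CommRing C] [Algebra R C],
      genPt e C ≫ u = 1 ↔ algebraMap R C ε = 0 := by
  classical
  have triv : ∀ (C : Type u) [CommRing C] [Algebra R C], genPt e C ≫ u = 1 ↔ ∀ x ∈ I, (1 : C) ⊗ₜ[R] x = 0 :=
    fun C _ _ => by rw [genPt, Category.assoc, ← pmap_apply, hI]; rfl
  obtain ⟨S, hS⟩ := hIfg'
  choose t ht using fun x : A => exists_finset_pairing hA hj x
  let c : Ideal R := Ideal.span (S.biUnion fun x => (t x).image fun a => j (x * a) : Finset R)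
  have hIc : ∀ x ∈ I, (1 : R ⧸ c) ⊗ₜ[R] x = 0 := by
    have h1 : I ≤ Ideal.map (algebraMap R A) c := by
      rw [← hS, Ideal.span_le]
      intro x hx
      refine MultTypeLib.mem_KT_iff_mem_map.1 (MultTypeLib.KT_mono (Ideal.span_mono ?_) (ht x))
      rintro _ ⟨a, ha, rfl⟩
      exact Finset.mem_coe.2 (Finset.mem_biUnion.2 ⟨x, hx, Finset.mem_image_of_mem _ ha⟩)
    exact fun x hx => MultTypeLib.mem_KT_iff_one_tmul_eq_zero.1 (MultTypeLib.mem_KT_iff_mem_map.2 (h1 hx))
  have hcI : ∀ (C : Type u) [CommRing C] [Algebra R C], (∀ x ∈ I, (1 : C) ⊗ₜ[R] x = 0) →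
      ∀ r ∈ c, algebraMap R C r = 0 := by
    intro C _ _ h
    suffices c ≤ RingHom.ker (algebraMap R C) from fun r hr => this hr
    refine Ideal.span_le.2 fun r hr => ?_
    obtain ⟨x, hx, hr⟩ := Finset.mem_biUnion.1 (Finset.mem_coe.1 hr)
    obtain ⟨a, ha, rfl⟩ := Finset.mem_image.1 hr
    have h0 := congrArg (MultTypeLib.avg j C) (h (x * a) (I.mul_mem_right _ (hS ▸ Ideal.subset_span hx)))
    rw [MultTypeLib.avg_tmul, map_zero, Algebra.smul_def, _root_.mul_one] at h0
    exact h0
  have hsq : c ≤ c * c := by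
    intro r hr
    have hle : c * c ≤ c := Ideal.mul_le_left
    have hgen : hgen e (c * c) ≫ u = 1 := by
      obtain ⟨ψ, hψ⟩ := exists_factor_red (A := A) hle
      have hone : hgen e c ≫ u = 1 := (triv (R ⧸ c)).2 hIc
      have hxy : pmap (Ideal.Quotient.mkₐ R (KI c (AA A (c * c)))) (hgen e (c * c) ≫ u) =
          pmap (Ideal.Quotient.mkₐ R (KI c (AA A (c * c)))) (hgen e (c * c) ≫ (1 : H ⟶ G)) := by
        rw [← hψ, ← pmap_pmap, ← pmap_pmap, pmap_red_hgen, pmap_red_hgen, hone, MonObj.comp_one]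
      haveI : IsMonHom (1 : H ⟶ G) := inferInstanceAs (IsMonHom (toUnit H ≫ η[G]))
      obtain ⟨g, -, hg⟩ := exists_conj_step (c * c) hj le_rfl hle (isHom_hgen e _ u) (isHom_hgen e _ (1 : H ⟶ G)) hxy
      rw [hg, MonObj.comp_one, _root_.mul_one, mul_inv_cancel]
    exact Ideal.Quotient.eq_zero_iff_mem.1 (hcI (R ⧸ (c * c)) ((triv _).1 hgen) r hr)
  have hid : IsIdempotentElem c := le_antisymm Ideal.mul_le_left hsq
  obtain ⟨ε, hε, hcε⟩ := (Ideal.isIdempotentElem_iff_of_fg c ⟨_, rfl⟩).1 hid
  refine ⟨ε, hε, fun C _ _ => (triv C).trans ⟨fun h => hcI C h ε ?_, fun h x hx => ?_⟩⟩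
  · rw [hcε]; exact Ideal.subset_span rfl
  · have hk : c ≤ RingHom.ker (algebraMap R C) := by
      rw [hcε]; exact Ideal.span_le.2 fun r hr => by rw [Set.mem_singleton_iff.1 hr]; exact h
    let q : (R ⧸ c) →ₐ[R] C := Ideal.Quotient.liftₐ c (Algebra.ofId R C) fun r hr => hk hr
    have := congrArg (Algebra.TensorProduct.map q (AlgHom.id R A)) (hIc x hx)
    rwa [map_zero, Algebra.TensorProduct.map_tmul, map_one] at this

include e in
/-- The locus of triviality is cut out by an idempotent. -/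
theorem exists_idempotent [IsSeparated G.hom] (hA : IsSplit (R := R) A) {j : A →ₗ[R] R} (hj : IsInt j)
    (hfin : IsNoetherianRing A ∨ LocallyOfFiniteType G.hom) (u : H ⟶ G) [IsMonHom u] :
    ∃ ε : R, IsIdempotentElem ε ∧ ∀ (C : Type u) [CommRing C] [Algebra R C],
      genPt e C ≫ u = 1 ↔ algebraMap R C ε = 0 := by
  obtain ⟨I, hIfg, hI⟩ := exists_kernel_ideal (e.hom.hom.hom ≫ u)
  exact exists_idempotent' e hA hj u I (hfin.elim (fun h => h.noetherian I) hIfg) hI

end Affine

end Groth.Agent.MTRigid29
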