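import Groth.Agent.Lib.MTRigid29.TwConstProps
import Groth.Agent.Lib.MTRigid29.HomDual
import Groth.Agent.Lib.SectionCompOpen4

/-!
# Open and closed subschemes of twisted constant schemes
-/

set_option autoImplicit false
set_option linter.style.haveILetI false
set_option backward.isDefEq.respectTransparency false
set_option backward.isDefEq.respectTransparency.types false
set_option maxSynthPendingDepth 3

universe u

open CategoryTheory Limits MonoidalCategory CartesianMonoidalCategory AlgebraicGeometry

noncomputable section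

namespace Groth.Agent.MTRigid29

variable {S : Scheme.{u}}

/-- An open and closed subscheme of a constant scheme over a connected base meeting one fibre in a finite set
meets every fibre in a finite set and has compact preimage over compact opens. -/
theorem finite_or_infinite_clopen_const [ConnectedSpace S] {I : Type u} (R : Set (TwC.const S I).left)
    (hR : IsClopen R) :
    (∀ w : S, (R ∩ (TwC.const S I).hom.base ⁻¹' {w}).Finite) ∧ (CompactSpace S → IsCompact R) ∨
      ∀ w : S, (R ∩ (TwC.const S I).hom.base ⁻¹' {w}).Infinite := by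
  classical
  let j : I → S → (TwC.const S I).left := fun a w => (Sigma.ι (fun _ : I => S) a) w
  let J : Set I := {a | ∃ w, j a w ∈ R}
  have hj : ∀ a w, (TwC.const S I).hom.base (j a w) = w := fun a w => by
    show ((Sigma.ι (fun _ : I => S) a) ≫ (TwC.const S I).hom) w = w
    rw [show (Sigma.ι (fun _ : I => S) a) ≫ (TwC.const S I).hom = 𝟙 S from Sigma.ι_desc _ a]
    rfl
  have hinj : ∀ w, Function.Injective fun a => j a w := fun w a b h => by
    by_contra hab
    exact (disjoint_iff_inf_le.1 (disjoint_opensRange_sigmaι (fun _ : I => S) a b hab) (x := j a w)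
      ⟨⟨w, rfl⟩, ⟨w, h.symm⟩⟩).elim
  have hall : ∀ a ∈ J, ∀ w, j a w ∈ R := by
    rintro a ⟨w₀, hw₀⟩ w
    have h := (hR.preimage (Sigma.ι (fun _ : I => S) a).continuous).eq_univ ⟨w₀, hw₀⟩
    exact (Set.ext_iff.1 h w).2 (Set.mem_univ w)
  have hfib : ∀ w, R ∩ (TwC.const S I).hom.base ⁻¹' {w} = (fun a => j a w) '' J := fun w => by
    ext p
    constructor
    · rintro ⟨hp, hpw⟩
      obtain ⟨a, w', hw'⟩ := (sigmaOpenCover (fun _ : I => S)).exists_eq p
      obtain rfl : w' = w := by
        have h1 := hj a w'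
        rw [show j a w' = p from hw'] at h1
        exact h1.symm.trans hpw
      exact ⟨a, ⟨w', by rw [show j a w' = p from hw']; exact hp⟩, hw'⟩
    · rintro ⟨a, ha, rfl⟩
      exact ⟨hall a ha w, hj a w⟩
  by_cases hJ : J.Finite
  · refine Or.inl ⟨fun w => hfib w ▸ hJ.image _, fun hS => ?_⟩
    have : R = ⋃ a ∈ J, Set.range (j a) := by
      ext p
      constructor
      · intro hp
        obtain ⟨a, w', hw'⟩ := (sigmaOpenCover (fun _ : I => S)).exists_eq p
        exact Set.mem_iUnion₂.2 ⟨a, ⟨w', by rw [show j a w' = p from hw']; exact hp⟩, w', hw'⟩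
      · intro hp
        obtain ⟨a, ha, w, rfl⟩ := Set.mem_iUnion₂.1 hp
        exact hall a ha w
    rw [this]
    exact hJ.isCompact_biUnion fun a _ => isCompact_range (Sigma.ι (fun _ : I => S) a).continuous
  · exact Or.inr fun w => hfib w ▸ (Set.Infinite.image (hinj w).injOn hJ)

theorem isFinite_of_clopen_twConst [IsLocallyNoetherian S] [ConnectedSpace S] (P : Over S)
    (hP : TwC.IsTwConst TwC.Topology.etale P) {Z : Scheme.{u}} (z : Z ⟶ P.left) [IsOpenImmersion z]
    [IsClosedImmersion z] (hs : ∃ s : S, Set.Finite ((z ≫ P.hom).base ⁻¹' {s})) : IsFinite (z ≫ P.hom) := by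
  classical
  let h₀ := z ≫ P.hom
  have chart : ∀ t : S, ∃ (W : Scheme.{u}) (g : W ⟶ S), Etale g ∧ t ∈ Set.range g ∧ CompactSpace W ∧
      ConnectedSpace W ∧ ∃ (I : Type u) (w : pullback h₀ g ⟶ (TwC.const W I).left), IsOpenImmersion w ∧
        IsClosedImmersion w ∧ w ≫ (TwC.const W I).hom = pullback.snd h₀ g := by
    intro t
    obtain ⟨V, f, hf, ⟨v, hv⟩, I, ⟨e⟩⟩ := hP t
    haveI := hf
    haveI : IsLocallyNoetherian V := LocallyOfFiniteType.isLocallyNoetherian f
    obtain ⟨W₀, hW₀, hvW₀, -⟩ := exists_isAffineOpen_mem_and_subset (X := V) (x := v) (U := ⊤) trivial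
    haveI : IsAffine W₀.toScheme := hW₀
    haveI : LocallyConnectedSpace ↥W₀.toScheme := SectionCompOpen4.locallyConnectedSpace _
    let C : W₀.toScheme.Opens := ⟨connectedComponent ⟨v, hvW₀⟩, isOpen_connectedComponent⟩
    let g : C.toScheme ⟶ S := (C.ι ≫ W₀.ι) ≫ f
    haveI : CompactSpace ↥C.toScheme :=
      isCompact_iff_compactSpace.1 (isClosed_connectedComponent.isCompact : IsCompact (C : Set ↥W₀.toScheme))
    haveI : ConnectedSpace ↥C.toScheme := isConnected_iff_connectedSpace.1 isConnected_connectedComponent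
    refine ⟨C.toScheme, g, inferInstance, ⟨⟨⟨v, hvW₀⟩, mem_connectedComponent⟩, hv⟩, inferInstance, inferInstance,
      I, ?_⟩
    let e' : Red.bc g P ≅ TwC.const C.toScheme I :=
      (Over.pullbackComp (C.ι ≫ W₀.ι) f).app P ≪≫ (Over.pullback (C.ι ≫ W₀.ι)).mapIso e ≪≫ constBC _ I
    let l : pullback h₀ g ⟶ (Red.bc g P).left :=
      pullback.lift (pullback.fst _ _ ≫ z) (pullback.snd _ _) (by rw [Category.assoc, pullback.condition])
    have h2 : l ≫ pullback.snd P.hom g = pullback.snd _ _ := pullback.lift_snd _ _ _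
    have sql : IsPullback (pullback.fst h₀ g) l z (pullback.fst P.hom g) :=
      IsPullback.of_bot (by rw [h2]; exact IsPullback.of_hasPullback h₀ g)
        (pullback.lift_fst _ _ _).symm (IsPullback.of_hasPullback P.hom g)
    haveI : IsClosedImmersion l := MorphismProperty.of_isPullback sql ‹IsClosedImmersion z›
    haveI : IsOpenImmersion l := MorphismProperty.of_isPullback sql ‹IsOpenImmersion z›
    haveI : IsIso e'.hom.left := (inferInstance : IsIso ((Over.forget _).map e'.hom))
    refine ⟨l ≫ e'.hom.left, inferInstance, inferInstance, ?_⟩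
    rw [Category.assoc, Over.w e'.hom]
    exact h2
  choose W g hg ht hWc hWconn I w hwo hwc hw using chart
  let R : ∀ t, Set (TwC.const (W t) (I t)).left := fun t => Set.range (w t)
  have hRc : ∀ t, IsClopen (R t) := fun t =>
    haveI := hwo t; haveI := hwc t
    ⟨(w t).isClosedEmbedding.isClosed_range, (w t).isOpenEmbedding.isOpen_range⟩
  have hsub : ∀ (t : S) (y : W t), R t ∩ (TwC.const (W t) (I t)).hom.base ⁻¹' {y} =
      (w t) '' ((pullback.snd h₀ (g t)).base ⁻¹' {y}) := fun t y => by
    ext p
    constructor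
    · rintro ⟨⟨q, rfl⟩, hq⟩
      exact ⟨q, by show (pullback.snd h₀ (g t)) q = y; rw [← hw t]; exact hq, rfl⟩
    · rintro ⟨q, hq, rfl⟩
      refine ⟨⟨q, rfl⟩, ?_⟩
      show ((w t) ≫ (TwC.const (W t) (I t)).hom) q = y
      rw [hw t]; exact hq
  have hfin : ∀ (t : S) (y : W t), (h₀.base ⁻¹' {g t y}).Finite ↔
      (R t ∩ (TwC.const (W t) (I t)).hom.base ⁻¹' {y}).Finite := by
    intro t y
    rw [hsub]
    constructor
    · intro h
      refine Set.Finite.image _ ?_
      haveI := hg t
      haveI : LocallyQuasiFinite (g t) := SchDesc12.locallyQuasiFinite_of_etale (g t)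
      haveI := hWc t
      haveI : QuasiCompact (g t) := inferInstance
      haveI : LocallyQuasiFinite (pullback.fst h₀ (g t)) := MorphismProperty.pullback_fst _ _ inferInstance
      refine (h.preimage' fun x _ => (pullback.fst h₀ (g t)).finite_preimage_singleton x).subset fun q hq => ?_
      show h₀ (pullback.fst h₀ (g t) q) = g t y
      rw [← Scheme.Hom.comp_apply, pullback.condition, Scheme.Hom.comp_apply,
        show pullback.snd h₀ (g t) q = y from hq]
    · intro h
      have h' : ((pullback.snd h₀ (g t)).base ⁻¹' {y}).Finite :=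
        h.of_finite_image (haveI := hwo t; (w t).isOpenEmbedding.injective.injOn)
      refine (h'.image (pullback.fst h₀ (g t))).subset fun x hx => ?_
      obtain ⟨q, hq₁, hq₂⟩ := Scheme.Pullback.exists_preimage_pullback (f := h₀) (g := g t) x y hx
      exact ⟨q, hq₂, hq₁⟩
  let A : Set S := {s | (h₀.base ⁻¹' {s}).Finite}
  have hconst : ∀ t, Set.range (g t) ⊆ A ∨ Set.range (g t) ⊆ Aᶜ := fun t => by
    haveI := hWconn t
    rcases finite_or_infinite_clopen_const (R t) (hRc t) with h | h
    · refine Or.inl ?_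
      rintro _ ⟨y, rfl⟩
      exact (hfin t y).2 (h.1 y)
    · refine Or.inr ?_
      rintro _ ⟨y, rfl⟩
      exact fun hy => h y ((hfin t y).1 hy)
  have hopen : ∀ B : Set S, (∀ t, Set.range (g t) ⊆ B ∨ Set.range (g t) ⊆ Bᶜ) → IsOpen B := fun B hB =>
    isOpen_iff_forall_mem_open.2 fun t htB => ⟨Set.range (g t),
      (hB t).resolve_right fun h => h (ht t) htB,
      haveI := hg t; (g t).isOpenMap.isOpen_range, ht t⟩
  have hA : A = Set.univ := by
    refine IsClopen.eq_univ ⟨⟨hopen Aᶜ fun t => ?_⟩, hopen A hconst⟩ hs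
    rw [compl_compl]
    exact (hconst t).symm
  have hfam : Presieve.ofArrows W g ∈ Scheme.fpqcPrecoverage S := by
    refine Scheme.fppfPrecoverage_le_fpqcPrecoverage _ ((Scheme.ofArrows_mem_precoverage_iff _).2
      ⟨fun t => ⟨t, ht t⟩, fun t => ?_⟩)
    haveI := hg t
    exact ⟨inferInstance, inferInstance⟩
  haveI : MorphismProperty.DescendsAlong @IsFinite (@Surjective ⊓ @Flat ⊓ @QuasiCompact) :=
    FpqcDesc.descendsAlong_isFinite
  refine prop_of_fpqc_cover g hfam @IsFinite h₀ fun t => ?_
  haveI := hWconn t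
  haveI := hWc t
  haveI := hwc t
  have hc : IsCompact (R t) := by
    rcases finite_or_infinite_clopen_const (R t) (hRc t) with h | h
    · exact h.2 inferInstance
    · haveI := hWconn t
      obtain ⟨y⟩ := (inferInstance : Nonempty ↥(W t))
      exact absurd ((hfin t y).1 (hA ▸ Set.mem_univ (g t y) : g t y ∈ A)) (h y)
  haveI : CompactSpace ↥(pullback h₀ (g t)) :=
    isCompact_univ_iff.1 ((w t).isClosedEmbedding.isInducing.isCompact_iff.2 (by rwa [Set.image_univ]))
  rw [← hw t]
  exact isFinite_of_compact (w t)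

end Groth.Agent.MTRigid29
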