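import Groth.Agent.Lib.MTRigid29.TwConstUnibranch
import Groth.Agent.Lib.MTRigid29.CentralSubDesc
import Groth.Agent.Lib.CMSlice4.Cover
import Groth.Agent.Lib.AlgSpace.RadicialPiece

/-!
# Twisted constant schemes for the fppf topology are quasi-isotrivial
-/

set_option autoImplicit false
set_option linter.style.haveILetI false
set_option backward.isDefEq.respectTransparency false
set_option backward.isDefEq.respectTransparency.types false
set_option maxSynthPendingDepth 3

universe u

open CategoryTheory Limits AlgebraicGeometry TensorProduct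

noncomputable section

namespace Groth.Agent.MTRigid29

/-- Two morphisms from a connected scheme into a separated étale scheme, agreeing somewhere, are equal. -/
theorem hom_ext_of_connected {B Z X W : Scheme.{u}} [ConnectedSpace Z] [Nonempty W] (h : X ⟶ B) [IsSeparated h]
    [Etale h] (u v : Z ⟶ X) (w : W ⟶ Z) (huv : u ≫ h = v ≫ h) (hw : w ≫ u = w ≫ v) : u = v := by
  let q : Z ⟶ pullback h h := pullback.lift u v huv
  let d := pullback.diagonal h
  haveI : IsOpenImmersion (pullback.fst q d) := MorphismProperty.pullback_fst q d inferInstance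
  haveI : IsClosedImmersion (pullback.fst q d) := MorphismProperty.pullback_fst q d inferInstance
  let e : W ⟶ pullback q d := pullback.lift w (w ≫ u) (pullback.hom_ext (by simp [q, d]) (by simp [q, d, hw]))
  obtain ⟨pt⟩ := (inferInstance : Nonempty W)
  haveI : Surjective (pullback.fst q d) := ⟨Set.range_eq_univ.1 (IsClopen.eq_univ
    ⟨(pullback.fst q d).isClosedEmbedding.isClosed_range, (pullback.fst q d).isOpenEmbedding.isOpen_range⟩
    ⟨_, e pt, rfl⟩)⟩
  haveI : IsIso (pullback.fst q d) := (isIso_iff_isOpenImmersion_and_surjective _).2 ⟨inferInstance, inferInstance⟩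
  have h3 : pullback.fst q d ≫ u = pullback.fst q d ≫ v := by
    have := pullback.condition (f := q) (g := d)
    have a := congrArg (· ≫ pullback.fst h h) this
    have b := congrArg (· ≫ pullback.snd h h) this
    simp [q, d] at a b
    rw [a, b]
  exact (cancel_epi (pullback.fst q d)).1 h3

/-- A finite flat scheme over a connected base with one point over some point, radicial there, has connected
self fibre product. -/
theorem connectedSpace_self_pullback {T B : Scheme.{u}} [ConnectedSpace B] (p : T ⟶ B) [IsFinite p] [Flat p]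
    [LocallyOfFinitePresentation p] (b : B) (t : T) (ht : p t = b) (huniq : ∀ t' : T, p t' = b → t' = t)
    (hrad : ∀ (K : Type u) [Field K] (σ τ : Spec (.of K) ⟶ T), σ (IsLocalRing.closedPoint K) = t →
      τ (IsLocalRing.closedPoint K) = t → σ ≫ p = τ ≫ p → σ = τ) :
    ConnectedSpace ↥(pullback p p) := by
  let π := pullback.fst p p ≫ p
  haveI : Flat π := inferInstance
  haveI : IsFinite π := inferInstance
  have hone : ∀ y : ↥(pullback p p), π y = b → y = pullback.diagonal p t := by
    intro y hy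
    have h1 : pullback.fst p p y = t := huniq _ hy
    have h2 : pullback.snd p p y = t := huniq _ (by
      rw [← Scheme.Hom.comp_apply, ← pullback.condition]; exact hy)
    let r := (pullback p p).fromSpecResidueField y
    have hr : ∀ x : Spec ((pullback p p).residueField y), r x = y := fun x => Scheme.fromSpecResidueField_apply _ _
    have heq := hrad ((pullback p p).residueField y) (r ≫ pullback.fst p p) (r ≫ pullback.snd p p)
      (by rw [Scheme.Hom.comp_apply]; exact (congrArg (pullback.fst p p) (hr _)).trans h1)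
      (by rw [Scheme.Hom.comp_apply]; exact (congrArg (pullback.snd p p) (hr _)).trans h2)
      (by rw [Category.assoc, Category.assoc, pullback.condition])
    have hd : r = (r ≫ pullback.fst p p) ≫ pullback.diagonal p := by
      refine pullback.hom_ext (by simp) ?_
      simp only [Category.assoc, pullback.diagonal_snd, Category.comp_id]
      exact heq.symm
    obtain ⟨x⟩ := (inferInstance : Nonempty (Spec ((pullback p p).residueField y)))
    have := congrArg (fun k : Spec ((pullback p p).residueField y) ⟶ pullback p p => k x) hd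
    simp only [Scheme.Hom.comp_apply] at this
    rw [← hr x, this, hr x, h1]
  have hsurj : ∀ A : Set ↥(pullback p p), IsClopen A → A.Nonempty → pullback.diagonal p t ∈ A := by
    intro A hA hne
    have : IsClopen (π '' A) := ⟨π.isClosedMap _ hA.isClosed, π.isOpenMap _ hA.isOpen⟩
    obtain ⟨y, hy, hyb⟩ : b ∈ π '' A := by rw [this.eq_univ (hne.image _)]; trivial
    exact hone y hyb ▸ hy
  haveI : Nonempty ↥(pullback p p) := ⟨pullback.diagonal p t⟩
  haveI : PreconnectedSpace ↥(pullback p p) := preconnectedSpace_iff_clopen.2 fun A hA => by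
    by_contra hne
    push Not at hne
    exact hsurj Aᶜ hA.compl (Set.nonempty_compl.2 hne.2) (hsurj A hA hne.1)
  exact ⟨inferInstance⟩

/-- A trivialisation along a flat cover with connected self fibre product descends. -/
theorem nonempty_iso_const_of_connected {T B : Scheme.{u}} (p : T ⟶ B) [Flat p] [Surjective p] [QuasiCompact p]
    [Nonempty T] [ConnectedSpace ↥(pullback p p)] (X : Over B) {I : Type u} (E : Red.bc p X ≅ TwC.const T I) :
    Nonempty (X ≅ TwC.const B I) := by
  let f : pullback X.hom p ⟶ X.left := pullback.fst X.hom p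
  haveI : Flat f := MorphismProperty.pullback_fst _ _ ‹_›
  haveI : Surjective f := MorphismProperty.pullback_fst _ _ ‹_›
  haveI : QuasiCompact f := MorphismProperty.pullback_fst _ _ ‹_›
  let φ : pullback X.hom p ⟶ (TwC.const B I).left := E.hom.left ≫ (constToBase p I).left
  have hφw : φ ≫ (TwC.const B I).hom = pullback.snd X.hom p ≫ p := by
    rw [Category.assoc, show (constToBase p I).left ≫ (TwC.const B I).hom = (TwC.const T I).hom ≫ p from
      Over.w (constToBase p I), ← Category.assoc, show E.hom.left ≫ (TwC.const T I).hom = pullback.snd X.hom p from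
      Over.w E.hom]
  haveI : IsSeparated (TwC.const B I).hom := isSeparated_const
  haveI : Etale (TwC.const B I).hom := etale_const
  -- the universal pair of lifts
  let q₁ : pullback p p ⟶ T := pullback.fst p p
  let Q := Red.bc q₁ (Red.bc p X)
  let e₁ : Q ≅ TwC.const (pullback p p) I := (Over.pullback q₁).mapIso E ≪≫ constBC q₁ I
  let a₀ : Q.left ⟶ pullback X.hom p := pullback.fst (Red.bc p X).hom q₁
  let b₀ : Q.left ⟶ pullback X.hom p :=
    pullback.lift (a₀ ≫ f) (pullback.snd (Red.bc p X).hom q₁ ≫ pullback.snd p p) (by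
      rw [Category.assoc, pullback.condition, ← Category.assoc a₀, show a₀ ≫ pullback.snd X.hom p =
        pullback.snd (Red.bc p X).hom q₁ ≫ q₁ from pullback.condition, Category.assoc, Category.assoc, pullback.condition])
  have hpair : a₀ ≫ φ = b₀ ≫ φ := by
    haveI : IsIso e₁.inv.left := (inferInstance : IsIso ((Over.forget _).map e₁.inv))
    rw [← cancel_epi e₁.inv.left]
    refine Sigma.hom_ext _ _ fun a => ?_
    let s : pullback p p ⟶ Q.left := Sigma.ι (fun _ : I => pullback p p) a ≫ e₁.inv.left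
    have hs : s ≫ pullback.snd (Red.bc p X).hom q₁ = 𝟙 _ := by
      rw [Category.assoc, show e₁.inv.left ≫ pullback.snd (Red.bc p X).hom q₁ = (TwC.const (pullback p p) I).hom from
        Over.w e₁.inv]
      exact Sigma.ι_desc _ a
    show Sigma.ι (fun _ : I => pullback p p) a ≫ e₁.inv.left ≫ a₀ ≫ φ =
      Sigma.ι (fun _ : I => pullback p p) a ≫ e₁.inv.left ≫ b₀ ≫ φ
    rw [← Category.assoc (Sigma.ι _ a), ← Category.assoc (Sigma.ι _ a)]
    refine hom_ext_of_connected (TwC.const B I).hom _ _ (pullback.diagonal p) ?_ ?_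
    · have hab : a₀ ≫ pullback.snd X.hom p ≫ p = b₀ ≫ pullback.snd X.hom p ≫ p := by
        have h1 : a₀ ≫ pullback.snd X.hom p = pullback.snd (Red.bc p X).hom q₁ ≫ q₁ := pullback.condition
        have h2 : b₀ ≫ pullback.snd X.hom p = pullback.snd (Red.bc p X).hom q₁ ≫ pullback.snd p p :=
          pullback.lift_snd _ _ _
        rw [reassoc_of% h1, reassoc_of% h2, pullback.condition]
      have hφw' : ∀ {Z : Scheme.{u}} (c : Z ⟶ pullback X.hom p),
          (c ≫ φ) ≫ (TwC.const B I).hom = c ≫ pullback.snd X.hom p ≫ p := fun c => by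
        rw [Category.assoc c φ, hφw]
      rw [← Category.assoc _ a₀ φ, ← Category.assoc _ b₀ φ, hφw', hφw', Category.assoc, Category.assoc, hab]
      simp only [Category.assoc]
    · suffices hΔ : pullback.diagonal p ≫ s ≫ a₀ = pullback.diagonal p ≫ s ≫ b₀ by
        show pullback.diagonal p ≫ s ≫ a₀ ≫ φ = pullback.diagonal p ≫ s ≫ b₀ ≫ φ
        rw [reassoc_of% hΔ]
      refine pullback.hom_ext ?_ ?_
      · simp [b₀, f]
      simp only [Category.assoc, b₀, pullback.lift_snd, reassoc_of% hs, pullback.diagonal_snd]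
      rw [show a₀ ≫ pullback.snd X.hom p = pullback.snd (Red.bc p X).hom q₁ ≫ q₁ from pullback.condition,
        reassoc_of% hs, pullback.diagonal_fst]
  have hφ : ∀ {Z : Scheme.{u}} (a b : Z ⟶ pullback X.hom p), a ≫ f = b ≫ f → a ≫ φ = b ≫ φ := by
    intro Z a b hab
    let m : Z ⟶ pullback p p := pullback.lift (a ≫ pullback.snd X.hom p) (b ≫ pullback.snd X.hom p) (by
      rw [Category.assoc, Category.assoc, ← pullback.condition, ← Category.assoc, ← Category.assoc]
      exact congrArg (· ≫ X.hom) hab)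
    let l : Z ⟶ Q.left := pullback.lift a m (pullback.lift_fst _ _ _).symm
    have ha : l ≫ a₀ = a := pullback.lift_fst _ _ _
    have hb : l ≫ b₀ = b := pullback.hom_ext
      (by rw [Category.assoc, pullback.lift_fst, reassoc_of% ha]; exact hab)
      (by rw [Category.assoc, pullback.lift_snd, pullback.lift_snd_assoc, pullback.lift_snd])
    rw [← ha, ← hb, Category.assoc, Category.assoc, hpair]
  haveI : EffectiveEpi f := inferInstance
  let ψ : X.left ⟶ (TwC.const B I).left := EffectiveEpi.desc f φ fun a b hab => hφ a b hab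
  have hψ : f ≫ ψ = φ := EffectiveEpi.fac f φ fun a b hab => hφ a b hab
  let u : X ⟶ TwC.const B I := Over.homMk ψ (by
    rw [← cancel_epi f, ← Category.assoc, hψ, hφw]
    exact (pullback.condition (f := X.hom) (g := p)).symm)
  have hu : (Over.pullback p).map u ≫ (constBC p I).hom = E.hom := by
    have h2 : (Over.pullback p).map u = E.hom ≫ (constBC p I).inv := by
      refine (fl_injectiveObj p) ?_
      ext1
      have h3 : (Over.mapPullbackAdj p).homEquiv _ _ (constToBase p I) = (constBC p I).inv := rfl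
      rw [← h3, ← Adjunction.homEquiv_naturality_left, Equiv.symm_apply_apply]
      show ((Over.pullback p).map u).left ≫ pullback.fst (TwC.const B I).hom p = E.hom.left ≫ (constToBase p I).left
      rw [map_left_fst]
      exact hψ
    rw [h2, Category.assoc, Iso.inv_hom_id, Category.comp_id]
  haveI hiso : IsIso ((Over.pullback p).map u) := by
    rw [show (Over.pullback p).map u = E.hom ≫ (constBC p I).inv by
      rw [← hu, Category.assoc, Iso.hom_inv_id, Category.comp_id]]
    infer_instance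
  haveI : IsIso u.left := by
    have sq := isPullback_map_left p u
    haveI : IsIso ((Over.pullback p).map u).left :=
      (inferInstance : IsIso ((Over.forget _).map ((Over.pullback p).map u)))
    exact MorphismProperty.of_isPullback_of_descendsAlong (P := MorphismProperty.isomorphisms Scheme.{u})
      (Q := @Surjective ⊓ @Flat ⊓ @QuasiCompact) sq.flip
      ⟨⟨MorphismProperty.pullback_fst _ _ ‹_›, MorphismProperty.pullback_fst _ _ ‹_›⟩,
        MorphismProperty.pullback_fst _ _ ‹_›⟩ (inferInstance : IsIso _)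
  exact ⟨Over.isoMk (asIso u.left) (Over.w u)⟩
where
  fl_injectiveObj {T B : Scheme.{u}} (p : T ⟶ B) {A : Over T} {Y : Over B} {x y : A ⟶ (Over.pullback p).obj Y}
      (h : ((Over.mapPullbackAdj p).homEquiv A Y).symm x = ((Over.mapPullbackAdj p).homEquiv A Y).symm y) : x = y :=
    ((Over.mapPullbackAdj p).homEquiv A Y).symm.injective h

open IsLocalRing in
/-- An fppf twisted constant scheme over a locally noetherian scheme is constant on étale neighbourhoods. -/
theorem isTwConst_etale_of_fppf {S : Scheme.{u}} [IsLocallyNoetherian S] (X : Over S)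
    (hX : TwC.IsTwConst TwC.Topology.fppf X) : TwC.IsTwConst TwC.Topology.etale X := by
  intro s
  obtain ⟨S₀, f₀, hf₀, hfp₀, hs₀, I, ⟨E₀⟩⟩ := hX s
  haveI := hf₀
  haveI := hfp₀
  obtain ⟨x, hx, hcm, hcl⟩ := CMSlice4.exists_cm_closed f₀ hs₀
  obtain ⟨V, Z, i, hZ, -, -, ⟨z, hz⟩, hflat, hfp, hlqf, -⟩ := CMSlice4.exists_slice f₀ x hcm hcl
  let f : Z ⟶ S := i ≫ V.ι ≫ f₀
  haveI : Flat f := hflat
  haveI : LocallyOfFinitePresentation f := hfp
  haveI : LocallyQuasiFinite f := hlqf
  have hfz : f z = s := by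
    show f₀ ((i ≫ V.ι) z) = s
    rw [hz, hx]
  obtain ⟨W, hW, hsW, -⟩ := exists_isAffineOpen_mem_and_subset (X := S) (x := f z) (U := ⊤) trivial
  obtain ⟨Z₀, hZ₀, hzZ₀, hle⟩ := exists_isAffineOpen_mem_and_subset (X := Z) (x := z) (U := f ⁻¹ᵁ W) hsW
  let a := f.appLE W Z₀ hle
  letI : Algebra Γ(S, W) Γ(Z, Z₀) := a.hom.toAlgebra
  haveI : Algebra.FiniteType Γ(S, W) Γ(Z, Z₀) := f.finiteType_appLE hW hZ₀ hle
  haveI : Module.Flat Γ(S, W) Γ(Z, Z₀) := f.flat_appLE hW hZ₀ hle
  haveI : Algebra.QuasiFinite Γ(S, W) Γ(Z, Z₀) := LocallyQuasiFinite.quasiFinite_appLE (f := f) hW hZ₀ hle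
  let q := (hZ₀.primeIdealOf ⟨z, hzZ₀⟩).asIdeal
  haveI : Algebra.QuasiFiniteAt Γ(S, W) q := inferInstance
  obtain ⟨R', _, _, _, P, _, e, he, P', _, hP'P, hP'q, heP', hfin, huniq, hrad⟩ :=
    AlgSpace.exists_etale_finite_radicial_piece (R := Γ(S, W)) q
  haveI := hfin
  let L := Localization.Away e
  let jT : Spec (CommRingCat.of L) ⟶ Spec (CommRingCat.of (R' ⊗[Γ(S, W)] Γ(Z, Z₀))) :=
    Spec.map (CommRingCat.ofHom (algebraMap _ L))
  haveI : IsOpenImmersion jT := IsOpenImmersion.of_isLocalization e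
  let p₀ : Spec (CommRingCat.of L) ⟶ Spec (CommRingCat.of R') := Spec.map (CommRingCat.ofHom (algebraMap R' L))
  have hp₀ : p₀ = jT ≫ Spec.map (CommRingCat.ofHom (algebraMap R' (R' ⊗[Γ(S, W)] Γ(Z, Z₀)))) := by
    rw [← Spec.map_comp]
    rfl
  haveI : Module.Flat R' L := Module.Flat.trans R' (R' ⊗[Γ(S, W)] Γ(Z, Z₀)) L
  haveI : IsFinite p₀ := (IsFinite.SpecMap_iff _).2 (RingHom.finite_algebraMap.2 hfin)
  haveI : Flat p₀ := (HasRingHomProperty.Spec_iff (P := @Flat)).2 (RingHom.flat_algebraMap_iff.2 ‹_›)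
  let g₁ : Spec (CommRingCat.of R') ⟶ S := Spec.map (CommRingCat.ofHom (algebraMap Γ(S, W) R')) ≫ hW.fromSpec
  haveI : Etale (Spec.map (CommRingCat.ofHom (algebraMap Γ(S, W) R'))) :=
    (HasRingHomProperty.Spec_iff (P := @Etale)).2 (RingHom.etale_algebraMap.2 ‹_›)
  haveI : Etale g₁ := inferInstance
  let k : Spec (CommRingCat.of L) ⟶ Z :=
    jT ≫ Spec.map (CommRingCat.ofHom Algebra.TensorProduct.includeRight.toRingHom) ≫ hZ₀.fromSpec
  have key : Spec.map (CommRingCat.ofHom (Algebra.TensorProduct.includeRight (R := Γ(S, W)) (A := R')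
        (B := Γ(Z, Z₀))).toRingHom) ≫ Spec.map a =
      Spec.map (CommRingCat.ofHom (algebraMap R' (R' ⊗[Γ(S, W)] Γ(Z, Z₀)))) ≫
        Spec.map (CommRingCat.ofHom (algebraMap Γ(S, W) R')) := by
    rw [← Spec.map_comp, ← Spec.map_comp]
    refine congrArg Spec.map (CommRingCat.hom_ext (RingHom.ext fun r => ?_))
    show (1 : R') ⊗ₜ[Γ(S, W)] algebraMap Γ(S, W) Γ(Z, Z₀) r = algebraMap Γ(S, W) R' r ⊗ₜ[Γ(S, W)] (1 : Γ(Z, Z₀))
    rw [Algebra.algebraMap_eq_smul_one, TensorProduct.tmul_smul, TensorProduct.smul_tmul', Algebra.algebraMap_eq_smul_one]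
  have hk : k ≫ f = p₀ ≫ g₁ := by
    simp only [k, g₁, hp₀, Category.assoc]
    rw [← IsAffineOpen.SpecMap_appLE_fromSpec f hW hZ₀ hle, reassoc_of% key]
  haveI : IsLocallyNoetherian (Spec (CommRingCat.of R')) := LocallyOfFiniteType.isLocallyNoetherian g₁
  haveI : LocallyConnectedSpace ↥(Spec (CommRingCat.of R')) := SectionCompOpen4.locallyConnectedSpace _
  let b₀ : Spec (CommRingCat.of R') := ⟨P, inferInstance⟩
  let C : (Spec (CommRingCat.of R')).Opens := ⟨connectedComponent b₀, isOpen_connectedComponent⟩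
  haveI : ConnectedSpace ↥C.toScheme := isConnected_iff_connectedSpace.1 isConnected_connectedComponent
  let T := (p₀ ⁻¹ᵁ C).toScheme
  let p : T ⟶ C.toScheme := p₀ ∣_ C
  haveI : IsFinite p := IsZariskiLocalAtTarget.restrict ‹_› C
  haveI : Flat p := IsZariskiLocalAtTarget.restrict ‹_› C
  haveI : LocallyOfFinitePresentation p := by
    haveI : IsLocallyNoetherian C.toScheme := LocallyOfFiniteType.isLocallyNoetherian C.ι
    infer_instance
  let tp : PrimeSpectrum L := (PrimeSpectrum.localization_away_comap_range L e).symm ▸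
    (show (⟨P', inferInstance⟩ : PrimeSpectrum _) ∈ (PrimeSpectrum.basicOpen e : Set _) from heP') |>.choose
  have htp : jT tp = ⟨P', inferInstance⟩ :=
    ((PrimeSpectrum.localization_away_comap_range L e).symm ▸
      (show (⟨P', inferInstance⟩ : PrimeSpectrum _) ∈ (PrimeSpectrum.basicOpen e : Set _) from heP')).choose_spec
  have hp₀tp : p₀ tp = b₀ := by
    rw [hp₀, Scheme.Hom.comp_apply, htp]
    exact PrimeSpectrum.ext hP'P.over.symm
  let t : T := ⟨tp, show p₀ tp ∈ C from hp₀tp ▸ mem_connectedComponent⟩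
  let b : C.toScheme := ⟨b₀, mem_connectedComponent⟩
  have hpι : ∀ t' : T, C.ι (p t') = p₀ ((p₀ ⁻¹ᵁ C).ι t') := fun t' => by
    rw [← Scheme.Hom.comp_apply, morphismRestrict_ι, Scheme.Hom.comp_apply]
  have hpt : p t = b := C.ι.isOpenEmbedding.injective ((hpι t).trans hp₀tp)
  have huniqT : ∀ t' : T, p t' = b → t' = t := by
    intro t' ht'
    refine (p₀ ⁻¹ᵁ C).ι.isOpenEmbedding.injective (jT.isOpenEmbedding.injective ?_)
    have h1 : Spec.map (CommRingCat.ofHom (algebraMap R' (R' ⊗[Γ(S, W)] Γ(Z, Z₀)))) (jT ((p₀ ⁻¹ᵁ C).ι t')) = b₀ := by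
      refine Eq.trans ?_ ((hpι t').symm.trans (congrArg C.ι ht'))
      exact (congrArg (fun k : Spec (CommRingCat.of L) ⟶ _ => k ((p₀ ⁻¹ᵁ C).ι t')) hp₀).symm
    show jT ((p₀ ⁻¹ᵁ C).ι t') = jT tp
    rw [htp]
    refine PrimeSpectrum.ext (huniq _ inferInstance ⟨(congrArg PrimeSpectrum.asIdeal h1).symm⟩ ?_)
    have : jT ((p₀ ⁻¹ᵁ C).ι t') ∈ Set.range jT := ⟨_, rfl⟩
    exact (PrimeSpectrum.localization_away_comap_range L e).le this
  have hradT : ∀ (K : Type u) [Field K] (σ τ : Spec (.of K) ⟶ T), σ (closedPoint K) = t →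
      τ (closedPoint K) = t → σ ≫ p = τ ≫ p → σ = τ := by
    intro K _ σ τ hσ hτ hστ
    rw [← cancel_mono (p₀ ⁻¹ᵁ C).ι, ← cancel_mono jT, ← Spec.map_preimage ((σ ≫ _) ≫ jT),
      ← Spec.map_preimage ((τ ≫ _) ≫ jT)]
    congr 1
    ext1
    have hker : ∀ ρ : Spec (.of K) ⟶ T, ρ (closedPoint K) = t →
        RingHom.ker (Spec.preimage ((ρ ≫ (p₀ ⁻¹ᵁ C).ι) ≫ jT)).hom = P' := by
      intro ρ hρ
      have h1 : Spec.map (Spec.preimage ((ρ ≫ (p₀ ⁻¹ᵁ C).ι) ≫ jT)) (closedPoint K) = ⟨P', inferInstance⟩ := by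
        rw [Spec.map_preimage, Scheme.Hom.comp_apply, Scheme.Hom.comp_apply, hρ]
        exact htp
      refine Eq.trans ?_ (congrArg PrimeSpectrum.asIdeal h1)
      show RingHom.ker _ = Ideal.comap _ (IsLocalRing.maximalIdeal K)
      rw [IsLocalRing.maximalIdeal_eq_bot]
      rfl
    refine hrad K _ _ (hker σ hσ) (hker τ hτ) ?_
    have h2 : ((σ ≫ (p₀ ⁻¹ᵁ C).ι) ≫ jT) ≫ Spec.map (CommRingCat.ofHom (algebraMap R' _)) =
        ((τ ≫ (p₀ ⁻¹ᵁ C).ι) ≫ jT) ≫ Spec.map (CommRingCat.ofHom (algebraMap R' _)) := by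
      simp only [Category.assoc, ← hp₀]
      rw [← morphismRestrict_ι, ← Category.assoc, ← Category.assoc, hστ]
    rw [← Spec.map_preimage ((σ ≫ _) ≫ jT), ← Spec.map_preimage ((τ ≫ _) ≫ jT), ← Spec.map_comp, ← Spec.map_comp,
      Spec.map_inj] at h2
    exact congrArg CommRingCat.Hom.hom h2
  haveI : Nonempty T := ⟨t⟩
  haveI : ConnectedSpace ↥(pullback p p) := connectedSpace_self_pullback p b t hpt huniqT hradT
  haveI : Surjective p := ⟨Set.range_eq_univ.1 (IsClopen.eq_univ
    ⟨p.isClosedMap.isClosed_range, p.isOpenMap.isOpen_range⟩ ⟨_, t, rfl⟩)⟩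
  let m : T ⟶ S₀ := (p₀ ⁻¹ᵁ C).ι ≫ k ≫ i ≫ V.ι
  have hm : p ≫ C.ι ≫ g₁ = m ≫ f₀ := by
    rw [← Category.assoc, morphismRestrict_ι, Category.assoc, ← hk]
    simp only [m, f, Category.assoc]
  let E : Red.bc p (Red.bc (C.ι ≫ g₁) X) ≅ TwC.const T I :=
    compIso hm X ≪≫ (compIso (rfl : m ≫ f₀ = _) X).symm ≪≫ (Over.pullback m).mapIso E₀ ≪≫ constBC m I
  refine ⟨C.toScheme, C.ι ≫ g₁, inferInstance, ⟨b, ?_⟩, I, nonempty_iso_const_of_connected p _ E⟩
  rw [← hpt, ← Scheme.Hom.comp_apply, hm]
  show f₀ ((i ≫ V.ι) (k ((p₀ ⁻¹ᵁ C).ι t))) = s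
  have hkt : k tp = z := by
    show hZ₀.fromSpec (Spec.map (CommRingCat.ofHom Algebra.TensorProduct.includeRight.toRingHom) (jT tp)) = z
    rw [htp]
    refine Eq.trans ?_ (hZ₀.fromSpec_primeIdealOf ⟨z, hzZ₀⟩)
    congr 1
    exact PrimeSpectrum.ext hP'q
  rw [show (p₀ ⁻¹ᵁ C).ι t = tp from rfl, hkt, hz, hx]

end Groth.Agent.MTRigid29
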