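import Groth.Agent.Lib.MTRigid29.TwConstUnibranch
import Groth.Agent.Lib.Hens.FiniteType

/-!
# Twisted constant schemes over henselian local rings
-/

set_option autoImplicit false
set_option linter.style.haveILetI false
set_option backward.isDefEq.respectTransparency false
set_option backward.isDefEq.respectTransparency.types false
set_option maxSynthPendingDepth 3

universe u

open CategoryTheory Limits MonoidalCategory CartesianMonoidalCategory AlgebraicGeometry

noncomputable section

namespace Groth.Agent.MTRigid29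

/-- The spectrum of a local ring is connected. -/
instance connectedSpace_spec_local (R : Type u) [CommRing R] [IsLocalRing R] :
    ConnectedSpace (Spec (CommRingCat.of R)) := by
  have hc : ∀ p : Spec (CommRingCat.of R), p ⤳ IsLocalRing.closedPoint R :=
    IsLocalRing.specializes_closedPoint
  haveI : Nonempty (Spec (CommRingCat.of R)) := ⟨IsLocalRing.closedPoint R⟩
  haveI : PreconnectedSpace (Spec (CommRingCat.of R)) := by
    refine preconnectedSpace_iff_clopen.mpr fun s hs => ?_
    by_cases h : (IsLocalRing.closedPoint R : Spec (CommRingCat.of R)) ∈ s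
    · exact Or.inr (Set.eq_univ_of_forall fun p => (hc p).mem_open hs.isOpen h)
    · exact Or.inl (Set.eq_empty_of_forall_notMem fun p hp => h ((hc p).mem_closed hs.isClosed hp))
  exact ⟨‹_›⟩

/-- A finite flat morphism to the spectrum of a local ring, hitting the closed point, is surjective. -/
theorem surjective_of_closedPoint_mem {R : Type u} [CommRing R] [IsLocalRing R] {Z : Scheme.{u}}
    (f : Z ⟶ Spec (CommRingCat.of R)) [Flat f] (z : Z) (hz : f z = IsLocalRing.closedPoint R) :
    Surjective f := ⟨fun p => by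
  obtain ⟨z', -, hz'⟩ := Flat.generalizingMap f
    (show p ⤳ f z from hz.symm ▸ IsLocalRing.specializes_closedPoint p)
  exact ⟨z', hz'⟩⟩

/-- An étale scheme over a henselian local ring with a point over the closed point contains a finite
étale piece which is faithfully flat over the base. -/
theorem exists_finite_piece {R : Type u} [CommRing R] [HenselianLocalRing R] {V : Scheme.{u}}
    (f : V ⟶ Spec (CommRingCat.of R)) [Etale f] (v : V) (hv : f v = IsLocalRing.closedPoint R) :
    ∃ (W : Scheme.{u}) (j : W ⟶ V), IsAffine W ∧ IsFinite (j ≫ f) ∧ Etale (j ≫ f) ∧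
      Surjective (j ≫ f) := by
  obtain ⟨W, hW, hvW, -⟩ := exists_isAffineOpen_mem_and_subset (x := v) (U := (⊤ : V.Opens)) trivial
  let φ : CommRingCat.of R ⟶ Γ(V, W) := Spec.preimage (hW.fromSpec ≫ f)
  have hφ : Spec.map φ = hW.fromSpec ≫ f := Spec.map_preimage _
  haveI : Etale (Spec.map φ) := by rw [hφ]; infer_instance
  letI : Algebra R Γ(V, W) := φ.hom.toAlgebra
  haveI : Algebra.Etale R Γ(V, W) := (HasRingHomProperty.Spec_iff (P := @Etale)).mp ‹Etale (Spec.map φ)›
  have hv' : v ∈ Set.range hW.fromSpec := by rw [hW.range_fromSpec]; exact hvW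
  obtain ⟨p, hp⟩ := hv'
  have hpq : Spec.map φ p = IsLocalRing.closedPoint R := by
    rw [hφ, Scheme.Hom.comp_apply, hp, hv]
  let q : Ideal Γ(V, W) := p.asIdeal
  have hqo : q.LiesOver (IsLocalRing.maximalIdeal R) := ⟨(congrArg PrimeSpectrum.asIdeal hpq).symm⟩
  obtain ⟨e, he, hfin, hne⟩ := Hens.exists_finite_split R Γ(V, W)
  have heq : e ∉ q := hne q hqo inferInstance
  let C := Γ(V, W) ⧸ Ideal.span ({1 - e} : Set Γ(V, W))
  haveI : IsLocalization.Away e C := IsLocalization.Away.quotient_of_isIdempotentElem he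
  haveI : Algebra.Etale Γ(V, W) C := Algebra.Etale.of_isLocalizationAway e
  haveI : Algebra.Etale R C := Algebra.Etale.comp R Γ(V, W) C
  let ψ : Γ(V, W) ⟶ CommRingCat.of C := CommRingCat.ofHom (Ideal.Quotient.mk _)
  let j : Spec (CommRingCat.of C) ⟶ V := Spec.map ψ ≫ hW.fromSpec
  have hjf : j ≫ f = Spec.map (CommRingCat.ofHom (algebraMap R C)) := by
    rw [show j ≫ f = Spec.map ψ ≫ Spec.map φ by rw [hφ, Category.assoc], ← Spec.map_comp]
    rfl
  have het : Etale (j ≫ f) := by
    rw [hjf, HasRingHomProperty.Spec_iff (P := @Etale)]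
    exact RingHom.etale_algebraMap.mpr inferInstance
  refine ⟨_, j, inferInstance, ?_, het, ?_⟩
  · rw [hjf, IsFinite.SpecMap_iff]
    exact RingHom.finite_algebraMap.mpr hfin
  · have hker : Ideal.span ({1 - e} : Set Γ(V, W)) ≤ q := by
      rw [Ideal.span_le, Set.singleton_subset_iff]
      exact (Ideal.IsPrime.mem_or_mem inferInstance
        (show (1 - e) * e ∈ q by rw [sub_mul, one_mul, he.eq, sub_self]; exact zero_mem _)).resolve_right heq
    haveI : (q.map (Ideal.Quotient.mk (Ideal.span ({1 - e} : Set Γ(V, W))))).IsPrime :=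
      Ideal.map_isPrime_of_surjective Ideal.Quotient.mk_surjective (by rw [Ideal.mk_ker]; exact hker)
    let z : Spec (CommRingCat.of C) := ⟨q.map (Ideal.Quotient.mk _), inferInstance⟩
    have hz : Spec.map ψ z = p := by
      refine PrimeSpectrum.ext ?_
      show Ideal.comap (Ideal.Quotient.mk _) (q.map (Ideal.Quotient.mk _)) = q
      rw [Ideal.comap_map_of_surjective' _ Ideal.Quotient.mk_surjective, Ideal.mk_ker, sup_eq_left]
      exact hker
    haveI : Flat (j ≫ f) := inferInstance
    refine surjective_of_closedPoint_mem (j ≫ f) z ?_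
    show (Spec.map ψ ≫ hW.fromSpec ≫ f) z = _
    rw [← hφ, Scheme.Hom.comp_apply, hz, hpq]

variable {R : Type u} [CommRing R] [HenselianLocalRing R] (X : Over (Spec (CommRingCat.of R)))
  (hX : TwC.IsTwConst TwC.Topology.etale X)

include hX in
/-- Every point lies in an open and closed piece which is finite over the base. -/
theorem exists_finite_clopen (x : X.left) :
    ∃ U : X.left.Opens, x ∈ U ∧ IsClosed (U : Set X.left) ∧ IsFinite (U.ι ≫ X.hom) := by
  classical
  obtain ⟨V, f, hf, ⟨v, hv⟩, I, ⟨e⟩⟩ := hX (IsLocalRing.closedPoint R)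
  haveI := hf
  obtain ⟨W, j, hWaff, hjfin, hjet, hjsurj⟩ := exists_finite_piece f v hv
  haveI := hjfin
  haveI := hjet
  haveI := hjsurj
  obtain ⟨hsep, het⟩ := etale_of_twConst X hX
  haveI := hsep
  haveI := het
  let g := j ≫ f
  let e' : Red.bc g X ≅ TwC.const W I :=
    (Over.pullbackComp j f).app X ≪≫ (Over.pullback j).mapIso e ≪≫ constBC _ I
  haveI : IsIso e'.hom.left := (inferInstance : IsIso ((Over.forget _).map e'.hom))
  let q : pullback X.hom g ⟶ X.left := pullback.fst X.hom g
  haveI : IsFinite q := MorphismProperty.pullback_fst _ _ ‹_›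
  haveI : Etale q := MorphismProperty.pullback_fst _ _ ‹_›
  haveI : Surjective q := MorphismProperty.pullback_fst _ _ ‹_›
  obtain ⟨x', hx'⟩ := q.surjective x
  obtain ⟨a, w, hw⟩ := (sigmaOpenCover (fun _ : I => W)).exists_eq (e'.hom.left x')
  let ia : W ⟶ (TwC.const W I).left := Sigma.ι (fun _ : I => W) a
  have hia : ia ≫ (TwC.const W I).hom = 𝟙 W := Sigma.ι_desc (fun _ : I => 𝟙 W) a
  haveI : IsSeparated (TwC.const W I).hom := isSeparated_const
  haveI : IsClosedImmersion ia := by
    haveI : IsClosedImmersion (ia ≫ (TwC.const W I).hom) := by rw [hia]; infer_instance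
    exact IsClosedImmersion.of_comp ia (TwC.const W I).hom
  haveI : IsOpenImmersion ia := inferInstanceAs (IsOpenImmersion (Sigma.ι (fun _ : I => W) a))
  let k : W ⟶ pullback X.hom g := ia ≫ inv e'.hom.left
  let h : W ⟶ X.left := k ≫ q
  have hk : k ≫ pullback.snd X.hom g = 𝟙 W := by
    have hw' : e'.hom.left ≫ (TwC.const W I).hom = pullback.snd X.hom g := Over.w e'.hom
    rw [← hw', Category.assoc, IsIso.inv_hom_id_assoc, hia]
  have hhX : h ≫ X.hom = g := by
    show (k ≫ pullback.fst X.hom g) ≫ X.hom = g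
    rw [Category.assoc, pullback.condition, reassoc_of% hk]
  haveI : IsOpenImmersion k := inferInstance
  haveI : IsClosedImmersion k := inferInstance
  haveI : IsFinite h := inferInstance
  haveI : Etale h := inferInstance
  let U : X.left.Opens := ⟨Set.range h, h.isOpenMap.isOpen_range⟩
  have hUc : IsClosed (U : Set X.left) := h.isClosedMap.isClosed_range
  refine ⟨U, ⟨w, ?_⟩, hUc, ?_⟩
  · show (ia ≫ inv e'.hom.left ≫ q) w = x
    rw [Scheme.Hom.comp_apply, show ia w = e'.hom.left x' from hw, ← Scheme.Hom.comp_apply,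
      IsIso.hom_inv_id_assoc]
    exact hx'
  · haveI : IsClosedImmersion U.ι := by
      refine IsClosedImmersion.iff_isPreimmersion.2 ⟨inferInstance, ?_⟩
      rw [Scheme.Opens.range_ι]; exact hUc
    let s : W ⟶ U.toScheme := IsOpenImmersion.lift U.ι h (le_of_eq (Scheme.Opens.range_ι U).symm)
    have hs : s ≫ U.ι = h := IsOpenImmersion.lift_fac _ _ _
    haveI : Surjective s := ⟨fun y => by
      obtain ⟨w', hw'⟩ := (show U.ι y ∈ Set.range h from y.2)
      refine ⟨w', U.ι.isOpenEmbedding.injective ?_⟩
      rw [← Scheme.Hom.comp_apply, hs]; exact hw'⟩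
    have hsg : s ≫ (U.ι ≫ X.hom) = g := by rw [reassoc_of% hs, hhX]
    haveI : UniversallyClosed (U.ι ≫ X.hom) := by
      haveI : UniversallyClosed (s ≫ (U.ι ≫ X.hom)) := by rw [hsg]; infer_instance
      exact UniversallyClosed.of_comp_surjective s _
    haveI : QuasiCompact (U.ι ≫ X.hom) := inferInstance
    haveI : IsProper (U.ι ≫ X.hom) := { }
    haveI : LocallyQuasiFinite (U.ι ≫ X.hom) := SchDesc12.locallyQuasiFinite_of_etale _
    exact IsFinite.of_isProper_of_locallyQuasiFinite _

include hX in
/-- The local schemes at the points of the closed fibre are open and closed pieces. -/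
theorem fromSpecStalk_closed_fibre (x : X.left) (hx : X.hom x = IsLocalRing.closedPoint R) :
    IsOpenImmersion (X.left.fromSpecStalk x) ∧ IsClosedImmersion (X.left.fromSpecStalk x) ∧
      IsFinite (X.left.fromSpecStalk x ≫ X.hom) ∧ Etale (X.left.fromSpecStalk x ≫ X.hom) ∧
      Surjective (X.left.fromSpecStalk x ≫ X.hom) := by
  haveI := (etale_of_twConst X hX).2
  obtain ⟨U, hxU, hUc, hUfin⟩ := exists_finite_clopen X hX x
  haveI := hUfin
  haveI : IsAffine U.toScheme := isAffine_of_isAffineHom (U.ι ≫ X.hom)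
  have hU : IsAffineOpen U := ‹_›
  haveI : IsClosedImmersion hU.fromSpec := by
    refine IsClosedImmersion.iff_isPreimmersion.2 ⟨inferInstance, ?_⟩
    rw [hU.range_fromSpec]; exact hUc
  let φ : CommRingCat.of R ⟶ Γ(X.left, U) := Spec.preimage (hU.fromSpec ≫ X.hom)
  have hφ : Spec.map φ = hU.fromSpec ≫ X.hom := Spec.map_preimage _
  haveI : IsFinite (Spec.map φ) := by
    rw [hφ, show hU.fromSpec ≫ X.hom = hU.isoSpec.inv ≫ (U.ι ≫ X.hom) by
      rw [← Category.assoc, IsAffineOpen.isoSpec_inv_ι]]
    infer_instance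
  letI : Algebra R Γ(X.left, U) := φ.hom.toAlgebra
  haveI : Module.Finite R Γ(X.left, U) := RingHom.finite_algebraMap.mp ((IsFinite.SpecMap_iff φ).mp ‹_›)
  let q := (hU.primeIdealOf ⟨x, hxU⟩).asIdeal
  haveI : Algebra.IsIntegral R Γ(X.left, U) := Algebra.IsIntegral.of_finite R _
  have hqm : q.IsMaximal := by
    refine Ideal.isMaximal_of_isIntegral_of_isMaximal_comap (R := R) q ?_
    have h1 : Spec.map φ (hU.primeIdealOf ⟨x, hxU⟩) = IsLocalRing.closedPoint R := by
      rw [hφ, Scheme.Hom.comp_apply, IsAffineOpen.fromSpec_primeIdealOf, hx]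
    rw [show q.comap (algebraMap R _) = IsLocalRing.maximalIdeal R from congrArg PrimeSpectrum.asIdeal h1]
    infer_instance
  let L := Localization.AtPrime q
  have hbij := Hens.bijective_pi_localization_of_henselian (A := R) (B := Γ(X.left, U))
  have hsurj : Function.Surjective (algebraMap Γ(X.left, U) L) :=
    (Function.surjective_eval (⟨q, hqm⟩ : MaximalSpectrum Γ(X.left, U))).comp hbij.2
  obtain ⟨b, hb⟩ : ∃ b : Γ(X.left, U), RingHom.ker (algebraMap Γ(X.left, U) L) = Ideal.span {b} := by
    classical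
    obtain ⟨b, hb⟩ := hbij.2 (Function.update (fun _ => (1 : _)) (⟨q, hqm⟩ : MaximalSpectrum Γ(X.left, U)) 0)
    refine ⟨b, le_antisymm (fun y hy => ?_) (Ideal.span_le.mpr (Set.singleton_subset_iff.mpr ?_))⟩
    · refine Ideal.mem_span_singleton'.mpr ⟨y, hbij.1 ?_⟩
      rw [map_mul, hb]
      funext n
      by_cases hn : n = ⟨q, hqm⟩
      · subst hn
        simp only [Pi.mul_apply, Function.update_self, mul_zero, RingHom.pi_apply]
        exact hy.symm
      · simp [Function.update_of_ne hn]
    · have := congrFun hb ⟨q, hqm⟩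
      simpa using this
  haveI : Algebra.Etale R Γ(X.left, U) := (HasRingHomProperty.Spec_iff (P := @Etale)).mp
    (by rw [hφ]; infer_instance : Etale (Spec.map φ))
  haveI : Algebra.FinitePresentation Γ(X.left, U) L := by
    haveI : Algebra.FinitePresentation Γ(X.left, U)
        (Γ(X.left, U) ⧸ RingHom.ker (Algebra.ofId Γ(X.left, U) L)) :=
      Algebra.FinitePresentation.quotient (R := Γ(X.left, U))
        (show (RingHom.ker (algebraMap Γ(X.left, U) L)).FG from hb ▸ ⟨{b}, by simp⟩)
    exact Algebra.FinitePresentation.equiv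
      (Ideal.quotientKerAlgEquivOfSurjective (f := Algebra.ofId Γ(X.left, U) L) hsurj)
  haveI : Algebra.FormallyEtale Γ(X.left, U) L := Algebra.FormallyEtale.of_isLocalization q.primeCompl
  haveI : Algebra.Etale Γ(X.left, U) L := ⟨inferInstance, inferInstance⟩
  haveI : IsClosedImmersion (Spec.map (CommRingCat.ofHom (algebraMap Γ(X.left, U) L))) :=
    IsClosedImmersion.spec_of_surjective _ hsurj
  haveI : Etale (Spec.map (CommRingCat.ofHom (algebraMap Γ(X.left, U) L))) := by
    rw [HasRingHomProperty.Spec_iff (P := @Etale)]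
    exact RingHom.etale_algebraMap.mpr inferInstance
  haveI : IsOpenImmersion (Spec.map (CommRingCat.ofHom (algebraMap Γ(X.left, U) L))) :=
    IsOpenImmersion.of_flat_of_mono _
  letI := TopCat.Presheaf.algebra_section_stalk X.left.presheaf (U := U) ⟨x, hxU⟩
  haveI : IsLocalization.AtPrime (X.left.presheaf.stalk x) q := hU.isLocalization_stalk ⟨x, hxU⟩
  let ε : L ≃ₐ[Γ(X.left, U)] X.left.presheaf.stalk x := IsLocalization.algEquiv q.primeCompl _ _
  let εi : CommRingCat.of L ⟶ X.left.presheaf.stalk x := CommRingCat.ofHom ε.toRingEquiv.toRingHom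
  haveI : IsIso εi := (ConcreteCategory.isIso_iff_bijective _).mpr ε.bijective
  have hfac : X.left.fromSpecStalk x =
      Spec.map εi ≫ Spec.map (CommRingCat.ofHom (algebraMap Γ(X.left, U) L)) ≫ hU.fromSpec := by
    rw [← hU.fromSpecStalk_eq_fromSpecStalk hxU, ← Category.assoc, ← Spec.map_comp]
    unfold IsAffineOpen.fromSpecStalk
    congr 2
    ext y
    exact (ε.commutes y).symm
  have h1 : IsOpenImmersion (X.left.fromSpecStalk x) := by rw [hfac]; infer_instance
  have h2 : IsClosedImmersion (X.left.fromSpecStalk x) := by rw [hfac]; infer_instance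
  have h3 : IsFinite (X.left.fromSpecStalk x ≫ X.hom) := by
    rw [hfac, Category.assoc, Category.assoc, ← hφ]; infer_instance
  haveI := h1
  haveI := h3
  refine ⟨h1, h2, h3, inferInstance, ?_⟩
  refine surjective_of_closedPoint_mem _ (IsLocalRing.closedPoint _) ?_
  rw [Scheme.Hom.comp_apply, Scheme.fromSpecStalk_closedPoint, hx]

end Groth.Agent.MTRigid29
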